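import Mathlib
import Cfsg.Agent.H10.MInv
import Cfsg.Agent.H10.MPh0

/-! # The trilinear form on basis vectors given by numbers -/

set_option autoImplicit false
set_option linter.all false

namespace H10.Mon.MF

open Cfsg H9 H29 Matrix
open scoped Kronecker

/-! ### The form on vectors of pure type -/

theorem F_plus {u v w : U} (hu : wW u = 0) (hv : wW v = 0) :
    F u v w = 2 * trace ((mA u * mA v + mA v * mA u) * mA w) + (Dt u v w + Dt v u w + Dt w u v) +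
      Et u v w := by
  rw [F, Wt_zero2 hv, Wt_zero2 hu, Wt_zero2 hu]; ring

theorem F_ppw {u v : U} (hu : wW u = 0) (hv : wW v = 0) (w : P × K → ℝ) : F u v (Wv w) = 0 := by
  rw [F_plus hu hv, mA_Wv, mul_zero, trace_zero, Dt_swap u, Dt_zero2 (fS_Wv w), Dt_swap v,
    Dt_zero2 (fS_Wv w), Dt_zero1 (mA_Wv w), Et_swap23, Et_swap12, Et_zero1 (fS_Wv w)]
  ring

theorem F_www (u v w : P × K → ℝ) : F (Wv u) (Wv v) (Wv w) = 0 := by
  have := F_rho (qe 1 0) (Wv u) (Wv v) (Wv w)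
  have k : ∀ a, rho (qe 1 0) (Wv a) = (-1 : ℝ) • Wv a := fun a => by
    rw [neg_smul, one_smul]; exact zz_neg.2 ⟨mA_Wv a, fS_Wv a⟩
  rw [k, k, k, F_smul_left, F_smul_mid, F_smul_right] at this
  linarith

theorem F_aaa {A B C : Matrix P P ℝ} (hA : Aᵀ = A) (hB : Bᵀ = B) (hC : Cᵀ = C) :
    F (aL A) (aL B) (aL C) = 4 * trace (A * B * C) := by
  rw [F_plus (wW_aL _) (wW_aL _), Dt_zero2 (fS_aL _), Dt_zero2 (fS_aL _), Dt_zero2 (fS_aL _),
    Et_zero1 (fS_aL _), mA_aL hA, mA_aL hB, mA_aL hC, add_mul, trace_add, ← trace_transpose (B * A * C),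
    transpose_mul, transpose_mul, hA, hB, hC, trace_mul_comm C]
  ring

theorem F_aas (A B : Matrix P P ℝ) (f : S → ℝ) : F (aL A) (aL B) (sL f) = 0 := by
  rw [F_plus (wW_aL _) (wW_aL _), Dt_zero2 (fS_aL _), Dt_zero2 (fS_aL _), Dt_zero2 (fS_aL _),
    Et_zero1 (fS_aL _), mA_sL, mul_zero, trace_zero]
  ring

theorem F_ass {A : Matrix P P ℝ} (hA : Aᵀ = A) (c d : S) :
    F (aL A) (xS c) (xS d) = if c = d then trace (A * pm c) else 0 := by
  rw [F_plus (wW_aL _) (wW_xS _), Dt_zero1 (mA_xS _), Dt_zero1 (mA_xS _), Et_zero1 (fS_aL _), mA_xS d,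
    mul_zero, trace_zero, Dt, mA_aL hA, fS_xS, fS_xS, Finset.sum_eq_single c
      (fun e _ he => by rw [Pi.single_eq_of_ne he, mul_zero, zero_mul])
      (fun h => absurd (Finset.mem_univ c) h), Pi.single_eq_same, Pi.single_apply]
  split_ifs <;> ring

theorem F_sss (c d e : S) :
    F (xS c) (xS d) (xS e) = if c.1 + d.1 = e.1 then sg (bb c.1 d.1) else 0 := by
  rw [F_plus (wW_xS _) (wW_xS _), Dt_zero1 (mA_xS _), Dt_zero1 (mA_xS _), Dt_zero1 (mA_xS _), mA_xS e,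
    mul_zero, trace_zero, Et, fS_xS, fS_xS, fS_xS, Finset.sum_eq_single c
      (fun x _ he => by simp only [Pi.single_eq_of_ne he, mul_zero, zero_mul, ite_self,
        Finset.sum_const_zero])
      (fun h => absurd (Finset.mem_univ c) h), Finset.sum_eq_single d
      (fun x _ he => by simp only [Pi.single_eq_of_ne he, mul_zero, zero_mul, ite_self,
        Finset.sum_const_zero])
      (fun h => absurd (Finset.mem_univ d) h), Finset.sum_eq_single e
      (fun x _ he => by simp only [Pi.single_eq_of_ne he, mul_zero, ite_self])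
      (fun h => absurd (Finset.mem_univ e) h)]
  simp only [Pi.single_eq_same, mul_one, mul_zero, add_zero, zero_add]

theorem F_uww {u : U} (hu : wW u = 0) (p q : P × K) : F u (wB p) (wB q) = R u p q := by
  change F u (Wv _) (Wv _) = _
  rw [F_Wv hu, mulVec_single_one, single_dotProduct, one_mul, col_apply]

theorem F_aww {A : Matrix P P ℝ} (hA : Aᵀ = A) (k l : P) (u v : K) :
    F (aL A) (wB (k, u)) (wB (l, v)) =
      if u = v then A k l + trace A / 8 * (if k = l then 1 else 0) else 0 := by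
  rw [F_uww (wW_aL _), R, mA_aL hA, fS_aL]
  simp only [Pi.zero_apply, zero_smul, Finset.sum_const_zero, add_zero, kroneckerMap_apply,
    Matrix.add_apply, Matrix.smul_apply, one_apply, smul_eq_mul, Matrix.zero_apply]
  split_ifs <;> ring

theorem F_sww (c : S) (k l : P) (u v : K) :
    F (xS c) (wB (k, u)) (wB (l, v)) = if v = u + c.1.1 then
      sg (c.1.2 ⬝ᵥ u) * (((if k = l then 1 else 0) - 2 * pm c k l) / 8) else 0 := by
  rw [F_uww (wW_xS _), R, mA_xS, fS_xS, trace_zero, zero_div, zero_smul, add_zero, zero_kronecker,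
    zero_add, Finset.sum_eq_single c (fun e _ he => by rw [Pi.single_eq_of_ne he, zero_smul])
      (fun h => absurd (Finset.mem_univ c) h), Pi.single_eq_same, one_smul]
  simp only [kroneckerMap_apply, Matrix.sub_apply, Matrix.smul_apply, one_apply, smul_eq_mul, xm,
    of_apply]
  split_ifs <;> ring

/-! ### Numbers -/

/-- The parity of the common bits among the low twelve. -/
noncomputable def dot12 (a b : ℕ) : Bool :=
  lit (Nat.land (Nat.land a b) 4095) fun x => lit (Nat.xor x (Nat.shiftRight x 8)) fun y =>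
    lit (Nat.xor y (Nat.shiftRight y 4)) fun z => lit (Nat.xor z (Nat.shiftRight z 2)) fun t =>
      Nat.beq (Nat.land (Nat.shiftRight (Nat.xor t (Nat.shiftRight t 1)) 0) 1) 1

theorem bt_shr (a k j : ℕ) : bt (a >>> k) j = bt a (k + j) := bt_congr (Nat.testBit_shiftRight a)

theorem sg_dot12 (a b : ℕ) : sg (dK a ⬝ᵥ dK b) = if dot12 a b then -1 else 1 := by
  have h1 : ∀ j < 12, bt 4095 j = 1 := by decide
  have h2 : ∀ j < 4, bt 4095 (12 + j) = 0 := by decide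
  simp only [dot12, lit_eq, bit_beq]
  rw [← sb, sb_eq]
  congr 1
  simp only [xor_eq, land_eq, shr_eq, bt_xor, bt_shr, bt_and, dotProduct, dK, Fin.sum_univ_succ,
    Finset.univ_eq_empty, Finset.sum_empty, Fin.val_succ, Fin.val_zero]
  norm_num only [h1 0, h1 1, h1 2, h1 3, h1 4, h1 5, h1 6, h1 7, h1 8, h1 9, h1 10, h1 11, h2 0, h2 1,
    h2 2, h2 3]
  ring

/-- The coordinate in row `r`. -/
noncomputable def cf (n r : ℕ) : ℤ := Int.subNatNat (dg n (nth 0 ord r)) 16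

theorem vc_ro (n : ℕ) {r : ℕ} (h : r < 24) : vc n (ro r) = cf n r := by
  rw [vc, ix_ro h, cf, Int.subNatNat_eq_coe]; rfl

noncomputable def bI (b : Bool) (z : ℤ) : ℤ := Bool.rec 0 z b
noncomputable def bN (b : Bool) : ℕ := Bool.rec 0 1 b
noncomputable def sI (b : Bool) (z : ℤ) : ℤ := Bool.rec z (Int.neg z) b

theorem bI_eq (b : Bool) (z : ℤ) : (bI b z : ℝ) = if b then (z : ℝ) else 0 := by
  cases b <;> simp [bI]
theorem bN_eq (b : Bool) : (bN b : ℝ) = if b then 1 else 0 := by cases b <;> simp [bN]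
theorem sI_eq (b : Bool) (z : ℤ) : (sI b z : ℝ) = (if b then -1 else 1) * z := by
  cases b
  · simp [sI]
  · change ((-z : ℤ) : ℝ) = _; simp

/-- Basis vectors. -/
inductive Ds : Type
  | a (i j : ℕ) : Ds
  | s (p c n : ℕ) : Ds
  | w (i u : ℕ) : Ds

theorem S_inj {c d : S} : c.1 = d.1 ↔ c = d := Subtype.val_inj

noncomputable def xC (c : C) : U := sL fun d => if d.1 = c then 1 else 0

theorem xC_val (c : S) : xC c.1 = xS c := by
  rw [xC, xS_eq]
  congr 1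
  funext d
  rw [Pi.single_apply]
  exact if_congr S_inj rfl rfl

noncomputable def Ds.vec : Ds → U
  | .a i j => eA (ro i) (ro j)
  | .s _ c _ => xC (dec c)
  | .w i u => wB (ro i, dK u)

def Ds.Ok : Ds → Prop
  | .a i j => i < 24 ∧ j < 24
  | .s p c n => p < 98280 ∧ c < 2 ^ 24 ∧ cls p = dec c ∧ ∃ d : S, d.1 = dec c ∧
      ∀ i < 24, ∀ j < 24, pm d (ro i) (ro j) = cf n i * cf n j / 8
  | .w i u => i < 24 ∧ u < 4096

noncomputable def t3 (i j k l m n : ℕ) : ℕ :=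
  bN (and2 (Nat.beq j k) (and2 (Nat.beq l m) (Nat.beq n i)))

noncomputable def t6 (i j k l m n : ℕ) : ℕ := Nat.add (t3 i j k l m n) (t3 i j k l n m)

noncomputable def fAAA (i j k l m n : ℕ) : ℤ :=
  Int.ofNat (Nat.mul 128 (Nat.add (Nat.add (t6 i j k l m n) (t6 i j l k m n))
    (Nat.add (t6 j i k l m n) (t6 j i l k m n))))

noncomputable def fASS (i j c n d : ℕ) : ℤ :=
  bI (Nat.beq c d) (Int.mul 8 (Int.mul (cf n i) (cf n j)))

noncomputable def fSSS (c d e : ℕ) : ℤ :=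
  bI (Nat.beq (Nat.xor c d) e) (sI (dot12 (Nat.shiftRight c 12) d) 32)

noncomputable def fAWW (i j k u l v : ℕ) : ℤ :=
  bI (Nat.beq u v) (Int.ofNat (Nat.add (Nat.mul 32 (Nat.add (bN (and2 (Nat.beq i k) (Nat.beq j l)))
    (bN (and2 (Nat.beq j k) (Nat.beq i l))))) (Nat.mul 8 (bN (and2 (Nat.beq i j) (Nat.beq k l))))))

noncomputable def fSWW (c n k u l v : ℕ) : ℤ :=
  bI (Nat.beq v (Nat.xor u (Nat.shiftRight c 12))) (sI (dot12 c u)
    (Int.sub (Int.ofNat (Nat.mul 4 (bN (Nat.beq k l)))) (Int.mul (cf n k) (cf n l))))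

theorem ro_beq {i j : ℕ} (hi : i < 24) (hj : j < 24) : ro i = ro j ↔ Nat.beq i j = true :=
  ⟨fun h => H29.beq_true.2 (ro_inj hi hj h), fun h => by rw [H29.beq_true.1 h]⟩

theorem dK_beq {i j : ℕ} (hi : i < 4096) (hj : j < 4096) : dK i = dK j ↔ Nat.beq i j = true :=
  ⟨fun h => H29.beq_true.2 (dK_inj hi hj h), fun h => by rw [H29.beq_true.1 h]⟩

theorem dec_beq {i j : ℕ} (hi : i < 2 ^ 24) (hj : j < 2 ^ 24) : dec i = dec j ↔ Nat.beq i j = true :=
  ⟨fun h => H29.beq_true.2 (dec_inj hi hj h), fun h => by rw [H29.beq_true.1 h]⟩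

theorem eA_symm (i j : P) : (single i j 1 + single j i 1 : Matrix P P ℝ)ᵀ =
    single i j 1 + single j i 1 := by
  rw [transpose_add, transpose_single, transpose_single, add_comm]

theorem trace_single_mul' (i j : P) (A : Matrix P P ℝ) : trace (single i j 1 * A) = A j i := by
  rw [trace_single_mul, one_smul]

theorem tr3 {i j k l m n : ℕ} (hi : i < 24) (hj : j < 24) (hk : k < 24) (hl : l < 24) (hm : m < 24)
    (hn : n < 24) : trace (single (ro i) (ro j) (1 : ℝ) * single (ro k) (ro l) (1 : ℝ) *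
      single (ro m) (ro n) (1 : ℝ)) = t3 i j k l m n := by
  rw [t3, bN_eq, mul_assoc, trace_single_mul']
  simp only [and2_true, ← ro_beq hj hk, ← ro_beq hl hm, ← ro_beq hn hi]
  by_cases h : ro l = ro m
  · rw [h, single_mul_single_same, one_mul, single_apply]
    simp only [true_and, eq_comm]
  · rw [single_mul_single_of_ne _ _ _ _ h, if_neg fun e => h e.2.1]; rfl

theorem fAAA_eq {i j k l m n : ℕ} (h1 : (Ds.a i j).Ok) (h2 : (Ds.a k l).Ok) (h3 : (Ds.a m n).Ok) :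
    (fAAA i j k l m n : ℝ) = 32 * F (Ds.a i j).vec (Ds.a k l).vec (Ds.a m n).vec := by
  obtain ⟨hi, hj⟩ := h1
  obtain ⟨hk, hl⟩ := h2
  obtain ⟨hm, hn⟩ := h3
  simp only [Ds.vec, eA_eq]
  rw [F_aaa (eA_symm _ _) (eA_symm _ _) (eA_symm _ _)]
  simp only [add_mul, mul_add, trace_add, tr3, hi, hj, hk, hl, hm, hn, fAAA, t6, Int.ofNat_eq_natCast,
    Nat.add_eq, Nat.mul_eq]
  push_cast
  ring

theorem fASS_eq {i j p c n q d m : ℕ} (h1 : (Ds.a i j).Ok) (h2 : (Ds.s p c n).Ok)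
    (h3 : (Ds.s q d m).Ok) :
    (fASS i j c n d : ℝ) = 32 * F (Ds.a i j).vec (Ds.s p c n).vec (Ds.s q d m).vec := by
  obtain ⟨hi, hj⟩ := h1
  obtain ⟨-, hc, -, x, x1, x2⟩ := h2
  obtain ⟨-, hd, -, y, y1, -⟩ := h3
  simp only [Ds.vec, eA_eq]
  rw [fASS, bI_eq, ← x1, ← y1, xC_val, xC_val, F_ass (eA_symm _ _), add_mul, trace_add,
    trace_single_mul', trace_single_mul', x2 j hj i hi, x2 i hi j hj]
  simp only [← dec_beq hc hd, ← x1, ← y1, S_inj, Int.mul_def]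
  split_ifs
  · push_cast; ring
  · rw [mul_zero]

theorem fSSS_eq {p c n q d m r e o : ℕ} (h1 : (Ds.s p c n).Ok) (h2 : (Ds.s q d m).Ok)
    (h3 : (Ds.s r e o).Ok) :
    (fSSS c d e : ℝ) = 32 * F (Ds.s p c n).vec (Ds.s q d m).vec (Ds.s r e o).vec := by
  obtain ⟨-, hc, -, x, x1, -⟩ := h1
  obtain ⟨-, hd, -, y, y1, -⟩ := h2
  obtain ⟨-, he, -, z, z1, -⟩ := h3
  simp only [Ds.vec]
  rw [fSSS, bI_eq, ← x1, ← y1, ← z1, xC_val, xC_val, xC_val, F_sss, x1, y1, z1, ← dec_xor, bb, dec_fst,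
    dec_snd, sg_dot12, sI_eq]
  simp only [dec_beq (Nat.xor_lt_two_pow hc hd) he, xor_eq, shr_eq]
  split_ifs <;> norm_num

theorem fAWW_eq {i j k u l v : ℕ} (h1 : (Ds.a i j).Ok) (h2 : (Ds.w k u).Ok) (h3 : (Ds.w l v).Ok) :
    (fAWW i j k u l v : ℝ) = 32 * F (Ds.a i j).vec (Ds.w k u).vec (Ds.w l v).vec := by
  obtain ⟨hi, hj⟩ := h1
  obtain ⟨hk, hu⟩ := h2
  obtain ⟨hl, hv⟩ := h3
  simp only [Ds.vec, eA_eq]
  rw [fAWW, bI_eq, F_aww (eA_symm _ _), trace_add, ← mul_one (single (ro i) (ro j) (1 : ℝ)),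
    ← mul_one (single (ro j) (ro i) (1 : ℝ)), trace_single_mul', trace_single_mul', mul_one, mul_one]
  simp only [Int.ofNat_eq_natCast, Nat.add_eq, Nat.mul_eq]
  push_cast
  simp only [bN_eq, and2_true, ← dK_beq hu hv, ← ro_beq hi hk, ← ro_beq hj hl, ← ro_beq hj hk, ← ro_beq hi hl,
    ← ro_beq hi hj, ← ro_beq hk hl, Matrix.add_apply, single_apply, one_apply, eq_comm (a := ro j) (b := ro i)]
  by_cases e1 : dK u = dK v
  · by_cases e2 : ro i = ro j <;> by_cases e3 : ro k = ro l <;>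
      simp only [e1, e2, e3, if_true, if_false, and_true, and_false, true_and, false_and] <;>
      push_cast <;> ring
  · simp only [e1, if_false, mul_zero]

theorem fSWW_eq {p c n k u l v : ℕ} (h1 : (Ds.s p c n).Ok) (h2 : (Ds.w k u).Ok)
    (h3 : (Ds.w l v).Ok) :
    (fSWW c n k u l v : ℝ) = 32 * F (Ds.s p c n).vec (Ds.w k u).vec (Ds.w l v).vec := by
  obtain ⟨-, hc, -, x, x1, x2⟩ := h1
  obtain ⟨hk, hu⟩ := h2
  obtain ⟨hl, hv⟩ := h3
  have h4 : u ^^^ c >>> 12 < 4096 := Nat.xor_lt_two_pow (n := 12) hu (by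
    rw [Nat.shiftRight_eq_div_pow]; omega)
  simp only [Ds.vec]
  rw [fSWW, bI_eq, ← x1, xC_val, F_sww, x1, dec_fst, dec_snd, ← dK_xor, sg_dot12, sI_eq, x2 k hk l hl]
  simp only [dK_beq hv h4, xor_eq, shr_eq, Int.ofNat_eq_natCast, Nat.mul_eq, Int.mul_def,
    ro_beq hk hl, show ∀ a b : ℤ, Int.sub a b = a - b from fun _ _ => rfl]
  push_cast
  rw [bN_eq]
  split_ifs <;> ring

noncomputable def gAA (i j k l : ℕ) (z : Ds) : ℤ :=
  Ds.rec (fun m n => fAAA i j k l m n) (fun _ _ _ => 0) (fun _ _ => 0) z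
noncomputable def gAS (i j c n : ℕ) (z : Ds) : ℤ :=
  Ds.rec (fun _ _ => 0) (fun _ d _ => fASS i j c n d) (fun _ _ => 0) z
noncomputable def gAW (i j k u : ℕ) (z : Ds) : ℤ :=
  Ds.rec (fun _ _ => 0) (fun _ _ _ => 0) (fun l v => fAWW i j k u l v) z
noncomputable def gSS (c n d : ℕ) (z : Ds) : ℤ :=
  Ds.rec (fun i j => fASS i j c n d) (fun _ e _ => fSSS c d e) (fun _ _ => 0) z
noncomputable def gSW (c n k u : ℕ) (z : Ds) : ℤ :=
  Ds.rec (fun _ _ => 0) (fun _ _ _ => 0) (fun l v => fSWW c n k u l v) z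
noncomputable def gWW (k u l v : ℕ) (z : Ds) : ℤ :=
  Ds.rec (fun i j => fAWW i j k u l v) (fun _ c n => fSWW c n k u l v) (fun _ _ => 0) z

/-- `32 F` on basis vectors. -/
noncomputable def F3 (x y : Ds) : Ds → ℤ :=
  Ds.rec
    (fun i j => Ds.rec (fun k l => gAA i j k l) (fun _ c n => gAS i j c n) (fun k u => gAW i j k u) y)
    (fun _ c n => Ds.rec (fun i j => gAS i j c n) (fun _ d _ => gSS c n d) (fun k u => gSW c n k u) y)
    (fun k u => Ds.rec (fun i j => gAW i j k u) (fun _ c n => gSW c n k u) (fun l v => gWW k u l v) y) x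

theorem F_cyc (u v w : U) : F u v w = F w u v := by rw [F_swap23, F_swap12]

theorem zero_eq32 {a : ℝ} (h : a = 0) : ((0 : ℤ) : ℝ) = 32 * a := by rw [h]; simp

theorem F3_eq : ∀ {x y z : Ds}, x.Ok → y.Ok → z.Ok → (F3 x y z : ℝ) = 32 * F x.vec y.vec z.vec
  | .a _ _, .a _ _, .a _ _, h1, h2, h3 => fAAA_eq h1 h2 h3
  | .a _ _, .a _ _, .s _ _ _, _, _, _ => zero_eq32 (F_aas _ _ _)
  | .a _ _, .a _ _, .w _ _, _, _, _ => zero_eq32 (F_ppw (wW_aL _) (wW_aL _) _)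
  | .a _ _, .s _ _ _, .a _ _, _, _, _ => zero_eq32 ((F_swap23 _ _ _).trans (F_aas _ _ _))
  | .a _ _, .s _ _ _, .s _ _ _, h1, h2, h3 => fASS_eq h1 h2 h3
  | .a _ _, .s _ _ _, .w _ _, _, _, _ => zero_eq32 (F_ppw (wW_aL _) (wW_sL _) _)
  | .a _ _, .w _ _, .a _ _, _, _, _ => zero_eq32 ((F_swap23 _ _ _).trans (F_ppw (wW_aL _) (wW_aL _) _))
  | .a _ _, .w _ _, .s _ _ _, _, _, _ =>
    zero_eq32 ((F_swap23 _ _ _).trans (F_ppw (wW_aL _) (wW_sL _) _))
  | .a _ _, .w _ _, .w _ _, h1, h2, h3 => fAWW_eq h1 h2 h3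
  | .s _ _ _, .a _ _, .a _ _, _, _, _ => zero_eq32 ((F_cyc _ _ _).symm.trans (F_aas _ _ _))
  | .s _ _ _, .a _ _, .s _ _ _, h1, h2, h3 => (fASS_eq h2 h1 h3).trans (by rw [F_swap12])
  | .s _ _ _, .a _ _, .w _ _, _, _, _ => zero_eq32 (F_ppw (wW_sL _) (wW_aL _) _)
  | .s _ _ _, .s _ _ _, .a _ _, h1, h2, h3 => (fASS_eq h3 h1 h2).trans (by rw [← F_cyc])
  | .s _ _ _, .s _ _ _, .s _ _ _, h1, h2, h3 => fSSS_eq h1 h2 h3
  | .s _ _ _, .s _ _ _, .w _ _, _, _, _ => zero_eq32 (F_ppw (wW_sL _) (wW_sL _) _)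
  | .s _ _ _, .w _ _, .a _ _, _, _, _ =>
    zero_eq32 ((F_swap23 _ _ _).trans (F_ppw (wW_sL _) (wW_aL _) _))
  | .s _ _ _, .w _ _, .s _ _ _, _, _, _ =>
    zero_eq32 ((F_swap23 _ _ _).trans (F_ppw (wW_sL _) (wW_sL _) _))
  | .s _ _ _, .w _ _, .w _ _, h1, h2, h3 => fSWW_eq h1 h2 h3
  | .w _ _, .a _ _, .a _ _, _, _, _ =>
    zero_eq32 ((F_cyc _ _ _).symm.trans (F_ppw (wW_aL _) (wW_aL _) _))
  | .w _ _, .a _ _, .s _ _ _, _, _, _ =>
    zero_eq32 ((F_cyc _ _ _).symm.trans (F_ppw (wW_aL _) (wW_sL _) _))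
  | .w _ _, .a _ _, .w _ _, h1, h2, h3 => (fAWW_eq h2 h1 h3).trans (by rw [F_swap12])
  | .w _ _, .s _ _ _, .a _ _, _, _, _ =>
    zero_eq32 ((F_cyc _ _ _).symm.trans (F_ppw (wW_sL _) (wW_aL _) _))
  | .w _ _, .s _ _ _, .s _ _ _, _, _, _ =>
    zero_eq32 ((F_cyc _ _ _).symm.trans (F_ppw (wW_sL _) (wW_sL _) _))
  | .w _ _, .s _ _ _, .w _ _, h1, h2, h3 => (fSWW_eq h2 h1 h3).trans (by rw [F_swap12])
  | .w _ _, .w _ _, .a _ _, h1, h2, h3 => (fAWW_eq h3 h1 h2).trans (by rw [← F_cyc])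
  | .w _ _, .w _ _, .s _ _ _, h1, h2, h3 => (fSWW_eq h3 h1 h2).trans (by rw [← F_cyc])
  | .w _ _, .w _ _, .w _ _, _, _, _ => zero_eq32 (F_www _ _ _)

/-- Signed sums of basis vectors. -/
abbrev Sp : Type := List (Bool × Ds)

noncomputable def vecL : Sp → U
  | [] => 0
  | t :: l => (if t.1 then -1 else 1 : ℝ) • t.2.vec + vecL l

noncomputable def sumL (l : Sp) (f : Ds → ℤ) : ℤ :=
  List.rec 0 (fun t _ ih => Prod.rec (fun b d => Int.add (sI b (f d)) ih) t) l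

def OkL (l : Sp) : Prop := ∀ t ∈ l, t.2.Ok

theorem sumL_eq {f : Ds → ℤ} (φ : U →ₗ[ℝ] ℝ) (h : ∀ d, d.Ok → (f d : ℝ) = φ d.vec) :
    ∀ {l : Sp}, OkL l → (sumL l f : ℝ) = φ (vecL l)
  | [], _ => by simp [sumL, vecL]
  | (b, d) :: l, hl => by
    change ((sI b (f d) + sumL l f : ℤ) : ℝ) = _
    rw [vecL, map_add, map_smul, Int.cast_add, sI_eq, h d (hl (b, d) (by simp)),
      sumL_eq φ h fun t ht => hl t (by simp [ht])]
    rfl

noncomputable def sumS (c n d k : ℕ) (l : Sp) : ℤ :=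
  List.rec 0 (fun t _ ih => Prod.rec (fun b z => Ds.rec
    (fun i j => Int.add (sI b (fASS i j c n d)) ih)
    (fun _ e _ => Bool.rec ih (Int.add (sI b (sI (dot12 (Nat.shiftRight c 12) d) 32)) ih) (Nat.beq k e))
    (fun _ _ => ih) z) t) l

theorem sI_zero_add (b : Bool) (z : ℤ) : Int.add (sI b 0) z = z := by
  cases b <;> exact zero_add z

theorem sumS_eq (c n d : ℕ) : ∀ l : Sp, sumS c n d (Nat.xor c d) l = sumL l (gSS c n d)
  | [] => rfl
  | (b, .a i j) :: l => congrArg (Int.add (sI b (fASS i j c n d))) (sumS_eq c n d l)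
  | (b, .s p e m) :: l => by
    change Bool.rec (sumS c n d (Nat.xor c d) l) (Int.add _ (sumS c n d (Nat.xor c d) l))
      (Nat.beq (Nat.xor c d) e) = Int.add (sI b (bI (Nat.beq (Nat.xor c d) e) _)) (sumL l (gSS c n d))
    rw [sumS_eq c n d l]
    cases Nat.beq (Nat.xor c d) e
    · exact (sI_zero_add _ _).symm
    · rfl
  | (b, .w i u) :: l => (sumS_eq c n d l).trans (sI_zero_add b _).symm

noncomputable def H2 (l : Sp) (x y : Ds) : ℤ :=
  Ds.rec
    (fun i j => Ds.rec (fun k m => sumL l (gAA i j k m)) (fun _ c n => sumL l (gAS i j c n))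
      (fun k u => sumL l (gAW i j k u)) y)
    (fun _ c n => Ds.rec (fun i j => sumL l (gAS i j c n))
      (fun _ d _ => lit (Nat.xor c d) fun k => sumS c n d k l) (fun k u => sumL l (gSW c n k u)) y)
    (fun k u => Ds.rec (fun i j => sumL l (gAW i j k u)) (fun _ c n => sumL l (gSW c n k u))
      (fun m v => sumL l (gWW k u m v)) y) x

theorem H2_eq (l : Sp) (x y : Ds) : H2 l x y = sumL l (F3 x y) := by
  cases x <;> cases y <;> first | exact sumS_eq _ _ _ l | rfl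

noncomputable def F3L (l1 l2 l3 : Sp) : ℤ := sumL l1 fun x => sumL l2 fun y => H2 l3 x y

theorem F3L_eq {l1 l2 l3 : Sp} (h1 : OkL l1) (h2 : OkL l2) (h3 : OkL l3) :
    (F3L l1 l2 l3 : ℝ) = 32 * F (vecL l1) (vecL l2) (vecL l3) :=
  sumL_eq ((32 : ℝ) • (FL.flip (vecL l2)).flip (vecL l3)) (fun x hx =>
    sumL_eq ((32 : ℝ) • (FL x.vec).flip (vecL l3)) (fun y hy => by
      rw [H2_eq]
      exact sumL_eq ((32 : ℝ) • FL x.vec y.vec) (fun z hz => F3_eq hx hy hz) h3) h2) h1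

end H10.Mon.MF
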