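import Mathlib
import Cfsg.Agent.H19.MF0

/-! # Boolean checks for the invariance of the trilinear form -/

set_option autoImplicit false
set_option linter.all false

namespace H10.Mon.MF

open Cfsg H9 H29 Matrix

/-- The inner product modulo 2 of coded vectors. -/
noncomputable def ipB (a b : ℕ) : ℕ :=
  Nat.land (Nat.shiftRight (sumLt 24 fun i => Nat.mul (dg a i) (dg b i)) 3) 1

noncomputable def kchk (n c : ℕ) : Bool :=
  allN 12 fun j => and2
    (Nat.beq (ipB n (nth 0 fC j)) (Nat.land (Nat.shiftRight c (Nat.add 12 j)) 1))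
    (Nat.beq (ipB n (nth 0 eC j)) (Nat.land (Nat.shiftRight c j) 1))

noncomputable def posOk (p c : ℕ) : Bool :=
  and2 (Nat.ble p 98279) (and2 (Nat.ble c 16777215) (Nat.beq (cdv CP p) c))

noncomputable def Ds.ok (d : Ds) : Bool :=
  Ds.rec (fun i j => and2 (Nat.ble i 23) (Nat.ble j 23))
    (fun p c n => and2 (posOk p c) (and2 (inL n) (and2 (decide (dotC n n = 32)) (kchk n c))))
    (fun i u => and2 (Nat.ble i 23) (Nat.ble u 4095)) d

noncomputable def okL (l : Sp) : Bool := allL l fun t => t.2.ok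

noncomputable def one1 (b : Bool) (e p : ℕ) : Vec :=
  ⟨e, Bool.rec (.cons (Nat.shiftLeft 1 p) (.sgn 0)) (.sgn (Nat.shiftLeft 1 p)) b⟩

noncomputable def addD {α : Type} (b : Bool) (e : ℕ) (d : Ds) (x : St) (k : St → α) : α :=
  St.rec (fun a s w => Ds.rec
    (fun i j => ((a.add (one1 b e (Nat.add (Nat.mul i 24) j))).add
      (one1 b e (Nat.add (Nat.mul j 24) i))).force fun a' => k ⟨a', s, w⟩)
    (fun p _ _ => (s.add (one1 b e p)).force fun s' => k ⟨a, s', w⟩)
    (fun i u => (w.add (one1 b e (Nat.add (Nat.mul i 4096) u))).force fun w' => k ⟨a, s, w'⟩) d) x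

noncomputable def accL {α : Type} (n : Bool) (e : ℕ) (l : Sp) : St → (St → α) → α :=
  List.rec (motive := fun _ => St → (St → α) → α) (fun x k => k x)
    (fun t _ ih x k => Prod.rec (fun b d => addD (Bool.xor n b) e d x fun y => ih y k) t) l

noncomputable def isZ (x : St) : Bool :=
  and2 (Nat.beq x.a.P.nz 0) (and2 (Nat.beq x.s.P.nz 0) (Nat.beq x.w.P.nz 0))

noncomputable def stZ : St := ⟨⟨0, .sgn 0⟩, ⟨0, .sgn 0⟩, ⟨0, .sgn 0⟩⟩

/-- A vector and `2 ^ e` times its image. -/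
structure Tp : Type where
  u : Sp
  v : Sp
  e : ℕ

noncomputable def Tp.chk (t : Tp) : Bool :=
  and2 (okL t.u) (and2 (okL t.v)
    (accL false 0 t.u stZ fun x => tauM.step x fun y => accL true t.e t.v y isZ))

noncomputable def inv3 (t1 t2 t3 : Tp) : Bool :=
  decide (F3L t1.v t2.v t3.v =
    Int.mul (Int.ofNat (Nat.pow 2 (Nat.add (Nat.add t1.e t2.e) t3.e))) (F3L t1.u t2.u t3.u))

/-- A short class with its image. -/
structure Sx : Type where
  p : ℕ
  c : ℕ
  n : ℕ
  v : Sp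
  e : ℕ

noncomputable def Sx.tp (x : Sx) : Tp := ⟨[(false, .s x.p x.c x.n)], x.v, x.e⟩

noncomputable def mtch (Q : List ℕ) : ℕ → ℕ → ℕ :=
  List.rec (motive := fun _ => ℕ → ℕ → ℕ) (fun _ A => A) (fun a _ ih k A =>
    lit (Nat.shiftRight k 1) fun k' => seqN (Bool.rec (Nat.xor A (Nat.land A a)) (Nat.land A a)
      (Nat.beq (Nat.land (Nat.shiftRight k 0) 1) 1)) (ih k')) Q

noncomputable def notS (k : ℕ) : Bool := Nat.beq (mtch CP k (ones 98280)) 0

noncomputable def optE (k : ℕ) (o : Option Sx) (f : Tp → Bool) : Bool :=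
  Option.rec (notS k) (fun y => and2 (Nat.beq y.c k) (and2 y.tp.chk (f y.tp))) o

noncomputable def Ds.isA (d : Ds) : Bool :=
  Ds.rec (fun _ _ => true) (fun _ _ _ => false) (fun _ _ => false) d

noncomputable def entA (l : Sp) (i j : ℕ) : ℤ :=
  sumL l fun d => Ds.rec (fun k l => Int.ofNat (Nat.add (bN (and2 (Nat.beq k i) (Nat.beq l j)))
    (bN (and2 (Nat.beq l i) (Nat.beq k j))))) (fun _ _ _ => 0) (fun _ _ => 0) d

noncomputable def aOK (x : Sx) (t : Tp) : Bool :=
  and2 (Ds.s x.p x.c x.n).ok (and2 t.chk (and2 (allL t.u fun d => d.2.isA) (allN 24 fun i =>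
    allN 24 fun j => decide (Int.mul 8 (entA t.u i j) = Int.mul (cf x.n i) (cf x.n j)))))

/-- A representative with the data of its checks. -/
structure Rp : Type where
  x : Sx
  a : Option Tp
  e1 : Option Sx
  e2 : Option Sx

noncomputable def Rp.chk (b : Sx) (bo : Option Sx) (ρ : Rp) : Bool :=
  and2 (posOk ρ.x.p ρ.x.c)
    (and2 (optE (Nat.xor b.c ρ.x.c) ρ.e1 fun y => and2 ρ.x.tp.chk (inv3 b.tp ρ.x.tp y))
      (and2 (optE (Nat.xor (Nat.xor b.c ρ.x.c) 2048) ρ.e2 fun y =>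
          and2 ρ.x.tp.chk (inv3 b.tp ρ.x.tp y))
        (Option.rec (Nat.ble 4096 ρ.x.c) (fun t => and2 (aOK ρ.x t) (and2 (inv3 b.tp b.tp t)
          (optE (Nat.xor b.c 2048) bo fun y => inv3 b.tp y t))) ρ.a)))

noncomputable def maskR (Rs : List Rp) : ℕ :=
  List.rec 0 (fun ρ _ ih => Nat.lor (Nat.shiftLeft 1 ρ.x.p) ih) Rs

noncomputable def pullL (w : List ℕ) : ℕ → ℕ :=
  List.rec (motive := fun _ => ℕ → ℕ) (fun A => A) (fun c _ ih A => seqN (pull (lt c).σ A) ih) w

noncomputable def apW (w : List ℕ) : ℕ → ℕ :=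
  List.rec (motive := fun _ => ℕ → ℕ) (fun n => n) (fun c _ ih n => lit (apC (lt c).C n) ih) w

noncomputable def clos (b : ℕ) (ws : List (List ℕ)) : ℕ → Bool :=
  List.rec (motive := fun _ => ℕ → Bool)
    (fun A => sub (ones 98280) (Nat.lor A (nth 0 CP 23)))
    (fun w _ ih A => and2 (Nat.beq (apW w b) b) (and2 (Nat.beq (apW w 2048) 2048)
      (seqN (Nat.lor A (pullL w A)) ih))) ws

noncomputable def tpA (TA : List (List Sp)) (i j : ℕ) : Tp :=
  ⟨[(false, .a i j)], nth [] (nth [] TA i) j, 0⟩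

noncomputable def chkA (a : Tp) (Rs : List Rp) (TA : List (List Sp)) (i : ℕ) : Bool :=
  allN 24 fun j => Bool.rec true (and2 (tpA TA i j).chk (allL Rs fun ρ =>
    Option.rec true (fun t => inv3 a t (tpA TA i j)) ρ.a)) (Nat.ble i j)

noncomputable def tpW (T : List Sp) (u i : ℕ) : Tp := ⟨[(false, .w i u)], nth [] T i, 0⟩

noncomputable def chkW (b : Sx) (TY TZ : List Sp) : Bool :=
  and2 (allN 24 fun j => (tpW TY 0 j).chk) (and2
    (allN 24 fun j => (tpW TZ (Nat.shiftRight b.c 12) j).chk)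
    (allN 24 fun j => allN 24 fun k => inv3 b.tp (tpW TY 0 j) (tpW TZ (Nat.shiftRight b.c 12) k)))

end H10.Mon.MF
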