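import Mathlib
import Cfsg.Agent.H19.MF1
import Cfsg.Agent.H10.MTau

/-! # Soundness of the checks -/

set_option autoImplicit false
set_option linter.all false

namespace H10.Mon.MF

open Cfsg H9 H29 Matrix

theorem bt_eq_cast (n j : ℕ) : bt n j = ((n / 2 ^ j : ℕ) : ZMod 2) := by
  rw [bt, Nat.testBit_eq_decide_div_mod_eq, ← ZMod.natCast_mod _ 2]
  rcases Nat.mod_two_eq_zero_or_one (n / 2 ^ j) with h | h <;> simp [h]

theorem ipB_eq {a b c j : ℕ} (h : Nat.beq (ipB a b) (Nat.land (Nat.shiftRight c j) 1) = true) :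
    ((dotC a b / 8 : ℤ) : ZMod 2) = bt c j := by
  have h1 : dotC a b = ((sumLt 24 (fun i => dg a i * dg b i) + 6144 : ℕ) : ℤ) -
      ((16 * (sm a + sm b) : ℕ) : ℤ) := Int.subNatNat_eq_coe
  have h2 : sumLt 24 (fun i => dg a i * dg b i) / 2 ^ 3 % 2 = c / 2 ^ j % 2 := by
    have := H29.beq_true.1 h
    rwa [ipB, land_eq, land_eq, shr_eq, shr_eq, Nat.and_one_is_mod, Nat.and_one_is_mod,
      Nat.shiftRight_eq_div_pow, Nat.shiftRight_eq_div_pow] at this
  rw [bt_eq_cast, h1, ← Int.cast_natCast (c / 2 ^ j), ZMod.intCast_eq_intCast_iff_dvd_sub]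
  generalize sumLt 24 (fun i => dg a i * dg b i) = x at h2 ⊢
  generalize c / 2 ^ j = y at h2 ⊢
  push_cast
  omega

theorem kchk_eq {n c : ℕ} (h : kchk n c = true) : kapC n = dec c := by
  have := allN_true.1 h
  refine Prod.ext (funext fun j => ?_) (funext fun j => ?_)
  · exact (nth_eq 0 fC j ▸ ipB_eq (and2_true.1 (this j j.2)).1 :)
  · exact (nth_eq 0 eC j ▸ ipB_eq (and2_true.1 (this j j.2)).2 :)

theorem posOk_true {p c : ℕ} (h : posOk p c = true) : p < 98280 ∧ c < 2 ^ 24 ∧ cls p = dec c := by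
  simp only [posOk, and2_true, ble_true, H29.beq_true] at h
  exact ⟨by omega, by omega, by rw [← h.2.2, dec_cdv]; rfl⟩

theorem Ds.ok_true : ∀ {d : Ds}, d.ok = true → d.Ok
  | .a i j, h => by
    simp only [Ds.ok, and2_true, ble_true] at h; exact ⟨by omega, by omega⟩
  | .w i j, h => by
    simp only [Ds.ok, and2_true, ble_true] at h; exact ⟨by omega, by omega⟩
  | .s p c n, h => by
    simp only [Ds.ok, and2_true, decide_eq_true_eq] at h
    obtain ⟨h1, h2, h3, h4⟩ := h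
    obtain ⟨a1, a2, a3⟩ := posOk_true h1
    have hx : sqNorm (lv n : V) = 32 := by rw [lv_coe h2, norm_vc, h3]
    have hs : IsS (kap (lv n)) := ⟨_, hx, rfl⟩
    refine ⟨a1, a2, a3, toS _ hs, (kap_code (lv_coe h2)).trans (kchk_eq h4), fun i hi j hj => ?_⟩
    rw [pm_eq hx (toS_val _ hs).symm, Matrix.smul_apply, vecMulVec_apply, rv, rv, lv_coe h2,
      vc_ro n hi, vc_ro n hj, smul_eq_mul]
    ring

theorem okL_true {l : Sp} (h : okL l = true) : OkL l := fun t ht => Ds.ok_true (allL_true.1 h t ht)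

theorem val_one1 (b : Bool) (e p : ℕ) :
    (one1 b e p).val = ((if b then -1 else 1) / 2 ^ e : ℝ) • Pi.single p 1 := by
  funext q
  cases b <;> simp only [one1, Vec.val, Pl.val, bz, shl_eq, Nat.one_shiftLeft, Nat.testBit_two_pow,
    Nat.zero_testBit, Pi.smul_apply, Pi.single_apply, smul_eq_mul, decide_eq_true_eq, eq_comm (a := q)] <;>
    split_ifs <;> simp_all

theorem fX_of_zero {v : U} (h : fS v = 0) (c : C) : fX v c = 0 := by
  rw [fX]; split_ifs
  · rw [h]; rfl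
  · rfl

theorem Φ_eA {i j : ℕ} (hi : i < 24) (hj : j < 24) : Φ (eA (ro i) (ro j)) =
    (Pi.single (i * 24 + j) 1 + Pi.single (j * 24 + i) 1, 0, 0) := by
  refine Prod.ext (funext fun p => ?_) (Prod.ext (funext fun p => ?_) (funext fun p => ?_))
  · have key : ∀ {i j : ℕ}, i < 24 → j < 24 → p < 576 →
        (ro i = ro (p / 24) ∧ ro j = ro (p % 24) ↔ p = i * 24 + j) := fun hi hj hp =>
      ⟨fun h => by
        have := ro_inj hi (by omega) h.1
        have := ro_inj hj (by omega) h.2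
        omega, fun h => ⟨congrArg ro (by omega), congrArg ro (by omega)⟩⟩
    rw [Φ_a, eA_eq, mA_aL (eA_symm _ _)]
    simp only [Pi.add_apply, Pi.single_apply, Matrix.add_apply, single_apply]
    by_cases h : p < 576
    · simp only [h, if_true, key hi hj h, key hj hi h]
    · rw [if_neg h, if_neg (by omega), if_neg (by omega), add_zero]
  · rw [Φ_s, eA_eq, fX_of_zero (fS_aL _), ite_self]; rfl
  · rw [Φ_w, eA_eq, wW_aL, Pi.zero_apply, ite_self]; rfl

theorem Φ_xC {p : ℕ} (hp : p < 98280) : Φ (xC (cls p)) = (0, Pi.single p 1, 0) := by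
  refine Prod.ext (funext fun q => ?_) (Prod.ext (funext fun q => ?_) (funext fun q => ?_))
  · rw [Φ_a, xC, mA_sL, Matrix.zero_apply, ite_self]; rfl
  · rw [Φ_s]
    simp only [Pi.single_apply]
    by_cases h : q < 98280
    · rw [if_pos h, fX, dif_pos (cls_S h), xC, fS_sL]
      exact if_congr ⟨cls_inj h hp, fun e => e ▸ rfl⟩ rfl rfl
    · rw [if_neg h, if_neg (by omega)]
  · rw [Φ_w, xC, wW_sL, Pi.zero_apply, ite_self]; rfl

theorem Φ_wB {i u : ℕ} (hi : i < 24) (hu : u < 4096) :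
    Φ (wB (ro i, dK u)) = (0, 0, Pi.single (i * 4096 + u) 1) := by
  refine Prod.ext (funext fun q => ?_) (Prod.ext (funext fun q => ?_) (funext fun q => ?_))
  · rw [Φ_a, mA_wB, Matrix.zero_apply, ite_self]; rfl
  · rw [Φ_s, fX_of_zero (fS_wB _), ite_self]; rfl
  · rw [Φ_w, wW_wB]
    simp only [Pi.single_apply]
    by_cases h : q < 98304
    · rw [if_pos h]
      refine if_congr ⟨fun e => ?_, fun e => Prod.ext (congrArg ro (by omega))
        (congrArg dK (by omega))⟩ rfl rfl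
      have := ro_inj (by omega) hi (congrArg Prod.fst e)
      have := dK_inj (by omega) hu (congrArg Prod.snd e)
      omega
    · rw [if_neg h, if_neg (by omega)]

theorem vec_val_add (u v : Vec) : (u.add v).val = u.val + v.val := funext (Vec.val_add u v)

theorem addD_spec {α : Type} (b : Bool) (e : ℕ) : ∀ {d : Ds}, d.Ok → ∀ (x : St) (k : St → α),
    ∃ y, addD b e d x k = k y ∧ y.val = x.val + ((if b then -1 else 1) / 2 ^ e : ℝ) • Φ d.vec
  | .a i j, h, ⟨a, s, w⟩, k => ⟨⟨(a.add (one1 b e (Nat.add (Nat.mul i 24) j))).add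
      (one1 b e (Nat.add (Nat.mul j 24) i)), s, w⟩, Vec.force_eq _ fun a' => k ⟨a', s, w⟩, by
    rw [Ds.vec, Φ_eA h.1 h.2]
    simp only [St.val, vec_val_add, val_one1, Prod.smul_mk, Prod.mk_add_mk, smul_zero, add_zero,
      smul_add, add_assoc, Nat.add_eq, Nat.mul_eq]⟩
  | .s p c n, h, ⟨a, s, w⟩, k => ⟨⟨a, s.add (one1 b e p), w⟩,
      Vec.force_eq _ fun s' => k ⟨a, s', w⟩, by
    rw [Ds.vec, ← h.2.2.1, Φ_xC h.1]
    simp only [St.val, vec_val_add, val_one1, Prod.smul_mk, Prod.mk_add_mk, smul_zero, add_zero]⟩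
  | .w i u, h, ⟨a, s, w⟩, k => ⟨⟨a, s, w.add (one1 b e (Nat.add (Nat.mul i 4096) u))⟩,
      Vec.force_eq _ fun w' => k ⟨a, s, w'⟩, by
    rw [Ds.vec, Φ_wB h.1 h.2]
    simp only [St.val, vec_val_add, val_one1, Prod.smul_mk, Prod.mk_add_mk, smul_zero, add_zero,
      Nat.add_eq, Nat.mul_eq]⟩

theorem accL_spec {α : Type} (n : Bool) (e : ℕ) : ∀ {l : Sp}, OkL l → ∀ (x : St) (k : St → α),
    ∃ y, accL n e l x k = k y ∧ y.val = x.val + ((if n then -1 else 1) / 2 ^ e : ℝ) • Φ (vecL l)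
  | [], _, x, k => ⟨x, rfl, by rw [vecL, map_zero, smul_zero, add_zero]⟩
  | (b, d) :: l, h, x, k => by
    obtain ⟨y, y1, y2⟩ := addD_spec (Bool.xor n b) e (h (b, d) (by simp)) x fun y => accL n e l y k
    obtain ⟨z, z1, z2⟩ := accL_spec n e (l := l) (fun t ht => h t (by simp [ht])) y k
    refine ⟨z, y1.trans z1, ?_⟩
    rw [z2, y2, vecL, map_add, map_smul, smul_add, smul_smul, add_assoc]
    congr 3
    cases n <;> cases b <;> simp [neg_div]

theorem isZ_true {x : St} (h : isZ x = true) : x.val = 0 := by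
  simp only [isZ, and2_true, H29.beq_true] at h
  exact Prod.ext (funext fun p => Vec.val_nz (by rw [h.1, Nat.zero_testBit]))
    (Prod.ext (funext fun p => Vec.val_nz (by rw [h.2.1, Nat.zero_testBit]))
      (funext fun p => Vec.val_nz (by rw [h.2.2, Nat.zero_testBit])))

theorem stZ_val : stZ.val = 0 := isZ_true rfl

structure Tp.Good (t : Tp) : Prop where
  u : OkL t.u
  v : OkL t.v
  e : tau (vecL t.u) = (1 / 2 ^ t.e : ℝ) • vecL t.v

theorem Tp.chk_true {t : Tp} (h : t.chk = true) : t.Good := by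
  obtain ⟨h1, h2⟩ := and2_true.1 h
  obtain ⟨h2, h3⟩ := and2_true.1 h2
  refine ⟨okL_true h1, okL_true h2, Φ_inj ?_⟩
  obtain ⟨x, x1, x2⟩ := accL_spec false 0 (okL_true h1) stZ
    fun x => tauM.step x fun y => accL true t.e t.v y isZ
  obtain ⟨k1, k2⟩ := and2_true.1 (show tauM.ok = true from mv_ok 53)
  obtain ⟨k2, k3⟩ := and2_true.1 k2
  rw [x1, Mv.step_eq] at h3
  obtain ⟨y, y1, y2⟩ := accL_spec true t.e (okL_true h2) _ isZ
  rw [y1] at h3
  rw [isZ_true h3, St.val, Ex.val_eval _ _ _ k1, Ex.val_eval _ _ _ k2, Ex.val_eval _ _ _ k3] at y2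
  rw [stZ_val, zero_add, pow_zero, if_neg Bool.false_ne_true, div_one, one_smul] at x2
  rw [← real_tau, ← x2, map_smul]
  rw [if_pos rfl, neg_div, neg_smul, eq_comm, add_neg_eq_zero] at y2
  exact y2

theorem inv3_true {t1 t2 t3 : Tp} (h : inv3 t1 t2 t3 = true) (h1 : t1.Good) (h2 : t2.Good)
    (h3 : t3.Good) : Inv tau (vecL t1.u) (vecL t2.u) (vecL t3.u) := by
  have := congrArg (Int.cast (R := ℝ)) (of_decide_eq_true h)
  rw [Int.mul_def, Int.cast_mul, F3L_eq h1.v h2.v h3.v, F3L_eq h1.u h2.u h3.u, Int.ofNat_eq_natCast,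
    Int.cast_natCast, Nat.pow_eq, Nat.add_eq, Nat.add_eq, Nat.cast_pow, pow_add, pow_add,
    Nat.cast_ofNat] at this
  rw [Inv, h1.e, h2.e, h3.e, F_smul_left, F_smul_mid, F_smul_right]
  field_simp
  linarith

theorem Sx.vec (x : Sx) {c : S} (h : c.1 = dec x.c) : vecL x.tp.u = xS c := by
  simp only [Sx.tp, vecL, Bool.false_eq_true, if_false, one_smul, add_zero, Ds.vec, ← h, xC_val]

theorem mtch_spec (p : ℕ) : ∀ (Q : List ℕ) (k A : ℕ), A.testBit p = true →
    (∀ j < Q.length, (nth 0 Q j).testBit p = k.testBit j) → (mtch Q k A).testBit p = true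
  | [], _, _, h, _ => h
  | a :: Q, k, A, h, h' => by
    change (seqN (Bool.rec (A ^^^ (A &&& a)) (A &&& a)
      (Nat.beq (Nat.land (Nat.shiftRight k 0) 1) 1)) (mtch Q (k >>> 1))).testBit p = true
    have h0 : a.testBit p = k.testBit 0 := h' 0 (by simp)
    rw [seqN_eq, bit_beq]
    refine mtch_spec p Q _ _ ?_ fun j hj => ?_
    · cases e : k.testBit 0 <;> simp [h, h0, e]
    · rw [Nat.testBit_shiftRight, add_comm]; exact h' (j + 1) (by simpa using hj)

theorem CP_length : CP.length = 24 := by decide +kernel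

theorem notS_true {k : ℕ} (h : notS k = true) (c : S) : c.1 ≠ dec k := fun e => by
  obtain ⟨p, hp, e'⟩ := cls_surj c
  have := mtch_spec p CP k (ones 98280) (by rw [testBit_ones, decide_eq_true hp]) fun j hj => by
    rw [← tb_cdv]
    exact dec_bits ((dec_cdv CP p).trans (e'.trans e)) j (CP_length ▸ hj)
  rw [H29.beq_true.1 h, Nat.zero_testBit] at this
  exact Bool.false_ne_true this

theorem optE_true {k : ℕ} : ∀ {o : Option Sx} {f : Tp → Bool}, optE k o f = true →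
    ∀ {c : S}, c.1 = dec k → ∃ t : Tp, t.Good ∧ f t = true ∧ vecL t.u = xS c
  | none, _, h, c, e => absurd e (notS_true h c)
  | some y, _, h, c, e => by
    obtain ⟨h1, h2⟩ := and2_true.1 h
    obtain ⟨h2, h3⟩ := and2_true.1 h2
    exact ⟨y.tp, Tp.chk_true h2, h3, y.vec (by rw [e, H29.beq_true.1 h1])⟩

theorem isA_zero : ∀ {l : Sp}, (∀ t ∈ l, t.2.isA = true) → fS (vecL l) = 0 ∧ wW (vecL l) = 0
  | [], _ => ⟨rfl, rfl⟩
  | (b, .a i j) :: l, h => by
    have := isA_zero (l := l) fun t ht => h t (by simp [ht])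
    rw [vecL, fS_add, wW_add, fS_smul, wW_smul, this.1, this.2, Ds.vec, eA_eq, fS_aL, wW_aL, smul_zero,
      smul_zero, add_zero, add_zero]
    exact ⟨rfl, rfl⟩
  | (b, .s _ _ _) :: l, h => absurd (h _ List.mem_cons_self) Bool.false_ne_true
  | (b, .w _ _) :: l, h => absurd (h _ List.mem_cons_self) Bool.false_ne_true

/-- An entry of the first component. -/
noncomputable def entL (i j : P) : U →ₗ[ℝ] ℝ where
  toFun u := mA u i j
  map_add' _ _ := rfl
  map_smul' _ _ := rfl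

theorem entA_eq {l : Sp} (h : OkL l) {i j : ℕ} (hi : i < 24) (hj : j < 24) :
    (entA l i j : ℝ) = mA (vecL l) (ro i) (ro j) :=
  sumL_eq (entL (ro i) (ro j)) (fun d hd => by
    change _ = mA d.vec (ro i) (ro j)
    rcases d with ⟨k, l⟩ | ⟨p, c, n⟩ | ⟨k, u⟩
    · rw [Ds.vec, eA_eq, mA_aL (eA_symm _ _)]
      simp only [Int.ofNat_eq_natCast, Nat.add_eq]
      push_cast
      simp only [bN_eq, and2_true, ← ro_beq hd.1 hi, ← ro_beq hd.2 hj, ← ro_beq hd.2 hi,
        ← ro_beq hd.1 hj, Matrix.add_apply, single_apply]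
    · rw [Ds.vec, xC, mA_sL]; exact Int.cast_zero
    · rw [Ds.vec, mA_wB]; exact Int.cast_zero) h

theorem aOK_true {x : Sx} {t : Tp} (h : aOK x t = true) {c : S} (e : c.1 = dec x.c) :
    t.Good ∧ vecL t.u = aS c := by
  simp only [aOK, and2_true, allN_true, allL_true, decide_eq_true_eq] at h
  obtain ⟨h1, h2, h3, h4⟩ := h
  obtain ⟨-, -, -, d, d1, d2⟩ := Ds.ok_true h1
  obtain rfl : c = d := S_inj.1 (e.trans d1.symm)
  have g := Tp.chk_true h2
  refine ⟨g, U_ext ?_ ((isA_zero h3).1.trans (fS_aS c).symm) ((isA_zero h3).2.trans (wW_aS c).symm)⟩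
  ext p q
  obtain ⟨i, hi, rfl⟩ := ro_surj p
  obtain ⟨j, hj, rfl⟩ := ro_surj q
  have := congrArg (Int.cast (R := ℝ)) (h4 i hi j hj)
  rw [Int.mul_def, Int.mul_def, Int.cast_mul, Int.cast_mul, entA_eq g.u hi hj, Int.cast_ofNat] at this
  rw [mA_aS, d2 i hi j hj, ← this]
  ring

/-- The classes of a list of representatives. -/
def setR (Rs : List Rp) : Set S := {r | ∃ ρ ∈ Rs, r.1 = dec ρ.x.c}

theorem a_some {b : Sx} {bo : Option Sx} {ρ : Rp} (h : ρ.chk b bo = true) {r : S}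
    (e : r.1 = dec ρ.x.c) (h0 : r.1.1 = 0) : ∃ t, ρ.a = some t ∧ t.Good ∧ vecL t.u = aS r ∧
      inv3 b.tp b.tp t = true ∧ (optE (Nat.xor b.c 2048) bo fun y => inv3 b.tp y t) = true := by
  simp only [Rp.chk, and2_true] at h
  obtain ⟨h1, -, -, h4⟩ := h
  rcases hρ : ρ.a with _ | t <;> rw [hρ] at h4
  · have h5 := ble_true.1 h4
    have h6 := (posOk_true h1).2.1
    rw [e, dec_fst] at h0
    have := dK_inj (a := ρ.x.c >>> 12) (b := 0) (by rw [Nat.shiftRight_eq_div_pow]; omega) (by omega)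
      (h0.trans (funext fun j => (bt_zero _).symm))
    rw [Nat.shiftRight_eq_div_pow] at this
    omega
  · obtain ⟨h5, h6⟩ := and2_true.1 h4
    exact ⟨t, rfl, (aOK_true h5 e).1, (aOK_true h5 e).2, and2_true.1 h6⟩

theorem maskR_spec {p : ℕ} : ∀ {Rs : List Rp}, (maskR Rs).testBit p = true → ∃ ρ ∈ Rs, ρ.x.p = p
  | [], h => by simp [maskR] at h
  | ρ :: Rs, h => by
    change ((1 <<< ρ.x.p) ||| maskR Rs).testBit p = true at h
    rw [Nat.testBit_or, Bool.or_eq_true, Nat.one_shiftLeft, Nat.testBit_two_pow,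
      decide_eq_true_eq] at h
    rcases h with h | h
    · exact ⟨ρ, List.mem_cons_self, h⟩
    · obtain ⟨σ, h1, h2⟩ := maskR_spec h
      exact ⟨σ, List.mem_cons_of_mem _ h1, h2⟩

/-- The element of `Co0` of a word. -/
noncomputable def gW : List ℕ → G0
  | [] => 1
  | c :: w => gW w * co (gl c)

theorem apW_spec : ∀ (w : List ℕ) (n : ℕ), dec (apW w n) = gW w • dec n
  | [], n => (one_smul _ _).symm
  | c :: w, n => by
    rw [gW, mul_smul, ← (gl_cols c).ap]; exact apW_spec w _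

theorem pullL_spec : ∀ (w : List ℕ) (A : ℕ) {p : ℕ}, p < 98280 → (pullL w A).testBit p = true →
    ∃ q < 98280, A.testBit q = true ∧ cls p = gW w • cls q
  | [], A, p, hp, h => ⟨p, hp, h, (one_smul _ _).symm⟩
  | c :: w, A, p, hp, h => by
    change (seqN (pull (lt c).σ A) (pullL w)).testBit p = true at h
    rw [seqN_eq] at h
    obtain ⟨q, q1, q2, q3⟩ := pullL_spec w _ hp h
    rw [tb_pull (lt_okσ c)] at q2
    exact ⟨_, (gl_σ c q1).1, q2, by rw [q3, gW, mul_smul, ← (gl_σ c q1).2]⟩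

theorem clos_spec {b : S} {n : ℕ} (hb : b.1 = dec n) {R : Set S} : ∀ (ws : List (List ℕ)) (A : ℕ),
    clos n ws A = true → (∀ p < 98280, A.testBit p = true →
      ∃ h ∈ N0, h • b = b ∧ ∃ r ∈ R, (h • r).1 = cls p) → Reps b R
  | [], A, h, hA => fun c hc => by
    obtain ⟨p, hp, e⟩ := cls_surj c
    have := sub_true h (i := p) (by rw [testBit_ones, decide_eq_true hp])
    rw [lor_eq, Nat.testBit_or, Bool.or_eq_true] at this
    rcases this with a | a
    · obtain ⟨g, g1, g2, r, r1, r2⟩ := hA p hp a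
      exact ⟨g, g1, g2, r, r1, S_inj.1 (r2.trans e)⟩
    · rw [← e] at hc
      change bt (nth 0 CP 23) p = 0 at hc
      rw [bt, if_pos a] at hc
      exact absurd hc one_ne_zero
  | w :: ws, A, h, hA => by
    obtain ⟨h1, h2⟩ := and2_true.1 h
    obtain ⟨h2, h3⟩ := and2_true.1 h2
    rw [seqN_eq] at h3
    refine clos_spec hb ws _ h3 fun p hp a => ?_
    rw [lor_eq, Nat.testBit_or, Bool.or_eq_true] at a
    refine a.elim (hA p hp) fun a => ?_
    obtain ⟨q, q1, q2, q3⟩ := pullL_spec w A hp a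
    obtain ⟨g, g1, g2, r, r1, r2⟩ := hA q q1 q2
    refine ⟨gW w * g, N0.mul_mem (fix_Om.1 (by rw [← dec_Om, ← apW_spec, H29.beq_true.1 h2])) g1, ?_,
      r, r1, by rw [mul_smul, smul_val, r2, q3]⟩
    rw [mul_smul, g2, ← S_inj, smul_val, hb, ← apW_spec, H29.beq_true.1 h1]

theorem chk_of {x : Sx} {bo : Option Sx} {Rs : List Rp} {ws : List (List ℕ)} (h1 : x.tp.chk = true)
    (h2 : allL Rs (Rp.chk x bo) = true) (h3 : clos x.c ws (maskR Rs) = true) {b : S}
    (hb : b.1 = dec x.c) : Chk tau b (setR Rs) := by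
  have g := Tp.chk_true h1
  refine ⟨clos_spec hb ws _ h3 fun p hp a => ?_, ?_, ?_⟩
  · obtain ⟨ρ, ρ1, rfl⟩ := maskR_spec a
    exact ⟨1, N0.one_mem, one_smul _ _, toS _ (cls_S hp),
      ⟨ρ, ρ1, (posOk_true (and2_true.1 (allL_true.1 h2 ρ ρ1)).1).2.2⟩, by rw [one_smul]; rfl⟩
  · rintro r ⟨ρ, ρ1, ρ2⟩ e he
    have := allL_true.1 h2 ρ ρ1
    simp only [Rp.chk, and2_true] at this
    obtain ⟨t, t1, t2, t3⟩ : ∃ t : Tp, t.Good ∧ and2 ρ.x.tp.chk (inv3 x.tp ρ.x.tp t) = true ∧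
        vecL t.u = xS e :=
      he.elim (fun he => optE_true this.2.1 (by rw [he, hb, ρ2, xor_eq, dec_xor])) fun he =>
        optE_true this.2.2.1 (by rw [he, hb, ρ2, xor_eq, xor_eq, dec_xor, dec_xor, dec_Om])
    rw [← t3, ← x.vec hb, ← ρ.x.vec ρ2]
    exact inv3_true (and2_true.1 t2).2 g (Tp.chk_true (and2_true.1 t2).1) t1
  · rintro r ⟨ρ, ρ1, ρ2⟩ h0 e he
    obtain ⟨t, -, t1, t2, t3, t4⟩ := a_some (allL_true.1 h2 ρ ρ1) ρ2 h0
    rw [← t2]
    rcases he with he | he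
    · rw [S_inj.1 he, ← x.vec hb]
      exact inv3_true t3 g g t1
    · obtain ⟨y, y1, y2, y3⟩ := optE_true t4 (c := e) (by rw [he, hb, xor_eq, dec_xor, dec_Om])
      rw [← y3, ← x.vec hb]
      exact inv3_true y2 g y1 t1

theorem aaa_of {x : Sx} {bo : Option Sx} {Rs : List Rp} {a : Tp} {TA : List (List Sp)}
    (h1 : aOK x a = true) (h2 : allL Rs (Rp.chk x bo) = true) (h3 : ∀ i < 24, chkA a Rs TA i = true)
    {b : S} (hb : b.1 = dec x.c) :
    ∀ r ∈ setR Rs, r.1.1 = 0 → ∀ i j, Inv tau (aS b) (aS r) (eA i j) := by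
  rintro r ⟨ρ, ρ1, ρ2⟩ h0
  obtain ⟨t, t0, t1, t2, -⟩ := a_some (allL_true.1 h2 ρ ρ1) ρ2 h0
  have k : ∀ i < 24, ∀ j < 24, i ≤ j → Inv tau (aS b) (aS r) (eA (ro i) (ro j)) := fun i hi j hj e => by
    have := allN_true.1 (h3 i hi) j hj
    rw [ble_true.2 e] at this
    obtain ⟨a1, a2⟩ := and2_true.1 this
    have a3 := allL_true.1 a2 ρ ρ1
    rw [t0] at a3
    have := inv3_true a3 (aOK_true h1 hb).1 t1 (Tp.chk_true a1)
    rw [(aOK_true h1 hb).2, t2] at this
    simpa only [tpA, vecL, Bool.false_eq_true, if_false, one_smul, add_zero, Ds.vec] using this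
  intro p q
  obtain ⟨i, hi, rfl⟩ := ro_surj p
  obtain ⟨j, hj, rfl⟩ := ro_surj q
  rcases le_total i j with e | e
  · exact k i hi j hj e
  · rw [eA_eq, add_comm]; exact k j hj i hi e

theorem xyz_of {x : Sx} {TY TZ : List Sp} (h1 : x.tp.chk = true) (h2 : chkW x TY TZ = true) {b : S}
    (hb : b.1 = dec x.c) (p q : P) : Inv tau (xS b) (wB (p, 0)) (wB (q, b.1.1)) := by
  simp only [chkW, and2_true, allN_true] at h2
  obtain ⟨i, hi, rfl⟩ := ro_surj p
  obtain ⟨j, hj, rfl⟩ := ro_surj q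
  have := inv3_true (h2.2.2 i hi j hj) (Tp.chk_true h1) (Tp.chk_true (h2.1 i hi))
    (Tp.chk_true (h2.2.1 j hj))
  rw [x.vec hb] at this
  rw [hb, dec_fst, show (0 : K) = dK 0 from funext fun j => (bt_zero _).symm]
  simpa only [tpW, vecL, Bool.false_eq_true, if_false, one_smul, add_zero, Ds.vec, shr_eq] using this

theorem Sx.exists_S {x : Sx} (h : x.tp.chk = true) : ∃ b : S, b.1 = dec x.c :=
  let ⟨_, _, _, d, hd, _⟩ := (Tp.chk_true h).u _ List.mem_cons_self
  ⟨d, hd⟩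

end H10.Mon.MF
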