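import Mathlib
import Cfsg.Agent.H10.MPair

/-!
# Words in the Monster: the small engine, inverses, axes of words
-/

set_option autoImplicit false
set_option linter.all false
set_option maxRecDepth 100000

namespace H10.Mon.MS

open Cfsg H9 H29 Matrix

/-- The moves on `24 × 24` matrices and on the module of dimension 4096. -/
noncomputable def mvL (L : Lt) : Mv :=
  ⟨.run (mapL (Op.lft 24) L.ρ []) .r0, .run L.κ' .r1, .r2⟩

noncomputable def mvS (c : ℕ) : Mv := mvL (lt c)

noncomputable def okS (L : Lt) : Bool :=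
  and2 (okP 576 (mapL (Op.lft 24) L.ρ [])) (and2 (okP 4096 L.κ') (mvL L).ok)

theorem okS_all (c : ℕ) : okS (lt c) = true :=
  lt_all (p := fun L => okS L = true)
    (allN_true.1 (show allN 53 (fun c => okS (lt c)) = true by decide +kernel)) c

theorem mvS_ok (c : ℕ) : (mvS c).ok = true := (and2_true.1 (and2_true.1 (okS_all c)).2).2

noncomputable def ΦS (M : Matrix P P ℝ) (x : K → ℝ) : R3 :=
  (fun p => if p < 576 then M (ro (p / 24)) (ro (p % 24)) else 0, lK x, 0)

theorem nm_gl (c : ℕ) : nm (gl c) = mP (lt c).κ' := by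
  ext u v
  obtain ⟨u, hu, rfl⟩ := dK_surj u
  obtain ⟨v, hv, rfl⟩ := dK_surj v
  rw [gl_nm c hu hv, mP_apply _ hu hv]

theorem ΦS_step (c : ℕ) (M : Matrix P P ℝ) (x : K → ℝ) :
    (mvS c).sem (ΦS M x) = ΦS (hm (co (gl c)) * M) (nm (gl c) *ᵥ x) := by
  obtain ⟨h1, h2⟩ := and2_true.1 (okS_all c)
  obtain ⟨-, -, h3, -, h4⟩ := chkA_sound (lt_all (p := fun L => L.cA = true) cA_all c)
  refine Prod.ext (funext fun p => ?_) (Prod.ext ?_ rfl)
  · change sem (mapL (Op.lft 24) (lt c).ρ []) (ΦS M x).1 p = if p < 576 then _ else 0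
    split_ifs with hp
    · have hi : p / 24 < 24 := by omega
      have hj : p % 24 < 24 := by omega
      rw [mapL_eq, List.append_nil]
      conv_lhs => rw [← Nat.div_add_mod' p 24]
      rw [sem_lft hj h3, sem_mat h3 _ hi, mul_apply, sum_ro]
      refine Finset.sum_congr rfl fun k hk => ?_
      have hk := Finset.mem_range.1 hk
      rw [h4 _ hi _ hk, gl_co]
      congr 1
      change (if _ < 576 then _ else _) = _
      rw [if_pos (by omega), show (k * 24 + p % 24) / 24 = k by omega,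
        show (k * 24 + p % 24) % 24 = p % 24 by omega]
    · exact sem_supp h1 (fun q hq => if_neg (not_lt.2 hq)) p (not_lt.1 hp)
  · change sem (lt c).κ' (lK x) = lK _
    rw [nm_gl, lK_mP (and2_true.1 h2).1]

theorem ΦS_word : ∀ (w : List ℕ) (M : Matrix P P ℝ) (x : K → ℝ),
    semW mvS w (ΦS M x) = ΦS (hm (co (gw w)) * M) (nm (gw w) *ᵥ x)
  | [], M, x => by rw [gw, map_one, map_one, one_mul, nm_one, one_mulVec]; rfl
  | c :: w, M, x => by
    rw [semW, LinearMap.comp_apply, ΦS_step, ΦS_word w, gw, map_mul, map_mul, nm_mul,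
      mulVec_mulVec, mul_assoc]

/-- The test vector. -/
noncomputable def vT : K → ℝ := fun u => if u = 0 then 2 else 1

noncomputable def stT : St :=
  ⟨stOne.a, ⟨0, .cons (Nat.xor (ones 4096) 1) (.cons 1 (.sgn 0))⟩, ⟨0, .sgn 0⟩⟩

theorem dK_zero : dK 0 = 0 := funext fun j => bt_zero j

theorem stT_val : stT.val = ΦS 1 vT := by
  refine Prod.ext ?_ (Prod.ext (funext fun p => ?_) (funext fun p => ?_))
  · have := congrArg Prod.fst Φ_one
    refine this.symm.trans (funext fun p => ?_)
    rw [Φ_a, one, mA_mk transpose_one]; rfl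
  · change ((bz (Nat.xor (ones 4096) 1) p + 2 * (bz 1 p + 2 * -bz 0 p) : ℤ) : ℝ) / 2 ^ 0 =
      if p < 4096 then vT (dK p) else 0
    have e : (1 : ℕ).testBit p = decide (p = 0) := by
      rw [show (1 : ℕ) = 2 ^ 0 from rfl, Nat.testBit_two_pow]; simp [eq_comm]
    simp only [bz, xor_eq, Nat.testBit_xor, testBit_ones, e, Nat.zero_testBit, vT]
    by_cases h0 : p = 0
    · subst h0; simp [dK_zero]
    · by_cases hp : p < 4096
      · have : dK p ≠ 0 := fun h => h0 (dK_inj hp (by norm_num) (h.trans dK_zero.symm))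
        simp [h0, hp, this]
      · simp [h0, hp]
  · simp [stT, St.val, ΦS, Vec.val, Pl.val, bz]

theorem eq_one_of_vT {g : GT} (h1 : co g = 1) (h2 : nm g *ᵥ vT = vT) : g = 1 := by
  obtain ⟨t, c, rfl⟩ := co_eq_one.1 h1
  have key : ∀ u, sg t * (sg (c.2 ⬝ᵥ u) * vT (u + c.1)) = vT u := fun u => by
    have := congrFun h2 u
    rw [nm_qe, smul_mulVec, Pi.smul_apply, smul_eq_mul] at this
    rw [← this]
    congr 1
    have e := xm_mul_apply (m := Unit) (Matrix.of fun u _ => vT u) c u ()
    exact e.symm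
  have h0 := key 0
  rw [dotProduct_zero, sg_zero, one_mul, zero_add] at h0
  have hc : c.1 = 0 ∧ t = 0 := by
    by_cases hc : c.1 = 0 <;> rcases z2 t with rfl | rfl <;> simp [vT, hc] at h0 ⊢ <;> norm_num at h0
  have h2 : c.2 = 0 := by
    by_contra hne
    obtain ⟨j, hj⟩ := Function.ne_iff.1 hne
    have := key (Pi.single j 1)
    rw [hc.1, hc.2, sg_zero, one_mul, add_zero, dotProduct_single, mul_one] at this
    rcases z2 (c.2 j) with e | e
    · exact hj e
    · rw [e] at this
      simp only [vT] at this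
      split_ifs at this <;> simp at this <;> norm_num at this
  rw [hc.2, show c = 0 from Prod.ext hc.1 h2, qe_zero]

theorem ΦS_inj {M N : Matrix P P ℝ} {x y : K → ℝ} (h : ΦS M x = ΦS N y) : M = N ∧ x = y := by
  refine ⟨Matrix.ext fun p q => ?_, lK_inj (congrArg (fun z : R3 => z.2.1) h)⟩
  obtain ⟨i, hi, rfl⟩ := ro_surj p
  obtain ⟨j, hj, rfl⟩ := ro_surj q
  have := congrFun (congrArg Prod.fst h) (i * 24 + j)
  simp only [ΦS] at this
  rwa [if_pos (by omega), if_pos (by omega), show (i * 24 + j) / 24 = i by omega,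
    show (i * 24 + j) % 24 = j by omega] at this

theorem gw_eq {u v : List ℕ} (h : semW mvS u (ΦS 1 vT) = semW mvS v (ΦS 1 vT)) : gw u = gw v := by
  rw [ΦS_word, ΦS_word, mul_one, mul_one] at h
  obtain ⟨h1, h2⟩ := ΦS_inj h
  rw [← inv_mul_eq_one]
  refine eq_one_of_vT (by rw [map_mul, map_inv, hm_inj h1, inv_mul_cancel]) ?_
  rw [nm_mul, ← mulVec_mulVec, ← h2, mulVec_mulVec, ← nm_mul, inv_mul_cancel, nm_one, one_mulVec]

theorem gw_neg {u v : List ℕ} (h : semW mvS u (ΦS 1 vT) = -semW mvS v (ΦS 1 vT)) :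
    gw u = gw v * m1 := by
  rw [ΦS_word, ΦS_word, mul_one, mul_one] at h
  have e : -ΦS (hm (co (gw v))) (nm (gw v) *ᵥ vT) =
      ΦS (hm (co (gw v * m1))) (nm (gw v * m1) *ᵥ vT) := by
    rw [map_mul, map_mul, co_m1, hm_neg1, nm_mul, nm_m1, mul_neg, mul_neg, mul_one, mul_one,
      neg_mulVec]
    refine Prod.ext (funext fun p => ?_) (Prod.ext (funext fun p => ?_) neg_zero)
    · simp only [ΦS, Prod.fst_neg, Pi.neg_apply, neg_apply]; split_ifs <;> simp
    · simp only [ΦS, Prod.snd_neg, Prod.fst_neg, Pi.neg_apply, lK]; split_ifs <;> simp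
  obtain ⟨h1, h2⟩ := ΦS_inj (h.trans e)
  rw [← inv_mul_eq_one]
  refine eq_one_of_vT (by rw [map_mul, map_inv, hm_inj h1, inv_mul_cancel]) ?_
  rw [nm_mul, ← mulVec_mulVec, ← h2, mulVec_mulVec, ← nm_mul, inv_mul_cancel, nm_one, one_mulVec]

/-- The sum of two vectors vanishes. -/
noncomputable def zV (u v : Vec) : Bool := (u.add v).force fun r => Nat.beq r.P.nz 0

theorem zV_true {u v : Vec} (h : zV u v = true) : u.val = -v.val := by
  rw [zV, Vec.force_eq, H29.beq_true] at h
  funext p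
  have := Vec.val_nz (v := u.add v) (p := p) (by rw [h, Nat.zero_testBit])
  rw [Vec.val_add] at this
  exact eq_neg_of_add_eq_zero_left this

noncomputable def ngV (N : ℕ) (v : Vec) : Vec := (Op.ng (ones N)).step v

theorem ngV_val {N : ℕ} {v : Vec} (h : ∀ p, N ≤ p → v.val p = 0) : (ngV N v).val = -v.val := by
  have : (Op.ng (ones N)).ok N = true := H29.beq_true.2 (Nat.eq_of_testBit_eq fun i => by
    rw [shr_eq, Nat.testBit_shiftRight, testBit_ones]; simp)
  rw [ngV, Op.val_step this]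
  funext p
  simp only [Op.sem, testBit_ones, decide_eq_true_eq, Pi.neg_apply]
  split_ifs with hp
  · rfl
  · rw [h p (not_lt.1 hp), neg_zero]

/-- Two words without the letter 53 give the same operator. -/
noncomputable def eqS (u v : List ℕ) : Bool :=
  and2 (noT u) (and2 (noT v) ((runW mvS u stT).frc fun x => (runW mvS v stT).frc fun y =>
    Bool.rec (and2 (zV x.a (ngV 576 y.a)) (zV x.s (ngV 4096 y.s))) (zV x.s y.s) (zV x.a y.a)))

theorem eqS_true {u v : List ℕ} (h : eqS u v = true) : wd u = wd v := by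
  obtain ⟨h1, h2⟩ := and2_true.1 h
  obtain ⟨h2, h3⟩ := and2_true.1 h2
  rw [St.frc_eq, St.frc_eq] at h3
  have e1 := val_runW mvS_ok u stT
  have e2 := val_runW mvS_ok v stT
  rw [stT_val] at e1 e2
  have w1 := e1
  have w2 := e2
  rw [ΦS_word] at w1 w2
  rw [wd_gw h1, wd_gw h2, rho_eq_rho]
  generalize runW mvS u stT = x at h3 e1 w1
  generalize runW mvS v stT = y at h3 e2 w2
  have z1 : x.w.val = 0 := congrArg (fun z : R3 => z.2.2) w1
  have z2 : y.w.val = 0 := congrArg (fun z : R3 => z.2.2) w2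
  cases hz : zV x.a y.a
  · rw [hz] at h3
    obtain ⟨h4, h5⟩ := and2_true.1 h3
    refine .inl (gw_eq ?_)
    rw [← e1, ← e2]
    refine Prod.ext ?_ (Prod.ext ?_ (z1.trans z2.symm))
    · refine (zV_true h4).trans ?_
      rw [ngV_val, neg_neg]; · rfl
      intro p hp
      exact (congrFun (congrArg Prod.fst w2) p).trans (if_neg (not_lt.2 hp))
    · refine (zV_true h5).trans ?_
      rw [ngV_val, neg_neg]; · rfl
      intro p hp
      exact (congrFun (congrArg (fun z : R3 => z.2.1) w2) p).trans (lK_supp _ p hp)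
  · rw [hz] at h3
    refine .inr (gw_neg ?_)
    rw [← e1, ← e2]
    exact Prod.ext (zV_true hz) (Prod.ext (zV_true h3) (z1.trans (neg_eq_zero.2 z2).symm))

/-! ### Products, powers and inverses of words -/

noncomputable def apd (u v : List ℕ) : List ℕ := mapL id u v

theorem apd_eq (u v : List ℕ) : apd u v = u ++ v := by rw [apd, mapL_eq, List.map_id]

theorem wd_mul (u v : List ℕ) : wd u * wd v = wd (apd v u) := by rw [apd_eq, wd_append]

noncomputable def pwW (u : List ℕ) (n : ℕ) : List ℕ := Nat.rec [] (fun _ ih => apd u ih) n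

theorem wd_pow (u : List ℕ) : ∀ n, wd u ^ n = wd (pwW u n)
  | 0 => pow_zero _
  | n + 1 => by rw [pow_succ, wd_pow u n, wd_mul]; rfl

/-- The inverse of a letter. -/
noncomputable def ivL (c : ℕ) : List ℕ :=
  Bool.rec (Bool.rec (Bool.rec [c] [53, 53] (Nat.beq c 53)) [Nat.sub c 8] (Nat.ble c 15))
    [Nat.add c 8] (Nat.ble c 7)

noncomputable def ivW (w : List ℕ) : List ℕ :=
  List.rec (motive := fun _ => List ℕ → List ℕ) (fun r => r)
    (fun c _ ih r => ih (apd (ivL c) r)) w []

theorem el_big {c : ℕ} (h : 53 < c) : el c = zz := by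
  have e : lt c = lt 52 := by
    rw [lt, nth_default _ (le_trans (show ltL.length ≤ 53 from le_of_eq rfl) h.le)]; rfl
  rw [el_ne (by omega), zz, ← dec_zero, gl_eq_qe (t := 1) (n := 0) (by norm_num) (by rw [e]; rfl)
    (by rw [e]; decide +kernel)]
  rfl

theorem wd_ivL (c : ℕ) : wd (ivL c) = (el c)⁻¹ := by
  rw [eq_inv_iff_mul_eq_one]
  rcases lt_trichotomy c 53 with h | rfl | h
  · have : allN 53 (fun c => eqS (c :: ivL c) []) = true := by decide +kernel
    exact eqS_true (allN_true.1 this c h)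
  · have := tri_tau.cube
    rw [pow_three'] at this
    change 1 * el 53 * el 53 * el 53 = 1
    rw [one_mul, el_tau, this]
  · have e : ivL c = [c] := by
      unfold ivL
      rw [show Nat.ble c 7 = false from Bool.eq_false_iff.2 (mt H29.ble_true.1 (by omega)),
        show Nat.ble c 15 = false from Bool.eq_false_iff.2 (mt H29.ble_true.1 (by omega)),
        show Nat.beq c 53 = false from Bool.eq_false_iff.2 (mt H29.beq_true.1 (by omega))]
    rw [e, wd_one, el_big h, zz_mul_self]

theorem wd_ivW (w : List ℕ) : (wd w)⁻¹ = wd (ivW w) := by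
  have key : ∀ (w r : List ℕ), wd (List.rec (motive := fun _ => List ℕ → List ℕ) (fun r => r)
      (fun c _ ih r => ih (apd (ivL c) r)) w r) = wd r * (wd w)⁻¹ := by
    intro w
    induction w with
    | nil => intro r; simp [wd]
    | cons c w ih =>
      intro r
      refine (ih _).trans ?_
      rw [← wd_mul, wd_ivL, wd, _root_.mul_inv_rev, mul_assoc]
  rw [ivW, key, wd, one_mul]

theorem wd_nil : wd [] = 1 := rfl

/-- The word commutes with the word. -/
noncomputable def cmS (u v : List ℕ) : Bool := eqS (apd u v) (apd v u)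

theorem cmS_true {u v : List ℕ} (h : cmS u v = true) : Commute (wd u) (wd v) := by
  have := eqS_true h
  rw [← wd_mul, ← wd_mul] at this
  exact this.symm

theorem one_of_eqS {u : List ℕ} (h : eqS u [] = true) : wd u = 1 := eqS_true h

/-! ### Axes of words -/

/-- The axis of a word. -/
noncomputable def aW (w : List ℕ) : U := wd w (ax 1 c0)

/-- The involution of the axis of a word. -/
noncomputable def iW (w : List ℕ) : U ≃ₗ[ℝ] U := wd w * tv 1 c0 * (wd w)⁻¹

theorem wd_aut (w : List ℕ) : wd w ∈ Aut := MM_le_Aut tri_tau (wd_mem w)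

theorem iW_mem (w : List ℕ) : iW w ∈ MM tau :=
  mul_mem (mul_mem (wd_mem w) (HH_le tt_mem_HH)) (inv_mem (wd_mem w))

theorem iW_eq {u v : List ℕ} (h : aW u = aW v) : iW u = iW v := conj_tv_eq (wd_aut u) (wd_aut v) h

theorem iW_wd (w : List ℕ) : iW w = wd (apd (ivW w) (apd qA w)) := by
  rw [iW, ← wd_mul, ← wd_mul, wd_qA, wd_ivW]

theorem iW_mul_self (w : List ℕ) : iW w * iW w = 1 := by
  have : tv 1 c0 * tv 1 c0 = 1 := by
    have := pow_orderOf_eq_one (tv 1 c0)
    rwa [orderOf_tt, pow_two] at this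
  rw [iW, conj_mul, this, mul_one, mul_inv_cancel]

theorem iW_inv (w : List ℕ) : (iW w)⁻¹ = iW w := inv_eq_of_mul_eq_one_right (iW_mul_self w)

/-- An element of the group that carries an axis to an axis conjugates the involutions. -/
theorem conj_iW {g : U ≃ₗ[ℝ] U} (hg : g ∈ MM tau) {u v : List ℕ} (h : g (aW u) = aW v) :
    g * iW u * g⁻¹ = iW v := by
  have := conj_tv_eq (mul_mem (MM_le_Aut tri_tau hg) (wd_aut u)) (wd_aut v) h
  rw [iW, iW, ← this]; group

theorem comm_iW {g : U ≃ₗ[ℝ] U} (hg : g ∈ MM tau) {u : List ℕ} (h : g (aW u) = aW u) :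
    Commute g (iW u) := by
  have := conj_iW hg h
  rw [mul_inv_eq_iff_eq_mul] at this
  exact this

theorem wd_aW (w u : List ℕ) : wd w (aW u) = aW (apd u w) := by
  rw [aW, aW, ← wd_mul, LinearEquiv.mul_apply]

theorem iW_aW (w : List ℕ) : iW w (aW w) = aW w := by
  have : tv 1 c0 (ax 1 c0) = ax 1 c0 :=
    fix_of_comm (MM_le_Aut tri_tau (HH_le tt_mem_HH)) (mul_inv_cancel_right _ _)
  rw [iW, aW, LinearEquiv.mul_apply, LinearEquiv.mul_apply, ← LinearEquiv.mul_apply (wd w)⁻¹,
    inv_mul_cancel, LinearEquiv.coe_one, id, this]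

/-- The registers of a vector. -/
def Hd (v : U) (x : St) : Prop := Φ v = x.val

theorem Hd.ax1 : Hd (ax 1 c0) (stAx 1) := Φ_ax1

theorem Hd.run {v : U} {x : St} (h : Hd v x) (w : List ℕ) {y : St}
    (e : (runW mv w x).beq y = true) : Hd (wd w v) y := by
  rw [Hd, Φ_run h, St.eq_of_beq e]

theorem Hd.eq {u v : U} {x : St} (h : Hd u x) (h' : Hd v x) : u = v := Φ_inj (h.trans h'.symm)

theorem Hd.fix {v : U} {x : St} (h : Hd v x) {w : List ℕ} (e : (runW mv w x).beq x = true) :
    wd w v = v := (h.run w e).eq h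

/-- Two runs with the same result. -/
noncomputable def eq2 (u : List ℕ) (x : St) (w : List ℕ) (y : St) : Bool :=
  (runW mv u x).frc fun a => (runW mv w y).frc fun b => a.beq b

theorem Hd.eq2 {a b : U} {x y : St} (h : Hd a x) (h' : Hd b y) {u w : List ℕ}
    (e : eq2 u x w y = true) : wd u a = wd w b := by
  rw [H10.Mon.MS.eq2, St.frc_eq, St.frc_eq] at e
  exact Φ_inj (by rw [Φ_run h, Φ_run h', St.eq_of_beq e])

theorem Hd.zz_ne {v : U} {x : St} (h : Hd v x) {p : ℕ} (hp : x.w.P.val p ≠ 0) : zz v ≠ v := by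
  intro e
  have h1 : wW v = 0 := by
    have := wW_zz v
    rw [e] at this
    funext q
    have := congrFun this q
    simp only [Pi.neg_apply] at this
    simp only [Pi.zero_apply]; linarith
  have h2 : (Φ v).2.2 p = 0 := by rw [Φ_w, h1]; simp
  rw [h] at h2
  change (x.w.P.val p : ℝ) / 2 ^ x.w.e = 0 at h2
  simp [hp] at h2

end H10.Mon.MS
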