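import Mathlib
import Cfsg.Agent.H19.MS0

/-!
# Words that commute with the triality element; involutions outside the extraspecial group
-/

set_option autoImplicit false
set_option linter.all false
set_option maxRecDepth 100000

namespace H10.Mon.MS

open Cfsg H9 H29 Matrix

/-- Substitution of words for letters. -/
noncomputable def sbW (T : List (List ℕ)) (k : List ℕ) : List ℕ :=
  List.rec [] (fun c _ ih => apd (nth [] T c) ih) k

theorem sbW_mem {H : Subgroup (U ≃ₗ[ℝ] U)} {T : List (List ℕ)} (h : ∀ w ∈ T, wd w ∈ H) :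
    ∀ k, wd (sbW T k) ∈ H
  | [] => one_mem _
  | c :: k => by
    change wd (apd (nth [] T c) (sbW T k)) ∈ H
    rw [← wd_mul]
    refine mul_mem (sbW_mem h k) ?_
    rw [nth_eq, List.getD_eq_getElem?_getD]
    cases e : T[c]? with
    | none => exact one_mem _
    | some w => exact h w (List.mem_of_getElem? e)

/-- Each word of the second table is a word in the first table. -/
noncomputable def tbS (T T' Pf : List (List ℕ)) : Bool :=
  allN T'.length fun j => eqS (nth [] T' j) (sbW T (nth [] Pf j))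

theorem tbS_mem {H : Subgroup (U ≃ₗ[ℝ] U)} {T T' : List (List ℕ)} (Pf : List (List ℕ))
    (h : ∀ w ∈ T, wd w ∈ H) (e : tbS T T' Pf = true) : ∀ w ∈ T', wd w ∈ H := by
  intro w hw
  obtain ⟨j, hj, rfl⟩ := List.getElem_of_mem hw
  have := eqS_true (allN_true.1 e j hj)
  rw [nth_eq, List.getD_eq_getElem _ _ hj] at this
  rw [this]; exact sbW_mem h _

/-- The centraliser of an element. -/
abbrev Ce (g : U ≃ₗ[ℝ] U) : Subgroup (U ≃ₗ[ℝ] U) := Subgroup.centralizer {g}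

theorem mem_Ce {g x : U ≃ₗ[ℝ] U} : x ∈ Ce g ↔ Commute g x := by
  rw [Subgroup.mem_centralizer_singleton_iff]; exact eq_comm

theorem tau_tt : Commute tau (tv 1 c0) := by
  have := (mem_HH.1 (tau_mem_HH tri_tau)).2
  rwa [mul_inv_eq_iff_eq_mul] at this

theorem ct0 : ∀ w ∈ [[0], [1], [2], [8], [9], [10], qA], wd w ∈ Ce tau := by
  have h : ∀ c < 3, wd [c] ∈ Ce tau := fun c hc => by
    rw [mem_Ce, wd_one, el_ne (by omega)]; exact tau_comm hc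
  have h' : ∀ c < 3, wd (ivW [c]) ∈ Ce tau := fun c hc => by rw [← wd_ivW]; exact inv_mem (h c hc)
  simp only [List.mem_cons, List.not_mem_nil, or_false, forall_eq_or_imp, forall_eq]
  exact ⟨h 0 (by norm_num), h 1 (by norm_num), h 2 (by norm_num), h' 0 (by norm_num),
    h' 1 (by norm_num), h' 2 (by norm_num), by rw [mem_Ce, wd_qA]; exact tau_tt⟩

theorem ct1 : ∀ w ∈ [[0], [1], [2], [8], [9], [10], [28], [29, 39], [30], [31], [32, 39], [33],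
    [34, 39], [35], [36], [37], [38]], wd w ∈ Ce tau :=
  tbS_mem [[0], [1], [2], [3], [4], [5], [5, 0, 5, 4, 3, 6, 0, 1, 2, 3, 2],
    [0, 2, 0, 0, 4, 3, 6, 0, 1, 3, 3, 5, 3, 6],
    [3, 3, 6, 0, 0, 2, 4, 3, 4, 0, 0, 6, 3, 3, 1, 0, 1, 5],
    [2, 2, 4, 3, 2, 4, 3, 6, 0, 1, 5, 0, 1, 5, 5],
    [5, 0, 2, 0, 4, 3, 6, 0, 1, 3, 5, 3, 2, 0, 6, 3],
    [4, 3, 3, 2, 4, 3, 6, 0, 1, 5, 0, 0, 1],
    [0, 5, 3, 6, 0, 2, 3, 3, 3, 4, 0, 6, 3, 1, 0, 0],
    [0, 2, 4, 3, 3, 6, 0, 0, 1, 5, 3, 3, 6, 0],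
    [2, 2, 0, 5, 4, 3, 6, 0, 1, 2, 3, 5, 5],
    [0, 4, 3, 3, 5, 4, 3, 6, 0, 1, 2, 0, 0, 1, 3],
    [0, 2, 3, 6, 0, 5, 3, 5, 0, 6, 3, 2]] ct0 (by decide +kernel)

/-- Generators of `2^11.M24`. -/
def ctT : List (List ℕ) := [[0], [1], [2], [3], [4], [5], [6], [7], [8], [9], [10], [11], [12],
  [13], [14], [15], [28], [29, 39], [30], [31], [32, 39], [33], [34, 39], [35], [36], [37], [38]]

theorem ct2 : ∀ w ∈ ctT, wd w ∈ Ce tau :=
  tbS_mem [[0], [1], [2],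
    [1, 2, 3, 1, 0, 0, 0, 0, 2, 3, 1, 2, 3, 2, 7, 8, 9, 11, 12, 13, 14, 15, 16],
    [1, 5, 0, 5, 5, 3, 5, 3, 2, 0, 1, 3, 2, 3, 5, 3, 7, 8, 11, 12, 13, 15, 16],
    [1, 3, 3, 5, 3, 3, 5, 3, 5, 3, 2, 2, 3, 1, 2, 9, 13, 14, 15],
    [0, 0, 0, 0, 1, 2, 3, 3, 5, 5, 3, 3, 1, 0, 0, 5, 5, 8, 9],
    [0, 5, 3, 3, 1, 5, 0, 1, 3, 3, 1, 5, 5, 3, 1, 2, 7, 8, 9, 10, 13, 14, 16],
    [3], [1, 6, 7, 15], [5],
    [5, 0, 1, 5, 0, 5, 3, 3, 3, 3, 1, 0, 1, 5, 6, 7, 8, 9, 10, 14, 15],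
    [0, 2, 0, 5, 0, 1, 3, 5, 0, 2, 0, 2, 2, 3, 1, 2, 6, 8, 12, 16],
    [1, 5, 0, 5, 5, 0, 2, 0, 2, 0, 0, 2, 0, 0, 1, 8, 11, 12, 15, 16],
    [0, 5, 0, 0, 5, 5, 0, 1, 5, 3, 3, 5, 0, 0, 0, 5, 3, 8, 11, 14],
    [1, 5, 0, 1, 2, 2, 0, 0, 0, 1, 0, 2, 0, 0, 2, 3, 8, 10, 12, 13, 14, 16],
    [6], [7], [8], [9], [10], [11], [12], [13], [14], [15], [16]] ct1 (by decide +kernel)

/-- The word `w` commutes with `tau`; `k` is the certificate. -/
theorem ct_of {w : List ℕ} (k : List ℕ) (h : eqS w (sbW ctT k) = true) : Commute tau (wd w) := by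
  rw [eqS_true h]; exact mem_Ce.1 (sbW_mem ct2 k)

/-- Conjugation of words: `cjW g u` is `g u g⁻¹`. -/
noncomputable def cjW (g u : List ℕ) : List ℕ := apd (ivW g) (apd u g)

theorem wd_cjW (g u : List ℕ) : wd g * wd u * (wd g)⁻¹ = wd (cjW g u) := by
  rw [wd_ivW, wd_mul, wd_mul]; rfl

theorem iW_apd (u w : List ℕ) : iW (apd u w) = wd w * iW u * (wd w)⁻¹ := by
  rw [iW, iW, ← wd_mul]; group

theorem iW_of {g u : List ℕ} (h : eqS (cjW g qA) u = true) : iW g = wd u := by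
  rw [iW_wd]; exact eqS_true h

/-- The word of the axis of the letter 17. -/
def w17 : List ℕ := [8, 16, 22, 0, 53]

theorem iW_17 : iW w17 = wd [17] := by
  have : iW [8, 16, 22, 0] = wd [40] := iW_of (by decide +kernel)
  rw [show w17 = apd [8, 16, 22, 0] [53] from rfl, iW_apd, this, wd_one, wd_one, wd_one, el_tau,
    el_Q (j := 12) (by norm_num), el_ne (by norm_num)]
  exact tau_e0

theorem iW_of17 {g u : List ℕ} (h : eqS (cjW g [17]) u = true) : iW (apd w17 g) = wd u := by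
  rw [iW_apd, iW_17, wd_cjW]; exact eqS_true h

end H10.Mon.MS
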