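import Mathlib
import Cfsg.Prelude.Def_SporCoxeter
import Cfsg.Agent.H19.MS1

/-!
# Presented groups inside centralisers
-/

set_option autoImplicit false
set_option linter.all false

namespace H10.Mon.MS

open Cfsg H9 H29 Matrix Cfsg.Spor

theorem sub_of_pres {G : Type*} [Group G] {M : Subgroup G} {α : Type} [DecidableEq α]
    {edges : List (α × ℕ × α)} {extra : List (FreeGroup α)} {n : ℕ}
    (hs : IsSimpleGroup (CoxPresented α edges extra) ∧ Nat.card (CoxPresented α edges extra) = n)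
    (f : α → G) (hM : ∀ a, f a ∈ M) {w : G} (hw : w ∈ M) (hc : ∀ a, Commute w (f a))
    (h1 : ∀ x ∈ coxNodes edges, ∀ y ∈ coxNodes edges, (f x * f y) ^ coxLabel edges x y = 1)
    (h2 : ∀ r ∈ extra, FreeGroup.lift f r = 1) (h3 : ∃ a, f a ≠ 1) :
    ∃ K : Subgroup M, K ≤ Subgroup.centralizer {(⟨w, hw⟩ : M)} ∧ IsSimpleGroup K ∧
      Nat.card K = n := by
  have := hs.1
  let f' : α → M := fun a => ⟨f a, hM a⟩
  have e : ∀ r, ((FreeGroup.lift f' r : M) : G) = FreeGroup.lift f r := fun r => by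
    have : M.subtype.comp (FreeGroup.lift f') = FreeGroup.lift f :=
      FreeGroup.ext_hom _ _ fun a => by simp [f']
    exact DFunLike.congr_fun this r
  let φ : CoxPresented α edges extra →* M := PresentedGroup.toGroup (f := f') (by
    rintro r (⟨x, hx, y, hy, rfl⟩ | hr)
    · exact Subtype.ext (by rw [e]; simpa using h1 x hx y hy)
    · exact Subtype.ext (by rw [e]; exact h2 r hr))
  have hφ : Function.Injective φ := by
    rw [← MonoidHom.ker_eq_bot_iff]
    refine (IsSimpleGroup.eq_bot_or_eq_top_of_normal φ.ker inferInstance).resolve_right fun h => ?_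
    obtain ⟨a, ha⟩ := h3
    have : PresentedGroup.of a ∈ φ.ker := h ▸ Subgroup.mem_top _
    rw [MonoidHom.mem_ker, PresentedGroup.toGroup.of] at this
    exact ha (congrArg Subtype.val this)
  have e2 := MonoidHom.ofInjective hφ
  refine ⟨φ.range, ?_, e2.symm.isSimpleGroup, (Nat.card_congr e2.toEquiv).symm.trans hs.2⟩
  rw [MonoidHom.range_eq_map, ← PresentedGroup.closure_range_of, MonoidHom.map_closure,
    Subgroup.closure_le]
  rintro _ ⟨_, ⟨a, rfl⟩, rfl⟩
  rw [SetLike.mem_coe, Subgroup.mem_centralizer_singleton_iff, PresentedGroup.toGroup.of]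
  exact Subtype.ext (hc a).symm

/-- The word moves the class `n`. -/
noncomputable def mvC (w : List ℕ) (n : ℕ) : Bool :=
  and2 (noT w) (lit (apL w n) fun m =>
    and2 (Nat.ble m 16777215) (and2 (Nat.ble n 16777215) (!Nat.beq m n)))

theorem mvC_true {w : List ℕ} (n : ℕ) (h : mvC w n = true) :
    co (gw w) ∉ Subgroup.center G0 ∧ wd w = rho (gw w) := by
  simp only [mvC, and2_true, lit_eq, H29.ble_true, Bool.not_eq_true', ← Bool.not_eq_true,
    H29.beq_true] at h
  obtain ⟨h1, h2, h3, h4⟩ := h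
  refine ⟨fun e => h4 (dec_inj (by omega) (by omega) ?_), wd_gw h1⟩
  rw [dec_apL]
  rcases mem_center_G0.1 e with e | e <;> rw [e]
  exacts [one_smul _ _, neg1_smul_C _]

theorem notQ_of {w : List ℕ} (n : ℕ) (h : mvC w n = true) : wd w ∉ QQ := by
  obtain ⟨h1, h2⟩ := mvC_true n h
  rw [h2, rho_mem_QQ]; exact h1

theorem ne_one_of {w : List ℕ} (n : ℕ) (h : mvC w n = true) : wd w ≠ 1 := fun e =>
  notQ_of n h (e ▸ one_mem _)

end H10.Mon.MS
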