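import Mathlib
import Cfsg.Agent.H19.MS2

/-!
# Conjugation by the triality element; several fixed vectors; orders
-/

set_option autoImplicit false
set_option linter.all false
set_option maxRecDepth 100000

namespace H10.Mon.MS

open Cfsg H9 H29 Matrix

def sA : List (List ℕ) := ctT ++ [[52], [39], [40]]
def sB : List (List ℕ) := ctT ++ [[39], [39, 52], [17]]

theorem sg_one (c : ℕ) : tau * wd (nth [] sA c) * tau⁻¹ = wd (nth [] sB c) := by
  by_cases h : c < 27
  · have e : ∀ l, nth [] (ctT ++ l) c = ctT[c]'h := fun l => by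
      rw [nth_eq, List.getD_append _ _ _ _ h, List.getD_eq_getElem _ _ h]
    rw [sA, sB, e, e, (mem_Ce.1 (ct2 _ (List.getElem_mem h))).eq, mul_inv_cancel_right]
  · obtain ⟨k, rfl⟩ := Nat.exists_eq_add_of_le (not_lt.1 h)
    have e : ∀ l, nth [] (ctT ++ l) (27 + k) = l.getD k [] := fun l => by
      rw [nth_eq, List.getD_append_right _ _ _ _ (Nat.le_add_right 27 k)]
      exact congrArg (l.getD · []) (Nat.add_sub_cancel_left ..)
    rw [sA, sB, e, e]
    rcases k with _ | _ | _ | k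
    · change tau * wd [52] * tau⁻¹ = wd [39]
      rw [wd_one, wd_one, el_zz, el_xO, tri_tau.zz_conj]
    · change tau * wd [39] * tau⁻¹ = wd [52] * el 39
      rw [wd_one, wd_one, el_zz, el_xO, tri_tau.xO_conj]
    · change tau * wd [40] * tau⁻¹ = wd [17]
      rw [wd_one, wd_one, el_Q (j := 12) (by norm_num), el_ne (by norm_num)]
      exact tau_e0
    · change tau * 1 * tau⁻¹ = 1
      rw [mul_one, mul_inv_cancel]

theorem sg_sb : ∀ k, tau * wd (sbW sA k) * tau⁻¹ = wd (sbW sB k)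
  | [] => by change tau * 1 * tau⁻¹ = 1; rw [mul_one, mul_inv_cancel]
  | c :: k => by
    change tau * wd (apd (nth [] sA c) (sbW sA k)) * tau⁻¹ = wd (apd (nth [] sB c) (sbW sB k))
    rw [← wd_mul, ← wd_mul, ← sg_sb k, ← sg_one c]; group

theorem sg_of {u v : List ℕ} (k : List ℕ) (h1 : eqS u (sbW sA k) = true)
    (h2 : eqS v (sbW sB k) = true) : tau * wd u * tau⁻¹ = wd v := by
  rw [eqS_true h1, eqS_true h2, sg_sb]

theorem wd_tau : wd [53] = tau := by rw [wd_one, el_tau]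

theorem wd_zz : wd [52] = zz := by rw [wd_one, el_zz]

theorem tau_sq : tau * tau = tau⁻¹ := by
  have := tri_tau.cube
  rw [pow_three'] at this
  exact eq_inv_of_mul_eq_one_left this

/-- The word that carries an involution to the central involution. -/
noncomputable def mZ (g1 g2 : List ℕ) : List ℕ := apd g1 (apd [53, 53] (apd g2 [53]))

theorem mZ_conj {e g1 g2 : List ℕ} (k : List ℕ) (h1 : eqS (cjW g1 e) (sbW sB k) = true)
    (h2 : eqS (cjW g2 (sbW sA k)) [39, 52] = true) :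
    wd (mZ g1 g2) * wd e * (wd (mZ g1 g2))⁻¹ = zz := by
  have e1 := (wd_cjW _ _).trans ((eqS_true h1).trans (sg_sb k).symm)
  have e2 := (wd_cjW _ _).trans (eqS_true h2)
  have e3 : tau * wd [39, 52] * tau⁻¹ = wd [52] :=
    sg_of [28, 27] (by decide +kernel) (by decide +kernel)
  rw [mZ, ← wd_mul, ← wd_mul, ← wd_mul, show [53, 53] = apd [53] [53] from rfl, ← wd_mul, wd_tau,
    tau_sq, ← wd_zz, ← e3, ← e2]
  calc _ = tau * (wd g2 * (tau⁻¹ * (wd g1 * wd e * (wd g1)⁻¹) * tau) * (wd g2)⁻¹) * tau⁻¹ := by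
        group
    _ = _ := by rw [e1]; group

/-- The words fix the axis. -/
noncomputable def fxA (W : List ℕ) (ws : List (List ℕ)) : Bool :=
  (runW mv W (stAx 1)).frc fun x => H29.allL ws fun w => (runW mv w x).beq x

theorem Hd.run' {v : U} {x : St} (h : Hd v x) (w : List ℕ) : Hd (wd w v) (runW mv w x) := Φ_run h

theorem fxA_true {W : List ℕ} {ws : List (List ℕ)} (h : fxA W ws = true) :
    ∀ w ∈ ws, Commute (wd w) (iW W) := fun w hw => by
  rw [fxA, St.frc_eq] at h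
  exact comm_iW (wd_mem w) ((Hd.ax1.run' W).fix (allL_true.1 h w hw))

theorem aW_eq {u v : List ℕ} (h : eq2 u (stAx 1) v (stAx 1) = true) : aW u = aW v :=
  Hd.ax1.eq2 Hd.ax1 h

theorem conj_wd {m u v : List ℕ} (h : eq2 (apd u m) (stAx 1) v (stAx 1) = true) :
    wd m * iW u * (wd m)⁻¹ = iW v := by
  rw [← iW_apd]; exact iW_eq (aW_eq h)

theorem iW_nil : iW [] = wd qA := by rw [iW, wd_nil, one_mul, inv_one, mul_one, wd_qA]

theorem GG_zz {g : U ≃ₗ[ℝ] U} (h : g ∈ GG) : Commute zz g := by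
  obtain ⟨g, rfl⟩ := h
  exact (zz_comm g).symm

theorem noT_zz {w : List ℕ} (h : noT w = true) : Commute zz (wd w) :=
  GG_zz (wd_gw h ▸ ⟨_, rfl⟩)

theorem comm_cj {G : Type*} [Group G] {g t x : G} (h : Commute t (g⁻¹ * x * g⁻¹⁻¹)) :
    Commute (g * t * g⁻¹) x := by
  have := h.conj g
  rwa [show g * (g⁻¹ * x * g⁻¹⁻¹) * g⁻¹ = x by group] at this

theorem zz_ax (s : ZMod 2) (c : S) : zz (ax s c) = ax s c :=
  U_ext (mA_zz _) (fS_zz _) (by rw [wW_zz, ax, wW_mk, neg_zero])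

/-- A power of prime order. -/
theorem exists_pow_ord {M : Subgroup (U ≃ₗ[ℝ] U)} [Finite M] {w : U ≃ₗ[ℝ] U} (hw : w ∈ M) {p : ℕ}
    (hp : p.Prime) {v : U} (h1 : (w ^ p) v = v) (h2 : w v ≠ v) :
    ∃ k, orderOf ((⟨w, hw⟩ : M) ^ k) = p := by
  have h0 : orderOf (⟨w, hw⟩ : M) ≠ 0 := (orderOf_pos _).ne'
  refine ⟨_, orderOf_pow_orderOf_div h0 ?_⟩
  by_contra hd
  obtain ⟨k, hk⟩ := exists_pow_eq_self_of_coprime (x := (⟨w, hw⟩ : M))
    ((Nat.Prime.coprime_iff_not_dvd hp).2 hd)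
  replace hk : (w ^ p) ^ k = w := congrArg Subtype.val hk
  refine h2 ?_
  rw [← hk]
  clear hk
  induction k with
  | zero => rfl
  | succ k ih => rw [pow_succ, LinearEquiv.mul_apply, h1, ih]

end H10.Mon.MS
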