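import Mathlib
import Cfsg.Agent.H19.MS3

/-!
# The centraliser in `Co0` of a permutation of cycle shape `3 ^ 8`
-/

set_option autoImplicit false
set_option linter.all false
set_option maxRecDepth 100000

namespace H10.Mon.MS

open Cfsg H9 H29 Subgroup MulAction Pointwise

theorem ncard_le_list {α β : Type*} {s : Set α} (l : List β) (f : β → α)
    (h : ∀ x ∈ s, ∃ b ∈ l, f b = x) : s.ncard ≤ l.length := by
  classical
  refine (Set.ncard_le_ncard (t := ((l.map f).toFinset : Set α)) (fun x hx => ?_)).trans ?_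
  · simpa using h x hx
  · rw [Set.ncard_coe_finset]
    exact (List.toFinset_card_le _).trans (List.length_map _).le

theorem card_kr {A B : Type*} [Group A] [Group B] (f : A →* B) :
    Nat.card A = Nat.card f.range * Nat.card f.ker := by
  rw [card_eq_card_quotient_mul_card_subgroup f.ker,
    Nat.card_congr (QuotientGroup.quotientKerEquivRange f).toEquiv]

/-! ### The centraliser in `M24` -/

def cπ : ℕ := 942037241080947810501063386140525002

theorem cπ_ok : isM24 cπ = true := by decide +kernel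

theorem cπ_v : validP cπ = true := validP_of_isM24 cπ_ok

noncomputable def π0 : M24 := ⟨H9.pm cπ, mem_M24_of_isM24 cπ_ok⟩

theorem act_maskL {c : ℕ} (l : List ℕ) (hl : ∀ i ∈ l, i < 24) :
    actM c (maskL l) = maskL (l.map (dig c)) :=
  Nat.eq_of_testBit_eq fun j => by
    rw [Bool.eq_iff_iff, testBit_actM, testBit_maskL, List.mem_map]
    simp only [testBit_maskL]
    exact ⟨fun ⟨i, _, h1, h2⟩ => ⟨i, h1, h2⟩, fun ⟨i, h1, h2⟩ => ⟨i, hl i h1, h1, h2⟩⟩

noncomputable def CM : Subgroup (Equiv.Perm P) := M24 ⊓ centralizer {H9.pm cπ}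

theorem CM_pt {g : Equiv.Perm P} (h : g ∈ CM) {i : ℕ} (hi : i < 24) (e : g (pt i) = pt i) :
    g (pt (dig cπ i)) = pt (dig cπ i) := by
  have := DFunLike.congr_fun (mem_centralizer_singleton_iff.1 h.2) (pt i)
  rwa [Equiv.Perm.mul_apply, Equiv.Perm.mul_apply, e, pm_pt cπ_v hi] at this

noncomputable def inO (l : List ℕ) : Bool :=
  anyLt 24 fun i => anyLt 24 fun j => isCw (maskL (i :: j :: l))

def l21 : List (ℕ × ℕ) := [(1, 3), (1, 16), (1, 22), (4, 3), (4, 6), (4, 9), (8, 5), (8, 6),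
  (8, 16), (12, 7), (12, 9), (12, 16), (13, 6), (13, 7), (13, 22), (19, 5), (19, 9), (19, 22),
  (21, 3), (21, 5), (21, 7)]

theorem l21_ok : ∀ q < 24, ∀ a < 24,
    inO [0, 20, dig cπ q, a, dig cπ a, dig cπ (dig cπ a)] = true →
    inO [0, q, dig cπ q, dig cπ (dig cπ q), a, dig cπ (dig cπ a)] = true → (q, a) ∈ l21 := by
  intro q hq a ha h1 h2
  have : allN 24 (fun q => allN 24 fun a => Bool.rec true (Bool.rec true (decide ((q, a) ∈ l21))
      (inO [0, q, dig cπ q, dig cπ (dig cπ q), a, dig cπ (dig cπ a)]))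
      (inO [0, 20, dig cπ q, a, dig cπ a, dig cπ (dig cπ a)])) = true := by decide +kernel
  have := allN_true.1 (allN_true.1 this q hq) a ha
  rw [h1, h2] at this
  exact of_decide_eq_true this

theorem card_CM : Nat.card CM ≤ 504 := by
  rw [card_eq_orbit_mul CM (pt 0), card_eq_orbit_mul (CM ⊓ stabilizer _ (pt 0)) (pt 1, pt 3)]
  have a1 : {y | ∃ g ∈ CM, g • pt 0 = y}.ncard ≤ 24 :=
    (Set.ncard_le_card _).trans (by rw [Nat.card_eq_fintype_card, card_golayPt])
  have a2 : {y | ∃ g ∈ CM ⊓ stabilizer _ (pt 0), g • (pt 1, pt 3) = y}.ncard ≤ 21 := by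
    refine ncard_le_list l21 (fun b => (pt b.1, pt b.2)) ?_
    rintro _ ⟨g, ⟨hg, h0⟩, rfl⟩
    obtain ⟨c, hc, rfl⟩ := exists_code g
    have k : ∀ i < 24, dig c (dig cπ i) = dig cπ (dig c i) := fun i hi => by
      have := DFunLike.congr_fun (mem_centralizer_singleton_iff.1 hg.2) (pt i)
      rw [Equiv.Perm.mul_apply, Equiv.Perm.mul_apply, pm_pt cπ_v hi, pm_pt hc hi,
        pm_pt hc (dig_lt cπ_v hi), pm_pt cπ_v (dig_lt hc hi)] at this
      exact pt_inj (dig_lt hc (dig_lt cπ_v hi)) (dig_lt cπ_v (dig_lt hc hi)) this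
    have e0 : dig c 0 = 0 :=
      pt_inj (dig_lt hc (by norm_num)) (by norm_num) ((pm_pt hc (by norm_num)).symm.trans h0)
    have o : ∀ i j l, (∀ k ∈ i :: j :: l, k < 24) → isCw (maskL (i :: j :: l)) = true →
        inO (l.map (dig c)) = true := fun i j l h1 h2 => by
      have := H9.smul_mem_GC hg.1 (mem_GC_of_isCw h2)
      rw [pm_smul_ofMask hc, ofMask_mem_GC_iff (actM_lt hc _), act_maskL _ h1] at this
      exact (anyLt_iff _ _).2 ⟨_, dig_lt hc (h1 i (by simp)), (anyLt_iff _ _).2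
        ⟨_, dig_lt hc (h1 j (by simp)), this⟩⟩
    have e10 : dig c 10 = 10 := (k 0 (by norm_num)).trans (by rw [e0]; rfl)
    have e20 : dig c 20 = 20 := (k 10 (by norm_num)).trans (by rw [e10]; rfl)
    have e14 : dig c 14 = _ := k 1 (by norm_num)
    have e9 : dig c 9 = _ := k 14 (by norm_num)
    have e8 : dig c 8 = _ := k 3 (by norm_num)
    have e15 : dig c 15 = _ := k 8 (by norm_num)
    have o1 := o 18 23 [0, 20, 14, 3, 8, 15] (by decide) (by decide +kernel)
    have o2 := o 4 13 [0, 1, 14, 9, 3, 15] (by decide) (by decide +kernel)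
    simp only [List.map_cons, List.map_nil, e0, e20, e15, e9, e8, e14] at o1 o2
    exact ⟨_, l21_ok _ (dig_lt hc (by norm_num)) _ (dig_lt hc (by norm_num)) o1 o2,
      Prod.ext (pm_pt hc (by norm_num)).symm (pm_pt hc (by norm_num)).symm⟩
  have a3 : (CM ⊓ stabilizer _ (pt 0)) ⊓ stabilizer (Equiv.Perm P) (pt 1, pt 3) = ⊥ := by
    rw [eq_bot_iff]
    rintro g ⟨⟨hg, h0⟩, h1⟩
    have e10 : g (pt 10) = pt 10 := CM_pt hg (i := 0) (by norm_num) h0
    have e14 : g (pt 14) = pt 14 := CM_pt hg (i := 1) (by norm_num) (congrArg Prod.fst h1)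
    have e8 : g (pt 8) = pt 8 := CM_pt hg (i := 3) (by norm_num) (congrArg Prod.snd h1)
    refine (Stab_eq_bot (pts := [0, 10, 20, 1, 14, 9, 3, 8, 15]) (sets := [])
      [(19, 3719203, 6062602), (21, 3719203, 11551306), (16, 11100169, 2605066),
      (13, 4845570, 1302533), (22, 4845570, 6053905), (12, 4845570, 4845570),
      (17, 13062145, 1302533), (18, 13062145, 7221256), (23, 13062145, 13062145),
      (2, 13938692, 13938692), (4, 10170384, 10170384), (5, 11952160, 11952160),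
      (6, 15515712, 15515712), (7, 2019456, 2019456), (11, 14919680, 14919680)]
      (by decide +kernel)).le ⟨hg.1, ?_, by simp⟩
    simp only [List.mem_cons, List.not_mem_nil, or_false, forall_eq_or_imp, forall_eq]
    exact ⟨h0, e10, CM_pt hg (i := 10) (by norm_num) e10, congrArg Prod.fst h1, e14,
      CM_pt hg (i := 14) (by norm_num) e14, congrArg Prod.snd h1, e8,
      CM_pt hg (i := 8) (by norm_num) e8⟩
  rw [a3, card_bot, mul_one]
  exact Nat.mul_le_mul a1 a2

theorem card_fixGC : Nat.card {c : GC // H9.pm cπ • c.1 = c.1} = 16 := by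
  rw [Nat.card_congr (Equiv.subtypeSubtypeEquivSubtypeInter (· ∈ GC) fun s => H9.pm cπ • s = s)]
  exact (ncard_GC (fun s => H9.pm cπ • s = s) (fun n => Nat.beq (actM cπ n) n) fun m _ => by
    rw [pm_smul_ofMask cπ_v, H29.beq_true]
    exact ⟨ofMask_inj (actM_lt cπ_v _) (cw_lt _), congrArg _⟩).trans (by decide +kernel)

/-! ### Spans of coded classes -/

theorem dec_apC (B : List ℕ) (m : ℕ) :
    dec (apC B m) = ∑ j ∈ Finset.range B.length, bt m j • dec (nth 0 B j) :=
  Prod.ext (funext fun i => by simp [dec, bt_apC, Prod.fst_sum, Finset.sum_apply])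
    (funext fun i => by simp [dec, bt_apC, Prod.snd_sum, Finset.sum_apply])

theorem dec_apC_xor (B : List ℕ) (a b : ℕ) :
    dec (apC B (a ^^^ b)) = dec (apC B a) + dec (apC B b) := by
  simp only [dec_apC, bt_xor, add_smul, Finset.sum_add_distrib]

theorem neg_C (c : C) : -c = c := neg_eq_iff_add_eq_zero.2 (two_zmod c)

/-- The span of the classes of the list. -/
def spL (B : List ℕ) : AddSubgroup C where
  carrier := {c | ∃ m < 2 ^ B.length, dec (apC B m) = c}
  zero_mem' := ⟨0, by positivity, by simp [dec_apC, bt_zero]⟩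
  add_mem' := by
    rintro _ _ ⟨a, ha, rfl⟩ ⟨b, hb, rfl⟩
    exact ⟨_, Nat.xor_lt_two_pow ha hb, dec_apC_xor B a b⟩
  neg_mem' := fun {a} ha => by rwa [neg_C]

theorem spL_le {B : List ℕ} {A : AddSubgroup C} (h : ∀ j < B.length, dec (nth 0 B j) ∈ A) :
    spL B ≤ A := by
  rintro _ ⟨m, -, rfl⟩
  rw [dec_apC]
  refine sum_mem fun j hj => ?_
  rcases z2 (bt m j) with e | e <;> rw [e]
  · rw [zero_smul]; exact zero_mem _
  · rw [one_smul]; exact h j (Finset.mem_range.1 hj)

theorem card_spL {B : List ℕ} (h : ∀ m < 2 ^ B.length, dec (apC B m) = 0 → m = 0) :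
    Nat.card (spL B) = 2 ^ B.length := by
  rw [← Nat.card_fin (2 ^ B.length)]
  refine (Nat.card_congr (Equiv.ofBijective (fun m : Fin (2 ^ B.length) =>
    (⟨dec (apC B m), m, m.2, rfl⟩ : spL B)) ⟨fun a b e => ?_, ?_⟩)).symm
  · refine Fin.ext (Nat.eq_of_xor_eq_zero (h _ (Nat.xor_lt_two_pow a.2 b.2) ?_))
    rw [dec_apC_xor, add_eq_zero_C]; exact congrArg Subtype.val e
  · rintro ⟨_, m, hm, rfl⟩; exact ⟨⟨m, hm⟩, rfl⟩

/-- The classes whose elements commute with `rho g`. -/
def Fx (g : GT) : AddSubgroup C where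
  carrier := {c | co g • c = c ∧ ep g c = 0}
  zero_mem' := ⟨smul_zero _, ep_zero g⟩
  add_mem' := fun {a b} ha hb => ⟨by rw [smul_add, ha.1, hb.1], by
    rw [ep_add, ha.1, hb.1, ha.2, hb.2, add_zero, zero_add, two_zmod]⟩
  neg_mem' := fun {a} ha => by rwa [neg_C]

theorem mem_Fx {g : GT} {t : ZMod 2} {c : C} : rho (qe t c) ∈ Ce (rho g) ↔ c ∈ Fx g := by
  rw [mem_Ce, Commute, SemiconjBy, ← mul_inv_eq_iff_eq_mul, ← map_inv, ← map_mul, ← map_mul, conj_qe]
  exact ⟨fun h => ⟨(rho_qe_inj h).2, by simpa using (rho_qe_inj h).1⟩,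
    fun h => by rw [h.1, h.2, add_zero]⟩

theorem spL_Fx {w B : List ℕ}
    (h : ∀ j < B.length, apL w (nth 0 B j) = nth 0 B j ∧ bt (epW w (nth 0 B j)) 0 = 0) :
    spL B ≤ Fx (gw w) :=
  spL_le fun j hj => ⟨by rw [← dec_apL, (h j hj).1], by rw [ep_gw, (h j hj).2]⟩

/-- The elements of the extraspecial group above a set of classes. -/
noncomputable def QA (A : AddSubgroup C) : Subgroup (U ≃ₗ[ℝ] U) where
  carrier := {x | ∃ t, ∃ c ∈ A, rho (qe t c) = x}
  one_mem' := ⟨0, 0, zero_mem _, rho_qe_zero⟩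
  mul_mem' := by
    rintro _ _ ⟨s, c, hc, rfl⟩ ⟨t, d, hd, rfl⟩
    exact ⟨_, _, add_mem hc hd, by rw [← map_mul, qe_mul]⟩
  inv_mem' := by
    rintro _ ⟨s, c, hc, rfl⟩
    exact ⟨_, _, hc, by rw [← map_inv, qe_inv]⟩

theorem qe_mem_QA {A : AddSubgroup C} {t : ZMod 2} {c : C} : rho (qe t c) ∈ QA A ↔ c ∈ A :=
  ⟨fun ⟨_, _, h, e⟩ => (rho_qe_inj e).2 ▸ h, fun h => ⟨t, c, h, rfl⟩⟩

theorem card_QA (A : AddSubgroup C) : Nat.card (QA A) = 2 * Nat.card A := by
  refine Eq.trans ?_ ((Nat.card_prod (ZMod 2) A).trans (by rw [Nat.card_zmod]))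
  refine (Nat.card_congr (Equiv.ofBijective (fun p : ZMod 2 × A =>
    (⟨rho (qe p.1 p.2), qe_mem_QA.2 p.2.2⟩ : QA A)) ⟨fun a b e => ?_, ?_⟩)).symm
  · have := rho_qe_inj (congrArg Subtype.val e)
    exact Prod.ext this.1 (Subtype.ext this.2)
  · rintro ⟨_, t, c, hc, rfl⟩; exact ⟨(t, ⟨c, hc⟩), rfl⟩

theorem QA_le (A : AddSubgroup C) : QA A ≤ QQ := by
  rintro _ ⟨t, c, -, rfl⟩; exact qe_mem_QQ t c

theorem xs_QA {A : AddSubgroup C} (h : ∀ c ∈ A, (∀ d ∈ A, bb c d + bb d c = 0) → c = 0) :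
    H3.XS 2 zz (QA A) where
  ord := orderOf_zz
  mem := qe_mem_QA.2 (zero_mem _)
  central x hx := xs_QQ.central x (QA_le A hx)
  comm x hx y hy := xs_QQ.comm x (QA_le A hx) y (QA_le A hy)
  pow x hx := xs_QQ.pow x (QA_le A hx)
  center_le := by
    rintro _ ⟨t, c, hc, rfl⟩ e
    rw [h c hc fun d hd => ?_]
    · exact qe0_mem t
    · have := commutatorElement_eq_one_iff_commute.2 (e _ ((qe_mem_QA (t := 0)).2 hd))
      rw [qe_commutator, ← rho_qe_zero] at this
      exact (rho_qe_inj this).1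

/-! ### The element of order 3 -/

def tx : List ℕ := [0, 0, 1, 8]
def tB : List ℕ := [2048, 7563370, 135, 12078805, 697312, 2945, 697601, 9406782]
def tM' : List ℕ := [0, 116, 81, 36, 80, 112, 4, 33, 81, 81, 84, 1, 156, 218, 139, 80, 1, 115, 114,
  188, 52, 54, 6, 29]

theorem co_pm {i c : ℕ} (hc : isM24 c = true) (e : ∀ q p, vc (app (lt i).M (cE (ix q))) p =
    if p = pt (dig c (ix q)) then 8 else 0) :
    co (gl i) = permHom ⟨H9.pm c, mem_M24_of_isM24 hc⟩ := by
  rw [gl_co, permHom_apply]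
  exact co_of_e8 (lt_isCo i) fun q p => by rw [e]; simp [gc0, H9.pm_apply (validP_of_isM24 hc)]

theorem co_tx : co (gw tx) = permHom π0 := by
  have v0 : isM24 956302485175575353788796878166559809 = true := by decide +kernel
  have v1 : isM24 1795248432537898728475572672376535 = true := by decide +kernel
  have v8 : isM24 (powP 956302485175575353788796878166559809 22) = true := by decide +kernel
  simp only [tx, gw, map_mul, map_one, one_mul, co_pm (i := 0) v0 (by decide +kernel),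
    co_pm (i := 1) v1 (by decide +kernel), co_pm (i := 8) v8 (by decide +kernel)]
  rw [← map_mul, ← map_mul, ← map_mul]
  refine congrArg permHom (Subtype.ext ?_)
  have w0 := validP_of_isM24 v0
  have w1 := validP_of_isM24 v1
  have w8 := validP_of_isM24 v8
  simp only [coe_mul]
  rw [← pm_mulP w8 w1, ← pm_mulP (validP_mulP w8 w1) w0,
    ← pm_mulP (validP_mulP (validP_mulP w8 w1) w0) w0]
  change _ = H9.pm cπ
  refine congrArg H9.pm ?_
  decide +kernel

theorem fix_tx {c : C} (h : co (gw tx) • c = c) : c ∈ spL tB := by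
  have k : ∀ c : C, c + co (gw tx) • c + co (gw tx) • co (gw tx) • c ∈ spL tB := fun c => by
    refine dec_induction (p := fun c => c + co (gw tx) • c + co (gw tx) • co (gw tx) • c ∈ spL tB)
      (by simpa using zero_mem _) (fun j hj => ?_) (fun a b ha hb => ?_) c
    · have : ∀ j < 24, nth 0 tM' j < 2 ^ tB.length ∧ apC tB (nth 0 tM' j) =
          2 ^ j ^^^ apL tx (2 ^ j) ^^^ apL tx (apL tx (2 ^ j)) := by decide +kernel
      exact ⟨_, (this j hj).1, by rw [(this j hj).2, dec_xor, dec_xor, dec_apL, dec_apL, dec_apL]⟩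
    · convert add_mem ha hb using 1
      simp only [smul_add]; abel
  have := k c
  rwa [h, h, two_zmod, zero_add] at this

theorem Fx_tx : Fx (gw tx) = spL tB :=
  le_antisymm (fun _ h => fix_tx h.1) (spL_Fx (by decide +kernel))

theorem card_V0 : Nat.card (spL tB) = 256 := card_spL (by decide +kernel)

noncomputable def DD : Subgroup G0 := centralizer {co (gw tx)}

theorem card_DD : Nat.card DD ≤ 135 * (504 * 16) := by
  rw [card_eq_orbit_mul DD Om]
  refine Nat.mul_le_mul ?_ ?_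
  · refine (ncard_le_list ((List.range 256).filter fun m =>
      decide (m ≠ 0 ∧ bt (bbN (apC tB m) (apC tB m)) 0 = 0)) (fun m => dec (apC tB m)) ?_).trans
      (by decide +kernel)
    rintro _ ⟨g, hg, rfl⟩
    have e : co (gw tx) • Om = Om := by rw [co_tx]; exact fix_Om.2 (mono_mem_N0 _ _)
    obtain ⟨m, hm, h⟩ := fix_tx (c := g • Om)
      (by rw [← mul_smul, ← mem_centralizer_singleton_iff.1 hg, mul_smul, e])
    refine ⟨m, List.mem_filter.2 ⟨List.mem_range.2 hm, decide_eq_true ⟨?_, ?_⟩⟩, h⟩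
    · rintro rfl
      refine Om_ne_zero ((smul_eq_zero_iff_eq g).1 (h.symm.trans ?_))
      simp [dec_apC, bt_zero]
    · rw [bt_bbN, h, bb_smul_self, ← dec_Om]; decide +kernel
  · rw [card_of_mono _ (fun σ => σ.1 ∈ CM) (fun c => H9.pm cπ • c.1 = c.1) fun g => ?_, card_fixGC]
    · refine Nat.mul_le_mul_right _ (le_trans ?_ card_CM)
      exact Nat.card_le_card_of_injective (fun σ => ⟨σ.1.1, σ.2⟩) fun a b e =>
        Subtype.ext (Subtype.ext (Subtype.mk.inj e))
    · have k : ∀ σ c, mono σ c ∈ DD ↔ σ.1 ∈ CM ∧ H9.pm cπ • c.1 = c.1 := fun σ c => by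
        rw [DD, mem_centralizer_singleton_iff, co_tx, permHom_apply, mono_mul, mono_mul]
        constructor
        · intro h
          obtain ⟨h1, h2⟩ := mono_inj h
          exact ⟨⟨σ.2, mem_centralizer_singleton_iff.2 (congrArg Subtype.val h1)⟩, by
            simpa [gc0, π0, eq_comm, symmDiff_def] using congrArg Subtype.val h2⟩
        · rintro ⟨h1, h2⟩
          congr 1
          · exact Subtype.ext (mem_centralizer_singleton_iff.1 h1.2)
          · exact Subtype.ext (by simpa [gc0, π0, eq_comm, symmDiff_def] using h2)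
      rw [mem_inf, mem_stabilizer_iff, fix_Om, mem_N0_iff]
      exact ⟨fun ⟨h, σ, c, e⟩ => ⟨σ, c, ((k σ c).1 (e ▸ h)).1, ((k σ c).1 (e ▸ h)).2, e⟩,
        fun ⟨σ, c, h1, h2, e⟩ => ⟨e ▸ (k σ c).2 ⟨h1, h2⟩, σ, c, e⟩⟩

end H10.Mon.MS
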