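import Mathlib
import Cfsg.Agent.H10.YT

/-!
# Groups with an involution centraliser of Monster type: definitions
-/

set_option autoImplicit false
set_option linter.all false

namespace H10.Mon.MG

/-- The polar form. -/
def pl (c d : C) : ZMod 2 := bb c d + bb d c

/-- Short classes of shape `(4, 4, 0^22)`. -/
def Sh0 (c : C) : Prop := IsS c ∧ c.1 = 0

/-- Fixed modulo `Om`. -/
def Fm (h : G0) (c : C) : Prop := h • c = c ∨ h • c = c + Om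

/-- The same action modulo 2. -/
def Ac (a b : G0) : Prop := ∀ c : C, a • c = b • c

/-- Conjugate in `Co1`. -/
def Cj (a b : G0) : Prop := ∃ u : G0, Ac (u * a * u⁻¹) b

def Tri3 (h : G0) : Prop := ∃ a b : C, Sh0 a ∧ Sh0 b ∧ Sh0 (a + b) ∧ Fm h a ∧ Fm h b

/-- Facts on the three classes of involutions of `Co1`: `eO` = sign change on an octad, `eD` = sign
change on a dodecad, `s0` of order 4 in `Co0`. -/
structure LF (eO eD s0 : G0) : Prop where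
  cls : ∀ h : G0, (∀ c : C, h • h • c = c) → Ac h 1 ∨ Cj h eO ∨ Cj h eD ∨ Cj h s0
  clsN : ∀ h ∈ N0, (∀ c : C, h • h • c = c) → Tri3 h ∨ Cj h eD ∨ Cj h s0
  sgn : ∀ h ∈ N0, (∀ c, Sh0 c → Fm h c) →
    Ac h 1 ∨ (∃ u ∈ N0, Ac (u * h * u⁻¹) eO) ∨ ∃ u ∈ N0, Ac (u * h * u⁻¹) eD
  sN : s0 ∈ N0
  sT : ¬ Tri3 s0
  sW : ∃ w, Sh0 w ∧ s0 • w = w + Om
  sF : ∀ c : C, s0 • c = c → ∃ d : C, c = d + s0 • d
  dF : ∀ c : C, eD • c = c → ∃ d : C, c = d + eD • d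
  dP : ∃ d : C, pl d (eD • d) = 1
  dO : ∃ u ∈ N0, Ac eD (eO * (u * eO * u⁻¹))
  dW : ∃ w, Sh0 w ∧ eD • w = w + Om
  oP : ∀ d : C, pl d (eO • d) = 0
  oI : ∀ c : C, eO • c = c → (∀ d : C, eO • d = d → pl c d = 0) → ∃ d : C, c = d + eO • d
  oT : ∀ c : C, eO • c = c → bb c c = 0 →
    ∃ (u : G0) (d : C), Ac (u * eO * u⁻¹) eO ∧ (u • c + (d + eO • d)).1 = 0
  oV : ∀ d : C, ∃ u : G0, Ac (u * eO * u⁻¹) eO ∧ (u • (d + eO • d)).1 = 0
  fix : ∀ s ∈ [eO, eD, s0], Nat.card {c : C // s • c = c} ≤ 2 ^ 19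
  oE : ∀ s ∈ [eO, eD], ∃ c : C, c.1 11 = 0 ∧ ¬ Fm s c

variable {G : Type*} [Group G]

/-- `g` acts on the elements `q t c` as `k` acts on the elements `qe t c`. -/
def Rel (q : ZMod 2 → C → G) (g : G) (k : GT) : Prop :=
  ∀ t c, g * q t c * g⁻¹ = q (t + ep k c) (co k • c)

/-- The centraliser of `y` has the shape `2^(1+24).Co1`, in coordinates. -/
structure Sit (y : G) (q : ZMod 2 → C → G) : Prop where
  mul : ∀ s c t d, q s c * q t d = q (s + t + bb c d) (c + d)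
  inj : ∀ {s c t d}, q s c = q t d → s = t ∧ c = d
  one : q 1 0 = y
  up : ∀ g, g * y = y * g → ∃ k, Rel q g k
  down : ∀ k, ∃ g, Rel q g k
  cent : ∀ g, (∀ t c, g * q t c = q t c * g) → g = 1 ∨ g = y

/-- An isomorphism `C(x) / ⟨x⟩ ≃ C(x') / ⟨x'⟩`, as a relation. -/
structure Cor {G' : Type*} [Group G'] (x : G) (x' : G') (R : G → G' → Prop) : Prop where
  mul : ∀ {a a' b b'}, R a a' → R b b' → R (a * b) (a' * b')
  inv : ∀ {a a'}, R a a' → R a⁻¹ a'⁻¹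
  cm : ∀ {a a'}, R a a' → a * x = x * a
  cm' : ∀ {a a'}, R a a' → a' * x' = x' * a'
  up : ∀ a, a * x = x * a → ∃ a', R a a'
  down : ∀ a', a' * x' = x' * a' → ∃ a, R a a'
  ker : ∀ {a}, R a 1 ↔ a = 1 ∨ a = x
  ker' : ∀ {a'}, R 1 a' ↔ a' = 1 ∨ a' = x'

/-- `g` and `g'` lie in corresponding classes. -/
def Mt {G' : Type*} [Group G'] (x y g : G) (x' y' g' : G') : Prop :=
  (IsConj x g ↔ IsConj x' g') ∧ (IsConj y g ↔ IsConj y' g')

end H10.Mon.MG
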