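import Mathlib
import Cfsg.Agent.H19.MG1
import Cfsg.Agent.H22.SylIn

/-!
# Groups with an involution centraliser of Monster type: abstract lemmas
-/

set_option autoImplicit false
set_option linter.all false

open Cfsg

namespace H10.Mon.MG

theorem odd_idx {G : Type*} [Group G] [Finite G] {Q H L : Subgroup G} (hQ : IsPGroup 2 Q) (h1 : Q ≤ H)
    (h2 : H ≤ L) (h : ∀ n ∈ L, ∀ T : Subgroup G, Q ≤ T → T ≤ H → (∀ t ∈ T, n * t * n⁻¹ ∈ T) → n ∈ H)
    {P : Subgroup G} (hP : IsPGroup 2 P) (hL : P ≤ L) : ∃ n ∈ L, ∀ p ∈ P, n * p * n⁻¹ ∈ H := by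
  have : Fact (Nat.Prime 2) := ⟨Nat.prime_two⟩
  obtain ⟨T, hT, hQT⟩ := H22.exists_sylIn h1 hQ
  obtain ⟨S, hS, hTS⟩ := H22.exists_sylIn (hT.le.trans h2) hT.isPGroup
  have e : T = S := by
    by_contra hne
    obtain ⟨g, g1, g2, g3⟩ := H22.exists_mem_normalizer_not_mem hS.isPGroup (lt_of_le_of_ne hTS hne)
    have g4 : g ∈ H := h g (hS.le g1) T hQT hT.le fun t ht => H22.conj_mem_of_mem_normalizer g2 ht
    have g5 : S ⊓ H = T := hT.2.2 _ inf_le_right hS.isPGroup.to_inf_left (le_inf hTS hT.le)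
    exact g3 (g5 ▸ ⟨g1, g4⟩)
  obtain ⟨n, n1, n2⟩ := hS.exists_cj_le hL hP
  exact ⟨n, n1, fun p hp => hT.le (e ▸ H22.cj_le_iff.1 n2 p hp)⟩

section
variable {G G' : Type*} [Group G] [Group G'] {z : G} {z' : G'} {R : G → G' → Prop}

theorem Cor.symm' (h : Cor z z' R) : Cor z' z (fun a b => R b a) :=
  ⟨fun a b => h.mul a b, fun a => h.inv a, fun a => h.cm' a, fun a => h.cm a, h.down, h.up,
    h.ker', h.ker⟩

theorem Cor.one_one (h : Cor z z' R) : R 1 1 := h.ker.2 (Or.inl rfl)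

theorem Cor.npow (h : Cor z z' R) {a : G} {a' : G'} (ha : R a a') : ∀ n : ℕ, R (a ^ n) (a' ^ n)
  | 0 => by simpa using h.one_one
  | n + 1 => by rw [pow_succ, pow_succ]; exact h.mul (h.npow ha n) ha

theorem Cor.mulz (h : Cor z z' R) {a : G} {a' : G'} (ha : R a a') : R a (a' * z') := by
  simpa using h.mul ha (h.ker'.2 (Or.inr rfl))

theorem Cor.sigma (h : Cor z z' R) (hz : orderOf z = 2) (hz' : orderOf z' = 2) (P : G → G' → Prop)
    (t1 : ∀ g g', R g g' → (P g g' ∧ P (g * z) (g' * z')) ∨ (P g (g' * z') ∧ P (g * z) g')) :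
    ∃ σ : G → G', (∀ g, g * z = z * g → R g (σ g) ∧ P g (σ g)) ∧
      ∀ g k, g * z = z * g → k * z = z * k → σ g = σ k → g = k := by
  classical
  have zz : z * z = 1 := by rw [← sq, ← hz, pow_orderOf_eq_one]
  have zz' : z' * z' = 1 := by rw [← sq, ← hz', pow_orderOf_eq_one]
  have z1 : z ≠ 1 := by rintro rfl; simp at hz
  have z1' : z' ≠ 1 := by rintro rfl; simp at hz'
  have k1 : ∀ g : G, ∃ g', g * z = z * g → R g g' ∧ P g g' ∧ P (g * z) (g' * z') := by
    intro g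
    by_cases hg : g * z = z * g
    · obtain ⟨g', hg'⟩ := h.up g hg
      rcases t1 g g' hg' with h1 | h1
      · exact ⟨g', fun _ => ⟨hg', h1⟩⟩
      · exact ⟨g' * z', fun _ => ⟨h.mulz hg', h1.1, by rw [mul_assoc, zz', mul_one]; exact h1.2⟩⟩
    · exact ⟨1, fun a => absurd a hg⟩
  choose τ hτ using k1
  obtain ⟨ord, -⟩ := exists_wellOrder G
  have ne : ∀ g : G, g * z ≠ g := fun g e => z1 (by simpa using e)
  have cz : ∀ g : G, g * z = z * g → g * z * z = z * (g * z) := fun g hg => by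
    rw [← mul_assoc, ← hg]
  have gz : ∀ g : G, g * z * z = g := fun g => by rw [mul_assoc, zz, mul_one]
  let σ : G → G' := fun g => if g < g * z then τ g else τ (g * z) * z'
  have s1 : ∀ g, g * z = z * g → R g (σ g) ∧ P g (σ g) := by
    intro g hg
    simp only [σ]
    split_ifs with h1
    · exact ⟨(hτ g hg).1, (hτ g hg).2.1⟩
    · obtain ⟨a1, -, a3⟩ := hτ (g * z) (cz g hg)
      rw [gz] at a3
      refine ⟨?_, a3⟩
      have := h.mul a1 (h.mul (h.ker.2 (Or.inr rfl)) (h.ker'.2 (Or.inr rfl)))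
      rwa [mul_one, one_mul, gz] at this
  have s2 : ∀ g, σ (g * z) = σ g * z' := by
    intro g
    simp only [σ, gz]
    rcases lt_trichotomy g (g * z) with h1 | h1 | h1
    · rw [if_neg (lt_asymm h1), if_pos h1]
    · exact absurd h1.symm (ne g)
    · rw [if_pos h1, if_neg (lt_asymm h1), mul_assoc, zz', mul_one]
  refine ⟨σ, s1, fun g k hg hk e => ?_⟩
  have := h.mul (h.inv (s1 g hg).1) (s1 k hk).1
  rw [e, inv_mul_cancel] at this
  rcases h.ker.1 this with h1 | h1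
  · exact inv_mul_eq_one.1 h1
  · have e2 : k = g * z := by rw [← h1, mul_inv_cancel_left]
    rw [e2, s2] at e
    exact absurd (by simpa using e) z1'

theorem Cor.card_le [Finite G'] (h : Cor z z' R) (hz : orderOf z = 2) (hz' : orderOf z' = 2) :
    Nat.card (Subgroup.centralizer ({z} : Set G)) ≤
      Nat.card (Subgroup.centralizer ({z'} : Set G')) := by
  obtain ⟨σ, s1, s2⟩ := h.sigma hz hz' (fun _ _ => True) fun _ _ _ => Or.inl ⟨trivial, trivial⟩
  refine Nat.card_le_card_of_injective (fun g => ⟨σ g, Subgroup.mem_centralizer_singleton_iff.2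
    (h.cm' (s1 g (Subgroup.mem_centralizer_singleton_iff.1 g.2)).1)⟩) fun g k e => ?_
  exact Subtype.ext (s2 _ _ (Subgroup.mem_centralizer_singleton_iff.1 g.2)
    (Subgroup.mem_centralizer_singleton_iff.1 k.2) (congrArg Subtype.val e))

theorem sq_of_conj {x u : G} (hx : orderOf x = 2) (h : IsConj x u) : u * u = 1 := by
  obtain ⟨c, rfl⟩ := isConj_iff.1 h
  have : x * x = 1 := by rw [← sq, ← hx, pow_orderOf_eq_one]
  calc c * x * c⁻¹ * (c * x * c⁻¹) = c * (x * x) * c⁻¹ := by group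
    _ = 1 := by rw [this]; group

theorem dih_inv {a b : G} (ha : a * a = 1) (hb : b * b = 1) (n : ℕ) :
    a * (a * b) ^ n * a⁻¹ = ((a * b) ^ n)⁻¹ := by
  have e : a * (a * b) * a⁻¹ = (a * b)⁻¹ := by
    rw [← mul_assoc, ha, one_mul, mul_inv_rev, inv_eq_of_mul_eq_one_right hb]
  rw [← inv_pow, ← e, conj_pow]

theorem dih_conj {a b : G} (ha : a * a = 1) (hb : b * b = 1) {m : ℕ}
    (h : (a * b) ^ (2 * m + 1) = 1) : IsConj a b := by
  refine isConj_iff.2 ⟨((a * b) ^ m)⁻¹⁻¹, ?_⟩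
  have e := dih_inv ha hb m
  have e2 : (a * b) ^ m * (a * b) ^ m = (a * b)⁻¹ := by
    rw [← pow_add, eq_inv_iff_mul_eq_one, ← pow_succ, ← two_mul, h]
  have e3 : a * ((a * b) ^ m)⁻¹ = (a * b) ^ m * a := by
    rw [← e, ← mul_assoc, ← mul_assoc, ha, one_mul, inv_eq_of_mul_eq_one_right ha]
  rw [inv_inv, mul_assoc, e3, ← mul_assoc, e2, mul_inv_rev, inv_mul_cancel_right,
    inv_eq_of_mul_eq_one_right hb]

theorem Cor.count_le [Finite G] [Finite G'] {x y : G} {x' y' : G'}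
    (h : Cor z z' R) (hz : orderOf z = 2) (hz' : orderOf z' = 2)
    (hx : orderOf x = 2) (hy : orderOf y = 2) (hx' : orderOf x' = 2) (hy' : orderOf y' = 2)
    (nc' : ¬ IsConj x' y')
    (t0 : ∀ g g', R g g' → (g * g = 1 ↔ g' * g' = 1))
    (t1 : ∀ g g', R g g' → (Mt x y g x' y' g' ∧ Mt x y (g * z) x' y' (g' * z')) ∨
      (Mt x y g x' y' (g' * z') ∧ Mt x y (g * z) x' y' g')) :
    Nat.card {p : G × G // IsConj x p.1 ∧ IsConj y p.2 ∧ z ∈ Subgroup.zpowers (p.1 * p.2)} ≤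
      Nat.card {p : G' × G' // IsConj x' p.1 ∧ IsConj y' p.2 ∧
        z' ∈ Subgroup.zpowers (p.1 * p.2)} := by
  obtain ⟨σ, s1, s2⟩ := h.sigma hz hz' (fun g g' => Mt x y g x' y' g') t1
  have zz : z * z = 1 := by rw [← sq, ← hz, pow_orderOf_eq_one]
  have z1 : z ≠ 1 := by rintro rfl; simp at hz
  have key : ∀ u v : G, IsConj x u → IsConj y v → z ∈ Subgroup.zpowers (u * v) →
      u * z = z * u ∧ v * z = z * v ∧ IsConj x' (σ u) ∧ IsConj y' (σ v) ∧
        z' ∈ Subgroup.zpowers (σ u * σ v) := by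
    intro u v hu hv hm
    obtain ⟨n, hn⟩ : ∃ n : ℕ, (u * v) ^ n = z := (mem_powers_iff_mem_zpowers.2 hm)
    have uu := sq_of_conj hx hu
    have vv := sq_of_conj hy hv
    have c1 : u * z = z * u := by
      have := dih_inv uu vv n
      rw [hn, inv_eq_of_mul_eq_one_right zz] at this
      exact mul_inv_eq_iff_eq_mul.1 this
    have c2 : v * z = z * v := by
      have c3 : (u * v) * z = z * (u * v) := by rw [← hn, ← pow_succ, ← pow_succ']
      have : u * (v * z) = u * (z * v) := by rw [← mul_assoc, c3, ← mul_assoc, ← mul_assoc, c1]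
      exact mul_left_cancel this
    obtain ⟨r1, m1⟩ := s1 u c1
    obtain ⟨r2, m2⟩ := s1 v c2
    have a1 := m1.1.1 hu
    have a2 := m2.2.1 hv
    refine ⟨c1, c2, a1, a2, ?_⟩
    have r3 := h.npow (h.mul r1 r2) n
    rw [hn] at r3
    have r4 := h.mul (h.inv (h.ker.2 (Or.inr rfl))) r3
    rw [inv_mul_cancel, inv_one, one_mul] at r4
    rcases h.ker'.1 r4 with h1 | h1
    · exfalso
      rcases Nat.even_or_odd' n with ⟨m, rfl | rfl⟩
      · have := (t0 _ _ (h.npow (h.mul r1 r2) m)).2 (by rw [← pow_add, ← two_mul, h1])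
        rw [← pow_add, ← two_mul, hn] at this
        exact z1 this
      · exact nc' (a1.trans ((dih_conj (sq_of_conj hx' a1) (sq_of_conj hy' a2) h1).trans a2.symm))
    · exact h1 ▸ Subgroup.npow_mem_zpowers _ n
  refine Nat.card_le_card_of_injective (fun p => ⟨(σ p.1.1, σ p.1.2),
    (key _ _ p.2.1 p.2.2.1 p.2.2.2).2.2⟩) fun p q e => ?_
  have e1 := congrArg (fun t => t.1.1) e
  have e2 := congrArg (fun t => t.1.2) e
  obtain ⟨p1, p2, -⟩ := key _ _ p.2.1 p.2.2.1 p.2.2.2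
  obtain ⟨q1, q2, -⟩ := key _ _ q.2.1 q.2.2.1 q.2.2.2
  exact Subtype.ext (Prod.ext (s2 _ _ p1 q1 e1) (s2 _ _ p2 q2 e2))

end

theorem Cor.count {G G' : Type*} [Group G] [Group G'] [Finite G] [Finite G'] {z x y : G} {z' x' y' : G'}
    {R : G → G' → Prop} (h : Cor z z' R) (hz : orderOf z = 2) (hz' : orderOf z' = 2)
    (hx : orderOf x = 2) (hy : orderOf y = 2) (hx' : orderOf x' = 2) (hy' : orderOf y' = 2)
    (nc : ¬ IsConj x y) (nc' : ¬ IsConj x' y')
    (t0 : ∀ g g', R g g' → (g * g = 1 ↔ g' * g' = 1))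
    (t1 : ∀ g g', R g g' → (Mt x y g x' y' g' ∧ Mt x y (g * z) x' y' (g' * z')) ∨
      (Mt x y g x' y' (g' * z') ∧ Mt x y (g * z) x' y' g')) :
    Nat.card {p : G × G // IsConj x p.1 ∧ IsConj y p.2 ∧ z ∈ Subgroup.zpowers (p.1 * p.2)} =
      Nat.card {p : G' × G' // IsConj x' p.1 ∧ IsConj y' p.2 ∧ z' ∈ Subgroup.zpowers (p.1 * p.2)} := by
  refine le_antisymm (h.count_le hz hz' hx hy hx' hy' nc' t0 t1)
    (h.symm'.count_le hz' hz hx' hy' hx hy nc (fun g g' r => (t0 _ _ r).symm) fun g g' r => ?_)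
  rcases t1 _ _ r with ⟨a, b⟩ | ⟨a, b⟩
  · exact Or.inl ⟨⟨a.1.symm, a.2.symm⟩, b.1.symm, b.2.symm⟩
  · exact Or.inr ⟨⟨b.1.symm, b.2.symm⟩, a.1.symm, a.2.symm⟩

theorem Cor.card {G G' : Type*} [Group G] [Group G'] [Finite G] [Finite G'] {z : G} {z' : G'}
    {R : G → G' → Prop} (h : Cor z z' R) (hz : orderOf z = 2) (hz' : orderOf z' = 2) :
    Nat.card (Subgroup.centralizer ({z} : Set G)) = Nat.card (Subgroup.centralizer ({z'} : Set G')) :=
  le_antisymm (h.card_le hz hz') (h.symm'.card_le hz' hz)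

end H10.Mon.MG
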