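import Mathlib
import Cfsg.Agent.H19.MG1

/-!
# Small facts on the classes of the Leech lattice modulo 2
-/

set_option autoImplicit false
set_option linter.all false

open Cfsg

namespace H10.Mon.MG

open H29

namespace LS

theorem norm_of_isS {y : L} (h : IsS (kap y)) (h1 : sqNorm (y : V) ≤ 64) : sqNorm (y : V) = 32 := by
  obtain ⟨x, hx, e⟩ := h
  rcases eq_or_neg hx h1 e with rfl | rfl
  exacts [hx, (norm_negL _).trans hx]

theorem isS_add {x y : L} (hx : sqNorm (x : V) = 32) (hy : sqNorm (y : V) = 32) :
    IsS (kap x + kap y) ↔ dotInt (x : V) (y : V) = 16 ∨ dotInt (x : V) (y : V) = -16 := by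
  have a1 := sqNorm_add (x : V) (y : V)
  have a2 := sqNorm_sub (x : V) (y : V)
  have e1 : kap (x + y) = kap x + kap y := map_add _ _ _
  have e2 : kap (x - y) = kap x + kap y := by rw [sub_eq_add_neg, map_add, kap_neg]
  rw [← AddSubgroup.coe_add] at a1
  rw [← AddSubgroup.coe_sub] at a2
  constructor
  · intro h
    rcases le_total 0 (dotInt (x : V) (y : V)) with h0 | h0
    · have := norm_of_isS (e2 ▸ h) (by omega)
      omega
    · have := norm_of_isS (e1 ▸ h) (by omega)
      omega
  · rintro (h | h)
    · exact ⟨x - y, by omega, e2⟩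
    · exact ⟨x + y, by omega, e1⟩

theorem isS_code {n : ℕ} (h1 : inL n = true) (h2 : dotC n n = 32) : IsS (kapC n) :=
  ⟨lv n, by rw [lv_coe h1, norm_vc, h2], kap_code (lv_coe h1)⟩

theorem not_isS_code {n : ℕ} (h1 : inL n = true) (h2 : dotC n n = 64) : ¬ IsS (kapC n) := fun h => by
  have e : sqNorm (lv n : V) = 64 := by rw [lv_coe h1, norm_vc, h2]
  have := norm_of_isS (kap_code (lv_coe h1) ▸ h) e.le
  omega

theorem kap_vU : kap vU = c0.1 + Om := by
  rw [kap_code vU_eq, c0_code, Om_eq]; decide +kernel

theorem c0_fst : c0.1.1 = 0 := by rw [c0_code]; decide +kernel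

theorem tr_64 (y : L) (hy : sqNorm (y : V) = 64) : ∃ g : G0, g • e8 none = y := by
  obtain ⟨w, hw, h1, h2⟩ : ∃ w ∈ cross (y : V), w ≠ y ∧ w ≠ -y := by
    by_contra hc
    push Not at hc
    have := Set.ncard_le_ncard (s := cross (y : V)) (t := {(y : V), -(y : V)}) (fun w hw => by
      by_cases e : w = y
      exacts [.inl e, .inr (hc w hw e)]) (Set.toFinite _)
    rw [ncard_cross y.2 hy] at this
    have := Set.ncard_insert_le (y : V) {-(y : V)}
    rw [Set.ncard_singleton] at this
    omega
  obtain ⟨w1, w2, z, z1, z2⟩ := hw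
  let W : L := ⟨w, w1⟩
  let Z : L := ⟨z, z1⟩
  have e : y - W = 2 • Z := Subtype.ext z2
  have n1 : sqNorm (W : V) = 64 := w2.trans hy
  have k := leechEL.short ((leechEL_self y 8).2 hy).le ((leechEL_self W 8).2 n1).le e
    (fun h => h1 (congrArg Subtype.val h)) (fun h => h2 (congrArg Subtype.val h))
  have d0 : dotInt (y : V) (W : V) = 0 := by
    have := dot8 y W
    rw [← leechEL_apply, k.2.2] at this
    exact this
  have e' : (y : V) - W = (2 : ℤ) • (Z : V) := by
    rw [show (y : V) - W = 2 • (Z : V) from z2]; simp [two_smul]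
  have n2 : sqNorm (Z : V) = 32 := by
    have := sqNorm_sub (y : V) W
    rw [e', sqNorm_smul, hy, n1, d0] at this
    omega
  have d1 : dotInt (Z : V) (y : V) = 32 := by
    have := congrArg (fun v => dotInt v (y : V)) e'
    simp only [dot_smul_left] at this
    rw [sub_eq_add_neg, dot_add_left, dot_neg_left, dot_self, hy, dot_comm, d0] at this
    omega
  obtain ⟨g, g1, g2⟩ := std_Uy (b := vU') (v := Z) (w := y - Z) norm_vU' n2
    (by rw [AddSubgroup.coe_sub, sqNorm_sub, hy, n2, dot_comm, d1]; rfl)
    (by rw [dU, dot_vU_vU', AddSubgroup.coe_sub, sub_eq_add_neg, dot_add_right, dot_neg_right, d1,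
      dot_self, n2]; rfl)
  refine ⟨g, ?_⟩
  rw [show e8 none = vU + vU' from Subtype.ext (by
    rw [AddSubgroup.coe_add, e8_eq, vU_eq, vU'_eq]; funext p; revert p; decide +kernel), co_add, g1,
    g2, add_sub_cancel]

def du : List (List ℕ) := [[0x00100010001000100010001000100010001000140010001000100010000c001000100010001000100010001000100010],
  [0x001000100010001000100010001000100010001000100010001000100010001000100010001000100014001000140010,
   0x001000100010001000140010001000100010001000100010000c00100010001000100010001000100010001000100010],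
  [0x001000100010001000100010001000100010001000100010001000100010001000100010001000100014001000100014,
   0x001000140010001000100014001000100010001000100010001000100010001000100010001000100010001000100010],
  [0x00100010001000100010001000100010001000100010001000140010000c001000100010001000100010001000100010],
  [0x001000100010001000100010001000100010001000100010001000100010001000100010001000100010001000140014,
   0x0010001000100010001000100010001400100010000c0010001000100010001000100010001000100010001000100010],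
  [0x001000100010001000100010001000100010001000100014000c00100010001000100010001000100010001000100010],
  [0x001000100010001000100010001000100010001000100010001000100010001000100010001000100010001000140014,
   0x001000100010001000100010001000100010001400100010001000100010001000100010000c00100010001000100010],
  [0x001000100010001000100010001000100010001000100010001000100010001000100010001000100010001400100014,
   0x001000100010001000100010001000100010001000140010001000100010001000100010001000140010001000100010],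
  [0x001000100010001000100010001000100010001000100010001400100010000c00100010001000100010001000100010],
  [0x00100010001000100010001000100010001000100010001000100014000c001000100010001000100010001000100010],
  [0x001000100010001000100010001000100010001400100010001000100010001000100010000c00100010001000100010],
  [0x001000100010001000100010001000100010001000100010001000100010001000100010001000100010001000140014,
   0x00100010001000100010001000100010001000100010001000100010001000100010001000100010001000100014000c]]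

theorem du_ok : du.all (fun l => l.all fun n => inL n && decide (dotC n n = 32) &&
    decide ((kapC n).1 = 0)) = true := by decide +kernel

theorem du_sum : ∀ j : Fin 12, ((0, Pi.single j 1) : C) = ((du.getD j []).map kapC).sum := by
  decide +kernel

/-- The sums of the powers. -/
noncomputable def T (u : G0) : ℕ → C →+ C
  | 0 => 0
  | k + 1 => AddMonoidHom.id C + (DistribSMul.toAddMonoidHom C u).comp (T u k)

theorem T_succ (u : G0) (k : ℕ) (c : C) : T u (k + 1) c = c + u • T u k c := rfl

theorem T_fix {u : G0} {c : C} (h : u • c = c) : ∀ k, T u k c = k • c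
  | 0 => (zero_smul _ _).symm
  | k + 1 => by
    rw [T_succ, T_fix h k, smul_comm, h, succ_nsmul, add_comm]

noncomputable def tN (U : List ℕ) (n k : ℕ) : ℕ :=
  Nat.rec 0 (fun _ ih => lit ih fun a => Nat.xor n (apC U a)) k

theorem dec_tN {u : G0} {U : List ℕ} (h : Cols u U) (n : ℕ) : ∀ k, dec (tN U n k) = T u k (dec n)
  | 0 => dec_zero
  | k + 1 => by
    rw [T_succ, ← dec_tN h n k, ← h.ap, ← dec_xor]; rfl

noncomputable def pN (U : List ℕ) (n k : ℕ) : ℕ := Nat.rec n (fun _ ih => lit ih (apC U)) k

theorem dec_pN {u : G0} {U : List ℕ} (h : Cols u U) (n : ℕ) : ∀ k, dec (pN U n k) = u ^ k • dec n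
  | 0 => by rw [pow_zero, one_smul]; rfl
  | k + 1 => by rw [pow_succ', mul_smul, ← dec_pN h n k, ← h.ap]; rfl

theorem dec_basis (W : AddSubgroup C) (h : ∀ j < 24, dec (2 ^ j) ∈ W) (c : C) : c ∈ W := by
  have e1 : ∀ j : Fin 12, ((Pi.single j 1, 0) : C) = dec (2 ^ (12 + j : ℕ)) := by decide +kernel
  have e2 : ∀ j : Fin 12, ((0, Pi.single j 1) : C) = dec (2 ^ (j : ℕ)) := by decide +kernel
  exact C_basis W (fun j => e1 j ▸ h _ (by omega)) (fun j => e2 j ▸ h _ (by omega)) c

end LS

open LS

theorem typ4 {c : C} (h0 : c ≠ 0) (h1 : bb c c = 0) (h2 : ¬ IsS c) : ∃ h : G0, h • Om = c := by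
  obtain ⟨x, rfl⟩ := kap_surj c
  obtain ⟨y, y1, y2, z, z1, z2⟩ := exists_short x.2
  have e : kap x = kap ⟨y, y1⟩ := kap_eq.2 ⟨⟨z, z1⟩, Subtype.ext z2⟩
  rw [e] at h0 h1 h2 ⊢
  have a1 := min_norm y1 fun h => h0 (by rw [show (⟨y, y1⟩ : L) = 0 from Subtype.ext h, map_zero])
  have a2 := sixteen_dvd_sqNorm y1
  have a3 : sqNorm y ≠ 32 := fun h => h2 ⟨_, h, rfl⟩
  have a4 : sqNorm y ≠ 48 := fun h => by
    rw [← qq_kap, qq, h] at h1
    exact absurd h1 (by decide)
  obtain ⟨g, hg⟩ := tr_64 ⟨y, y1⟩ (by change sqNorm y = 64; omega)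
  exact ⟨g, by rw [Om, smul_kap, hg]⟩

theorem sh0_Om {c : C} (h : Sh0 c) : Sh0 (c + Om) := by
  obtain ⟨g, g1, g2⟩ := trans_N0 (c := c0) (d := toS c h.1) ⟨fun _ => h.2, fun _ => c0_fst⟩
    (by rw [c0_fst, toS_val, h.2])
  refine ⟨?_, by rw [Prod.fst_add, h.2, Om_eq]; exact add_zero _⟩
  rw [show c = g • c0.1 from (congrArg Subtype.val g2).symm, ← fix_Om.2 g1, ← smul_add, ← kap_vU]
  exact IsS.smul ⟨vU, norm_vU, rfl⟩ g

theorem sh2_Om {c : C} (h : IsS c) (h1 : c.1 ≠ 0) (h2 : c.1 11 = 0) : ¬ IsS (c + Om) := by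
  obtain ⟨g, g1, g2⟩ := trans_N0 (c := ⟨_, eL 0, norm_eL 0, rfl⟩) (d := toS c h)
    ⟨fun e => absurd e (by simp only [kap_eL]; decide +kernel), fun e => absurd e h1⟩
    (by simp only [kap_eL, toS_val, h2]; rfl)
  rw [show c = g • kap (eL 0) from (congrArg Subtype.val g2).symm, ← fix_Om.2 g1, ← smul_add,
    isS_smul, kap_eL, Om_eq, show ((Pi.single 0 1, 0) : C) + (0, Pi.single 11 1) =
      kapC 0x001200100010001000100010000e00100010000e00100010001000100010001000100010000e00100012001200120016
      by decide +kernel]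
  exact not_isS_code (by decide +kernel) (by decide +kernel)

theorem exists_sh2 : ∃ c : C, IsS c ∧ c.1 ≠ 0 ∧ c.1 11 = 0 :=
  ⟨kap (eL 0), ⟨_, norm_eL 0, rfl⟩, by rw [kap_eL]; decide +kernel⟩

theorem span_sh0 (W : AddSubgroup C) (h : ∀ c, Sh0 c → c ∈ W) {c : C} (hc : c.1 = 0) : c ∈ W := by
  have := C_basis (W.comap ((AddMonoidHom.inr K K).comp (AddMonoidHom.snd K K)))
    (fun j => W.zero_mem) (fun j => by
      change ((0, Pi.single j 1) : C) ∈ W
      rw [du_sum]
      refine W.list_sum_mem fun x hx => ?_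
      obtain ⟨n, hn, rfl⟩ := List.mem_map.1 hx
      have := List.all_eq_true.1 (List.all_eq_true.1 du_ok (du.getD j []) (by
        rw [List.getD_eq_getElem _ _ j.2]; exact List.getElem_mem _)) n hn
      simp only [Bool.and_eq_true, decide_eq_true_eq] at this
      exact h _ ⟨isS_code this.1.1 this.1.2, this.2⟩) c
  rwa [show c = (0, c.2) from Prod.ext hc rfl]

theorem no_tri {c d : C} (h1 : IsS c) (h2 : IsS (c + c0.1)) (h3 : IsS d) (h4 : IsS (d + c0.1))
    (h5 : IsS (c + d)) (h6 : IsS (c + d + c0.1)) : False := by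
  obtain ⟨x, hx, rfl⟩ := h1
  obtain ⟨y, hy, rfl⟩ := h3
  have a1 := (isS_add hx norm_vU').1 h2
  have a2 := (isS_add hy norm_vU').1 h4
  rcases (isS_add hx hy).1 h5 with e | e
  · have := (isS_add (x := x - y) (by rw [AddSubgroup.coe_sub, sqNorm_sub, hx, hy, e]; rfl)
      norm_vU').1 (by rw [sub_eq_add_neg, map_add, kap_neg]; exact h6)
    rw [AddSubgroup.coe_sub, sub_eq_add_neg, dot_add_left, dot_neg_left] at this
    omega
  · have := (isS_add (x := x + y) (by rw [AddSubgroup.coe_add, sqNorm_add, hx, hy, e]; rfl)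
      norm_vU').1 (by rw [map_add]; exact h6)
    rw [AddSubgroup.coe_add, dot_add_left] at this
    omega

theorem bb_tri : ∃ c d : C, ∀ e ∈ [c, d, c + d], e.1 = 0 ∧ e ≠ 0 ∧ e + c0.1 ≠ 0 ∧ ¬ IsS e ∧
    ¬ IsS (e + c0.1) := by
  have key : ∀ (e : C) (m n : ℕ), e.1 = 0 ∧ e ≠ 0 ∧ e + kapC cU' ≠ 0 ∧ e = kapC m ∧
      e + kapC cU' = kapC n ∧ inL m = true ∧ inL n = true ∧ dotC m m = 64 ∧ dotC n n = 64 →
      e.1 = 0 ∧ e ≠ 0 ∧ e + c0.1 ≠ 0 ∧ ¬ IsS e ∧ ¬ IsS (e + c0.1) := by
    rintro e m n ⟨a1, a2, a3, a4, a5, a6, a7, a8, a9⟩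
    rw [c0_code]
    exact ⟨a1, a2, a3, by rw [a4]; exact not_isS_code a6 a8, by rw [a5]; exact not_isS_code a7 a9⟩
  refine ⟨dec 4, dec 10, List.forall_mem_cons.2 ⟨key _
    0x001000140010001000100014001000100010001000100010001000100010001000100010001000100014001000100014
    0x001000100010001000140010001000100010001000100010001000140010001000100010001000100010001400100014 (by decide +kernel),
    List.forall_mem_cons.2 ⟨key _
    0x00100010001400100010001000140010001000100010001000100014001000100010001000100010001000100010000c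
    0x00100010001000100010001000100010001000100014001400100010001000100010001000100010001000140010000c (by decide +kernel),
    List.forall_mem_cons.2 ⟨key _
    0x00100010001000140010001000100010001400100010001000100010001000100010001000100010001400100010000c
    0x00100010001000100010001400100010001000140010001000100010001000140010001000100010001000100010000c (by decide +kernel), fun _ h => absurd h List.not_mem_nil⟩⟩⟩⟩

theorem tr_perp {e : C} (h1 : IsS e) (h2 : pl e c0.1 = 0) (h3 : e ≠ c0.1) (h4 : ¬ IsS (e + c0.1)) :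
    ∃ h : G0, h • c0.1 = c0.1 ∧ h • e = c0.1 + Om := by
  obtain ⟨x, hx, rfl⟩ := h1
  rw [c0_val, isS_add hx norm_vU'] at h4
  rw [pl, c0_val, ← ip_kap, ip_apply, ZMod.intCast_zmod_eq_zero_iff_dvd] at h2
  have a0 := dot8 x vU'
  have a1 := min_norm (x - vU').2 fun h => h3 (by
    rw [c0_val, sub_eq_zero.1 (Subtype.ext h : x - vU' = 0)])
  have a2 := min_norm (x + vU').2 fun h => h3 (by
    rw [c0_val, add_eq_zero_iff_eq_neg.1 (Subtype.ext h : x + vU' = 0), kap_neg])
  rw [AddSubgroup.coe_sub, sqNorm_sub, hx, norm_vU'] at a1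
  rw [AddSubgroup.coe_add, sqNorm_add, hx, norm_vU'] at a2
  obtain ⟨g, g1, g2⟩ := tr_C2' hx norm_vU (by
    rw [dU', dU', dot_comm, dot_comm (vU' : V), dot_vU_vU']
    push_cast at h2
    omega)
  exact ⟨g, fix_c0.2 (.inl g1), by rw [smul_kap, g2, kap_vU]⟩

theorem ord23 : ∃ u ∈ N0, u ^ 23 = 1 ∧ ∀ c : C, c.1 11 = 0 → u • c = c → c = 0 ∨ c = Om := by
  have h := gl_cols 0
  have h2 := h.mul h
  refine ⟨co (gl 0) * co (gl 0), fix_Om.1 ?_, ?_, fun c h0 h1 => ?_⟩
  · rw [← dec_Om, ← h2.ap]
    exact congrArg dec (H29.beq_true.1 (by decide +kernel))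
  · have k : allN 24 (fun j => Nat.beq (pN (lt 0).C (Nat.pow 2 j) 23) (Nat.pow 2 j)) = true := by
      decide +kernel
    have := center_of_fix (h := co (gl 0) ^ 23) fun c => by
      have := dec_basis (DistribSMul.toAddMonoidHom C (co (gl 0) ^ 23) + AddMonoidHom.id C).ker
        (fun j hj => by
          change co (gl 0) ^ 23 • dec (2 ^ j) + dec (2 ^ j) = 0
          rw [← dec_pN h, show pN (lt 0).C (2 ^ j) 23 = 2 ^ j from
            H29.beq_true.1 (allN_true.1 k j hj), two_zmod]) c
      exact add_eq_zero_C.1 this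
    rw [← sq, ← pow_mul, mul_comm, pow_mul, sq]
    rcases mem_center_G0.1 this with e | e <;> rw [e]
    exacts [mul_one _, neg1_mul_self]
  · have k : allN 24 (fun j => memL (tN (mulC (lt 0).C (lt 0).C) (Nat.pow 2 j) 23)
        [0, 2048, 8724511]) = true := by decide +kernel
    let ψ : C →+ C := AddMonoidHom.mk' (fun c => c + c.1 11 • dec 8724511 + c.2 11 • dec 2048)
      fun a b => by
        rw [Prod.fst_add, Prod.snd_add, Pi.add_apply, Pi.add_apply, add_smul, add_smul]; abel
    have := dec_basis (ψ.comp (T (co (gl 0) * co (gl 0)) 23)).ker (fun j hj => by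
      rw [AddMonoidHom.mem_ker, AddMonoidHom.comp_apply, ← dec_tN h2]
      have := memL_true.1 (allN_true.1 k j hj)
      change tN (mulC (lt 0).C (lt 0).C) (2 ^ j) 23 ∈ _ at this
      generalize tN (mulC (lt 0).C (lt 0).C) (2 ^ j) 23 = n at this ⊢
      change dec n + (dec n).1 11 • dec 8724511 + (dec n).2 11 • dec 2048 = 0
      revert n
      decide +kernel) c
    rw [AddMonoidHom.mem_ker, AddMonoidHom.comp_apply, T_fix h1, show 23 = 2 * 11 + 1 from rfl,
      succ_nsmul, mul_nsmul, two_nsmul, two_zmod, smul_zero, zero_add] at this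
    change c + c.1 11 • dec 8724511 + c.2 11 • dec 2048 = 0 at this
    rw [h0, zero_smul, add_zero, dec_Om, add_eq_zero_C] at this
    rcases z2 (c.2 11) with e | e <;> rw [e] at this
    exacts [.inl (this.trans (zero_smul _ _)), .inr (this.trans (one_smul _ _))]

end H10.Mon.MG
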