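import Mathlib
import Cfsg.Agent.H19.MG4

/-!
# Computing in a centraliser of Monster type
-/

set_option autoImplicit false
set_option linter.all false

namespace H10.Mon.MG

theorem z11 : (1 : ZMod 2) + 1 = 0 := rfl
theorem zz2 (s : ZMod 2) : s + s = 0 := two_zmod s
theorem cc2 (c : C) : c + c = 0 := two_zmod c
theorem pl_comm (c d : C) : pl c d = pl d c := add_comm _ _
theorem pl_add (c d e : C) : pl c (d + e) = pl c d + pl c e := by
  unfold pl; rw [bb_add_left, bb_add_right]; ring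
theorem pl_add' (c d e : C) : pl (c + d) e = pl c e + pl d e := by
  rw [pl_comm, pl_add, pl_comm e, pl_comm e]
theorem pl_self (c : C) : pl c c = 0 := zz2 _
theorem pl_smul (h : G0) (c d : C) : pl (h • c) (h • d) = pl c d := bb_smul h c d
theorem pl_Om (c : C) : pl c Om = c.1 11 := (odd_eq c).symm
theorem pl_zero (c : C) : pl c 0 = 0 := by unfold pl; rw [bb_zero_left, bb_zero_right, add_zero]
theorem bb_add_self (c d : C) : bb (c + d) (c + d) = bb c c + bb d d + pl c d := by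
  unfold pl; rw [bb_add_left, bb_add_right, bb_add_right]; ring
theorem bb_fst {c : C} (h : c.1 = 0) (d : C) : bb c d = 0 := by unfold bb; rw [h, zero_dotProduct]
theorem Om_fst : Om.1 = 0 := by rw [Om_eq]
theorem c0_fst : c0.1.1 = 0 := by
  rw [← cls_c0]; exact (cls_fst (by norm_num)).2 le_rfl
theorem sh0_c0 : Sh0 c0.1 := ⟨isS_val c0, c0_fst⟩
theorem bb_isS {c : C} (h : IsS c) : bb c c = 0 := bb_S (toS c h)
theorem isS_ne {c : C} (h : IsS c) : c ≠ 0 := by
  rintro rfl
  obtain ⟨e, he⟩ := exists_S_polar (toS 0 h)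
  rw [toS_val, bb_zero_left, bb_zero_right] at he
  exact absurd he (by decide)
theorem not_isS_Om : ¬ IsS Om := fun h => S_ne_Om (toS _ h) rfl
theorem N0_inv_fst {h : G0} (hh : h ∈ N0) {c : C} (hc : (h • c).1 = 0) : c.1 = 0 := by
  have := fst_smul_zero (inv_mem hh) hc
  rwa [inv_smul_smul] at this
theorem Sh0.smul {h : G0} (hh : h ∈ N0) {c : C} (hc : Sh0 c) : Sh0 (h • c) :=
  ⟨hc.1.smul h, fst_smul_zero hh hc.2⟩

theorem Ac.symm {a b : G0} (h : Ac a b) : Ac b a := fun c => (h c).symm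
theorem Ac.trans {a b c : G0} (h : Ac a b) (h' : Ac b c) : Ac a c := fun d => (h d).trans (h' d)
theorem Ac.conj {a b : G0} (h : Ac a b) (u : G0) : Ac (u * a * u⁻¹) (u * b * u⁻¹) := fun c => by
  simp only [mul_smul, h _]

/-- The square of `k` acts trivially. -/
def I2 (k : GT) : Prop := ∀ c, ep k c + ep k (co k • c) = 0 ∧ co k • co k • c = c

/-- No sign on the fixed classes. -/
def La (k : GT) : Prop := ∀ c, co k • c = c → ep k c = 0

theorem I2.ep_im {k : GT} (h : I2 k) (d : C) : ep k (d + co k • d) = pl d (co k • d) := by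
  rw [ep_add, (h d).1, (h d).2, zero_add]; rfl

variable {G : Type*} [Group G] {y : G} {q : ZMod 2 → C → G}

theorem Rel.mul {g h : G} {k l : GT} (a : Rel q g k) (b : Rel q h l) : Rel q (g * h) (k * l) :=
  fun t c => by
    rw [ep_mul, map_mul, mul_smul, ← add_assoc, ← a, ← b]; group

theorem Rel.one : Rel q 1 1 := fun t c => by rw [ep_one, map_one, one_smul, add_zero]; group

theorem Rel.inv {g : G} {k : GT} (a : Rel q g k) : Rel q g⁻¹ k⁻¹ := fun t c => by
  have e := ep_mul k k⁻¹ c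
  rw [mul_inv_cancel, ep_one] at e
  have := a (t + ep k⁻¹ c) (co k⁻¹ • c)
  rw [add_assoc, ← e, add_zero, ← mul_smul, ← map_mul, mul_inv_cancel, map_one, one_smul] at this
  rw [← this]; group

theorem Rel.conj {g h : G} {k l : GT} (a : Rel q g k) (b : Rel q h l) :
    Rel q (g * h * g⁻¹) (k * l * k⁻¹) := (a.mul b).mul a.inv

theorem Rel.view {g : G} {k : GT} (γ : G) :
    Rel (fun t c => γ * q t c * γ⁻¹) g k ↔ Rel q (γ⁻¹ * g * γ) k :=
  forall₂_congr fun t c => by
    constructor <;> intro h <;> beta_reduce at h ⊢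
    · rw [← mul_left_cancel_iff (a := γ), ← mul_right_cancel_iff (a := γ⁻¹), ← h]; group
    · rw [← h]; group

namespace Sit

variable (H : Sit y q)
include H

theorem view (γ : G) : Sit (γ * y * γ⁻¹) fun t c => γ * q t c * γ⁻¹ where
  mul s c t d := by rw [conj_mul, H.mul]
  inj h := H.inj (by simpa using h)
  one := by rw [H.one]
  up g h := by
    obtain ⟨k, hk⟩ := H.up (γ⁻¹ * g * γ) (by
      rw [← mul_left_cancel_iff (a := γ), ← mul_right_cancel_iff (a := γ⁻¹)]
      calc _ = g * (γ * y * γ⁻¹) := by group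
        _ = _ := by rw [h]; group)
    exact ⟨k, (Rel.view γ).2 hk⟩
  down k := by
    obtain ⟨g, hg⟩ := H.down k
    exact ⟨γ * g * γ⁻¹, (Rel.view γ).2 (by simpa [mul_assoc] using hg)⟩
  cent g h := by
    rcases H.cent (γ⁻¹ * g * γ) fun t c => by
      rw [← mul_left_cancel_iff (a := γ), ← mul_right_cancel_iff (a := γ⁻¹)]
      calc _ = g * (γ * q t c * γ⁻¹) := by group
        _ = _ := by rw [h]; group
      with e | e
    · left; rw [← mul_left_cancel_iff (a := γ⁻¹), ← mul_right_cancel_iff (a := γ), e]; group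
    · right; rw [← e]; group

theorem zero : q 0 0 = 1 := by
  have := H.mul 0 0 0 0
  rw [bb_zero_left, add_zero, add_zero, add_zero] at this
  exact mul_left_cancel (this.trans (mul_one _).symm)

theorem mul_y (t : ZMod 2) (c : C) : q t c * y = q (t + 1) c := by
  rw [← H.one, H.mul, bb_zero_right, add_zero, add_zero]

theorem y_mul (t : ZMod 2) (c : C) : y * q t c = q (t + 1) c := by
  rw [← H.one, H.mul, bb_zero_left, add_zero, zero_add, add_comm]

theorem cm (t : ZMod 2) (c : C) : q t c * y = y * q t c := by rw [H.mul_y, H.y_mul]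

theorem yy : y * y = 1 := by
  have := H.mul_y 1 0
  rwa [H.one, z11, H.zero] at this

theorem y_ne : y ≠ 1 := fun h => absurd (H.inj (H.one.trans (h.trans H.zero.symm))).1 (by decide)

theorem y_inv : y⁻¹ = y := inv_eq_of_mul_eq_one_left H.yy

theorem sq (t : ZMod 2) (c : C) : q t c * q t c = q (bb c c) 0 := by
  rw [H.mul, zz2, cc2, zero_add]

theorem sq0 (t : ZMod 2) {c : C} (h : bb c c = 0) : q t c * q t c = 1 := by rw [H.sq, h, H.zero]

theorem q0 (t : ZMod 2) : q t 0 = 1 ∨ q t 0 = y := by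
  rcases z2 t with rfl | rfl
  exacts [.inl H.zero, .inr H.one]

theorem or_y (s t : ZMod 2) (c : C) : q s c = q t c ∨ q s c = q t c * y := by
  rw [H.mul_y]
  rcases z2_or s t with rfl | rfl
  exacts [.inl rfl, .inr rfl]

theorem rel_q (t : ZMod 2) (c : C) : Rel q (q t c) (qe t c) := fun s d => by
  rw [mul_inv_eq_iff_eq_mul, H.mul, H.mul, ep_qe, co_qe, one_smul, add_comm d c]
  congr 1
  linear_combination (-1 : ZMod 2) * zz2 (bb d c)

theorem cj (s t : ZMod 2) (c d : C) : q s d * q t c * (q s d)⁻¹ = q (t + pl d c) c := by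
  rw [H.rel_q, ep_qe, co_qe, one_smul]; rfl

theorem rel_cm {g : G} {k : GT} (h : Rel q g k) : g * y = y * g := by
  have := h 1 0
  rw [ep_zero, smul_zero, add_zero, H.one] at this
  exact mul_inv_eq_iff_eq_mul.1 this

theorem rel_uniq {g : G} {k l : GT} (h : Rel q g k) (h' : Rel q g l) (c : C) :
    ep k c = ep l c ∧ co k • c = co l • c := by
  have := H.inj ((h 0 c).symm.trans (h' 0 c))
  rwa [zero_add, zero_add] at this

theorem inQ {g : G} {k : GT} (h : Rel q g k) (e : Ac (co k) 1) : ∃ t c, g = q t c := by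
  have e' : ∀ c : C, co k • c = c := fun c => (e c).trans (one_smul _ _)
  obtain ⟨c, hc⟩ := exists_polar (AddMonoidHom.mk' (ep k) fun a b => by
    rw [ep_add, e', e', add_assoc, zz2, add_zero])
  have : ∀ t d, g * (q 0 c)⁻¹ * q t d = q t d * (g * (q 0 c)⁻¹) := fun t d => by
    have h1 := (h.mul (H.rel_q 0 c).inv) t d
    rw [qe_inv, ep_mul, ep_qe, map_mul, co_qe, mul_one, one_smul, e', ← hc, AddMonoidHom.mk'_apply,
      zz2, add_zero] at h1
    exact mul_inv_eq_iff_eq_mul.1 h1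
  rcases H.cent _ this with h1 | h1 <;> rw [mul_inv_eq_iff_eq_mul] at h1
  · exact ⟨0, c, by rw [h1, one_mul]⟩
  · exact ⟨_, c, by rw [h1, H.y_mul]⟩

theorem same {g g' : G} {k k' : GT} (h : Rel q g k) (h' : Rel q g' k') (e : Ac (co k) (co k')) :
    ∃ t c, g' = g * q t c := by
  obtain ⟨t, c, e⟩ := H.inQ (h.inv.mul h') fun c => by
    rw [map_mul, map_inv, mul_smul, ← e, inv_smul_smul, one_smul]
  exact ⟨t, c, by rw [← e]; group⟩

theorem i2_sq {g : G} {k : GT} (h : Rel q g k) (e : I2 k) : g * g = 1 ∨ g * g = y :=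
  H.cent _ fun t c => by
    have := (h.mul h) t c
    rw [ep_mul, (e c).1, map_mul, mul_smul, (e c).2, add_zero] at this
    exact mul_inv_eq_iff_eq_mul.1 this

theorem i2_of {g : G} {k : GT} (h : Rel q g k) (e : g * g = 1 ∨ g * g = y) : I2 k := fun c => by
  have := (h.mul h) 0 c
  rw [ep_mul, map_mul, mul_smul, zero_add] at this
  have e2 : g * g * q 0 c * (g * g)⁻¹ = q 0 c := by
    rcases e with e | e <;> rw [e]
    · group
    · rw [← H.cm]; group
  have := H.inj (this.symm.trans e2)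
  exact this

theorem flip {g : G} {k : GT} (h : Rel q g k) {c : C} (h1 : co k • c = c) (h2 : ep k c = 1) :
    IsConj g (g * y) := by
  have := h 0 c
  rw [h1, h2, ← H.y_mul] at this
  refine isConj_iff.2 ⟨(q 0 c)⁻¹, ?_⟩
  rw [H.rel_cm h, inv_inv, mul_assoc, mul_inv_eq_iff_eq_mul.1 this, ← H.cm]; group

theorem sq_mul {g : G} {k : GT} (h : Rel q g k) (t : ZMod 2) (c : C) :
    g * q t c * (g * q t c) =
      g * g * q (ep k⁻¹ c + bb (co k⁻¹ • c) c) (co k⁻¹ • c + c) := by
  have := h.inv t c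
  rw [inv_inv] at this
  calc _ = g * g * (g⁻¹ * q t c * g * q t c) := by group
    _ = _ := by rw [this, H.mul]; congr 2; linear_combination zz2 t

theorem fix_of {g : G} {k k' : GT} (h : Rel q g k) (e : I2 k) {t : ZMod 2} {c : C}
    (h' : Rel q (g * q t c) k') (e' : I2 k') : co k • c = c := by
  have a : ∀ {u : G}, u = 1 ∨ u = y → ∃ s, u = q s 0 := fun h => by
    rcases h with rfl | rfl
    exacts [⟨0, H.zero.symm⟩, ⟨1, H.one.symm⟩]
  obtain ⟨s, hs⟩ := a (H.i2_sq h e)
  obtain ⟨s', hs'⟩ := a (H.i2_sq h' e')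
  rw [H.sq_mul h, hs, H.mul, zero_add] at hs'
  have := add_eq_zero_C.1 (H.inj hs').2
  rwa [map_inv, inv_smul_eq_iff, eq_comm] at this

theorem qconj {g : G} {k : GT} (h : Rel q g k) (e : I2 k) (t : ZMod 2) (c d : C) :
    ∃ s, q 0 d * (g * q t c) * (q 0 d)⁻¹ = g * q s (c + (d + co k • d)) := by
  have := h.inv 0 d
  rw [inv_inv, map_inv, show (co k)⁻¹ • d = co k • d by rw [inv_smul_eq_iff, (e d).2]] at this
  rw [show q 0 d * (g * q t c) * (q 0 d)⁻¹ = g * (g⁻¹ * q 0 d * g * q t c * (q 0 d)⁻¹) by group,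
    this, inv_eq_of_mul_eq_one_right (a := q 0 d) (b := q (bb d d) d)
      (by rw [H.mul, cc2, zero_add, zz2, H.zero]), H.mul, H.mul,
    show co k • d + c + d = c + (d + co k • d) by abel]
  exact ⟨_, rfl⟩

theorem lift (h : G0) : ∃ a k, Rel q a k ∧ co k = h := by
  obtain ⟨k, hk⟩ := co_surj h
  obtain ⟨a, ha⟩ := H.down k
  exact ⟨a, k, ha, hk⟩

theorem liftN {h : G0} (hh : h ∈ N0) : ∃ a k, Rel q a k ∧ co k = h ∧ a * q 0 Om = q 0 Om * a := by
  obtain ⟨k, hk, e⟩ := exists_NE hh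
  obtain ⟨a, ha⟩ := H.down k
  refine ⟨a, k, ha, e, mul_inv_eq_iff_eq_mul.1 ?_⟩
  rw [ha, hk.1, hk.2, add_zero]

theorem cm_q {g : G} {k : GT} (h : Rel q g k) {t : ZMod 2} {c : C} (e : g * q t c = q t c * g) :
    co k • c = c ∧ ep k c = 0 := by
  have := H.inj ((h t c).symm.trans (mul_inv_eq_iff_eq_mul.2 e))
  exact ⟨this.2, by simpa using this.1⟩

theorem mem_N0 {g : G} {k : GT} (h : Rel q g k) (e : g * q 0 Om = q 0 Om * g) : co k ∈ N0 :=
  fix_Om.1 (H.cm_q h e).1

/-- Conjugacy in the centraliser of `y` of elements of `Q`. -/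
theorem tr (s t : ZMod 2) {c : C} (hc : c ≠ 0) (h : G0) :
    ∃ a, a * y = y * a ∧ a * q s c * a⁻¹ = q t (h • c) := by
  obtain ⟨a, k, ha, rfl⟩ := H.lift h
  rcases z2_or t (s + ep k c) with rfl | rfl
  · exact ⟨a, H.rel_cm ha, ha s c⟩
  · obtain ⟨d, hd⟩ := exists_polar_one hc
    refine ⟨a * q 0 d, H.rel_cm (ha.mul (H.rel_q 0 d)), ?_⟩
    calc _ = a * (q 0 d * q s c * (q 0 d)⁻¹) * a⁻¹ := by group
      _ = _ := by
        rw [H.cj, ha, pl_comm, show pl c d = 1 from hd, add_right_comm]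

theorem trS (s t : ZMod 2) {c d : C} (hc : IsS c) (hd : IsS d) :
    ∃ a, a * y = y * a ∧ a * q s c * a⁻¹ = q t d := by
  obtain ⟨h, e⟩ := trans_S (toS c hc) (toS d hd)
  have : h • c = d := congrArg Subtype.val e
  rw [← this]
  exact H.tr s t (isS_ne hc) h

end Sit

end H10.Mon.MG
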