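import Mathlib
import Cfsg.Agent.H19.MG6

/-!
# Fusion in a centraliser of Monster type
-/

set_option autoImplicit false
set_option linter.all false

namespace H10.Mon.MG

variable {G : Type*} [Group G]

/-- `x` is a short element of `Q`, and `γ` interchanges `y` with an element of `Q`. -/
structure Two (x y : G) (q : ZMod 2 → C → G) (γ : G) : Prop where
  s : Sit y q
  hx : q 0 c0.1 = x
  nc : ¬ IsConj x y
  gx : γ * x * γ⁻¹ = x
  gy : γ * y * γ⁻¹ = q 0 Om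
  gO : γ * q 0 Om * γ⁻¹ = y

/-- Conjugate in `C(y)` modulo `y`. -/
def Pc (y g g' : G) : Prop := ∃ a, a * y = y * a ∧ (a * g * a⁻¹ = g' ∨ a * g * a⁻¹ = g' * y)

def T2 (u v z g : G) : Prop := IsConj u g ∧ IsConj v (g * z)

theorem cj_of {a g g' : G} (h : a * g * a⁻¹ = g') : IsConj g g' := isConj_iff.2 ⟨a, h⟩

theorem cj_mul {a g z : G} (h : a * z = z * a) : a * (g * z) * a⁻¹ = a * g * a⁻¹ * z := by
  rw [← conj_mul, mul_inv_eq_iff_eq_mul.2 h]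

theorem T2.of {u v z g a : G} (h : a * z = z * a) (t : T2 u v z (a * g * a⁻¹)) : T2 u v z g :=
  ⟨t.1.trans (cj_of rfl).symm, t.2.trans (cj_of (cj_mul h)).symm⟩

theorem T2.sw {u v z g : G} (hz : z * z = 1) (t : T2 u v z (g * z)) : T2 v u z g :=
  ⟨by simpa [mul_assoc, hz] using t.2, t.1⟩

theorem Pc.t2 {u v z g g' : G} (hz : z * z = 1) (h : Pc z g g') (t : T2 u v z g') :
    T2 u v z g ∨ T2 v u z g := by
  obtain ⟨a, h1, rfl | h2⟩ := h
  · exact .inl (t.of h1)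
  · exact .inr (T2.of h1 (h2 ▸ T2.sw hz (by rwa [mul_assoc, hz, mul_one])))

theorem Pc.conj {z g g' a : G} (h1 : a * z = z * a) (h : Pc z (a * g * a⁻¹) g') : Pc z g g' := by
  obtain ⟨b, h2, h3⟩ := h
  exact ⟨b * a, by rw [mul_assoc, h1, ← mul_assoc, h2, mul_assoc], by simpa [mul_assoc] using h3⟩

theorem Pc.sq {z g g' : G} (hz : z * z = 1) (hg : g' * z = z * g') (h : Pc z g g')
    (e : g' * g' = 1) : g * g = 1 := by
  obtain ⟨a, -, h⟩ := h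
  rw [← conj_eq_one_iff (a := a), ← conj_mul]
  rcases h with h | h <;> rw [h]
  · exact e
  · rw [mul_assoc, ← mul_assoc z, ← hg, mul_assoc g', hz, mul_one, e]

theorem sq_of_cj {u g : G} (h : IsConj u g) (hu : u * u = 1) : g * g = 1 := by
  obtain ⟨a, rfl⟩ := isConj_iff.1 h
  rw [conj_mul, hu]; group

theorem I2.conj {y : G} {q : ZMod 2 → C → G} (H : Sit y q) {g a : G} {k l : GT} (h : Rel q g k)
    (ha : Rel q a l) (e : I2 k) : I2 (l * k * l⁻¹) := by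
  refine H.i2_of (ha.conj h) ?_
  rw [conj_mul]
  rcases H.i2_sq h e with e | e <;> rw [e]
  · left; group
  · right; rw [H.rel_cm ha]; group

theorem La.conj {k : GT} (l : GT) (e : La k) : La (l * k * l⁻¹) := fun c hc => by
  have h1 : co k • co l⁻¹ • c = co l⁻¹ • c := by
    rw [map_mul, map_mul, mul_smul, mul_smul] at hc
    rw [map_inv] at hc ⊢
    rw [eq_inv_smul_iff, hc]
  have h2 := ep_mul l l⁻¹ c
  rw [mul_inv_cancel, ep_one] at h2
  rw [ep_mul, ep_mul, h1, e _ h1, zero_add, ← h2]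

theorem im_fix {k : GT} (e : I2 k) (d : C) : co k • (d + co k • d) = d + co k • d := by
  rw [smul_add, (e d).2, add_comm]

theorem pl_im {s : G0} {c : C} (h : s • c = c) (d : C) : pl c (d + s • d) = 0 := by
  rw [pl_add, ← pl_smul s c d, h, zz2]

variable {x y : G} {q : ZMod 2 → C → G} {γ : G}

theorem Sit.pc {y : G} {q : ZMod 2 → C → G} (H : Sit y q) {g g' : G} {k k' : GT} (h : Rel q g k)
    (e : I2 k) {t : ZMod 2} {d : C} (h' : g' = g * q t (d + co k • d)) : Pc y g' g := by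
  obtain ⟨s, hs⟩ := H.qconj h e t (d + co k • d) d
  rw [cc2, ← h'] at hs
  refine ⟨q 0 d, H.cm _ _, ?_⟩
  rw [hs]
  rcases H.q0 s with e | e <;> rw [e]
  exacts [.inl (mul_one _), .inr rfl]

theorem Sit.pcF {y : G} {q : ZMod 2 → C → G} (H : Sit y q) {s : G0}
    (F : ∀ c : C, s • c = c → ∃ d : C, c = d + s • d) {g g' : G} {k k' : GT} (h : Rel q g k)
    (e : I2 k) (h' : Rel q g' k') (e' : I2 k') (a : Ac (co k) s) (a' : Cj (co k') s) : Pc y g' g := by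
  obtain ⟨u, hu⟩ := a'
  obtain ⟨b, l, hb, rfl⟩ := H.lift u
  refine Pc.conj (H.rel_cm hb) ?_
  obtain ⟨t, c, h2⟩ := H.same h (hb.conj h') (by
    rw [map_mul, map_mul, map_inv]; exact a.trans hu.symm)
  have := H.fix_of h e (h2 ▸ hb.conj h') (e'.conj H h' hb)
  obtain ⟨d, rfl⟩ := F c (by rw [← a, this])
  exact H.pc (k' := k) h e (by rw [h2, a])

namespace Two

variable (H : Two x y q γ)
include H

theorem yO : IsConj y (q 0 Om) := cj_of H.gy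

theorem view : Two x (q 0 Om) (fun t c => γ * q t c * γ⁻¹) γ where
  s := H.gy ▸ H.s.view γ
  hx := by rw [H.hx, H.gx]
  nc h := H.nc (h.trans H.yO.symm)
  gx := H.gx
  gy := rfl
  gO := by rw [H.gO, H.gy]

theorem xx : x * x = 1 := H.hx ▸ H.s.sq0 0 (bb_S c0)

theorem x_ne : x ≠ 1 := fun h =>
  isS_ne (isS_val c0) (H.s.inj (H.hx.trans (h.trans H.s.zero.symm))).2

theorem nAB {g : G} (a : IsConj x g) (b : IsConj y g) : False := H.nc (a.trans b.symm)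

theorem qA (s : ZMod 2) {c : C} (h : IsS c) : IsConj x (q s c) := by
  obtain ⟨a, -, e⟩ := H.s.trS 0 s (isS_val c0) h
  exact cj_of (H.hx ▸ e)

theorem qB (s : ZMod 2) {c : C} (h0 : c ≠ 0) (h1 : bb c c = 0) (h2 : ¬ IsS c) :
    IsConj y (q s c) := by
  obtain ⟨h, rfl⟩ := typ4 h0 h1 h2
  obtain ⟨a, -, e⟩ := H.s.tr 0 s Om_ne_zero h
  exact H.yO.trans (cj_of e)

theorem bb_of {s : ZMod 2} {c : C} (h : q s c * q s c = 1) : bb c c = 0 := by
  rw [H.s.sq, ← H.s.zero] at h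
  exact (H.s.inj h).1

theorem isS_of {s : ZMod 2} {c : C} (h : IsConj x (q s c)) : IsS c := by
  by_contra hc
  refine H.nAB h (H.qB s ?_ (H.bb_of (sq_of_cj h H.xx)) hc)
  rintro rfl
  rcases H.s.q0 s with e | e <;> rw [e] at h
  exacts [H.x_ne (isConj_one_left.1 h), H.nc h]

theorem cmO {a : G} (h : a * y = y * a) : a * (γ * q 0 Om * γ⁻¹) = γ * q 0 Om * γ⁻¹ * a := by
  rw [H.gO, h]

theorem two {a : G} (h : a * y = y * a) (h' : a * q 0 Om = q 0 Om * a) :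
    ∃ k, Rel (fun t c => γ * q t c * γ⁻¹) a k ∧ co k ∈ N0 := by
  obtain ⟨k, hk⟩ := H.view.s.up a h'
  exact ⟨k, hk, H.view.s.mem_N0 hk (H.cmO h)⟩

theorem mulO (t : ZMod 2) (c : C) : γ * q t c * γ⁻¹ * y = γ * q (t + bb c Om) (c + Om) * γ⁻¹ := by
  rw [← H.gO, conj_mul, H.s.mul, add_zero]

theorem shared (s : ZMod 2) {c : C} (hc : Sh0 c) :
    ∃ t d, Sh0 d ∧ q s c = γ * q t d * γ⁻¹ := by
  obtain ⟨h, hh, e⟩ := trans_N0 (c := c0) (d := toS c hc.1) (by simp [c0_fst, hc.2])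
    (by simp [c0_fst, hc.2])
  obtain ⟨a, k, ha, rfl, h2⟩ := H.s.liftN hh
  obtain ⟨l, hl, h3⟩ := H.two (H.s.rel_cm ha) h2
  have e1 := ha 0 c0.1
  have e2 := hl 0 c0.1
  beta_reduce at e2
  rw [show co k • c0.1 = c from congrArg Subtype.val e, H.hx] at e1
  rw [H.hx, H.gx, e1] at e2
  rcases H.s.or_y s (0 + ep k c0.1) c with e | e
  · exact ⟨_, _, sh0_c0.smul h3, e.trans e2⟩
  · exact ⟨_, _, sh0_Om (sh0_c0.smul h3), by rw [e, e2, H.mulO]⟩

theorem gg : ∃ k, Rel q (γ * γ) k ∧ co k ∈ N0 := by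
  have e : ∀ u : G, γ * γ * u * (γ * γ)⁻¹ = γ * (γ * u * γ⁻¹) * γ⁻¹ := fun u => by group
  obtain ⟨k, hk⟩ := H.s.up (γ * γ) (mul_inv_eq_iff_eq_mul.1 (by rw [e, H.gy, H.gO]))
  exact ⟨k, hk, H.s.mem_N0 hk (mul_inv_eq_iff_eq_mul.1 (by rw [e, H.gO, H.gy]))⟩

theorem shared' (s : ZMod 2) {c : C} (hc : Sh0 c) :
    ∃ t d, Sh0 d ∧ γ * q s c * γ⁻¹ = q t d := by
  obtain ⟨t, d, hd, e⟩ := H.shared s hc
  obtain ⟨k, hk, h⟩ := H.gg
  exact ⟨_, _, hd.smul h, by rw [← hk t d, e]; group⟩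

theorem shared0 (s : ZMod 2) {c : C} (hc : c.1 = 0) :
    ∃ t d, d.1 = 0 ∧ q s c = γ * q t d * γ⁻¹ := by
  refine span_sh0
    { carrier := {c | ∀ s, ∃ t d, d.1 = 0 ∧ q s c = γ * q t d * γ⁻¹}
      zero_mem' := fun s => ?_
      add_mem' := fun {a b} ha hb s => ?_
      neg_mem' := fun {a} ha => by rwa [neg_eq_iff_add_eq_zero.2 (cc2 a)] }
    (fun c h s => (H.shared s h).imp fun t h => h.imp fun d h => ⟨h.1.2, h.2⟩) hc s
  · obtain ⟨t, d, h1, h2⟩ := ha (s + bb a b)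
    obtain ⟨t', d', h3, h4⟩ := hb 0
    refine ⟨t + t' + bb d d', d + d', by rw [Prod.fst_add, h1, h3, add_zero], ?_⟩
    rw [← H.s.mul, ← conj_mul, ← h2, ← h4, H.s.mul, add_zero, add_assoc, zz2, add_zero]
  · rcases H.s.q0 s with e | e <;> rw [e]
    exacts [⟨0, 0, rfl, by rw [H.s.zero]; group⟩, ⟨0, Om, Om_fst, H.gO.symm⟩]

theorem near {s t : ZMod 2} {a b : C} (e : γ * q s a * γ⁻¹ = q t b) {h : G} {k l : GT}
    (hk : Rel q h k) (hl : Rel (fun t c => γ * q t c * γ⁻¹) h l) (f : Fm (co l) a) :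
    Fm (co k) b := by
  have k1 : ∀ r, ∃ u, γ * q r a * γ⁻¹ = q u b ∨ γ * q r a * γ⁻¹ = q u (b + Om) := fun r => by
    rcases H.view.s.or_y r s a with h | h <;> beta_reduce at h <;> rw [h, e]
    exacts [⟨_, .inl rfl⟩, ⟨_, .inr (H.s.mul _ _ _ _)⟩]
  have e1 := hl s a
  beta_reduce at e1
  rw [e, hk] at e1
  rcases f with f | f <;> rw [f] at e1
  · obtain ⟨u, h | h⟩ := k1 (s + ep l a) <;> rw [h] at e1
    exacts [.inl (H.s.inj e1).2, .inr (H.s.inj e1).2]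
  · have := H.mulO (s + ep l a + bb a Om) a
    rw [add_assoc _ (bb a Om), zz2, add_zero, ← e1] at this
    obtain ⟨u, h | h⟩ := k1 (s + ep l a + bb a Om) <;> rw [h, H.s.mul_y] at this
    exacts [.inl (H.s.inj this).2.symm, .inr (H.s.inj this).2.symm]

theorem tri {h : G} {k l : GT} (hk : Rel q h k) (hl : Rel (fun t c => γ * q t c * γ⁻¹) h l)
    (f : Tri3 (co l)) : Tri3 (co k) := by
  obtain ⟨a, b, h1, h2, h3, h4, h5⟩ := f
  obtain ⟨s, a', a1, a2⟩ := H.shared' 0 h1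
  obtain ⟨t, b', b1, b2⟩ := H.shared' 0 h2
  obtain ⟨u, c', c1, c2⟩ := H.shared' (0 + 0 + bb a b) h3
  rw [← H.s.mul, ← conj_mul, a2, b2, H.s.mul] at c2
  exact ⟨a', b', a1, b1, (H.s.inj c2).2 ▸ c1, H.near a2 hk hl h4, H.near b2 hk hl h5⟩

theorem fm {s : ZMod 2} {e : C} {k : GT} (hk : Rel q (γ * q s e * γ⁻¹) k) {c : C} (hc : Sh0 c) :
    Fm (co k) c := by
  obtain ⟨t, d, -, e⟩ := H.shared 0 hc
  exact H.near e.symm hk (H.view.s.rel_q _ _) (.inl (by rw [co_qe, one_smul]))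

theorem ab2 (s : ZMod 2) {e : C} (h : IsS e) (h1 : e.1 ≠ 0) (h2 : e.1 11 = 0) :
    T2 x y y (γ * q s e * γ⁻¹) := by
  refine ⟨H.view.qA s h, ?_⟩
  rw [H.mulO]
  refine H.yO.trans (H.view.qB _ (fun e0 => h1 ?_) ?_ (sh2_Om h h1 h2))
  · rw [add_eq_zero_C.1 e0, Om_fst]
  · rw [bb_add_self, bb_isS h, bb_fst Om_fst, pl_Om, h2]; rfl

theorem nofl {g : G} (h : T2 x y y g) (f : IsConj g (g * y)) : False :=
  H.nAB (h.1.trans f) h.2

theorem ev_cm (s : ZMod 2) {e : C} (h : e.1 11 = 0) :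
    γ * q s e * γ⁻¹ * y = y * (γ * q s e * γ⁻¹) := by
  have := H.view.s.cj s 0 Om e
  beta_reduce at this
  rw [pl_Om, h, add_zero, H.gO] at this
  exact mul_inv_eq_iff_eq_mul.1 this

theorem O_ne : q 0 Om ≠ 1 ∧ q 0 Om ≠ y :=
  ⟨fun h => Om_ne_zero (H.s.inj (h.trans H.s.zero.symm)).2,
    fun h => Om_ne_zero (H.s.inj (h.trans H.s.one.symm)).2⟩

theorem notQ {s t : ZMod 2} {e c : C} (h : IsS e) (h1 : e.1 ≠ 0) (h2 : e.1 11 = 0) :
    γ * q s e * γ⁻¹ ≠ q t c := fun e0 => by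
  have := H.ab2 s h h1 h2
  rw [e0] at this
  have h3 := this.2
  rw [H.s.mul_y] at h3
  exact H.nAB (H.qA _ (H.isS_of this.1)) h3

end Two

end H10.Mon.MG
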