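import Mathlib
import Cfsg.Agent.H19.MG7

/-!
# The involutions of the centraliser
-/

set_option autoImplicit false
set_option linter.all false

namespace H10.Mon.MG

variable {G : Type*} [Group G] {x y : G} {q : ZMod 2 → C → G} {γ : G} {eO eD s0 : G0}

/-- The standard element over `eO`. -/
structure Hq (q : ZMod 2 → C → G) (γ : G) (eO : G0) (h : G) (k : GT) (s : ZMod 2) (e : C) : Prop where
  rel : Rel q h k
  ac : Ac (co k) eO
  eq : h = γ * q s e * γ⁻¹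
  h0 : IsS e
  h1 : e.1 ≠ 0
  h2 : e.1 11 = 0

theorem Cj.of {a b : G0} (h : Ac a b) : Cj a b := ⟨1, by simpa using h⟩

namespace Two

variable (H : Two x y q γ) (L : LF eO eD s0)
include H

theorem sq2 (s : ZMod 2) {e : C} (h : bb e e = 0) : γ * q s e * γ⁻¹ * (γ * q s e * γ⁻¹) = 1 :=
  H.view.s.sq0 s h

theorem la_of {g : G} {k : GT} (hk : Rel q g k) (h : T2 x y y g ∨ T2 y x y g) : La k := fun c hc => by
  rcases z2 (ep k c) with e | e
  · exact e
  · have := H.s.flip hk hc e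
    rcases h with h | h
    exacts [(H.nofl h this).elim, (H.nAB h.2 (h.1.trans this)).elim]

include L

theorem flD {g : G} {k : GT} (hk : Rel q g k) (e : I2 k) (h : Cj (co k) eD) : IsConj g (g * y) := by
  obtain ⟨u, hu⟩ := h
  obtain ⟨b, l, hb, rfl⟩ := H.s.lift u
  obtain ⟨d, hd⟩ := L.dP
  have e' := e.conj H.s hk hb
  have := H.s.flip (hb.conj hk) (im_fix e' d) (by
    rw [e'.ep_im, map_mul, map_mul, map_inv, hu, hd])
  rw [← cj_mul (H.s.rel_cm hb)] at this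
  exact (cj_of rfl).trans (this.trans (cj_of rfl).symm)

theorem exists_h : ∃ h k s e, Hq q γ eO h k s e := by
  obtain ⟨e, h0, h1, h2⟩ := exists_sh2
  obtain ⟨k, hk⟩ := H.s.up _ (H.ev_cm 0 h2)
  have cO : γ * q 0 e * γ⁻¹ * q 0 Om = q 0 Om * (γ * q 0 e * γ⁻¹) := H.view.s.cm 0 e
  rcases L.sgn _ (H.s.mem_N0 hk cO) fun c hc => H.fm hk hc with h | ⟨u, hu, h⟩ | ⟨u, -, h⟩
  · obtain ⟨t, c, h⟩ := H.s.inQ hk h
    exact (H.notQ h0 h1 h2 h).elim
  · obtain ⟨a, l, ha, rfl, h3⟩ := H.s.liftN hu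
    obtain ⟨m, hm, h4⟩ := H.two (H.s.rel_cm ha) h3
    exact ⟨_, _, _, _, ha.conj hk, by rwa [map_mul, map_mul, map_inv], hm 0 e, h0.smul _,
      fun h => h1 (N0_inv_fst h4 h), by rw [odd_smul h4, h2]⟩
  · exact (H.nofl (H.ab2 0 h0 h1 h2)
      (H.flD L hk (H.s.i2_of hk (.inl (H.sq2 0 (bb_isS h0)))) ⟨u, h⟩)).elim

variable {h : G} {kh : GT} {sh : ZMod 2} {e : C} (P : Hq q γ eO h kh sh e)
include P
omit L

theorem h_ab : T2 x y y h := P.eq ▸ H.ab2 sh P.h0 P.h1 P.h2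
theorem h_sq : h * h = 1 := P.eq ▸ H.sq2 sh (bb_isS P.h0)
theorem h_i2 : I2 kh := H.s.i2_of P.rel (.inl (H.h_sq P))
theorem h_la : La kh := H.la_of P.rel (.inl (H.h_ab P))

theorem decO {g : G} {k : GT} (hk : Rel q g k) (i : I2 k) (a : Ac (co k) eO) :
    ∃ t c, g = h * q t c ∧ eO • c = c ∧ (∀ d, eO • d = d → ep k d = pl c d) ∧
      g * g = q (bb c c) 0 := by
  obtain ⟨t, c, rfl⟩ := H.s.same P.rel hk (P.ac.trans a.symm)
  have f := H.s.fix_of P.rel (H.h_i2 P) hk i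
  refine ⟨t, c, rfl, by rw [← P.ac, f], fun d hd => ?_, ?_⟩
  · rw [(H.s.rel_uniq hk (P.rel.mul (H.s.rel_q t c)) d).1, ep_mul, ep_qe, co_qe, one_smul,
      H.h_la P d (by rw [P.ac, hd]), add_zero]; rfl
  · have := P.rel t c
    rw [f, H.h_la P c f, add_zero, mul_inv_eq_iff_eq_mul] at this
    rw [mul_assoc, ← mul_assoc (q t c), ← this, mul_assoc, ← mul_assoc h, H.h_sq P, one_mul, H.s.sq]

include L

theorem laO {g : G} {k : GT} (hk : Rel q g k) (i : I2 k) (a : Ac (co k) eO) (l : La k) :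
    ∃ t d, g = h * q t (d + co kh • d) := by
  obtain ⟨t, c, e1, e2, e3, -⟩ := H.decO P hk i a
  obtain ⟨d, rfl⟩ := L.oI c e2 fun d hd => by rw [← e3 d hd, l d (by rw [a, hd])]
  exact ⟨t, d, by rw [e1, P.ac]⟩

theorem pc_h {g : G} {k : GT} (hk : Rel q g k) (i : I2 k) (a : Cj (co k) eO) (l : La k) :
    Pc y g h := by
  obtain ⟨u, hu⟩ := a
  obtain ⟨b, m, hb, rfl⟩ := H.s.lift u
  obtain ⟨t, d, e1⟩ := H.laO L P (hb.conj hk) (i.conj H.s hk hb)
    (by rwa [map_mul, map_mul, map_inv]) (l.conj m)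
  exact (H.s.pc (k' := kh) P.rel (H.h_i2 P) e1).conj (H.s.rel_cm hb)

theorem cenO {u : G0} (hu : Ac (u * eO * u⁻¹) eO) : ∃ a l t d, Rel q a l ∧ co l = u ∧
    a * h * a⁻¹ = h * q t (d + co kh • d) := by
  obtain ⟨a, l, ha, rfl⟩ := H.s.lift u
  obtain ⟨t, d, e1⟩ := H.laO L P (ha.conj P.rel) ((H.h_i2 P).conj H.s P.rel ha)
    (by rw [map_mul, map_mul, map_inv]; exact (P.ac.conj _).trans hu) ((H.h_la P).conj l)
  exact ⟨a, l, t, d, ha, rfl, e1⟩

omit L in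
theorem bb2 {g : G} {t : ZMod 2} {f : C} (e1 : g = γ * q t f * γ⁻¹) (h1 : f.1 ≠ 0) (h2 : f.1 11 = 0)
    (h3 : g * g = 1) (fl : IsConj g (g * y)) : T2 y y y g := by
  subst e1
  have : IsConj y (γ * q t f * γ⁻¹) := H.yO.trans (H.view.qB t (fun e => h1 (by rw [e]; rfl))
    (H.view.bb_of h3) fun hs => H.nofl (H.ab2 t hs h1 h2) fl)
  exact ⟨this, this.trans fl⟩

theorem bbO {g : G} {k : GT} (hk : Rel q g k) (a : Cj (co k) eO) (l : ¬ La k) (sq : g * g = 1) :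
    T2 y y y g := by
  have fl : IsConj g (g * y) := by
    simp only [La, not_forall] at l
    obtain ⟨c, h1, h2⟩ := l
    exact H.s.flip hk h1 ((z2 _).resolve_left h2)
  have key : ∀ {a g' : G}, a * y = y * a → a * g * a⁻¹ = g' → (g' * g' = 1 → IsConj g' (g' * y) →
      T2 y y y g') → T2 y y y g := fun {a g'} h1 h2 h3 => by
    subst h2
    refine T2.of h1 (h3 (by rw [conj_mul, sq]; group) ?_)
    rw [← cj_mul h1]
    exact (cj_of rfl).symm.trans (fl.trans (cj_of rfl))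
  obtain ⟨u, hu⟩ := a
  obtain ⟨b, m, hb, rfl⟩ := H.s.lift u
  obtain ⟨t, c, e1, e2, -, e4⟩ := H.decO P (hb.conj hk)
    ((H.s.i2_of hk (.inl sq)).conj H.s hk hb) (by rwa [map_mul, map_mul, map_inv])
  rw [conj_mul, sq, mul_one, mul_inv_cancel, ← H.s.zero] at e4
  obtain ⟨v, d, h1, h2⟩ := L.oT c e2 (H.s.inj e4).1.symm
  obtain ⟨a, l', t', d', ha, rfl, e5⟩ := H.cenO L P h1
  obtain ⟨s, e6⟩ := H.s.qconj P.rel (H.h_i2 P) (t' + (t + ep l' c) + bb (d' + co kh • d') (co l' • c))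
    (d' + co kh • d' + co l' • c) (d + d')
  rw [show d' + co kh • d' + co l' • c + (d + d' + co kh • (d + d')) = co l' • c + (d + eO • d) by
    rw [smul_add, ← P.ac d]
    linear_combination (exp := 1) cc2 d' + cc2 (co kh • d')] at e6
  obtain ⟨r, f, h3, h4⟩ := H.shared0 s h2
  rw [← H.s.mul, ← mul_assoc h, ← e5, ← ha, conj_mul, ← e1, h4] at e6
  conv at e6 => rhs; rw [P.eq, conj_mul, H.s.mul]
  refine key (a := q 0 (d + d') * a * b) (H.s.rel_cm (((H.s.rel_q _ _).mul ha).mul hb))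
    (by rw [← e6]; group) fun k1 k2 => H.bb2 P rfl ?_ ?_ k1 k2
  · rw [Prod.fst_add, h3, add_zero]; exact P.h1
  · rw [Prod.fst_add, h3, add_zero]; exact P.h2

theorem exD : ∃ g k, Rel q g k ∧ Ac (co k) eD ∧ I2 k ∧ T2 y y y g := by
  obtain ⟨u, hu, h1⟩ := L.dO
  obtain ⟨w, w1, w2⟩ := L.dW
  obtain ⟨a, l, ha, rfl, h3⟩ := H.s.liftN hu
  obtain ⟨m, hm, h4⟩ := H.two (H.s.rel_cm ha) h3
  have r := P.rel.mul (ha.conj P.rel)
  have ac : Ac (co (kh * (l * kh * l⁻¹))) eD := fun c => by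
    rw [h1, map_mul, map_mul, map_mul, map_inv, mul_smul, P.ac, mul_smul eO, P.ac.conj]
  have nO : w + Om ≠ w := fun h => Om_ne_zero (by simpa using h)
  have fin : ∀ {g k t f}, Rel q g k → Ac (co k) eD → g = γ * q t f * γ⁻¹ → f.1 11 = 0 → bb f f = 0 →
      ∃ g k, Rel q g k ∧ Ac (co k) eD ∧ I2 k ∧ T2 y y y g := fun {g k t f} k1 k2 k3 k4 k5 => by
    have sq : g * g = 1 := k3 ▸ H.sq2 t k5
    have i := H.s.i2_of k1 (.inl sq)
    refine ⟨g, k, k1, k2, i, H.bb2 P k3 (fun f0 => ?_) k4 sq (H.flD L k1 i (.of k2))⟩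
    obtain ⟨t', f', -, e'⟩ := H.view.shared0 t f0
    beta_reduce at e'
    obtain ⟨k', hk', -⟩ := H.gg
    have : g = q (t' + ep k' f') (co k' • f') := by rw [k3, e', ← hk']; group
    have := (H.s.rel_uniq k1 (this ▸ H.s.rel_q _ _) w).2
    rw [k2, w2, co_qe, one_smul] at this
    exact nO this
  have e1 := hm sh e
  beta_reduce at e1
  rw [← P.eq] at e1
  have e2 : h * (a * h * a⁻¹) = γ * q (sh + (sh + ep m e) + bb e (co m • e)) (e + co m • e) * γ⁻¹ := by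
    rw [e1, ← H.s.mul, ← conj_mul, ← P.eq]
  have ev : (e + co m • e).1 11 = 0 := by
    rw [Prod.fst_add, Pi.add_apply, odd_smul h4, zz2]
  rcases z2 (bb (e + co m • e) (e + co m • e)) with b | b
  · exact fin r ac e2 ev b
  · obtain ⟨t, w', w3, w4⟩ := H.shared 0 w1
    have e3 := r 0 w
    have e4 := H.view.s.cj (sh + (sh + ep m e) + bb e (co m • e)) t w' (e + co m • e)
    beta_reduce at e4
    rw [← e2, ← w4, e3, ac, w2] at e4
    obtain ⟨t5, e5⟩ : ∃ t, h * (a * h * a⁻¹) * q 0 w = γ * q t (e + co m • e + w') * γ⁻¹ :=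
      ⟨_, by rw [e2, w4, conj_mul, H.s.mul]⟩
    refine fin (r.mul (H.s.rel_q 0 w)) (fun c => by rw [map_mul, co_qe, mul_one, ac]) e5 ?_ ?_
    · rw [Prod.fst_add, w3.2, add_zero, ev]
    · rw [bb_add_self, b, bb_fst w3.2]
      rcases z2 (pl (e + co m • e) w') with p | p <;> rw [p] at e4 ⊢
      · rw [add_zero, ← w4] at e4
        exact (nO (H.s.inj e4).2).elim
      · rfl

theorem bbD {g : G} {k : GT} (hk : Rel q g k) (i : I2 k) (a : Cj (co k) eD) : T2 y y y g := by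
  obtain ⟨g0, k0, h1, h2, h3, h4⟩ := H.exD L P
  exact ((H.s.pcF L.dF h1 h3 hk i h2 a).t2 H.s.yy h4).elim id id

omit P in
theorem t4S {g : G} {k : GT} (hk : Rel q g k) (i : I2 k) (a : Cj (co k) s0) : g * g = y := by
  refine (H.s.i2_sq hk i).resolve_left fun sq => ?_
  obtain ⟨u, hu⟩ := a
  obtain ⟨b, m, hb, rfl⟩ := H.s.lift u
  have r := hb.conj hk
  have i' := i.conj H.s hk hb
  have a' : Ac (co (m * k * m⁻¹)) s0 := by rwa [map_mul, map_mul, map_inv]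
  have sq' : b * g * b⁻¹ * (b * g * b⁻¹) = 1 := by rw [conj_mul, sq]; group
  generalize b * g * b⁻¹ = g at r sq'
  generalize m * k * m⁻¹ = k at r i' a'
  obtain ⟨w, w1, w2⟩ := L.sW
  have fin : ∀ {g' k'}, Rel q g' k' → Ac (co k') s0 → g' * g' ≠ q 0 Om := fun {g' k'} r' a2 e => by
    have cO : g' * q 0 Om = q 0 Om * g' := by rw [← e, mul_assoc]
    obtain ⟨l, hl, h1⟩ := H.two (H.s.rel_cm r') cO
    have i2 := H.view.s.i2_of hl (.inr e)
    obtain ⟨h, kh, sh, e', P⟩ := H.view.exists_h L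
    rcases L.clsN _ h1 (fun c => (i2 c).2) with h2 | h2 | h2
    · obtain ⟨a, b, t1, t2, t3, t4, t5⟩ := H.tri r' hl h2
      exact L.sT ⟨a, b, t1, t2, t3, by rwa [Fm, ← a2], by rwa [Fm, ← a2]⟩
    · exact H.O_ne.1 (e.symm.trans
        (sq_of_cj (H.view.bbD L P hl i2 h2).1 H.view.s.yy))
    · have := (H.s.pcF L.sF r i' ((Rel.view γ).1 hl) i2 a' h2).sq H.s.yy (H.s.rel_cm r) sq'
      refine H.O_ne.1 ?_
      rw [← e, ← conj_eq_one_iff (a := γ⁻¹), ← conj_mul, inv_inv, this]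
  have e1 := H.s.sq_mul r 0 w
  rw [sq', one_mul, map_inv, show (co k)⁻¹ • w = w + Om by
    rw [inv_smul_eq_iff, ← w2, ← a', (i' w).2], show w + Om + w = Om by
    rw [add_right_comm, cc2, zero_add]] at e1
  have r2 := r.mul (H.s.rel_q 0 w)
  have a2 : Ac (co (k * qe 0 w)) s0 := fun c => by rw [map_mul, co_qe, mul_one, a']
  rcases z2 (ep k⁻¹ w + bb (w + Om) w) with e2 | e2 <;> rw [e2] at e1
  · exact fin r2 a2 e1
  · obtain ⟨d, hd⟩ := exists_polar_one Om_ne_zero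
    refine fin ((H.s.rel_q 0 d).conj r2) (fun c => ?_) ?_
    · rw [map_mul, map_mul, map_inv, co_qe, one_mul, inv_one, mul_one, a2]
    · rw [conj_mul, e1, H.s.cj, pl_comm, show pl Om d = 1 from hd, z11]

theorem cls {g : G} (hy : g * y = y * g) (sq : g * g = 1) :
    (∃ t c, g = q t c) ∨ Pc y g h ∨ T2 y y y g := by
  obtain ⟨k, hk⟩ := H.s.up g hy
  have i := H.s.i2_of hk (.inl sq)
  rcases L.cls _ (fun c => (i c).2) with a | a | a | a
  · exact .inl (H.s.inQ hk a)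
  · by_cases l : La k
    exacts [.inr (.inl (H.pc_h L P hk i a l)), .inr (.inr (H.bbO L P hk a l sq))]
  · exact .inr (.inr (H.bbD L P hk i a))
  · exact (H.s.y_ne ((H.t4S L hk i a).symm.trans sq)).elim

end Two

end H10.Mon.MG
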