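import Mathlib
import Cfsg.Agent.H19.MG5
import Cfsg.Agent.H19.MG8

/-!
# Sylow arguments; pairs of commuting involutions
-/

set_option autoImplicit false
set_option linter.all false

namespace H10.Mon.MG

variable {G : Type*} [Group G] {x y : G} {q : ZMod 2 → C → G} {γ : G} {eO eD s0 : G0}

theorem pg_of {P : Subgroup G} (n : ℕ) (h : ∀ g ∈ P, g ^ 2 ^ n = 1) : IsPGroup 2 P :=
  fun g => ⟨n, Subtype.ext (h g g.2)⟩

theorem pg_zp {s : G} (h : s * s = 1) : IsPGroup 2 (Subgroup.zpowers s) := pg_of 1 fun g hg => by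
  rcases mem_zpowers_invol h hg with rfl | rfl
  exacts [one_pow _, by rw [pow_one, pow_two, h]]

namespace Sit

variable (H : Sit y q)
include H

theorem q_inv (t : ZMod 2) (c : C) : (q t c)⁻¹ = q (t + bb c c) c :=
  inv_eq_of_mul_eq_one_right (by
    rw [H.mul, cc2, ← add_assoc, zz2, zero_add, zz2, H.zero])

theorem q4 (t : ZMod 2) (c : C) : q t c ^ 2 ^ 2 = 1 := by
  rw [show 2 ^ 2 = 2 * 2 from rfl, pow_mul, pow_two, pow_two, H.sq, H.sq0 _ (bb_zero_left _)]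

/-- The extraspecial group. -/
def Q : Subgroup G where
  carrier := {g | ∃ t c, g = q t c}
  one_mem' := ⟨0, 0, H.zero.symm⟩
  mul_mem' := by
    rintro _ _ ⟨s, c, rfl⟩ ⟨t, d, rfl⟩
    exact ⟨_, _, H.mul _ _ _ _⟩
  inv_mem' := by
    rintro _ ⟨s, c, rfl⟩
    exact ⟨_, _, H.q_inv _ _⟩

theorem pgQ : IsPGroup 2 H.Q := pg_of 2 (by rintro _ ⟨s, c, rfl⟩; exact H.q4 _ _)

theorem syl [Finite G] {P : Subgroup G} (hP : IsPGroup 2 P) :
    ∃ n, ∀ p ∈ P, n * p * n⁻¹ * y = y * (n * p * n⁻¹) := by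
  obtain ⟨n, -, h⟩ := odd_idx (H := Subgroup.centralizer {y}) (L := ⊤) H.pgQ
    (by rintro _ ⟨s, c, rfl⟩; exact Subgroup.mem_centralizer_singleton_iff.2 (H.cm _ _)) le_top
    (fun n _ T h1 h2 h3 => by
      rcases H.cent (n⁻¹ * y * n) fun t c => by
        have := Subgroup.mem_centralizer_singleton_iff.1 (h2 (h3 _ (h1 ⟨t, c, rfl⟩)))
        calc _ = n⁻¹ * (y * (n * q t c * n⁻¹)) * n := by group
          _ = _ := by rw [← this]; group
        with e | e
      · exact (H.y_ne (by rw [← conj_eq_one_iff (a := n⁻¹), inv_inv, e])).elim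
      · rw [Subgroup.mem_centralizer_singleton_iff]
        conv_lhs => rw [← e]
        group) hP le_top
  exact ⟨n, fun p hp => Subgroup.mem_centralizer_singleton_iff.1 (h p hp)⟩

end Sit

/-- `x` is a short element of `Q`. -/
structure One (x y : G) (q : ZMod 2 → C → G) : Prop where
  s : Sit y q
  hx : q 0 c0.1 = x
  nc : ¬ IsConj x y

theorem Two.one (H : Two x y q γ) : One x y q := ⟨H.s, H.hx, H.nc⟩

namespace One

variable (H : One x y q)
include H

theorem xx : x * x = 1 := H.hx ▸ H.s.sq0 0 (bb_S c0)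

theorem x_ne : x ≠ 1 := fun h =>
  isS_ne (isS_val c0) (H.s.inj (H.hx.trans (h.trans H.s.zero.symm))).2

theorem xy : x * y = y * x := H.hx ▸ H.s.cm _ _

theorem qA (s : ZMod 2) {c : C} (h : IsS c) : IsConj x (q s c) := by
  obtain ⟨a, -, e⟩ := H.s.trS 0 s (isS_val c0) h
  exact cj_of (H.hx ▸ e)

theorem A_yx : IsConj x (y * x) := by
  have := H.qA (0 + 1) (isS_val c0)
  rwa [← H.s.y_mul, H.hx] at this

theorem mul_x (t : ZMod 2) (c : C) : q t c * x = q (t + bb c c0.1) (c + c0.1) := by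
  rw [← H.hx, H.s.mul, add_zero]

theorem cm_x {t : ZMod 2} {c : C} : q t c * x = x * q t c ↔ pl c c0.1 = 0 := by
  rw [← mul_inv_eq_iff_eq_mul, ← H.hx, H.s.cj, zero_add]
  exact ⟨fun h => (H.s.inj h).1, fun h => by rw [h]⟩

theorem eq_y {u : G} (h : IsConj y u) (e : u = 1 ∨ u = y ∨ u = x ∨ u = y * x) : u = y := by
  rcases e with rfl | rfl | rfl | rfl
  exacts [(H.s.y_ne (isConj_one_left.1 h)).elim, rfl, (H.nc h.symm).elim,
    (H.nc (H.A_yx.trans h.symm)).elim]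

theorem cent {u : G} (h : ∀ s d, pl d c0.1 = 0 → u * q s d * u⁻¹ = q s d ∨ u * q s d * u⁻¹ = q s d * x)
    (hx : u * x = x * u) : u = 1 ∨ u = y ∨ u = x ∨ u = y * x := by
  have := h 1 0 (by rw [pl_comm, pl_zero])
  rw [H.s.one] at this
  obtain ⟨k, hk⟩ := H.s.up u (mul_inv_eq_iff_eq_mul.1 (H.eq_y (cj_of rfl) (by tauto)))
  have h1 := center_of_perp (H.s.cm_q hk (H.hx ▸ hx)).1 fun d hd => by
    rcases h 0 d hd with e | e <;> rw [hk] at e
    · exact .inl (H.s.inj e).2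
    · rw [H.mul_x] at e; exact .inr (H.s.inj e).2
  obtain ⟨t, c, rfl⟩ := H.s.inQ hk fun c => by
    rcases mem_center_G0.1 h1 with e | e <;> rw [e]
    rw [neg1_smul_C, one_smul]
  rcases perp_perp (e := c) fun d hd => by
    rcases h 0 d hd with e | e <;> rw [H.s.cj, zero_add] at e
    · exact (H.s.inj e).1
    · rw [H.mul_x] at e
      exact (isS_ne (isS_val c0) (by simpa using (H.s.inj e).2)).elim
    with rfl | rfl
  · rcases H.s.q0 t with e | e <;> simp [e]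
  · rcases H.s.or_y t 0 c0.1 with e | e <;> rw [e, H.hx] <;> simp [H.xy]

theorem syl [Finite G] {P : Subgroup G} (hP : IsPGroup 2 P) (hx : ∀ p ∈ P, p * x = x * p) :
    ∃ n, n * x = x * n ∧ ∀ p ∈ P, n * p * n⁻¹ * y = y * (n * p * n⁻¹) := by
  obtain ⟨n, h0, h⟩ := odd_idx (Q := H.s.Q ⊓ Subgroup.centralizer {x})
    (H := Subgroup.centralizer {y} ⊓ Subgroup.centralizer {x}) (L := Subgroup.centralizer {x})
    (H.s.pgQ.to_le inf_le_left) (inf_le_inf_right _ (by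
      rintro _ ⟨s, c, rfl⟩; exact Subgroup.mem_centralizer_singleton_iff.2 (H.s.cm _ _)))
    inf_le_right (fun n hn T h1 h2 h3 => by
      refine ⟨?_, hn⟩
      have hn := Subgroup.mem_centralizer_singleton_iff.1 hn
      have := H.eq_y (u := n⁻¹ * y * n) (cj_of (a := n⁻¹) (by rw [inv_inv])) (H.cent (fun t c hc => .inl (by
        have := Subgroup.mem_centralizer_singleton_iff.1 (h2 (h3 _ (h1 ⟨⟨t, c, rfl⟩,
          Subgroup.mem_centralizer_singleton_iff.2 (H.cm_x.2 hc)⟩))).1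
        rw [mul_inv_eq_iff_eq_mul]
        calc _ = n⁻¹ * (y * (n * q t c * n⁻¹)) * n := by group
          _ = _ := by rw [← this]; group))
        (show Commute _ x from ((show Commute n x from hn).inv_left.mul_left
          (show Commute y x from H.xy.symm)).mul_left hn))
      refine Subgroup.mem_centralizer_singleton_iff.2 ?_
      conv_lhs => rw [← this]
      group) hP fun p hp => Subgroup.mem_centralizer_singleton_iff.2 (hx p hp)
  exact ⟨n, Subgroup.mem_centralizer_singleton_iff.1 h0,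
    fun p hp => Subgroup.mem_centralizer_singleton_iff.1 (h p hp).1⟩

theorem liftX {h : G0} (e : h • c0.1 = c0.1) : ∃ a k, Rel q a k ∧ co k = h ∧ a * x = x * a := by
  obtain ⟨k, rfl, hk⟩ := exists_lift (τ := tau) e
  obtain ⟨a, ha⟩ := H.s.down k
  refine ⟨a, k, ha, rfl, mul_inv_eq_iff_eq_mul.1 ?_⟩
  rw [← H.hx, ha, (rho_mem_HH.1 hk).1, e, add_zero]

theorem nrm {N : Subgroup G} {m p : ℕ} (hp : p.Prime) (h0 : p ∣ 42305421312000) (hm : ¬ p ∣ m)
    (h1 : ∀ g ∈ N, ∃ t c, g ^ m = q t c)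
    (h2 : ∀ g ∈ N, g * x = x * g ∧ g * y = y * g)
    (h3 : ∀ a, a * x = x * a → a * y = y * a → ∀ g ∈ N, a * g * a⁻¹ ∈ N) {g : G} (hg : g ∈ N) :
    ∃ t c, g = q t c := by
  let M : Subgroup (MulAction.stabilizer G0 vU') :=
    { carrier := {h | ∃ g ∈ N, ∃ k, Rel q g k ∧ Ac (co k) h.1}
      one_mem' := ⟨1, one_mem _, 1, Rel.one, fun c => by rw [map_one]; rfl⟩
      mul_mem' := by
        rintro a b ⟨g, g1, k, g2, g3⟩ ⟨g', g1', k', g2', g3'⟩
        exact ⟨_, mul_mem g1 g1', _, g2.mul g2', fun c => by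
          rw [map_mul, Subgroup.coe_mul, mul_smul, mul_smul, g3', g3]⟩
      inv_mem' := by
        rintro a ⟨g, g1, k, g2, g3⟩
        exact ⟨_, inv_mem g1, _, g2.inv, fun c => by
          rw [map_inv, Subgroup.coe_inv, inv_smul_eq_iff, g3, smul_inv_smul]⟩ }
  have hM : M.Normal := ⟨by
    rintro h ⟨g, g1, k, g2, g3⟩ a
    obtain ⟨b, l, b1, b2, b3⟩ := H.liftX (fix_c0.2 (.inl a.2))
    exact ⟨_, h3 b b3 (H.s.rel_cm b1) g g1, _, b1.conj g2, by
      rw [map_mul, map_mul, map_inv, b2]; exact g3.conj _⟩⟩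
  haveI := simple_C2'
  rcases hM.eq_bot_or_eq_top with e | e
  · obtain ⟨k, hk⟩ := H.s.up g (h2 g hg).2
    refine H.s.inQ hk ?_
    rcases fix_c0.1 (H.s.cm_q hk (H.hx ▸ (h2 g hg).1)).1 with h | h
    · have : (⟨co k, h⟩ : MulAction.stabilizer G0 vU') ∈ M := ⟨g, hg, k, hk, fun _ => rfl⟩
      rw [e, Subgroup.mem_bot] at this
      rw [show co k = 1 from congrArg Subtype.val this]
      exact fun _ => rfl
    · have : (⟨neg1 * co k, by rw [MulAction.mem_stabilizer_iff, mul_smul, h, neg1_smul, neg_neg]⟩ :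
          MulAction.stabilizer G0 vU') ∈ M :=
        ⟨g, hg, k, hk, fun _ => by rw [mul_smul, neg1_smul_C]⟩
      rw [e, Subgroup.mem_bot] at this
      intro c
      rw [← show neg1 * co k = 1 from congrArg Subtype.val this, mul_smul, neg1_smul_C]
  · exfalso
    obtain ⟨g0, hg⟩ := std32 vU' norm_vU'
    haveI := Fact.mk hp
    obtain ⟨h, hh⟩ := exists_prime_orderOf_dvd_card' (G := MulAction.stabilizer G0 vU') p (by
      rwa [(simple_card_transport g0 C2 (MulAction.stabilizer G0 vU') (fun a => by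
        rw [MulAction.mem_stabilizer_iff, MulAction.mem_stabilizer_iff, ← hg, conj_fix_iff])
        simple_C2 card_C2).2])
    obtain ⟨g, g1, k, g2, g3⟩ : h ∈ M := e ▸ Subgroup.mem_top _
    have : ∀ m : ℕ, Rel q (g ^ m) (k ^ m) ∧ Ac (co (k ^ m)) (h ^ m).1 := fun m => by
      induction m with
      | zero => exact ⟨by simpa using Rel.one, fun c => by simp⟩
      | succ m ih => exact ⟨by rw [pow_succ, pow_succ]; exact ih.1.mul g2, fun c => by
          rw [pow_succ, pow_succ, map_mul, Subgroup.coe_mul, mul_smul, mul_smul, g3, ih.2]⟩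
    obtain ⟨a, b⟩ := this m
    obtain ⟨t, c, e1⟩ := h1 g g1
    rw [e1] at a
    refine hm (hh ▸ orderOf_dvd_of_pow_eq_one ?_)
    rcases mem_center_G0.1 (center_of_fix fun d => by
      rw [← b, (H.s.rel_uniq a (H.s.rel_q t c) d).2, co_qe, one_smul]) with e | e
    · exact Subtype.ext e
    · have := (h ^ m).2
      rw [MulAction.mem_stabilizer_iff, e, neg1_smul] at this
      exact (leechEL.ne_neg (x := vU') (fun e => by
        have := norm_vU'; rw [e] at this; simp [Cfsg.sqNorm] at this) this.symm).elim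

end One

namespace Two

variable (H : Two x y q γ) (L : LF eO eD s0)
include H L

theorem classes [Finite G] {t : G} (h1 : t * t = 1) (h2 : t ≠ 1) : IsConj x t ∨ IsConj y t := by
  obtain ⟨n, hn⟩ := H.s.syl (pg_zp h1)
  obtain ⟨h, kh, sh, e, P⟩ := H.exists_h L
  have sq : n * t * n⁻¹ * (n * t * n⁻¹) = 1 := by rw [conj_mul, h1]; group
  suffices IsConj x (n * t * n⁻¹) ∨ IsConj y (n * t * n⁻¹) from
    this.imp (·.trans (cj_of rfl).symm) (·.trans (cj_of rfl).symm)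
  rcases H.cls L P (hn t (Subgroup.mem_zpowers t)) sq with ⟨s, c, e⟩ | a | a
  · rw [e] at sq ⊢
    by_cases hs : IsS c
    · exact .inl (H.qA s hs)
    by_cases h0 : c = 0
    · subst h0
      rcases H.s.q0 s with e' | e' <;> rw [e'] at e ⊢
      exacts [(h2 (conj_eq_one_iff.1 e)).elim, .inr (IsConj.refl _)]
    · exact .inr (H.qB s h0 (H.bb_of sq) hs)
  · exact (a.t2 H.s.yy (H.h_ab P)).imp And.left And.left
  · exact .inr a.1

omit L in
theorem back {s a : G} {t : ZMod 2} {c : C} (e : a * x * a⁻¹ = q t c) :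
    ∃ b, b * y = y * b ∧ b * a * x = x * (b * a) := by
  obtain ⟨b, h1, h2⟩ := H.s.trS t 0 (H.isS_of (cj_of e)) (isS_val c0)
  rw [H.hx, ← e] at h2
  exact ⟨b, h1, mul_inv_eq_iff_eq_mul.1 (Eq.trans (by group) h2)⟩

theorem prep {s : G} (hs : s * x = x * s) (h1 : IsConj y s) {h : G} {kh : GT} {sh : ZMod 2} {e : C}
    (P : Hq q γ eO h kh sh e) : (∃ a, a * x = x * a ∧ a * s * a⁻¹ = y) ∨
      ((∃ a, a * s * a⁻¹ = y ∧ a * x * a⁻¹ = h) ∧ ¬ IsConj x (s * x)) := by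
  obtain ⟨b, hb⟩ := isConj_iff.1 h1.symm
  have c1 : b * x * b⁻¹ * y = y * (b * x * b⁻¹) := by rw [← hb, conj_mul, conj_mul, hs]
  rcases H.cls L P c1 (sq_of_cj (cj_of rfl) H.xx) with ⟨t, c, e⟩ | ⟨a, a1, a2 | a2⟩ | a
  · obtain ⟨a, a1, a2⟩ := H.back (s := s) e
    exact .inl ⟨_, a2, by rw [← mul_inv_eq_iff_eq_mul.2 a1, ← hb]; group⟩
  · have e1 : a * b * s * (a * b)⁻¹ = y := by rw [← mul_inv_eq_iff_eq_mul.2 a1, ← hb]; group
    have e2 : a * b * x * (a * b)⁻¹ = h := by rw [← a2]; group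
    refine .inr ⟨⟨a * b, e1, e2⟩, fun h3 => H.nAB (h3.trans (cj_of (a := a * b) ?_)) (H.h_ab P).2⟩
    rw [hs, ← conj_mul, e1, e2]
  · exact (H.nAB ((cj_of rfl).trans (cj_of a2)) (H.h_ab P).2).elim
  · exact (H.nAB (cj_of rfl) a.1).elim

theorem pAB {s : G} (hs : s * x = x * s) (h : T2 y x x s) : ∃ a, a * x = x * a ∧ a * s * a⁻¹ = y := by
  obtain ⟨h, kh, sh, e, P⟩ := H.exists_h L
  exact (H.prep L hs ‹T2 y x x s›.1 P).resolve_right fun k => k.2 ‹T2 y x x s›.2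

theorem pBB {s s' : G} (hs : s * x = x * s) (h : T2 y y x s) (hs' : s' * x = x * s')
    (h' : T2 y y x s') : ∃ a, a * x = x * a ∧ a * s * a⁻¹ = s' := by
  obtain ⟨h0, kh, sh, e, P⟩ := H.exists_h L
  have k : ∀ {s}, s * x = x * s → T2 y y x s → ∃ a, a * s * a⁻¹ = y ∧ a * x * a⁻¹ = h0 :=
    fun {s} h1 h2 => ((H.prep L h1 h2.1 P).resolve_left fun ⟨a, a1, a2⟩ => H.nAB H.one.A_yx
      (h2.2.trans (cj_of (a := a) (by rw [cj_mul a1, a2])))).1
  obtain ⟨a, a1, a2⟩ := k hs h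
  obtain ⟨b, b1, b2⟩ := k hs' h'
  refine ⟨b⁻¹ * a, mul_inv_eq_iff_eq_mul.1 ?_, ?_⟩
  · calc _ = b⁻¹ * (a * x * a⁻¹) * b := by group
      _ = _ := by rw [a2, ← b2]; group
  · calc _ = b⁻¹ * (a * s * a⁻¹) * b := by group
      _ = _ := by rw [a1, ← b1]; group

theorem pAA [Finite G] {s : G} (hs : s * x = x * s) (h : T2 x x x s) :
    ∃ a t c, a * x = x * a ∧ a * s * a⁻¹ = q t c := by
  obtain ⟨h0, kh, sh, e, P⟩ := H.exists_h L
  obtain ⟨n, n1, n2⟩ := H.one.syl (pg_zp (sq_of_cj h.1 H.xx)) fun p hp => by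
    rcases mem_zpowers_invol (sq_of_cj h.1 H.xx) hp with rfl | rfl
    exacts [by simp, hs]
  have A1 : IsConj x (n * s * n⁻¹) := h.1.trans (cj_of rfl)
  rcases H.cls L P (n2 s (Subgroup.mem_zpowers s)) (sq_of_cj A1 H.xx) with ⟨t, c, e⟩ | ⟨a, a1, a2 | a2⟩ | a
  · exact ⟨n, t, c, n1, e⟩
  · obtain ⟨k, hk⟩ := H.s.up a a1
    have e1 := hk 0 c0.1
    rw [H.hx] at e1
    generalize 0 + ep k c0.1 = t at e1
    generalize co k • c0.1 = c at e1
    have e2 : a * n * x * (a * n)⁻¹ = q t c := by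
      rw [← e1, mul_assoc a, n1]; group
    have e3 : a * n * s * (a * n)⁻¹ = h0 := by rw [← a2]; group
    have A2 : IsConj x (h0 * q t c) := h.2.trans (cj_of (a := a * n) (by rw [← conj_mul, e2, e3]))
    have r := P.rel.mul (H.s.rel_q t c)
    have ac : Ac (co (kh * qe t c)) eO := fun c => by rw [map_mul, co_qe, mul_one, P.ac]
    have la : La (kh * qe t c) := H.la_of r (by
      rcases H.cls L P (H.s.rel_cm r) (sq_of_cj A2 H.xx) with ⟨t', c', e'⟩ | a | a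
      · refine (H.notQ (s := sh) (t := t' + (t + bb c c) + bb c' c) (c := c' + c) P.h0 P.h1 P.h2 ?_).elim
        rw [← P.eq, ← H.s.mul, ← H.s.q_inv, ← e']; group
      · exact a.t2 H.s.yy (H.h_ab P)
      · exact (H.nAB A2 a.1).elim)
    obtain ⟨t', d, e4⟩ := H.laO L P r (H.s.i2_of r (.inl (sq_of_cj A2 H.xx))) ac la
    obtain ⟨rfl, rfl⟩ := H.s.inj (mul_left_cancel e4)
    obtain ⟨u, u1, u2⟩ := L.oV d
    obtain ⟨b, l, t1, d1, b1, rfl, b2⟩ := H.cenO L P u1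
    obtain ⟨t2, e5⟩ := H.s.qconj P.rel (H.h_i2 P) t1 (d1 + co kh • d1) d1
    rw [cc2, ← b2] at e5
    obtain ⟨t6, e6⟩ : ∃ t6, q 0 d1 * (b * q t (d + co kh • d) * b⁻¹) * (q 0 d1)⁻¹ =
      q t6 (co l • (d + eO • d)) := ⟨_, by rw [b1, H.s.cj, P.ac]⟩
    obtain ⟨t3, f, -, e7⟩ := H.shared0 t6 u2
    rw [e7] at e6
    obtain ⟨t4, f', -, e8⟩ := H.shared0 t2 (c := 0) rfl
    have e9 : γ⁻¹ * q 0 d1 * b * (a * n) * x * (γ⁻¹ * q 0 d1 * b * (a * n))⁻¹ = q t3 f := by
      rw [← mul_left_cancel_iff (a := γ), ← mul_right_cancel_iff (a := γ⁻¹), ← e6, ← e2]; group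
    obtain ⟨w, w1, w2⟩ := H.back (s := s) e9
    obtain ⟨m, hm⟩ := H.s.up w w1
    refine ⟨_, _, _, w2, (?_ : _ = _).trans (hm (sh + t4 + bb e f') (e + f'))⟩
    rw [e8] at e5
    conv at e5 => rhs; rw [P.eq, conj_mul, H.s.mul]
    rw [← mul_left_cancel_iff (a := γ * w⁻¹), ← mul_right_cancel_iff (a := w * γ⁻¹)]
    calc _ = q 0 d1 * (b * (a * n * s * (a * n)⁻¹) * b⁻¹) * (q 0 d1)⁻¹ := by group
      _ = _ := by rw [e3, e5]; group
  · exact (H.nAB (A1.trans (cj_of a2)) (H.h_ab P).2).elim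
  · exact (H.nAB A1 a.1).elim

end Two

end H10.Mon.MG
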