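import Mathlib
import Cfsg.Agent.H19.MG9
import Cfsg.Agent.H6.BrauerFowler

/-!
# Comparison of two groups with both centralisers
-/

set_option autoImplicit false
set_option linter.all false

namespace H10.Mon.MG

variable {G G' : Type*} [Group G] [Group G'] {x y z : G} {q : ZMod 2 → C → G} {γ : G}
  {x' y' z' : G'} {q' : ZMod 2 → C → G'} {γ' : G'} {eO eD s0 : G0} {R : G → G' → Prop}

namespace Cor

variable (h : Cor z z' R)
include h

theorem symm : Cor z' z fun a' a => R a a' :=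
  ⟨h.mul, h.inv, h.cm', h.cm, h.down, h.up, h.ker', h.ker⟩

theorem one : R 1 1 := h.ker.2 (.inl rfl)

theorem conj {a b : G} {a' b' : G'} (h1 : R a a') (h2 : R b b') :
    R (a * b * a⁻¹) (a' * b' * a'⁻¹) := h.mul (h.mul h1 h2) (h.inv h1)

theorem uq {a b : G} {a' : G'} (h1 : R a a') (h2 : R b a') : b = a ∨ b = a * z := by
  have := h.mul (h.inv h1) h2
  rw [inv_mul_cancel, h.ker, inv_mul_eq_iff_eq_mul, inv_mul_eq_iff_eq_mul, mul_one] at this
  exact this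

theorem mz {a : G} {a' : G'} (h1 : R a a') : R (a * z) a' := by
  simpa using h.mul h1 (h.ker.2 (.inr rfl))

theorem pow {a : G} {a' : G'} (h1 : R a a') : ∀ n : ℕ, R (a ^ n) (a' ^ n)
  | 0 => by simpa using h.one
  | n + 1 => by rw [pow_succ, pow_succ]; exact h.mul (pow h1 n) h1

theorem shift {n : G} (hn : n * z = z * n) : Cor z z' fun a b => R (n⁻¹ * a * n) b := by
  have c : Commute n z := hn
  have e : n⁻¹ * z * n = z := by rw [c.inv_left.eq]; group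
  refine ⟨fun h1 h2 => by simpa [mul_assoc] using h.mul h1 h2,
    fun h1 => by simpa [mul_assoc] using h.inv h1, fun {a a'} h1 => ?_, fun h1 => h.cm' h1,
    fun a ha => h.up _ ((c.inv_left.mul_left ha).mul_left c), fun a' ha => ?_, fun {a} => ?_,
    fun {a} => by simpa using h.ker'⟩
  · have : Commute (n * (n⁻¹ * a * n) * n⁻¹) z := (c.mul_left (h.cm h1)).mul_left c.inv_left
    simpa [mul_assoc] using this.eq
  · obtain ⟨a, h1⟩ := h.down a' ha
    exact ⟨n * a * n⁻¹, by simpa [mul_assoc] using h1⟩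
  · rw [h.ker]
    refine or_congr (by rw [← conj_eq_one_iff (a := n⁻¹) (b := a), inv_inv]) ?_
    conv_lhs => rw [← e]
    simp

/-- The preimage of a subgroup. -/
def pre (K : Subgroup G') : Subgroup G where
  carrier := {a | ∃ b ∈ K, R a b}
  one_mem' := ⟨1, one_mem _, h.one⟩
  mul_mem' := fun ⟨_, a, b⟩ ⟨_, c, d⟩ => ⟨_, mul_mem a c, h.mul b d⟩
  inv_mem' := fun ⟨_, a, b⟩ => ⟨_, inv_mem a, h.inv b⟩

theorem pre_pow (hz : z * z = 1) (H' : Sit y' q') : ∀ g ∈ h.pre H'.Q, g ^ 2 ^ 3 = 1 := by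
  rintro g ⟨_, ⟨t, c, rfl⟩, h1⟩
  have := h.pow h1 (2 ^ 2)
  rw [H'.q4, h.ker] at this
  rw [pow_succ 2 2, pow_mul, pow_two]
  rcases this with e | e <;> rw [e]
  exacts [mul_one _, hz]

end Cor

def Same (x y z g : G) (x' y' z' g' : G') : Prop :=
  ((g = 1 ∨ g = z) ∧ (g' = 1 ∨ g' = z')) ∨ (T2 x x z g ∧ T2 x' x' z' g') ∨
  ((T2 x y z g ∨ T2 y x z g) ∧ (T2 x' y' z' g' ∨ T2 y' x' z' g')) ∨ (T2 y y z g ∧ T2 y' y' z' g')

theorem count [Finite G] [Finite G'] (H : One x y q) (H' : One x' y' q') (h : Cor z z' R)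
    (hz : orderOf z = 2) (hz' : orderOf z' = 2) (mz : Mt x y z x' y' z')
    (s : ∀ g g', R g g' → g * g = 1 → g' * g' = 1 ∧ Same x y z g x' y' z' g')
    (s' : ∀ g g', R g g' → g' * g' = 1 → g * g = 1) :
    Nat.card {p : G × G // IsConj x p.1 ∧ IsConj y p.2 ∧ z ∈ Subgroup.zpowers (p.1 * p.2)} =
      Nat.card {p : G' × G' // IsConj x' p.1 ∧ IsConj y' p.2 ∧
        z' ∈ Subgroup.zpowers (p.1 * p.2)} := by
  have zz : z * z = 1 := by rw [← pow_two, ← hz, pow_orderOf_eq_one]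
  have zz' : z' * z' = 1 := by rw [← pow_two, ← hz', pow_orderOf_eq_one]
  have mA : ∀ {g g'}, IsConj x g → IsConj x' g' → Mt x y g x' y' g' := fun a b =>
    ⟨iff_of_true a b, iff_of_false (fun c => H.nc (a.trans c.symm)) fun c => H'.nc (b.trans c.symm)⟩
  have mB : ∀ {g g'}, IsConj y g → IsConj y' g' → Mt x y g x' y' g' := fun a b =>
    ⟨iff_of_false (fun c => H.nc (c.trans a.symm)) fun c => H'.nc (c.trans b.symm), iff_of_true a b⟩
  have m1 : Mt x y 1 x' y' 1 := by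
    simp only [Mt, isConj_one_left, H.x_ne, H'.x_ne, H.s.y_ne, H'.s.y_ne, and_self]
  have mN : ∀ {g g'}, g * g ≠ 1 → g' * g' ≠ 1 → Mt x y g x' y' g' := fun a b =>
    ⟨iff_of_false (fun c => a (sq_of_cj c H.xx)) fun c => b (sq_of_cj c H'.xx),
      iff_of_false (fun c => a (sq_of_cj c H.s.yy)) fun c => b (sq_of_cj c H'.s.yy)⟩
  refine h.count hz hz' (orderOf_eq_prime (by rw [pow_two, H.xx]) H.x_ne)
    (orderOf_eq_prime (by rw [pow_two, H.s.yy]) H.s.y_ne)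
    (orderOf_eq_prime (by rw [pow_two, H'.xx]) H'.x_ne)
    (orderOf_eq_prime (by rw [pow_two, H'.s.yy]) H'.s.y_ne) H.nc H'.nc
    (fun g g' r => ⟨fun e => (s g g' r e).1, s' g g' r⟩) fun g g' r => ?_
  by_cases e : g * g = 1
  · rcases (s g g' r e).2 with ⟨rfl | rfl, rfl | rfl⟩ | ⟨a, b⟩ | ⟨a | a, b | b⟩ | ⟨a, b⟩
    · left; simpa using ⟨m1, mz⟩
    · right; simpa [zz'] using ⟨m1, mz⟩
    · right; simpa [zz] using ⟨mz, m1⟩
    · left; simpa [zz, zz'] using ⟨mz, m1⟩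
    · exact .inl ⟨mA a.1 b.1, mA a.2 b.2⟩
    · exact .inl ⟨mA a.1 b.1, mB a.2 b.2⟩
    · exact .inr ⟨mA a.1 b.2, mB a.2 b.1⟩
    · exact .inr ⟨mB a.1 b.2, mA a.2 b.1⟩
    · exact .inl ⟨mB a.1 b.1, mA a.2 b.2⟩
    · exact .inl ⟨mB a.1 b.1, mB a.2 b.2⟩
  · have e' : g' * g' ≠ 1 := fun k => e (s' g g' r k)
    refine .inl ⟨mN e e', mN ?_ ?_⟩
    · rwa [(show Commute g z from h.cm r).symm.mul_mul_mul_comm, zz, mul_one]
    · rwa [(show Commute g' z' from h.cm' r).symm.mul_mul_mul_comm, zz', mul_one]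

theorem corY (H : Sit y q) (H' : Sit y' q') : Cor y y' fun g g' => ∃ k, Rel q g k ∧ Rel q' g' k := by
  refine ⟨fun ⟨_, a, b⟩ ⟨_, c, d⟩ => ⟨_, a.mul c, b.mul d⟩, fun ⟨_, a, b⟩ => ⟨_, a.inv, b.inv⟩,
    fun ⟨_, a, _⟩ => H.rel_cm a, fun ⟨_, _, a⟩ => H'.rel_cm a, fun a ha => ?_, fun a ha => ?_,
    ⟨fun ⟨k, a, b⟩ => H.cent _ fun t c => ?_, ?_⟩, ⟨fun ⟨k, a, b⟩ => H'.cent _ fun t c => ?_, ?_⟩⟩
  · obtain ⟨k, hk⟩ := H.up a ha
    obtain ⟨b, hb⟩ := H'.down k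
    exact ⟨b, k, hk, hb⟩
  · obtain ⟨k, hk⟩ := H'.up a ha
    obtain ⟨b, hb⟩ := H.down k
    exact ⟨b, k, hb, hk⟩
  · have := H'.rel_uniq b Rel.one c
    rw [← mul_inv_eq_iff_eq_mul, a, this.1, this.2, ep_one, map_one, one_smul, add_zero]
  · rintro (rfl | rfl)
    · exact ⟨1, Rel.one, Rel.one⟩
    · exact ⟨1, fun t c => by rw [← H.cm, ep_one, map_one, one_smul, add_zero]; group, Rel.one⟩
  · have := H.rel_uniq a Rel.one c
    rw [← mul_inv_eq_iff_eq_mul, b, this.1, this.2, ep_one, map_one, one_smul, add_zero]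
  · rintro (rfl | rfl)
    · exact ⟨1, Rel.one, Rel.one⟩
    · exact ⟨1, Rel.one, fun t c => by rw [← H'.cm, ep_one, map_one, one_smul, add_zero]; group⟩

theorem sameY (H : Two x y q γ) (H' : Two x' y' q' γ') (L : LF eO eD s0) {g : G} {g' : G'} {k : GT}
    (r : Rel q g k) (r' : Rel q' g' k) (sq : g * g = 1) :
    g' * g' = 1 ∧ Same x y y g x' y' y' g' := by
  obtain ⟨h, kh, sh, e, P⟩ := H.exists_h L
  obtain ⟨h', kh', sh', e', P'⟩ := H'.exists_h L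
  have i := H.s.i2_of r (.inl sq)
  rcases L.cls _ (fun c => (i c).2) with a | a | a | a
  · obtain ⟨t, c, rfl⟩ := H.s.inQ r a
    obtain ⟨t', c', rfl⟩ := H'.s.inQ r' a
    obtain rfl : c = c' := add_eq_zero_C.1 (polar_nondeg fun d => by
      have := pl_add' c c' d
      rw [show pl c d = pl c' d from (ep_qe t c d).symm.trans
        (((H.s.rel_uniq r (H.s.rel_q _ _) d).1.symm.trans
          (H'.s.rel_uniq r' (H'.s.rel_q _ _) d).1).trans (ep_qe t' c' d)), zz2] at this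
      exact this)
    have b := H.bb_of sq
    refine ⟨H'.s.sq0 _ b, ?_⟩
    by_cases h0 : c = 0
    · subst h0
      exact .inl ⟨H.s.q0 _, H'.s.q0 _⟩
    by_cases h1 : IsS c
    · exact .inr (.inl ⟨⟨H.qA _ h1, H.s.mul_y t c ▸ H.qA _ h1⟩,
        ⟨H'.qA _ h1, H'.s.mul_y t' c ▸ H'.qA _ h1⟩⟩)
    · exact .inr (.inr (.inr ⟨⟨H.qB _ h0 b h1, H.s.mul_y t c ▸ H.qB _ h0 b h1⟩,
        ⟨H'.qB _ h0 b h1, H'.s.mul_y t' c ▸ H'.qB _ h0 b h1⟩⟩))
  · by_cases l : La k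
    · exact ⟨(H'.pc_h L P' r' i a l).sq H'.s.yy (H'.s.rel_cm P'.rel) (H'.h_sq P'),
        .inr (.inr (.inl ⟨(H.pc_h L P r i a l).t2 H.s.yy (H.h_ab P),
          (H'.pc_h L P' r' i a l).t2 H'.s.yy (H'.h_ab P')⟩))⟩
    · have sq' : g' * g' = 1 := by
        obtain ⟨u, hu⟩ := a
        obtain ⟨b, m, hb, rfl⟩ := H.s.lift u
        obtain ⟨b', hb'⟩ := H'.s.down m
        have i' := i.conj H.s r hb
        have a' : Ac (co (m * k * m⁻¹)) eO := by rwa [map_mul, map_mul, map_inv]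
        obtain ⟨t, c, -, e2, e3, e4⟩ := H.decO P (hb.conj r) i' a'
        obtain ⟨t', c', -, f2, f3, f4⟩ := H'.decO P' (hb'.conj r') i' a'
        rw [conj_mul, sq, mul_one, mul_inv_cancel, ← H.s.zero] at e4
        obtain ⟨d, hd⟩ := L.oI (c + c') (by rw [smul_add, e2, f2]) fun d hd => by
          rw [pl_add', ← e3 d hd, ← f3 d hd, zz2]
        have : c' = c + (d + eO • d) := by rw [← hd, ← add_assoc, cc2, zero_add]
        rw [this, bb_add_self, ← (H.s.inj e4).1, pl_im e2, bb_add_self, bb_smul_self, zz2, L.oP,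
          add_zero, add_zero, add_zero, H'.s.zero, conj_mul, conj_eq_one_iff] at f4
        exact f4
      exact ⟨sq', .inr (.inr (.inr ⟨H.bbO L P r a l sq, H'.bbO L P' r' a l sq'⟩))⟩
  · exact ⟨sq_of_cj (H'.bbD L P' r' i a).1 H'.s.yy,
      .inr (.inr (.inr ⟨H.bbD L P r i a, H'.bbD L P' r' i a⟩))⟩
  · exact (H.s.y_ne ((H.t4S L r i a).symm.trans sq)).elim

theorem cmY (H : One x y q) (H' : One x' y' q') (h : Cor x x' R) (hy : R y y') {a : G} {a' : G'}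
    (r : R a a') (e : a' * y' = y' * a') : a * y = y * a := by
  have := h.conj r hy
  rw [mul_inv_eq_iff_eq_mul.2 e] at this
  exact mul_inv_eq_iff_eq_mul.1 (H.eq_y (cj_of rfl) (by rcases h.uq hy this with e | e <;> simp [e]))

theorem relQ (H : One x y q) (H' : One x' y' q') (h : Cor x x' R) (hy : R y y') {a : G} {t : ZMod 2}
    {c : C} (r : R a (q' t c)) : ∃ s d, a = q s d :=
  H.nrm (N := h.pre H'.s.Q) (m := 2 ^ 3) Nat.prime_three (by norm_num) (by norm_num)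
    (fun g hg => ⟨0, 0, (h.pre_pow H.xx H'.s g hg).trans H.s.zero.symm⟩)
    (by rintro g ⟨_, ⟨t, c, rfl⟩, r⟩; exact ⟨h.cm r, cmY H H' h hy r (H'.s.cm _ _)⟩)
    (by
      rintro a a1 a2 g ⟨_, ⟨t, c, rfl⟩, r⟩
      obtain ⟨a', r'⟩ := h.up a a1
      obtain ⟨k, hk⟩ := H'.s.up a' (cmY H' H h.symm hy r' a2)
      exact ⟨_, ⟨_, _, hk t c⟩, h.conj r' r⟩)
    ⟨_, ⟨t, c, rfl⟩, r⟩

theorem norm [Finite G] (H : One x y q) (H' : One x' y' q') (h : Cor x x' R) :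
    ∃ R', Cor x x' R' ∧ R' y y' := by
  obtain ⟨n, n1, n2⟩ := H.syl (pg_of 3 (h.pre_pow H.xx H'.s)) fun p ⟨_, _, r⟩ => h.cm r
  refine ⟨_, h.shift n1, ?_⟩
  obtain ⟨u, r⟩ := h.up (n⁻¹ * y * n) (show Commute _ x from
    ((show Commute n x from n1).inv_left.mul_left (show Commute y x from H.xy.symm)).mul_left n1)
  have no : ¬ R (n⁻¹ * y * n) 1 := fun e => by
    have c : IsConj y (n⁻¹ * y * n) := cj_of (a := n⁻¹) (by rw [inv_inv])
    rcases h.ker.1 e with e | e <;> rw [e] at c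
    exacts [H.s.y_ne (isConj_one_left.1 c), H.nc c.symm]
  rcases H'.cent (u := u) (fun s d hd => by
    obtain ⟨p, r'⟩ := h.down _ (H'.cm_x (t := s).2 hd)
    have := h.conj r r'
    rw [show n⁻¹ * y * n * p * (n⁻¹ * y * n)⁻¹ = n⁻¹ * (y * (n * p * n⁻¹)) * y⁻¹ * n by group,
      ← n2 p ⟨_, ⟨s, d, rfl⟩, r'⟩, show n⁻¹ * (n * p * n⁻¹ * y) * y⁻¹ * n = p by group] at this
    exact h.symm.uq r' this) (h.cm' r) with rfl | rfl | rfl | rfl
  · exact (no r).elim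
  · exact r
  · exact (no (H'.xx ▸ h.symm.mz r)).elim
  · simpa [mul_assoc y', H'.xx] using h.symm.mz r

theorem two_of (H : One x y q) (H' : Two x' y' q' γ') (h : Cor x x' R) (hy : R y y') :
    ∃ γ, Two x y q γ := by
  obtain ⟨γ, r⟩ := h.down γ' (mul_inv_eq_iff_eq_mul.1 H'.gx)
  have r1 := h.conj r hy
  rw [H'.gy] at r1
  have r2 := h.conj r r1
  rw [H'.gO] at r2
  have e2 : γ * (γ * y * γ⁻¹) * γ⁻¹ = y := H.eq_y ((cj_of rfl).trans (cj_of rfl))
    (by rcases h.uq hy r2 with e | e <;> simp [e])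
  obtain ⟨s, d, e⟩ := relQ H H'.one h hy r1
  have B : IsConj y (q s d) := cj_of e
  have gx := h.cm r
  have h0 : d ≠ 0 := by
    rintro rfl
    rw [e, H.eq_y B (by rcases H.s.q0 s with e | e <;> simp [e])] at r1
    rcases h.symm.uq hy r1 with e | e
    · exact H'.O_ne.2 e
    · exact H'.nAB (e ▸ H'.one.A_yx) H'.yO
  have bo : ∀ {s c}, q s c * q s c = 1 → bb c c = 0 := fun h => by
    rw [H.s.sq, ← H.s.zero] at h
    exact (H.s.inj h).1
  have h1 : ¬ IsS d := fun hs => H.nc ((H.qA s hs).trans B.symm)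
  have A : IsConj x (q s d * x) := H.A_yx.trans (cj_of (a := γ) (by rw [cj_mul gx, e]))
  rw [H.mul_x] at A
  have h2 : IsS (d + c0.1) := by
    by_contra hc
    obtain ⟨u, hu⟩ := typ4 (fun e => h1 (by rw [add_eq_zero_C.1 e]; exact isS_val c0)) (bo (sq_of_cj A H.xx)) hc
    obtain ⟨v, hv⟩ := typ4 h0 (bo (sq_of_cj B H.s.yy)) h1
    obtain ⟨a, -, a1⟩ := H.s.tr 0 (s + bb d c0.1) Om_ne_zero u
    obtain ⟨b, -, b1⟩ := H.s.tr 0 s Om_ne_zero v
    rw [hu] at a1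
    rw [hv] at b1
    exact H.nc (A.trans ((cj_of a1).symm.trans ((cj_of b1).trans B.symm)))
  obtain ⟨u, u1, u2⟩ := tr_perp h2 (by rw [pl_add', pl_self, add_zero, ← H.cm_x (t := s), ← e]; exact h.cm r1)
    (fun e => h0 (by simpa using e)) (by rwa [add_assoc, cc2, add_zero])
  rw [smul_add, u1, add_comm, add_right_inj] at u2
  obtain ⟨a, k, a1, rfl, a2⟩ := H.liftX u1
  obtain ⟨b, b1, b2, b3⟩ : ∃ b, b * x = x * b ∧ b * y = y * b ∧ b * q s d * b⁻¹ = q 0 Om := by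
    have := a1 s d
    rw [u2] at this
    rcases z2 (s + ep k d) with e | e <;> rw [e] at this
    · exact ⟨a, a2, H.s.rel_cm a1, this⟩
    · obtain ⟨f, f1, f2⟩ := exists_perp_one Om_ne_zero (S_ne_Om c0).symm
      refine ⟨q 0 f * a, show Commute _ x from (show Commute _ x from H.cm_x.2 f1).mul_left a2,
        H.s.rel_cm ((H.s.rel_q _ _).mul a1), ?_⟩
      calc _ = q 0 f * (a * q s d * a⁻¹) * (q 0 f)⁻¹ := by group
        _ = _ := by rw [this, H.s.cj, pl_comm, show pl Om f = 1 from f2, z11]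
  have c : Commute b y := b2
  refine ⟨b * γ * b⁻¹, H.s, H.hx, H.nc, mul_inv_eq_iff_eq_mul.2 (show Commute _ x from
    ((show Commute b x from b1).mul_left gx).mul_left (show Commute b x from b1).inv_left), ?_, ?_⟩
  · calc _ = b * (γ * (b⁻¹ * y * b) * γ⁻¹) * b⁻¹ := by group
      _ = _ := by rw [c.inv_left.eq, inv_mul_cancel_right, e, b3]
  · rw [← b3, ← e]
    calc _ = b * (γ * (γ * y * γ⁻¹) * γ⁻¹) * b⁻¹ := by group
      _ = _ := by rw [e2, b2]; group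

theorem Two.ty [Finite G] (H : Two x y q γ) (L : LF eO eD s0) {s : G} (hs : s * x = x * s)
    (sq : s * s = 1) :
    (s = 1 ∨ s = x) ∨ T2 x x x s ∨ (T2 x y x s ∨ T2 y x x s) ∨ T2 y y x s := by
  by_cases h1 : s = 1
  · exact .inl (.inl h1)
  by_cases h2 : s = x
  · exact .inl (.inr h2)
  have := H.classes L sq h1
  have := H.classes L (t := s * x)
    (by rw [(show Commute s x from hs).symm.mul_mul_mul_comm, sq, H.xx, mul_one])
    fun e => h2 (by rw [← mul_one s, ← H.xx, ← mul_assoc, e, one_mul])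
  unfold T2
  tauto

theorem Two.bbQ (H : Two x y q γ) (t : ZMod 2) {e : C} (h : e.1 = 0 ∧ e ≠ 0 ∧ e + c0.1 ≠ 0 ∧ ¬ IsS e ∧
    ¬ IsS (e + c0.1)) : q t e * x = x * q t e ∧ T2 y y x (q t e) :=
  ⟨H.one.cm_x.2 (by rw [pl, bb_fst h.1, bb_fst c0_fst, add_zero]), H.qB _ h.2.1 (bb_fst h.1 _) h.2.2.2.1,
    H.one.mul_x t e ▸ H.qB _ h.2.2.1 (bb_fst (by rw [Prod.fst_add, h.1, c0_fst, add_zero]) _)
      h.2.2.2.2⟩

theorem Two.mf [Finite G] (H : Two x y q γ) (L : LF eO eD s0) {s : G} (hs : s * x = x * s)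
    (sq : s * s = 1) : ∃ a t c, a * x = x * a ∧ a * s * a⁻¹ = q t c := by
  rcases H.ty L hs sq with (rfl | rfl) | h | (h | h) | h
  · exact ⟨1, 0, 0, by simp, by simp [H.s.zero]⟩
  · exact ⟨1, 0, c0.1, by simp, by simp [H.hx]⟩
  · exact H.pAA L hs h
  · obtain ⟨a, a1, a2⟩ := H.pAB L (s := s * x) (by rw [mul_assoc, H.xx, ← mul_assoc, ← hs, mul_assoc, H.xx])
      ⟨h.2, by rw [mul_assoc, H.xx, mul_one]; exact h.1⟩
    refine ⟨a, _, _, a1, Eq.trans ?_ (H.one.mul_x 1 0)⟩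
    rw [H.s.one, ← a2, cj_mul a1, mul_assoc _ x, H.xx, mul_one]
  · obtain ⟨a, a1, a2⟩ := H.pAB L hs h
    exact ⟨a, 1, 0, a1, a2.trans H.s.one.symm⟩
  · obtain ⟨c, d, hc⟩ := bb_tri
    obtain ⟨h1, h2⟩ := H.bbQ 0 (hc c (by simp))
    obtain ⟨a, a1, a2⟩ := H.pBB L hs h h1 h2
    exact ⟨a, _, _, a1, a2⟩

section
variable [Finite G] [Finite G'] (H : Two x y q γ) (H' : Two x' y' q' γ') (L : LF eO eD s0)
  (h : Cor x x' R) (hy : R y y') {g : G} {g' : G'} (r : R g g')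
include H H' L h hy r

theorem sqX (sq : g * g = 1) : g' * g' = 1 := by
  obtain ⟨a, t, c, a1, a2⟩ := H.mf L (h.cm r) sq
  obtain ⟨a', r'⟩ := h.up a a1
  obtain ⟨s, d, e⟩ := relQ H'.one H.one h.symm hy (a2 ▸ h.conj r' r)
  have := h.mul r r
  rw [sq, h.ker'] at this
  refine this.resolve_right fun e' => ?_
  have e2 := H'.s.sq s d
  rw [← e, conj_mul, e', mul_inv_eq_iff_eq_mul.2 (h.cm' r'), ← H'.hx] at e2
  exact isS_ne (isS_val c0) (H'.s.inj e2).2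

theorem abX (t : T2 x y x g ∨ T2 y x x g) : T2 x' y' x' g' ∨ T2 y' x' x' g' := by
  have k : ∀ {g}, R g g' → T2 y x x g → T2 x' y' x' g' ∨ T2 y' x' x' g' := fun {g} r t => by
    obtain ⟨a, a1, a2⟩ := H.pAB L (h.cm r) t
    obtain ⟨a', r'⟩ := h.up a a1
    exact ((show Pc x' g' y' from ⟨a', h.cm' r', h.symm.uq hy (a2 ▸ h.conj r' r)⟩).t2 H'.xx
      ⟨IsConj.refl _, H'.one.A_yx⟩).symm
  rcases t with t | t
  · exact k (h.mz r) ⟨t.2, by rw [mul_assoc, H.xx, mul_one]; exact t.1⟩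
  · exact k r t

theorem abN (t : T2 x x x g) (t' : T2 y' y' x' g') : False := by
  obtain ⟨c, d, hc⟩ := bb_tri
  have k : ∀ {a s e}, e ∈ [c, d, c + d] → R a (q' s e) → ∃ t f, a = q t f ∧ IsS f ∧ IsS (f + c0.1) :=
    fun {a s e} he r1 => by
      obtain ⟨h1, h2⟩ := H'.bbQ s (hc e he)
      obtain ⟨b', b1, b2⟩ := H'.pBB L h1 h2 (h.cm' r) t'
      obtain ⟨b, r2⟩ := h.down b' b1
      have := ((show Pc x a g from ⟨b, h.cm r2, h.uq r (b2 ▸ h.conj r2 r1)⟩).t2 H.xx t).elim id id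
      obtain ⟨t, f, rfl⟩ := relQ H.one H'.one h hy r1
      exact ⟨t, f, rfl, H.isS_of this.1, H.isS_of (H.one.mul_x t f ▸ this.2)⟩
  obtain ⟨a, ra⟩ := h.down _ (H'.bbQ 0 (hc c (by simp))).1
  obtain ⟨b, rb⟩ := h.down _ (H'.bbQ 0 (hc d (by simp))).1
  obtain ⟨t1, f1, rfl, a1, a2⟩ := k (by simp) ra
  obtain ⟨t2, f2, rfl, b1, b2⟩ := k (by simp) rb
  obtain ⟨t3, f3, e, c1, c2⟩ := k (by simp) (H'.s.mul _ _ _ _ ▸ h.mul ra rb)
  rw [H.s.mul] at e
  rw [← (H.s.inj e).2] at c1 c2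
  exact no_tri a1 a2 b1 b2 c1 c2

end

theorem sameX [Finite G] [Finite G'] (H : Two x y q γ) (H' : Two x' y' q' γ') (L : LF eO eD s0)
    (h : Cor x x' R) (hy : R y y') {g : G} {g' : G'} (r : R g g') (sq : g * g = 1) :
    g' * g' = 1 ∧ Same x y x g x' y' x' g' := by
  have sq' := sqX H H' L h hy r sq
  refine ⟨sq', ?_⟩
  have tr : (g = 1 ∨ g = x) ↔ (g' = 1 ∨ g' = x') := by
    constructor
    · rintro (rfl | rfl)
      exacts [h.ker'.1 r, h.ker'.1 (H.xx ▸ h.mz r)]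
    · rintro (rfl | rfl)
      exacts [h.ker.1 r, h.ker.1 (H'.xx ▸ h.symm.mz r)]
  have ab := abX H H' L h hy r
  have ab' := abX H' H L h.symm hy r
  rcases H'.ty L (h.cm' r) sq' with t' | t' | t' | t'
  · exact .inl ⟨tr.2 t', t'⟩
  · rcases H.ty L (h.cm r) sq with t | t | t | t
    exacts [.inl ⟨t, tr.1 t⟩, .inr (.inl ⟨t, t'⟩), .inr (.inr (.inl ⟨t, ab t⟩)),
      (abN H' H L h.symm hy r t' t).elim]
  · exact .inr (.inr (.inl ⟨ab' t', t'⟩))
  · rcases H.ty L (h.cm r) sq with t | t | t | t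
    exacts [.inl ⟨t, tr.1 t⟩, (abN H H' L h hy r t t').elim, .inr (.inr (.inl ⟨t, ab t⟩)),
      .inr (.inr (.inr ⟨t, t'⟩))]

theorem card_eq [Finite G] [Finite G'] (H : Two x y q γ) (H' : Two x' y' q' γ') (L : LF eO eD s0)
    (h : Cor x x' R) (hy : R y y') : Nat.card G = Nat.card G' := by
  have ox := orderOf_eq_prime (by rw [pow_two, H.xx]) H.x_ne
  have oy := orderOf_eq_prime (by rw [pow_two, H.s.yy]) H.s.y_ne
  have ox' := orderOf_eq_prime (by rw [pow_two, H'.xx]) H'.x_ne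
  have oy' := orderOf_eq_prime (by rw [pow_two, H'.s.yy]) H'.s.y_ne
  rw [H6.thompson_order_formula x y ox oy H.nc fun t ht => H.classes L
      (by rw [← pow_two, ← ht, pow_orderOf_eq_one]) (by rintro rfl; simp at ht),
    H6.thompson_order_formula x' y' ox' oy' H'.nc fun t ht => H'.classes L
      (by rw [← pow_two, ← ht, pow_orderOf_eq_one]) (by rintro rfl; simp at ht),
    h.card ox ox', (corY H.s H'.s).card oy oy',
    count H.one H'.one h ox ox' ⟨iff_of_true (IsConj.refl _) (IsConj.refl _),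
      iff_of_false (fun c => H.nc c.symm) fun c => H'.nc c.symm⟩
      (fun g g' r => sameX H H' L h hy r) fun g g' r => sqX H' H L h.symm hy r,
    count H.one H'.one (corY H.s H'.s) oy oy' ⟨iff_of_false H.nc H'.nc,
      iff_of_true (IsConj.refl _) (IsConj.refl _)⟩
      (fun g g' ⟨_, r, r'⟩ => sameY H H' L r r') fun g g' ⟨_, r, r'⟩ e => (sameY H' H L r' r e).1]

end H10.Mon.MG
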