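import Mathlib
import Cfsg.Agent.H19.MG10
import Cfsg.Agent.H10.MMain

/-!
# The position of the second involution
-/

set_option autoImplicit false
set_option linter.all false

namespace H10.Mon.MG

open Subgroup

instance finM : Finite (MM tau) := Nat.finite_of_card_ne_zero (by rw [card_M]; norm_num)

noncomputable def qM (t : ZMod 2) (c : C) : MM tau := ⟨rho (qe t c), rho_mem_MM _ _⟩

theorem relM (k : GT) : Rel qM ⟨rho k, rho_mem_MM _ _⟩ k := fun t c => Subtype.ext (by
  change rho k * rho (qe t c) * (rho k)⁻¹ = rho _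
  rw [← map_inv, ← map_mul, ← map_mul, conj_qe])

theorem sitM : Sit (zM tau) qM where
  mul s c t d := Subtype.ext (by
    change rho _ * rho _ = rho _
    rw [← map_mul, qe_mul])
  inj h := rho_qe_inj (congrArg Subtype.val h)
  one := rfl
  up g h := by
    obtain ⟨k, hk⟩ := mem_GG_of_comm (MM_le_Aut tri_tau g.2) (congrArg Subtype.val h)
    exact ⟨k, (show (⟨rho k, rho_mem_MM _ _⟩ : MM tau) = g from Subtype.ext hk) ▸ relM k⟩
  down k := ⟨_, relM k⟩
  cent g h := (cent_QQ (mem_GG_of_comm (MM_le_Aut tri_tau g.2) (congrArg Subtype.val (h 1 0)))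
    fun q hq => by
      obtain ⟨t, c, rfl⟩ := mem_QQ.1 hq
      exact congrArg Subtype.val (h t c)).imp Subtype.ext Subtype.ext

variable {G : Type*} [Group G] {x y : G} {q : ZMod 2 → C → G} {eO eD s0 : G0}

theorem two_pow_dvd {a b n : ℕ} (h : 2 ^ n ∣ a * b) {k : ℕ} (hb : ¬ 2 ^ (k + 1) ∣ b) :
    2 ^ (n - k) ∣ a := by
  have b0 : b ≠ 0 := by rintro rfl; simp at hb
  rcases eq_or_ne a 0 with rfl | a0
  · simp
  rw [Nat.prime_two.pow_dvd_iff_le_factorization (by positivity)] at *
  rw [Nat.factorization_mul a0 b0, Finsupp.add_apply] at h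
  omega

namespace Sit

variable (H : Sit y q)
include H

theorem ord : orderOf y = 2 := orderOf_eq_prime (by rw [pow_two, H.yy]) H.y_ne

theorem card [Finite G] : Nat.card (centralizer ({y} : Set G)) = 2 ^ 25 * 4157776806543360000 := by
  rw [(corY H sitM).card H.ord sitM.ord, cent_zM tri_tau,
    Nat.card_congr (subgroupOfEquivOfLe (GG_le_MM _)).toEquiv, card_GG]

theorem cardK [Finite G] (t : ZMod 2) {c : C} (hc : c ≠ 0) :
    2 * (MulAction.orbit G0 c).ncard * Nat.card ↥(centralizer {y} ⊓ centralizer {q t c}) =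
      2 ^ 25 * 4157776806543360000 := by
  have := orb_card (MulAut.conj : G →* MulAut G) (centralizer {y}) (q t c)
  rw [H.card] at this
  rw [← this]
  congr 1
  · rw [show {z | ∃ h ∈ centralizer {y}, MulAut.conj h • q t c = z} =
      (fun p : ZMod 2 × C => q p.1 p.2) '' (Set.univ ×ˢ MulAction.orbit G0 c) from ?_,
      Set.ncard_image_of_injective _ fun a b h => Prod.ext (H.inj h).1 (H.inj h).2, Set.ncard_prod,
      Set.ncard_univ, Nat.card_zmod]
    ext z
    constructor
    · rintro ⟨a, ha, rfl⟩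
      obtain ⟨k, hk⟩ := H.up a (mem_centralizer_singleton_iff.1 ha)
      exact ⟨(_, _), ⟨trivial, co k, rfl⟩, (hk t c).symm⟩
    · rintro ⟨⟨s, _⟩, ⟨-, h, rfl⟩, rfl⟩
      obtain ⟨a, a1, a2⟩ := H.tr t s hc h
      exact ⟨a, mem_centralizer_singleton_iff.2 a1, a2⟩
  · congr 3
    ext a
    rw [mem_inf, mem_inf, mem_comap, MulAction.mem_stabilizer_iff]
    exact and_congr_right fun _ => mem_centralizer_singleton_iff.trans mul_inv_eq_iff_eq_mul.symm

theorem kappa (P : Subgroup G) (hP : ∀ p ∈ P, p * y = y * p) :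
    ∃ κ : P →* G0 ⧸ center G0, ∀ g : P, κ g = 1 → ∃ t c, g.1 = q t c := by
  choose k hk using fun g : P => H.up g (hP g g.2)
  refine ⟨MonoidHom.mk' (fun g => QuotientGroup.mk (co (k g))) fun a b => ?_, fun g h => ?_⟩
  · rw [← QuotientGroup.mk_mul, QuotientGroup.eq]
    refine center_of_fix fun c => ?_
    rw [mul_smul, inv_smul_eq_iff, ← map_mul]
    exact (H.rel_uniq ((hk a).mul (hk b)) (hk (a * b)) c).2
  · refine H.inQ (hk g) fun c => ?_
    rcases mem_center_G0.1 ((QuotientGroup.eq_one_iff _).1 h) with e | e <;> rw [e]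
    rw [neg1_smul_C, one_smul]

theorem inQ_of [Finite G] (L : LF eO eD s0) {P : Subgroup G} (hP : IsPGroup 2 P)
    (h1 : 2 ^ 42 ∣ Nat.card P) (h2 : ∀ p ∈ P, p * y = y * p) (h3 : ∀ p ∈ P, p * x = x * p)
    (h4 : x * y = y * x) (h5 : x * x = 1) : ∃ t c, x = q t c := by
  obtain ⟨k, hk⟩ := H.up x h4
  have i := H.i2_of hk (.inl h5)
  by_contra hn
  have f : Nat.card {c : C // co k • c = c} ≤ 2 ^ 19 := by
    have a : ∀ s ∈ [eO, eD, s0], Cj (co k) s → Nat.card {c : C // co k • c = c} ≤ 2 ^ 19 :=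
      fun s hs ⟨u, hu⟩ => le_trans (Nat.card_le_card_of_injective
        (fun c => (⟨u • c.1, by rw [← hu, mul_smul, mul_smul, inv_smul_smul, c.2]⟩ : {c : C // s • c = c}))
        fun a b h => Subtype.ext (MulAction.injective u (congrArg Subtype.val h))) (L.fix s hs)
    rcases L.cls _ (fun c => (i c).2) with h | h | h | h
    exacts [(hn (H.inQ hk h)).elim, a _ (by simp) h, a _ (by simp) h, a _ (by simp) h]
  obtain ⟨κ, hκ⟩ := H.kappa P h2
  have c1 : Nat.card κ.ker ≤ 2 * 2 ^ 19 := by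
    choose t c e using fun g : κ.ker => hκ g.1 g.2
    refine le_trans (Nat.card_le_card_of_injective (fun g => ((t g, ⟨c g,
      (H.cm_q hk (e g ▸ (h3 _ g.1.2).symm)).1⟩) : ZMod 2 × {c : C // co k • c = c})) fun a b h => ?_) ?_
    · obtain ⟨h1, h2⟩ := Prod.mk.inj h
      exact Subtype.ext (Subtype.ext (by rw [e, e, h1, Subtype.mk.inj h2]))
    · rw [Nat.card_prod, Nat.card_zmod]; omega
  obtain ⟨m, hm⟩ := IsPGroup.iff_card.1 (hP.to_subgroup κ.ker)
  have c2 := card_subgroup_dvd_card κ.range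
  rw [card_Co1] at c2
  rw [← κ.ker.index_mul_card, index_ker, mul_comm] at h1
  have := two_pow_dvd h1 (k := 21) fun h => absurd (h.trans c2) (by norm_num)
  exact absurd ((Nat.le_of_dvd Nat.card_pos this).trans c1) (by norm_num)

theorem not4 [Finite G] (L : LF eO eD s0) {Y : Subgroup G} (h1 : 16 ∣ Nat.card Y)
    (h2 : ¬ 32 ∣ Nat.card Y) (h3 : ∀ g ∈ Y, g * y = y * g ∧ g * q 0 Om = q 0 Om * g)
    (h4 : ∀ a, a * y = y * a → a * q 0 Om = q 0 Om * a → ∀ g ∈ Y, a * g * a⁻¹ ∈ Y) : False := by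
  have k1 : ∀ s c, q s c ∈ Y → c = 0 ∨ c = Om := fun s c hc => by
    obtain ⟨u, u1, u2, u3⟩ := ord23
    refine u3 c ?_ ?_
    · have := (H.cm_q (H.rel_q s c) (h3 _ hc).2).2
      rwa [ep_qe, ← odd_eq] at this
    by_contra hn
    obtain ⟨a, k, a1, rfl, a2⟩ := H.liftN u1
    have : ∀ i : ℕ, ∃ t, q t (co k ^ i • c) ∈ Y := fun i => by
      induction i with
      | zero => exact ⟨s, by simpa using hc⟩
      | succ i ih =>
        obtain ⟨t, ht⟩ := ih
        exact ⟨_, by rw [pow_succ', mul_smul, ← a1]; exact h4 a (H.rel_cm a1) a2 _ ht⟩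
    choose t ht using this
    have ne : ∀ i j : ℕ, i < j → j < 23 → co k ^ i • c ≠ co k ^ j • c := fun i j hi hj e => by
      obtain ⟨d, rfl⟩ := Nat.exists_eq_add_of_lt hi
      rw [add_assoc, pow_add, mul_smul, smul_left_cancel_iff] at e
      obtain ⟨m, hm⟩ := exists_pow_eq_self_of_coprime (x := co k) (n := d + 1)
        (Nat.Coprime.coprime_dvd_right (orderOf_dvd_of_pow_eq_one u2)
          (Nat.coprime_of_lt_prime (by omega) (by omega) (by norm_num)).symm)
      exact hn (hm ▸ pow_mem (show _ ∈ MulAction.stabilizer G0 c from e.symm) m)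
    have c1 := Nat.card_le_card_of_injective
      (fun i : Fin 23 => (⟨_, ht i, _, _, rfl⟩ : ↥(Y ⊓ H.Q))) fun i j e => by
        have := (H.inj (Subtype.mk.inj e)).2
        rcases lt_trichotomy i j with h | h | h
        exacts [(ne i j h j.2 this).elim, h, (ne j i h i.2 this.symm).elim]
    obtain ⟨m, hm⟩ := IsPGroup.iff_card.1 (H.pgQ.to_le (inf_le_right (a := Y)))
    rw [hm, Nat.card_fin] at c1
    refine h2 (Dvd.dvd.trans ?_ (card_dvd_of_le (inf_le_left (b := H.Q))))
    rw [hm]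
    refine pow_dvd_pow 2 (m := 5) (not_lt.1 fun h => ?_)
    interval_cases m <;> omega
  have k2 : ∀ g ∈ Y, ∃ t c, g = q t c := fun g hg => by
    obtain ⟨k, hk⟩ := H.up g (h3 g hg).1
    have f : ∀ d : C, d.1 11 = 0 → Fm (co k) d := fun d hd => by
      have := mul_mem hg (h4 (q 0 d) (H.cm _ _) (by
        rw [← mul_inv_eq_iff_eq_mul, H.cj, pl_Om, hd, add_zero]) _ (inv_mem hg))
      rw [show g * (q 0 d * g⁻¹ * (q 0 d)⁻¹) = g * q 0 d * g⁻¹ * (q 0 d)⁻¹ by group, hk, H.q_inv,
        H.mul] at this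
      rcases k1 _ _ this with e | e
      · exact .inl (add_eq_zero_C.1 e)
      · exact .inr (by rw [← e, add_comm, add_assoc, cc2, add_zero])
    have a : ∀ s ∈ [eO, eD], ∀ u ∈ N0, ¬ Ac (u * co k * u⁻¹) s := fun s hs u hu e => by
      obtain ⟨c, c1, c2⟩ := L.oE s hs
      refine c2 ?_
      rw [Fm, ← e, mul_smul, mul_smul]
      rcases f (u⁻¹ • c) (by rw [odd_smul (inv_mem hu), c1]) with h | h <;> rw [h]
      · exact .inl (smul_inv_smul _ _)
      · exact .inr (by rw [smul_add, smul_inv_smul, fix_Om.2 hu])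
    rcases L.sgn _ (H.mem_N0 hk (h3 g hg).2) fun c hc => f c (by rw [hc.2]; rfl) with
      h | ⟨u, hu, h⟩ | ⟨u, hu, h⟩
    exacts [H.inQ hk h, (a _ (by simp) u hu h).elim, (a _ (by simp) u hu h).elim]
  choose t c e using fun g : Y => k2 g g.2
  have := Nat.card_le_card_of_injective (fun g : Y => ((t g, c g = 0) : ZMod 2 × Prop)) fun a b h => by
    obtain ⟨h1, h2⟩ := Prod.mk.inj h
    refine Subtype.ext (by
      rw [e, e, h1]
      rcases k1 _ _ (e a ▸ a.2) with e1 | e1 <;> rcases k1 _ _ (e b ▸ b.2) with e2 | e2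
      · rw [e1, e2]
      · exact (Om_ne_zero (e2.symm.trans (h2 ▸ e1))).elim
      · exact (Om_ne_zero (e1.symm.trans (h2 ▸ e2))).elim
      · rw [e1, e2])
  rw [Nat.card_prod, Nat.card_zmod, Nat.card_eq_fintype_card (α := Prop), Fintype.card_prop] at this
  exact absurd ((Nat.le_of_dvd Nat.card_pos h1).trans this) (by norm_num)

end Sit

theorem card_ker {A B : Type*} [Group A] [Group B] {π : A →* B} (h : Function.Surjective π) :
    Nat.card A = Nat.card π.ker * Nat.card B := by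
  rw [← π.ker.index_mul_card, index_ker, MonoidHom.range_eq_top.2 h, card_top, mul_comm]

theorem fpf_bot {Γ S : Type*} [Group Γ] [Finite Γ] [Group S] (hS : Cfsg.IsB S) {π : Γ →* S}
    (hπ : Function.Surjective π) {t : Γ} (h1 : t ≠ 1) (h2 : t * t = 1)
    (h3 : ∀ n ∈ π.ker, t * n * t⁻¹ = n → n = 1) : π.ker = ⊥ := by
  haveI := hS.1
  have k : ∀ n ∈ π.ker, t * n * t⁻¹ = n⁻¹ := fun n hn => by
    have := MonoidHom.FixedPointFree.coe_eq_inv_of_involutive
      (φ := (MulAut.conjNormal t : MulAut π.ker))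
      (fun m hm => Subtype.ext (h3 m m.2 (congrArg Subtype.val hm))) fun m => by
        rw [← MulAut.mul_apply, ← map_mul, h2, map_one, MulAut.one_apply]
    exact congrArg Subtype.val (congrFun this ⟨n, hn⟩)
  have cm : ∀ a ∈ π.ker, ∀ b ∈ π.ker, a * b = b * a := fun a ha b hb => by
    have := k _ (mul_mem ha hb)
    rw [← conj_mul, k a ha, k b hb, ← mul_inv_rev, inv_inj] at this
    exact this.symm
  rcases ((inferInstance : (centralizer (π.ker : Set Γ)).Normal).map π hπ).eq_bot_or_eq_top with e | e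
  · exfalso
    have z : π t ∈ center S := mem_center_iff.2 fun s => by
      obtain ⟨g, rfl⟩ := hπ s
      have : π (t * (g * t * g⁻¹)) ∈ (centralizer (π.ker : Set Γ)).map π :=
        mem_map_of_mem _ fun n hn => by
          have a := k _ (π.normal_ker.conj_mem n hn g⁻¹)
          have b := k _ (inv_mem hn)
          rw [inv_inv] at a b
          rw [eq_comm, ← mul_inv_eq_iff_eq_mul]
          calc _ = t * (g * (t * (g⁻¹ * n * g) * t⁻¹) * g⁻¹) * t⁻¹ := by group
            _ = t * n⁻¹ * t⁻¹ := by rw [a]; group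
            _ = _ := b
      rw [e, mem_bot, map_mul, mul_eq_one_iff_inv_eq, ← map_inv, inv_eq_of_mul_eq_one_left h2,
        map_mul, map_mul, map_inv, eq_mul_inv_iff_mul_eq] at this
      exact this.symm
    rcases (inferInstance : (center S).Normal).eq_bot_or_eq_top with e | e
    · rw [e, mem_bot] at z
      exact h1 (h3 t z (by group))
    · letI := Group.commGroupOfCenterEqTop e
      have := IsSimpleGroup.prime_card (α := S)
      rw [hS.2] at this
      exact absurd this (by norm_num)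
  · obtain ⟨c, c1, c2⟩ : π t ∈ (centralizer (π.ker : Set Γ)).map π := e ▸ mem_top _
    refine (eq_bot_iff_forall _).2 fun n hn => h3 n hn ?_
    have : t * c⁻¹ ∈ π.ker := by rw [MonoidHom.mem_ker, map_mul, map_inv, c2, mul_inv_cancel]
    calc _ = t * c⁻¹ * (c * n) * t⁻¹ := by group
      _ = _ := by rw [← c1 n hn, ← mul_assoc, cm _ this n hn]; group

end H10.Mon.MG
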