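import Mathlib
import Cfsg.Agent.H19.MG11
import Cfsg.Agent.H10.YB

/-!
# The order of a group with both centralisers
-/

set_option autoImplicit false
set_option linter.all false

namespace H10.Mon.MG

open Subgroup Cfsg

variable {G : Type*} [Group G] {x y : G} {q : ZMod 2 → C → G} {eO eD s0 : G0}

/-- A surjection with kernel `⟨x⟩`. -/
structure Cv (x : G) {Γ : Type*} [Group Γ] (φ : centralizer ({x} : Set G) →* Γ) : Prop where
  surj : Function.Surjective φ
  ker : ∀ g, φ g = 1 ↔ g.1 = 1 ∨ g.1 = x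

theorem exists_cv {Γ : Type*} [Group Γ] (hx : orderOf x = 2)
    (h : IsNonsplitDoubleCover (centralizer ({x} : Set G)) Γ) : ∃ φ, Cv x (Γ := Γ) φ := by
  obtain ⟨h1, ⟨e⟩, -⟩ := h
  refine ⟨e.toMonoidHom.comp (QuotientGroup.mk' _), e.surjective.comp (QuotientGroup.mk'_surjective _),
    fun g => ?_⟩
  have hz : (⟨x, mem_centralizer_singleton_iff.2 rfl⟩ : centralizer ({x} : Set G)) ∈ center _ :=
    mem_center_iff.2 fun a => Subtype.ext (mem_centralizer_singleton_iff.1 a.2)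
  haveI : Finite (center (centralizer ({x} : Set G))) := Nat.finite_of_card_ne_zero (by omega)
  have : zpowers (⟨x, mem_centralizer_singleton_iff.2 rfl⟩ : centralizer ({x} : Set G)) = center _ :=
    eq_of_le_of_card_ge (zpowers_le.2 hz) (by rw [h1, Nat.card_zpowers, ← Subgroup.orderOf_coe, hx])
  change e (QuotientGroup.mk g) = 1 ↔ _
  rw [map_eq_one_iff _ e.injective, QuotientGroup.eq_one_iff, ← this]
  constructor
  · intro h
    exact (mem_zpowers_invol (Subtype.ext (by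
      change x * x = 1
      rw [← pow_two, ← hx, pow_orderOf_eq_one])) h).imp (congrArg Subtype.val) (congrArg Subtype.val)
  · rintro (h | h)
    · rw [show g = 1 from Subtype.ext h]; exact one_mem _
    · rw [show g = ⟨x, _⟩ from Subtype.ext h]; exact mem_zpowers _

theorem Cv.cor {G' Γ : Type*} [Group G'] [Group Γ] {x' : G'} {φ : centralizer ({x} : Set G) →* Γ}
    {φ' : centralizer ({x'} : Set G') →* Γ} (h : Cv x φ) (h' : Cv x' φ') :
    Cor x x' fun a a' => ∃ u u', φ ⟨a, u⟩ = φ' ⟨a', u'⟩ where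
  mul := fun ⟨u, u', e⟩ ⟨v, v', f⟩ => ⟨mul_mem u v, mul_mem u' v',
    (φ.map_mul ⟨_, u⟩ ⟨_, v⟩).trans (by rw [e, f, ← map_mul]; rfl)⟩
  inv := fun ⟨u, u', e⟩ => ⟨inv_mem u, inv_mem u',
    (φ.map_inv ⟨_, u⟩).trans (by rw [e, ← map_inv]; rfl)⟩
  cm := fun ⟨u, _⟩ => mem_centralizer_singleton_iff.1 u
  cm' := fun ⟨_, u, _⟩ => mem_centralizer_singleton_iff.1 u
  up a ha := by
    obtain ⟨b, hb⟩ := h'.surj (φ ⟨a, mem_centralizer_singleton_iff.2 ha⟩)
    exact ⟨b, _, b.2, hb.symm⟩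
  down a ha := by
    obtain ⟨b, hb⟩ := h.surj (φ' ⟨a, mem_centralizer_singleton_iff.2 ha⟩)
    exact ⟨b, b.2, _, hb⟩
  ker := ⟨fun ⟨u, _, e⟩ => (h.ker _).1 (e.trans φ'.map_one), fun e =>
    ⟨mem_centralizer_singleton_iff.2 (by rcases e with rfl | rfl <;> simp), one_mem _,
      ((h.ker _).2 e).trans φ'.map_one.symm⟩⟩
  ker' := ⟨fun ⟨_, u, e⟩ => (h'.ker _).1 (e.symm.trans φ.map_one), fun e =>
    ⟨one_mem _, mem_centralizer_singleton_iff.2 (by rcases e with rfl | rfl <;> simp),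
      φ.map_one.trans ((h'.ker _).2 e).symm⟩⟩

theorem Cv.card {Γ : Type*} [Group Γ] {φ : centralizer ({x} : Set G) →* Γ} (h : Cv x φ)
    (hx : x ≠ 1) : Nat.card (centralizer ({x} : Set G)) = 2 * Nat.card Γ := by
  rw [card_ker h.surj]
  congr 1
  rw [Nat.card_eq_two_iff' (1 : φ.ker)]
  refine ⟨⟨⟨x, mem_centralizer_singleton_iff.2 rfl⟩, (h.ker _).2 (.inr rfl)⟩,
    fun e => hx (congrArg (·.1.1) e), fun g hg => Subtype.ext (Subtype.ext
      (((h.ker _).1 g.2).resolve_left fun e => hg (Subtype.ext (Subtype.ext e))))⟩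

theorem twoM : ∃ γ, Two (tM tau) (zM tau) qM γ := by
  obtain ⟨d, d1, d2⟩ := exists_perp_one Om_ne_zero (S_ne_Om c0).symm
  refine ⟨⟨tau * rho (qe 0 d), mul_mem (tau_mem_MM _) (rho_mem_MM _ _)⟩, sitM, Subtype.ext tt_eq.symm,
    fun h => ?_, Subtype.ext (mem_HH.1 (mul_mem (tau_mem_HH tri_tau) (qe_mem_HH.2 d1))).2,
    Subtype.ext ?_, Subtype.ext ?_⟩
  · obtain ⟨f⟩ := H9.centralizer_equiv_of_conj h
    have := Nat.card_congr f.toEquiv
    rw [sitM.card, cent_tM, Nat.card_congr (subgroupOfEquivOfLe HH_le).toEquiv, Y.card_HH] at this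
    norm_num at this
  · change tau * rho (qe 0 d) * zz * (tau * rho (qe 0 d))⁻¹ = xO
    rw [mul_assoc tau, zz_comm, ← pre_tau.zz_conj]; group
  · change tau * rho (qe 0 d) * xO * (tau * rho (qe 0 d))⁻¹ = zz
    have : rho (qe 0 d) * xO * (rho (qe 0 d))⁻¹ = zz * xO := by
      rw [xO, zz, ← map_inv, ← map_mul, ← map_mul, ← map_mul, conj_qe, ep_qe, qe_mul, co_qe,
        one_smul, add_comm (bb d Om), d2, bb_zero_left, zero_add, zero_add, add_zero, add_zero]
    rw [← pre_tau.zx_conj, ← this]; group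

theorem isB_of [Finite G] (L : LF eO eD s0) (H : Sit y q) (hx : orderOf x = 2) {Γ S : Type*} [Group Γ]
    [Group S] {φ : centralizer ({x} : Set G) →* Γ} (h : Cv x φ) (hS : IsB S) {π : Γ →* S}
    (hπ : Function.Surjective π) : IsB Γ ∧ ∃ y q, One x y q := by
  have xx : x * x = 1 := by rw [← pow_two, ← hx, pow_orderOf_eq_one]
  have x1 : x ≠ 1 := by rintro rfl; simp at hx
  haveI : Finite Γ := Finite.of_surjective _ h.surj
  have c1 := h.card x1
  rw [card_ker hπ, hS.2] at c1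
  obtain ⟨T, hT⟩ := (pg_zp (s := (⟨x, mem_centralizer_singleton_iff.2 rfl⟩ : centralizer {x}))
    (Subtype.ext xx)).exists_le_sylow
  have c2 : ∀ j, 2 ^ j ∣ Nat.card (centralizer ({x} : Set G)) →
      2 ^ j ∣ Nat.card (T.1.map (centralizer {x}).subtype) := fun j hj => by
    rw [card_map_of_injective (subtype_injective _)]
    exact T.pow_dvd_card_of_pow_dvd_card hj
  have pP := T.2.map (centralizer {x}).subtype
  have xP : x ∈ T.1.map (centralizer {x}).subtype := ⟨_, hT (mem_zpowers _), rfl⟩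
  have Px : ∀ p ∈ T.1.map (centralizer {x}).subtype, p * x = x * p := fun _ ⟨p, _, e⟩ =>
    e ▸ mem_centralizer_singleton_iff.1 p.2
  generalize T.1.map (centralizer {x}).subtype = P at c2 pP xP Px
  obtain ⟨y, q, H, Py⟩ : ∃ y q, Sit y q ∧ ∀ p ∈ P, p * y = y * p := by
    obtain ⟨n, hn⟩ := H.syl pP
    refine ⟨_, _, H.view n⁻¹, fun p hp => ?_⟩
    calc _ = n⁻¹ * (n * p * n⁻¹ * y) * n := by group
      _ = _ := by rw [hn p hp]; group
  have nc : ¬ IsConj x y := fun e => by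
    obtain ⟨f⟩ := H9.centralizer_equiv_of_conj e
    have := Nat.card_congr f.toEquiv
    rw [H.card, c1] at this
    omega
  obtain ⟨t, c, e⟩ := H.inQ_of L pP (c2 42 (by
    rw [c1, mul_left_comm]; exact Dvd.dvd.mul_left (by norm_num) _)) Py Px (Py x xP) xx
  have h0 : c ≠ 0 := by
    rintro rfl
    rcases H.q0 t with e' | e' <;> rw [e'] at e
    exacts [x1 e, nc (e ▸ IsConj.refl _)]
  have mv : ∀ d, (∃ a, a * y = y * a ∧ a * q t c * a⁻¹ = q 0 d) → ∃ q, Sit y q ∧ q 0 d = x := by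
    rintro d ⟨a, a1, a2⟩
    have := H.view a⁻¹
    rw [(show Commute a y from a1).inv_left.eq, mul_inv_cancel_right] at this
    exact ⟨_, this, by rw [← a2, e]; group⟩
  let K : Subgroup G := centralizer {y} ⊓ centralizer {x}
  let ψ : K →* S := π.comp (φ.comp (inclusion inf_le_right))
  have cK : ∀ j, 2 ^ j ∣ Nat.card (centralizer ({x} : Set G)) → 2 ^ j ∣ Nat.card K := fun j hj =>
    (c2 j hj).trans (card_dvd_of_le fun p hp => ⟨mem_centralizer_singleton_iff.2 (Py p hp),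
      mem_centralizer_singleton_iff.2 (Px p hp)⟩)
  have Y1 : ∀ g ∈ ψ.ker.map K.subtype, g * x = x * g ∧ g * y = y * g := fun _ ⟨g, _, e⟩ =>
    e ▸ ⟨mem_centralizer_singleton_iff.1 g.2.2, mem_centralizer_singleton_iff.1 g.2.1⟩
  have Y2 : ∀ a, a * x = x * a → a * y = y * a → ∀ g ∈ ψ.ker.map K.subtype,
      a * g * a⁻¹ ∈ ψ.ker.map K.subtype := fun a a1 a2 _ ⟨g, g1, e⟩ =>
    ⟨_, ψ.normal_ker.conj_mem g g1 ⟨a, mem_centralizer_singleton_iff.2 a2,
      mem_centralizer_singleton_iff.2 a1⟩, e ▸ rfl⟩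
  by_cases hs : IsS c
  · obtain ⟨q, H, e⟩ := mv _ (H.trS t 0 hs (isS_val c0))
    have O : One x y q := ⟨H, e, nc⟩
    refine ⟨?_, y, q, O⟩
    have c3 := H.cardK 0 (isS_ne (isS_val c0))
    rw [e, show MulAction.orbit G0 c0.1 = {c | IsS c} from Set.ext fun d => ⟨fun ⟨g, e⟩ =>
      e ▸ (isS_val c0).smul g, fun hd => (trans_S c0 (toS d hd)).imp fun g e => congrArg Subtype.val e⟩,
      ncard_isS] at c3
    have od : ¬ 2 ∣ Nat.card π.ker := fun ⟨m, hm⟩ => by
      have := cK 43 (by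
        rw [c1, hm, ← mul_assoc, ← mul_assoc, mul_right_comm]; exact Dvd.dvd.mul_right (by norm_num) _)
      change 2 * 98280 * Nat.card K = _ at c3
      omega
    have := fpf_bot hS hπ (t := φ ⟨y, mem_centralizer_singleton_iff.2 O.xy.symm⟩)
      (fun e => by
        rcases (h.ker _).1 e with e | e
        exacts [H.y_ne e, nc ((show y = x from e) ▸ IsConj.refl _)])
      (by rw [← map_mul, ← φ.map_one]; exact congrArg φ (Subtype.ext H.yy)) fun n hn e => by
        obtain ⟨n, rfl⟩ := h.surj n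
        rw [eq_comm, ← map_inv, ← map_mul, ← map_mul, ← inv_mul_eq_one, ← map_inv, ← map_mul,
          h.ker] at e
        have ny : n.1 * y = y * n.1 := by
          have := O.eq_y (u := n.1⁻¹ * y * n.1) (cj_of (a := n.1⁻¹) (by rw [inv_inv])) (by
            change n.1⁻¹ * (y * n.1 * y⁻¹) = 1 ∨ n.1⁻¹ * (y * n.1 * y⁻¹) = x at e
            rw [← mul_assoc, ← mul_assoc, mul_inv_eq_iff_eq_mul, mul_inv_eq_iff_eq_mul, one_mul,
              O.xy] at e
            tauto)
          conv_lhs => rw [← this]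
          group
        obtain ⟨t, c, e⟩ := O.nrm (N := ψ.ker.map K.subtype) Nat.prime_two (by norm_num) od (fun _ ⟨g, g1, e⟩ => by
          have : φ (inclusion inf_le_right g ^ Nat.card π.ker) = 1 := by
            rw [map_pow]
            exact congrArg Subtype.val (pow_card_eq_one' (x := (⟨_, g1⟩ : π.ker)))
          subst e
          rcases (h.ker _).1 this with e' | e'
          exacts [⟨0, 0, e'.trans H.zero.symm⟩, ⟨0, _, e'.trans O.hx.symm⟩]) Y1 Y2
          (g := n.1) ⟨⟨n.1, mem_centralizer_singleton_iff.2 ny, n.2⟩, hn, rfl⟩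
        refine orderOf_eq_one_iff.1 (Nat.eq_one_of_dvd_coprimes
          (((Nat.Prime.coprime_iff_not_dvd Nat.prime_two).2 od).pow_left 2)
          (orderOf_dvd_of_pow_eq_one ?_) (orderOf_dvd_of_pow_eq_one
            (congrArg Subtype.val (pow_card_eq_one' (x := (⟨_, hn⟩ : π.ker))))))
        rw [← map_pow, show n ^ 2 ^ 2 = 1 from Subtype.ext (by
          rw [Subgroup.coe_pow, e, H.q4]; rfl), map_one]
    have e := MulEquiv.ofBijective π ⟨(MonoidHom.ker_eq_bot_iff π).1 this, hπ⟩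
    haveI := hS.1
    exact ⟨e.isSimpleGroup, (Nat.card_congr e.toEquiv).trans hS.2⟩
  · exfalso
    obtain ⟨u, rfl⟩ := typ4 h0 (by
      rw [e, H.sq, ← H.zero] at xx
      exact (H.inj xx).1) hs
    obtain ⟨q, H, e⟩ := mv Om (by simpa using H.tr t 0 h0 u⁻¹)
    have c3 := H.cardK 0 Om_ne_zero
    rw [e, ncard_orbit_Om] at c3
    change 2 * 8292375 * Nat.card K = _ at c3
    have c4 : Nat.card K = Nat.card (ψ.ker.map K.subtype) * Nat.card ψ.range := by
      rw [card_map_of_injective (subtype_injective _), ← ψ.ker.index_mul_card, index_ker, mul_comm]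
    have c5 := card_subgroup_dvd_card ψ.range
    rw [hS.2] at c5
    refine H.not4 L (two_pow_dvd (n := 45) (k := 41) (by rw [← c4]; omega)
      fun h => absurd (h.trans c5) (by norm_num)) (fun h32 => ?_)
      (fun g hg => e ▸ (Y1 g hg).symm) fun a a1 a2 => Y2 a (e ▸ a2) a1
    have c6 := card_ker (π := π.comp φ) (hπ.comp h.surj)
    have c7 : Nat.card (ψ.ker.map K.subtype) ∣ Nat.card (π.comp φ).ker := by
      rw [← card_map_of_injective (K := (π.comp φ).ker) (subtype_injective _)]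
      exact card_dvd_of_le fun _ ⟨g, g1, e⟩ => ⟨inclusion inf_le_right g, g1, e⟩
    have := cK 46 (by
      rw [c6, hS.2]
      exact (mul_dvd_mul (h32.trans c7) (show 2 ^ 41 ∣ 4154781481226426191177580544000000 by norm_num) :
        32 * 2 ^ 41 ∣ _))
    omega

theorem main [Finite G] (L : LF eO eD s0) (H : Sit y q) (hx : orderOf x = 2)
    (hc : IsNonsplitDoubleCover (centralizer ({x} : Set G)) Spor.BabyMonster) {S : Type*} [Group S]
    (hS : IsB S) {π : Spor.BabyMonster →* S} (hπ : Function.Surjective π) :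
    Nat.card G = 808017424794512875886459904961710757005754368000000000 ∧
      ∃ x y : G, orderOf x = 2 ∧ orderOf y = 2 ∧ ¬ IsConj x y ∧
        ∀ z : G, orderOf z = 2 → IsConj z x ∨ IsConj z y := by
  obtain ⟨φ, h⟩ := exists_cv hx hc
  obtain ⟨hB, y, q, O⟩ := isB_of L H hx h hS hπ
  obtain ⟨φ', h'⟩ := exists_cv ((Subgroup.orderOf_coe (tM tau)).symm.trans orderOf_tt) (Y.baby_cover hB)
  obtain ⟨γ', H'⟩ := twoM
  obtain ⟨R, r, hy⟩ := norm O H'.one (h.cor h')
  obtain ⟨γ, T⟩ := two_of O H' r hy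
  exact ⟨(card_eq T H' L r hy).trans card_M, x, y, hx, O.s.ord, O.nc, fun z hz =>
    (T.classes L (by rw [← pow_two, ← hz, pow_orderOf_eq_one]) (by rintro rfl; simp at hz)).imp
      IsConj.symm IsConj.symm⟩

end H10.Mon.MG
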