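import Mathlib
import Cfsg.Agent.H11.LF0

/-!
# The involutions of `Co1` on the Leech lattice modulo 2
-/

set_option autoImplicit false
set_option linter.all false
set_option maxRecDepth 100000

namespace H10.Mon.LFt

open Cfsg H9 H29 H10.Mon.MG H11.M24I
open scoped symmDiff Pointwise

def oO : ℕ := 12656663
def oP : ℕ := 15777
def oD : ℕ := 12656054
def oS : ℕ := 1199086
def SO : List ℕ := [1, 2050, 4, 8, 16, 32, 64, 128, 256, 512, 1024, 2048, 5168, 8192, 17456, 33840, 65549, 131853, 262272, 525376, 1049632, 2098208, 4195213, 8396800]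
def SD : List ℕ := [1, 2, 2052, 2056, 16, 32, 64, 128, 256, 2560, 3072, 2048, 8142, 12205, 19275, 35559, 69536, 134362, 266029, 527163, 1051351, 2099679, 4194419, 14732287]
def S0 : List ℕ := [2054, 84, 2133, 282, 2113, 375, 22, 1623, 2311, 1158, 3158, 2048, 1789870, 8295065, 8289097, 34519, 5172618, 132737, 4942732, 2097531, 1214165, 526703, 6818105, 13719125]
def SB : List ℕ := [2054, 2132, 85, 282, 65, 2423, 2070, 3671, 2311, 3206, 3158, 2048, 1789209, 8295758, 8286222, 34823, 5171201, 131072, 4940802, 2097152, 1215491, 524288, 6818115, 16661785]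
def wB : List ℕ := [0, 6, 11, 11, 21, 16, 15, 2, 5]
def RA : List ℕ := [0, 5279, 90318, 95313, 280334, 283537, 337856, 340831]
def SA : List (List ℕ) := [[1, 2707, 2709, 1055, 2689, 3040, 726, 2577, 2311, 512, 3729, 2048, 5896526, 1351949, 1362011, 34823, 5040068, 131072, 395285, 4678928, 1181331, 7300368, 4230032, 14378061],
  [1, 2707, 2709, 1055, 2689, 992, 726, 529, 2311, 2560, 3729, 2048, 5898103, 1355191, 1363751, 32768, 5041027, 133127, 393473, 4679698, 1181783, 7299093, 4229127, 15822263],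
  [2049, 2707, 661, 1055, 641, 3040, 726, 2577, 2311, 512, 1681, 2048, 5898078, 1351707, 1363805, 34775, 5038447, 135120, 393469, 4677736, 1180477, 7299373, 4230189, 10105893],
  [2049, 2707, 661, 1055, 641, 992, 726, 529, 2311, 2560, 1681, 2048, 5894503, 1354913, 1359905, 36816, 5039400, 133079, 395753, 4679018, 1183225, 7302184, 4229050, 11549514],
  [1, 2707, 2709, 3103, 641, 3040, 726, 529, 263, 512, 1681, 2048, 5898078, 1355485, 1361803, 35783, 5040803, 135120, 395883, 4677822, 1181485, 7302015, 4227367, 8579707],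
  [1, 2707, 2709, 3103, 641, 992, 726, 2577, 263, 2560, 1681, 2048, 5894503, 1352295, 1360119, 33728, 5041892, 133079, 394111, 4681148, 1182185, 7302778, 4229808, 11069328],
  [2049, 2707, 661, 3103, 2689, 3040, 726, 529, 263, 512, 3729, 2048, 5896526, 1355723, 1360013, 33815, 5039112, 131072, 393859, 4679110, 1180291, 7300930, 4230810, 12827651],
  [2049, 2707, 661, 3103, 2689, 992, 726, 2577, 263, 2560, 3729, 2048, 5898103, 1352561, 1363953, 35856, 5040207, 133127, 396183, 4677828, 1182791, 7301703, 4230413, 15318909]]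
def WA : List (List ℕ) := [[7, 2, 21, 16, 14, 0],
  [0, 6, 11, 11, 21, 16, 5, 3],
  [7, 2, 21, 16, 15, 0],
  [0, 12, 13, 13, 21, 16, 2, 15, 5],
  [7, 11, 15, 21, 16, 6, 11],
  [1, 4, 6, 21, 16, 8, 6, 11],
  [5, 11, 5, 21, 16, 6, 0, 1],
  [17, 19, 21, 22, 24, 27, 6, 1, 10, 21, 16, 0, 4, 13]]
def φA : List ℕ := [0, 0, 35, 0, 11, 0, 33, 2, 41, 32, 42, 40]
def φB : List ℕ := [0, 0, 25, 0, 0, 0, 35, 34, 49, 56, 137, 17]
def NO' : List ℕ := [0, 0, 0, 65536, 1052672, 0, 1572864, 262144, 0, 196608, 1048576, 2, 0, 8388608, 0, 0, 0, 0, 0, 0, 0, 0, 0, 0]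
def WO : List ℕ := [2048, 1072, 13, 781, 128, 1088, 1056, 8192, 1, 4, 32, 256, 20480, 36864, 3145728, 4587520, 0, 0, 0, 0, 0, 0, 0, 0]
def FO : List ℕ := [256, 0, 512, 772, 66, 1024, 1120, 16, 2048, 2060, 1088, 1, 0, 128, 4096, 8192, 0, 0, 0, 0, 0, 16384, 32768, 0]
def ND' : List ℕ := [1294340, 3883008, 0, 1236996, 2158596, 3174404, 1622016, 270336, 2519040, 299012, 1552388, 4, 0, 0, 0, 0, 0, 0, 0, 0, 0, 0, 9756672, 0]
def WD : List ℕ := [2048, 4046, 4013, 2891, 2791, 4000, 3290, 3885, 2875, 2775, 2527, 6343679, 0, 0, 0, 0, 0, 0, 0, 0, 0, 0, 0, 0]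
def FD : List ℕ := [633, 1896, 0, 605, 1055, 1551, 792, 132, 1230, 147, 759, 1, 0, 0, 0, 0, 0, 0, 0, 0, 0, 0, 2716, 0]
def N0' : List ℕ := [0, 0, 642, 0, 42, 0, 682, 0, 34, 0, 130, 643, 0, 0, 0, 24609, 0, 602122, 8483363, 0, 598187, 524962, 8986667, 0]
def W0 : List ℕ := [2055, 86, 274, 343, 1751, 1670, 1793966, 8303257, 8272713, 5238154, 2621819, 5330517, 0, 0, 0, 0, 0, 0, 0, 0, 0, 0, 0, 0]
def F0 : List ℕ := [0, 0, 50, 0, 14, 0, 62, 0, 10, 0, 18, 51, 0, 0, 0, 393, 0, 1734, 3051, 0, 1695, 1082, 3727, 0]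
def Wf : List ℕ := [1, 4, 32, 256, 20480, 36864, 3145728, 4587520, 0, 0, 0, 0, 0, 0, 0, 0, 0, 0, 0, 0, 0, 0, 0, 0]
def Pf : List ℕ := [1, 0, 2, 3, 0, 4, 4, 0, 8, 8, 4, 0, 0, 0, 16, 32, 0, 0, 0, 0, 0, 64, 128, 0]
def Wv : List ℕ := [2048, 1072, 13, 781, 128, 1088, 1056, 8192, 0, 0, 0, 0, 0, 0, 0, 0, 0, 0, 0, 0, 0, 0, 0, 0]
def Pu : List ℕ := [0, 1, 0, 0, 0, 0, 0, 0, 0, 0, 0, 0, 2, 0, 2, 2, 4, 8, 16, 32, 64, 64, 24, 128]
def ZT : List (List ℕ) := [[],
  [16],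
  [22, 16],
  [3, 13, 13, 16],
  [1, 6, 10, 15, 16],
  [15, 13, 0, 0, 16],
  [19, 3, 13, 13, 16],
  [0, 15, 6, 2, 16],
  [20, 0, 15, 6, 2, 16],
  [22, 1, 6, 10, 15, 16],
  [20, 3, 5, 5, 2, 16]]
def FS : List ℕ := [643, 644, 898, 901, 1026, 1029, 1088, 1095, 1107, 1108, 1296, 1303, 2691, 2692, 2946, 2949, 3074, 3077, 3136, 3143, 3155, 3156, 3344, 3351]

noncomputable def eO : G0 := mn idP oO
noncomputable def eD : G0 := mn idP oD
noncomputable def s0 : G0 := mn r1 oS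

theorem cO : Cols eO SO := cols_mn (by decide +kernel)
theorem cD : Cols eD SD := cols_mn (by decide +kernel)
theorem cS : Cols s0 S0 := cols_mn (by decide +kernel)
theorem cB : Cols (mn r1 0) SB := cols_mn (by decide +kernel)
theorem chkA' : allN 8 (fun i => and2 (chkM r2 (nth 0 RA i) (nth [] SA i))
    (and2 (ou (cjW (nth [] WA i) (nth [] SA i) SO) (cjW (nth [] WA i) (nth [] SA i) SD))
      (and2 (fmN (nth [] SA i) 643) (fmN (nth [] SA i) 3014)))) = true := by decide +kernel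

theorem tri_of {s : G0} {S : List ℕ} (hs : Cols s S) (h1 : fmN S 643 = true)
    (h2 : fmN S 3014 = true) : Tri3 s :=
  ⟨dec 643, dec 3014, sh0_of (by decide +kernel), sh0_of (by decide +kernel),
    by rw [← dec_xor]; exact sh0_of (by decide +kernel), (fmN_iff hs).1 h1, (fmN_iff hs).1 h2⟩

theorem factA {r : ℕ} (h : r ∈ RA) : Tri3 (mn r2 r) ∧ (Cj (mn r2 r) eO ∨ Cj (mn r2 r) eD) := by
  obtain ⟨i, hi, rfl⟩ : ∃ i < 8, nth 0 RA i = r := by revert r; decide +kernel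
  have := allN_true.1 chkA' i hi
  simp only [and2_true, ou_true] at this
  obtain ⟨h1, h2, h3, h4⟩ := this
  have c := cols_mn h1
  exact ⟨tri_of c h3 h4, h2.imp (fun k => ⟨_, cjW_ac c cO k⟩) fun k => ⟨_, cjW_ac c cD k⟩⟩

theorem factB : Cj (mn r1 0) eD := ⟨_, cjW_ac (w := wB) cB cD (by decide +kernel)⟩

theorem mn_id {m : ℕ} (hm : isCw m = true) :
    mn idP m = mono 1 ⟨ofMask m, mem_GC_of_isCw hm⟩ :=
  mn_eq (by decide +kernel) hm pm_idP.symm rfl

theorem conj_sign {o : GC} {m : ℕ} (hm : isCw m = true) (h : ∃ g ∈ M24, g • o.1 = ofMask m) :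
    ∃ u ∈ N0, Ac (u * mono 1 o * u⁻¹) (mn idP m) := by
  obtain ⟨g, hg, e⟩ := h
  refine ⟨permHom ⟨g, hg⟩, perm_mem _, ?_⟩
  rw [perm_conj, mn_eq (by decide +kernel) hm (σ := ⟨g, hg⟩ * 1 * ⟨g, hg⟩⁻¹)
    (o := ⟨g • o.1, H9.smul_mem_GC hg o.2⟩) (by rw [pm_idP]; simp) e]
  exact ac_refl _

theorem red_one (o : GC) : Ac (mono 1 o) 1 ∨ (∃ u ∈ N0, Ac (u * mono 1 o * u⁻¹) eO) ∨
    ∃ u ∈ N0, Ac (u * mono 1 o * u⁻¹) eD := by
  have k : ∀ o : GC, o.1.card = 0 ∨ o.1.card = 8 ∨ o.1.card = 12 → Ac (mono 1 o) 1 ∨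
      (∃ u ∈ N0, Ac (u * mono 1 o * u⁻¹) eO) ∨ ∃ u ∈ N0, Ac (u * mono 1 o * u⁻¹) eD := by
    rintro o (h | h | h)
    · left
      rw [← mono_one, show o = gc0 from Subtype.ext (Finset.card_eq_zero.1 h)]
      exact ac_refl _
    · exact Or.inr (Or.inl (conj_sign (by decide +kernel)
        (M24_trans_octads ⟨o.2, h⟩ (mem_octads_of_isOct (by decide +kernel)))))
    · exact Or.inr (Or.inr (conj_sign (by decide +kernel)
        (M24_trans_dodecads ⟨o.2, h⟩ (mem_dodecads_of_isDod (by decide +kernel)))))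
  by_cases h : o.1.card = 0 ∨ o.1.card = 8 ∨ o.1.card = 12
  · exact k o h
  have h1 := card_of_mem_GC o.2
  have h2 := Finset.card_compl o.1
  rw [card_golayPt] at h2
  have e := ac_symm (mono_compl 1 o)
  exact (k ⟨o.1ᶜ, compl_mem_GC o.2⟩ (by change o.1ᶜ.card = 0 ∨ o.1ᶜ.card = 8 ∨ _; omega)).imp
    (ac_trans e) (Or.imp (fun ⟨u, hu, h⟩ => ⟨u, hu, ac_trans (ac_conj e u) h⟩)
      fun ⟨u, hu, h⟩ => ⟨u, hu, ac_trans (ac_conj e u) h⟩)

theorem red_conj {d : ℕ} {φ R : List ℕ} (h : chkR d φ R = true) {σ : M24} {o : GC}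
    (h2 : ∀ c : C, mono σ o • mono σ o • c = c) {g : Equiv.Perm GolayPt} (hg : g ∈ M24)
    (e : g * H9.pm d * g⁻¹ = σ) : ∃ u ∈ N0, ∃ r ∈ R, Ac (u * mono σ o * u⁻¹) (mn d r) := by
  have e1 := perm_conj (⟨g, hg⟩ : M24)⁻¹ σ o
  obtain ⟨u, hu, r, hr, h3⟩ := red_fix h (σ := (⟨g, hg⟩ : M24)⁻¹ * σ * (⟨g, hg⟩ : M24)⁻¹⁻¹)
    (by simp [← e, mul_assoc]) (sq_cond fun c => by
      rw [← e1]; simp only [mul_smul, inv_smul_smul, h2, smul_inv_smul]).2
  refine ⟨u * permHom (⟨g, hg⟩ : M24)⁻¹, N0.mul_mem hu (perm_mem _), r, hr, ?_⟩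
  rw [← e1] at h3
  convert h3 using 1
  group

theorem red_N0 {h : G0} (hh : h ∈ N0) (h2 : ∀ c : C, h • h • c = c) :
    ∃ u ∈ N0, ∃ r : G0, Ac (u * h * u⁻¹) r ∧
      ((Tri3 r ∧ (Ac r 1 ∨ Cj r eO ∨ Cj r eD)) ∨ Cj r eD ∨ Cj r s0) := by
  have cj : ∀ a : G0, Cj a a := fun a => ⟨1, by simpa using ac_refl a⟩
  obtain ⟨σ, o, rfl⟩ := mem_N0_iff.1 hh
  by_cases h1 : σ = 1
  · subst h1
    rcases red_one o with k | ⟨u, hu, k⟩ | ⟨u, hu, k⟩
    · exact ⟨1, N0.one_mem, 1, by simpa using k, Or.inl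
        ⟨tri_of cols_one (by decide +kernel) (by decide +kernel), Or.inl (ac_refl _)⟩⟩
    · exact ⟨u, hu, _, k, Or.inl
        ⟨tri_of cO (by decide +kernel) (by decide +kernel), Or.inr (Or.inl (cj _))⟩⟩
    · exact ⟨u, hu, _, k, Or.inr (Or.inl (cj _))⟩
  obtain ⟨g, hg, e | e⟩ := inv_M24 σ.2 (congrArg Subtype.val (sq_cond h2).1)
    fun k => h1 (Subtype.ext k)
  · obtain ⟨u, hu, r, hr, k⟩ := red_conj (φ := φB) (R := [0, oS]) (by decide +kernel) h2 hg e
    simp only [List.mem_cons, List.not_mem_nil, or_false] at hr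
    rcases hr with rfl | rfl
    · exact ⟨u, hu, _, k, Or.inr (Or.inl factB)⟩
    · exact ⟨u, hu, _, k, Or.inr (Or.inr (cj _))⟩
  · obtain ⟨u, hu, r, hr, k⟩ := red_conj (φ := φA) (R := RA) (by decide +kernel) h2 hg e
    exact ⟨u, hu, _, k, Or.inl ⟨(factA hr).1, Or.inr (factA hr).2⟩⟩

theorem ac_one_conj {h u : G0} (k : Ac (u * h * u⁻¹) 1) : Ac h 1 := fun c => by
  have := k (u • c)
  rw [mul_smul, mul_smul, inv_smul_smul, one_smul, smul_left_cancel_iff] at this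
  rw [this, one_smul]

theorem cls' (h : G0) (h2 : ∀ c : C, h • h • c = c) : Ac h 1 ∨ Cj h eO ∨ Cj h eD ∨ Cj h s0 := by
  obtain ⟨v, hv⟩ := conj_N0 h2
  obtain ⟨u, -, r, k, h3⟩ := red_N0 hv fun c => by
    simp only [mul_smul, inv_smul_smul, h2, smul_inv_smul]
  rw [show u * (v * h * v⁻¹) * u⁻¹ = u * v * h * (u * v)⁻¹ by group] at k
  rcases h3 with ⟨-, h3 | h3 | h3⟩ | h3 | h3
  · exact Or.inl (ac_one_conj (ac_trans k h3))
  · exact Or.inr (Or.inl (cj_of k h3))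
  · exact Or.inr (Or.inr (Or.inl (cj_of k h3)))
  · exact Or.inr (Or.inr (Or.inl (cj_of k h3)))
  · exact Or.inr (Or.inr (Or.inr (cj_of k h3)))

theorem clsN' (h : G0) (hh : h ∈ N0) (h2 : ∀ c : C, h • h • c = c) :
    Tri3 h ∨ Cj h eD ∨ Cj h s0 := by
  obtain ⟨u, hu, r, k, h3⟩ := red_N0 hh h2
  exact h3.imp (fun h3 => tri_conj hu k h3.1) (Or.imp (cj_of k) (cj_of k))

theorem perm_one {σ : M24} {o : GC} (h : ∀ c, Sh0 c → Fm (mono σ o) c) : σ = 1 := by
  refine Subtype.ext (Equiv.ext fun i => ?_)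
  change σ.1 i = i
  by_contra hi
  obtain ⟨j, h1, h2⟩ := (show ∀ i k : GolayPt, ∃ j, j ≠ i ∧ j ≠ k by decide +kernel) i (σ.1 i)
  have hx : (Pi.single i 4 + Pi.single j 4 : V) ∈ leechLattice := pair_mem_L i j dvd_rfl dvd_rfl (by norm_num)
  let x : L := ⟨_, hx⟩
  have xc : ∀ p, (x : V) p = (if p = i then 4 else 0) + if p = j then 4 else 0 := fun p => by
    simp only [x, Pi.add_apply, Pi.single_apply]
  have n1 : sqNorm (x : V) = 32 := by
    rw [sqNorm_add, sqNorm_single, sqNorm_single, dot_single_left, Pi.single_eq_of_ne h1.symm]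
    norm_num
  have n2 : sqNorm ((x - e8 j : L) : V) = 32 := by
    rw [show ((x - e8 j : L) : V) = Pi.single i 4 + Pi.single j (-4) by
      rw [AddSubgroup.coe_sub, e8_coe, add_sub_assoc, ← Pi.single_sub]; norm_num,
      sqNorm_add, sqNorm_single, sqNorm_single, dot_single_left, Pi.single_eq_of_ne h1.symm]
    norm_num
  have n3 : sqNorm ((mono σ o • x : L) : V) ≤ 64 := by rw [co_norm, n1]; norm_num
  have e := mono_apply σ o x i
  have x0 : (x : V) (σ.1 i) = 0 := by rw [xc, if_neg hi, if_neg h2.symm]; rfl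
  have x1 : (x : V) i = 4 := by rw [xc, if_pos rfl, if_neg h1.symm]; rfl
  have y0 : ((x - e8 j : L) : V) (σ.1 i) = 0 := by
    rw [AddSubgroup.coe_sub, Pi.sub_apply, x0, e8_coe, Pi.single_eq_of_ne h2.symm]; rfl
  rw [x1] at e
  rcases h (kap x) ⟨⟨x, n1, rfl⟩, kap_fst_zero fun p => by rw [xc]; split_ifs <;> rfl⟩ with k | k
  · rcases eq_or_neg n1 n3 (k.symm.trans (smul_kap _ _)) with k | k <;> rw [k] at e
    · rw [x0] at e; split_ifs at e <;> omega
    · rw [AddSubgroup.coe_neg, Pi.neg_apply, x0] at e; split_ifs at e <;> omega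
  · have k2 : kap (x - e8 j) = kap x + Om := by
      rw [map_sub, kap_e8, sub_eq_iff_eq_add, add_assoc, two_zmod, add_zero]
    rcases eq_or_neg n2 n3 (k2.trans (k.symm.trans (smul_kap _ _))) with k | k <;> rw [k] at e
    · rw [y0] at e; split_ifs at e <;> omega
    · rw [AddSubgroup.coe_neg, Pi.neg_apply, y0] at e; split_ifs at e <;> omega

theorem sT' : ¬ Tri3 s0 := by
  have k1 : treeAll (fun n => im (SH.testBit n) (im (fmN S0 n) (H9.anyL FS (Nat.beq n)))) 12 0 = true := by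
    decide +kernel
  have k2 : ∀ a ∈ FS, ∀ b ∈ FS, a ^^^ b < 4096 ∧ SH.testBit (a ^^^ b) = false := by decide +kernel
  simp only [treeAll_iff, im_true, anyL_iff, H29.beq_true, fmN_iff cS] at k1
  rintro ⟨a, b, s1, s2, s3, f1, f2⟩
  obtain ⟨a, h1, rfl⟩ := sh0_ex s1
  obtain ⟨b, h2, rfl⟩ := sh0_ex s2
  obtain ⟨_, m1, rfl⟩ := k1 a (SH_lt h1) h1 f1
  obtain ⟨_, m2, rfl⟩ := k1 b (SH_lt h2) h2 f2
  rw [← dec_xor] at s3
  have := sh0_bit (k2 a m1 b m2).1 s3
  rw [(k2 a m1 b m2).2] at this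
  exact Bool.false_ne_true this

theorem sqO : ∀ c : C, eO • eO • c = c := sq_of_cols cO (by decide +kernel)

theorem oP' : ∀ d : C, pl d (eO • d) = 0 :=
  pl_diag sqO fun j hj => by rw [← cO.ap]; revert j; decide +kernel

theorem zt {w : List ℕ} (h : w ∈ ZT) : Ac (co (gw w) * eO * (co (gw w))⁻¹) eO :=
  cjW_ac cO cO (allL_true.1 (show H29.allL ZT (fun w => cjW w SO SO) = true by decide +kernel) w h)

noncomputable def anyW (f : List ℕ → Bool) : Bool :=
  List.rec false (fun a _ ih => ou (f a) ih) ZT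

theorem anyW_true {f : List ℕ → Bool} (h : anyW f = true) : ∃ w ∈ ZT, f w = true := by
  unfold anyW at h
  generalize ZT = l at *
  induction l with
  | nil => exact absurd h Bool.false_ne_true
  | cons a l ih =>
    rcases ou_true.1 h with h | h
    · exact ⟨a, List.mem_cons_self, h⟩
    · obtain ⟨w, hw, e⟩ := ih h
      exact ⟨w, List.mem_cons_of_mem _ hw, e⟩

theorem oT' (c : C) (h1 : eO • c = c) (h2 : bb c c = 0) :
    ∃ (u : G0) (d : C), Ac (u * eO * u⁻¹) eO ∧ (u • c + (d + eO • d)).1 = 0 := by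
  have k : treeAll (fun t => lit (apC Wf t) fun f => ou (Nat.testBit (bbN f f) 0)
      (anyW fun w => lit (apL w f) fun g => ou (Nat.beq (Nat.shiftRight g 12) 0)
        (Nat.beq (Nat.shiftRight (Nat.xor g (Nat.xor 8388608 (apC SO 8388608))) 12) 0))) 8 0 = true := by
    decide +kernel
  obtain ⟨t, ht, e⟩ := param (N1 := NO') (N2 := NO') (W := Wf) (F := Pf) (k := 8) cO
    (by decide +kernel) h1
  generalize lm NO' c = d at e
  have e1 : dec (apC Wf t) = c + (d + eO • d) := by rw [e, add_assoc, two_zmod, add_zero]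
  have e2 : bb (dec (apC Wf t)) (dec (apC Wf t)) = 0 := by
    rw [e1, bb_add_self, bb_add_self, h2, bb_smul_self, two_zmod, oP', pl_add_right,
      pl_swap sqO, h1, two_zmod (pl c d)]
    simp
  have k1 := (treeAll_iff _ _).1 k t ht
  rw [lit_eq, ou_true] at k1
  rcases k1 with k1 | k1
  · rw [← bt_bbN, bt, if_pos k1] at e2
    exact absurd e2 one_ne_zero
  obtain ⟨w, hw, k2⟩ := anyW_true k1
  have z := zt hw
  have z' : ∀ d : C, co (gw w) • eO • d = eO • co (gw w) • d := fun d => by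
    rw [← z (co (gw w) • d), mul_smul, mul_smul, inv_smul_smul]
  rw [lit_eq, ou_true] at k2
  rcases k2 with k2 | k2
  · refine ⟨_, co (gw w) • d, z, ?_⟩
    rw [← z', ← smul_add, ← smul_add, ← e1, ← dec_apL]
    exact fst_zero k2
  · refine ⟨_, co (gw w) • d + dec 8388608, z, ?_⟩
    rw [smul_add, add_add_add_comm, ← add_assoc, ← z', ← smul_add, ← smul_add, ← e1, ← dec_apL,
      ← cO.ap, ← dec_xor, ← dec_xor]
    exact fst_zero k2

theorem oV' (d : C) : ∃ u : G0, Ac (u * eO * u⁻¹) eO ∧ (u • (d + eO • d)).1 = 0 := by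
  have k : treeAll (fun t => lit (apC Wv t) fun f =>
      anyW fun w => Nat.beq (Nat.shiftRight (apL w f) 12) 0) 8 0 = true := by decide +kernel
  obtain ⟨t, ht, e⟩ := param_im (W := Wv) (F := Pu) (k := 8) cO (by decide +kernel) d
  have k1 := (treeAll_iff _ _).1 k t ht
  rw [lit_eq] at k1
  obtain ⟨w, hw, k2⟩ := anyW_true k1
  exact ⟨_, zt hw, by rw [e, ← dec_apL]; exact fst_zero k2⟩

theorem dO' : ∃ u ∈ N0, Ac eD (eO * (u * eO * u⁻¹)) := by
  have c1 : isCw oO = true := by decide +kernel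
  have c2 : isCw oP = true := by decide +kernel
  obtain ⟨g, hg, e⟩ := M24_trans_octads (mem_octads_of_isOct (o := oO) (by decide +kernel))
    (mem_octads_of_isOct (o := oP) (by decide +kernel))
  refine ⟨permHom ⟨g, hg⟩, perm_mem _, ?_⟩
  rw [eO, mn_id c1, perm_conj, mono_mul, eD, mn_eq (by decide +kernel) (by decide +kernel)
    (σ := 1 * (⟨g, hg⟩ * 1 * ⟨g, hg⟩⁻¹)) (by rw [pm_idP]; simp)]
  · exact ac_refl _
  · simp only [OneMemClass.coe_one, one_smul, e]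
    rw [← ofMask_xor]; rfl

end H10.Mon.LFt

namespace H10.Mon.MG

open Cfsg H9 H29 H10.Mon.LFt

theorem exists_LF : ∃ eO eD s0 : G0, LF eO eD s0 := by
  refine ⟨LFt.eO, LFt.eD, LFt.s0, cls', clsN', fun h hh k => ?_, mn_mem _ _, sT', ?_,
    free_of (N := N0') cS (by decide +kernel), free_of (N := ND') cD (by decide +kernel), ?_, dO', ?_,
    oP', fun c _ h => im_of_perp sqO h, oT', oV', ?_, ?_⟩
  · obtain ⟨σ, o, rfl⟩ := mem_N0_iff.1 hh
    obtain rfl := perm_one k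
    exact red_one o
  · exact ⟨dec 643, sh0_of (by decide +kernel), by
      rw [← cS.ap, ← dec_Om, ← dec_xor]; exact eqD_iff.1 (by decide +kernel)⟩
  · exact ⟨dec 8388608, by rw [← cD.ap]; decide +kernel⟩
  · exact ⟨dec 5, sh0_of (by decide +kernel), by
      rw [← cD.ap, ← dec_Om, ← dec_xor]; exact eqD_iff.1 (by decide +kernel)⟩
  · simp only [List.forall_mem_cons]
    exact ⟨card_fix (N := NO') (W := WO) (F := FO) cO (by decide +kernel),
      card_fix (N := ND') (W := WD) (F := FD) cD (by decide +kernel),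
      card_fix (N := N0') (W := W0) (F := F0) cS (by decide +kernel), by simp⟩
  · simp only [List.forall_mem_cons]
    exact ⟨⟨dec 4096, by decide +kernel, by rw [← fmN_iff cO]; decide +kernel⟩,
      ⟨dec 4096, by decide +kernel, by rw [← fmN_iff cD]; decide +kernel⟩, by simp⟩

end H10.Mon.MG
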