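import Mathlib
import Cfsg.Prelude.Def_ChevStructure

/-! Bit-packed copies of the tables of a `ChevalleyDatum`, for fast kernel evaluation. -/

set_option autoImplicit false

namespace H19
open Cfsg Cfsg.Lie

/-- the coefficient of the coroot `h_r` on the `i`-th fundamental coroot -/
def cor (D : ChevalleyDatum) (r i : ℕ) : ℤ := (D.coroot.getD r #[]).getD i 0

/-- The tables of a datum as plain functions. -/
structure Rec where
  n : ℕ
  l : ℕ
  ch : ℕ → ℕ → List (ℕ × ℤ)
  car : ℕ → ℕ → ℤ
  cor : ℕ → ℕ → ℤ
  neg : ℕ → ℕ
  sim : ℕ → ℕ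

/-- the function record of a datum -/
def recOf (D : ChevalleyDatum) : Rec :=
  ⟨D.nroots, D.rank, D.chainEntry, D.cartan, cor D, D.neg, D.simple⟩

/-- field number `k` of width `w` bits of `T` -/
def fld (T w k : ℕ) : ℕ := Nat.mod (Nat.shiftRight T (Nat.mul w k)) (Nat.pow 2 w)

/-- decode a chain entry: up to `k` blocks of 12 bits -/
def decCh : ℕ → ℕ → List (ℕ × ℤ)
  | 0, _ => []
  | k + 1, e => bif Nat.beq e 0 then [] else
      (Nat.mod e 256, Int.subNatNat (Nat.mod (Nat.div e 256) 16) 4) :: decCh k (Nat.div e 4096)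

/-- packed tables -/
structure Fast where
  n : ℕ
  l : ℕ
  cw : ℕ
  chT : ℕ
  carT : ℕ
  corT : ℕ
  coT : ℕ
  simT : ℕ
  wT : ℕ
  etaT : ℕ

namespace Fast
variable (T : Fast)

def ch (r s : ℕ) : List (ℕ × ℤ) :=
  bif Nat.blt r T.n && Nat.blt s T.n then decCh 3 (fld (fld T.chT (Nat.mul T.cw T.n) r) T.cw s) else []

def car (i s : ℕ) : ℤ :=
  bif Nat.blt i T.l && Nat.blt s T.n then Int.subNatNat (fld (fld T.carT (Nat.mul 4 T.n) i) 4 s) 8 else 0

def cor (r i : ℕ) : ℤ :=
  bif Nat.blt i T.l && Nat.blt r T.n then Int.subNatNat (fld (fld T.corT (Nat.mul 4 T.n) i) 4 r) 8 else 0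

/-- coordinates of the roots on the fundamental roots -/
def co (r i : ℕ) : ℤ :=
  bif Nat.blt i T.l && Nat.blt r T.n then Int.subNatNat (fld (fld T.coT (Nat.mul 4 T.n) i) 4 r) 8 else 0

def neg (r : ℕ) : ℕ := bif Nat.blt r T.n then Nat.sub (Nat.sub T.n 1) r else 0

def sim (i : ℕ) : ℕ := bif Nat.blt i T.l then fld T.simT 8 i else 0

def w (i s : ℕ) : ℕ := fld (fld T.wT (Nat.mul 8 T.n) i) 8 s

def eta (i s : ℕ) : ℤ := bif Nat.beq (fld (fld T.etaT T.n i) 1 s) 0 then 1 else -1

def toRec : Rec := ⟨T.n, T.l, T.ch, T.car, T.cor, T.neg, T.sim⟩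

end Fast

/-- the linear-time comparison of a datum with packed tables -/
def Agree (D : ChevalleyDatum) (T : Fast) : Prop :=
  D.nroots = T.n ∧ D.rank = T.l ∧
  D.simpleIdx.toList = (List.range T.l).map T.sim ∧
  D.negIdx.toList = (List.range T.n).map T.neg ∧
  D.coroot.toList.map Array.toList = (List.range T.n).map (fun r => (List.range T.l).map (T.cor r)) ∧
  D.cartanSR.toList.map Array.toList = (List.range T.l).map (fun i => (List.range T.n).map (T.car i)) ∧
  D.chain.toList.map (fun a => a.toList.map (fun e => (e.1, e.2.toList))) =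
    (List.range T.n).map (fun r => ((List.range T.n).map (fun s => (s, T.ch r s))).filter (fun e => !e.2.isEmpty))

instance instDecAgree (D : ChevalleyDatum) (T : Fast) : Decidable (Agree D T) := by
  unfold Agree; infer_instance

theorem getD_of_toList {α : Type*} {A : Array α} {n : ℕ} {f : ℕ → α}
    (h : A.toList = (List.range n).map f) (i : ℕ) (d : α) : A.getD i d = if i < n then f i else d := by
  have hs : A.size = n := by rw [← Array.length_toList, h]; simp
  rw [Array.getD_eq_getD_getElem?, ← Array.getElem?_toList, h]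
  by_cases hi : i < n <;> simp [hi]

theorem getD_toList_of_map {α β : Type*} {A : Array α} {n : ℕ} {g : α → β} {f : ℕ → β}
    (h : A.toList.map g = (List.range n).map f) (i : ℕ) (d : α) :
    g (A.getD i d) = if i < n then f i else g d := by
  have h' : (A.map g).toList = (List.range n).map f := by simpa using h
  rw [← getD_of_toList h' i (g d)]
  simp only [Array.getD_eq_getD_getElem?, Array.getElem?_map]
  cases A[i]? <;> rfl

theorem filter_keys {β : Type*} (n : ℕ) (f : ℕ → List β) (s : ℕ) :
    (((List.range n).map (fun s => (s, f s))).filter (fun e => !e.2.isEmpty)).filter (fun e => decide (e.1 = s))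
      = if s < n ∧ f s ≠ [] then [(s, f s)] else [] := by
  induction n with
  | zero => simp
  | succ n ih =>
    rw [List.range_succ, List.map_append, List.filter_append, List.filter_append, ih]
    by_cases h1 : s = n
    · subst h1
      by_cases h2 : f s = [] <;> simp [h2]
    · have h3 : (s < n + 1) ↔ s < n := by omega
      have h4 : ¬ (n = s) := fun h => h1 h.symm
      by_cases h2 : f n = [] <;> simp [h2, h3, h4]

namespace Agree
variable {D : ChevalleyDatum} {T : Fast} (h : Agree D T)
include h

theorem filter_chain (r s : ℕ) :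
    ((D.chain.getD r #[]).toList.filter (fun e => decide (e.1 = s))).map (fun e => (e.1, e.2.toList))
      = if T.ch r s ≠ [] then [(s, T.ch r s)] else [] := by
  have h1 := getD_toList_of_map h.2.2.2.2.2.2 r #[]
  have h2 : ((D.chain.getD r #[]).toList.filter (fun e => decide (e.1 = s))).map (fun e => (e.1, e.2.toList))
      = ((D.chain.getD r #[]).toList.map (fun e => (e.1, e.2.toList))).filter (fun e => decide (e.1 = s)) := by
    rw [List.filter_map]; rfl
  rw [h2, h1]
  by_cases hr : r < T.n
  · rw [if_pos hr, filter_keys]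
    by_cases hs : s < T.n
    · simp [hs]
    · have : T.ch r s = [] := by
        have : Nat.blt s T.n = false := by
          rw [← Bool.not_eq_true, Nat.blt_eq]; exact hs
        simp [Fast.ch, this]
      simp [this]
  · have : T.ch r s = [] := by
      have : Nat.blt r T.n = false := by
        rw [← Bool.not_eq_true, Nat.blt_eq]; exact hr
      simp [Fast.ch, this]
    simp [this, hr]

theorem chainEntry_eq (r s : ℕ) : D.chainEntry r s = T.ch r s := by
  have h1 := h.filter_chain r s
  unfold ChevalleyDatum.chainEntry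
  rw [← List.head?_filter]
  by_cases hc : T.ch r s = []
  · rw [if_neg (by simpa using hc), List.map_eq_nil_iff] at h1
    rw [h1, hc]; rfl
  · rw [if_pos hc] at h1
    obtain ⟨e, he, he'⟩ := List.map_eq_singleton_iff.1 h1
    rw [he]
    simp only [List.head?_cons]
    exact (Prod.ext_iff.1 he').2

theorem chainCoeff_eq (r s u : ℕ) : D.chainCoeff r s u =
    (((D.chainEntry r s).zipIdx).filter (fun q => decide (q.1.1 = u))).map fun q => (q.2 + 1, q.1.2) := by
  have h1 := h.filter_chain r s
  rw [h.chainEntry_eq]
  unfold ChevalleyDatum.chainCoeff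
  by_cases hc : T.ch r s = []
  · rw [if_neg (by simpa using hc), List.map_eq_nil_iff] at h1
    rw [h1, hc]; rfl
  · rw [if_pos hc] at h1
    obtain ⟨e, he, he'⟩ := List.map_eq_singleton_iff.1 h1
    rw [he]
    have : e.2.toList = T.ch r s := (Prod.ext_iff.1 he').2
    simp [this]

theorem recOf_eq : recOf D = T.toRec := by
  obtain ⟨h1, h2, h3, h4, h5, h6, -⟩ := id h
  unfold recOf Fast.toRec
  congr 1
  · funext r s; exact h.chainEntry_eq r s
  · funext i s
    unfold ChevalleyDatum.cartan
    have a := getD_toList_of_map h6 i #[]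
    by_cases hi : i < T.l
    · rw [if_pos hi] at a
      rw [getD_of_toList a]
      split_ifs with hs
      · rfl
      · have : Nat.blt s T.n = false := by rw [← Bool.not_eq_true, Nat.blt_eq]; exact hs
        simp [Fast.car, this]
    · rw [if_neg hi] at a
      have e : D.cartanSR.getD i #[] = #[] := by simpa using a
      have : Nat.blt i T.l = false := by rw [← Bool.not_eq_true, Nat.blt_eq]; exact hi
      rw [e]; simp [Fast.car, this]
  · funext r i
    unfold cor
    have a := getD_toList_of_map h5 r #[]
    by_cases hr : r < T.n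
    · rw [if_pos hr] at a
      rw [getD_of_toList a]
      split_ifs with hs
      · rfl
      · have : Nat.blt i T.l = false := by rw [← Bool.not_eq_true, Nat.blt_eq]; exact hs
        simp [Fast.cor, this]
    · rw [if_neg hr] at a
      have e : D.coroot.getD r #[] = #[] := by simpa using a
      have : Nat.blt r T.n = false := by rw [← Bool.not_eq_true, Nat.blt_eq]; exact hr
      rw [e]; simp [Fast.cor, this]
  · funext r
    unfold ChevalleyDatum.neg
    rw [getD_of_toList h4]
    split_ifs with hr
    · rfl
    · have : Nat.blt r T.n = false := by rw [← Bool.not_eq_true, Nat.blt_eq]; exact hr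
      simp [Fast.neg, this]
  · funext i
    unfold ChevalleyDatum.simple
    rw [getD_of_toList h3]
    split_ifs with hr
    · rfl
    · have : Nat.blt i T.l = false := by rw [← Bool.not_eq_true, Nat.blt_eq]; exact hr
      simp [Fast.sim, this]

theorem coroot_toList (r : ℕ) (hr : r < D.nroots) :
    (D.coroot.getD r #[]).toList = (List.range D.rank).map (cor D r) := by
  have a := getD_toList_of_map h.2.2.2.2.1 r #[]
  rw [if_pos (h.1 ▸ hr)] at a
  rw [a, h.2.1]
  have : cor D = T.cor := congrArg Rec.cor h.recOf_eq
  rw [this]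

end Agree

/-- bounded universal quantifier as a Boolean loop -/
def allB (n : ℕ) (f : ℕ → Bool) : Bool := Nat.rec true (fun k acc => f k && acc) n

theorem allB_iff {n : ℕ} {f : ℕ → Bool} : allB n f = true ↔ ∀ k < n, f k = true := by
  induction n with
  | zero => simp [allB]
  | succ n ih =>
    have : allB (n + 1) f = (f n && allB n f) := rfl
    rw [this, Bool.and_eq_true, ih]
    constructor
    · rintro ⟨h1, h2⟩ k hk
      rcases Nat.lt_succ_iff_lt_or_eq.1 hk with h | h
      · exact h2 k h
      · exact h ▸ h1
    · intro h; exact ⟨h n (Nat.lt_succ_self n), fun k hk => h k (Nat.lt_succ_of_lt hk)⟩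

end H19
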