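import Mathlib
import Cfsg.Prelude.Def_ChevStructure
import Cfsg.Agent.H19.Fast

/-! Columns of the root elements, and a verified evaluator for words in root elements with polynomial
parameters. -/

set_option autoImplicit false

namespace H19
open Cfsg Cfsg.Lie Matrix

section vecs
variable (D : ChevalleyDatum) (F : Type*) [Field F]

/-- the root vector `e_s` (zero out of range) -/
def er (s : ℕ) : D.Idx → F := Sum.elim (fun _ => 0) (fun u => if u.val = s then 1 else 0)

/-- the fundamental coroot vector `h_{p_i}` (zero out of range) -/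
def hv (i : ℕ) : D.Idx → F := Sum.elim (fun j => if j.val = i then 1 else 0) (fun _ => 0)

/-- the coroot vector `h_r` -/
def hr (r : ℕ) : D.Idx → F := Sum.elim (fun j => ((cor D r j : ℤ) : F)) (fun _ => 0)

/-- basis vector with code `c`: `h_c` for `c < rank`, `e_{c - rank}` otherwise -/
def bv (c : ℕ) : D.Idx → F := if c < D.rank then hv D F c else er D F (c - D.rank)

variable {D F}

theorem er_eq_single (s : Fin D.nroots) : er D F s = Pi.single (Sum.inr s) 1 := by
  funext c
  rcases c with j | u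
  · simp [er]
  · simp [er, Pi.single_apply, Fin.ext_iff]

theorem hv_eq_single (i : Fin D.rank) : hv D F i = Pi.single (Sum.inl i) 1 := by
  funext c
  rcases c with j | u
  · simp [hv, Pi.single_apply, Fin.ext_iff]
  · simp [hv]

theorem er_of_le {s : ℕ} (h : D.nroots ≤ s) : er D F s = 0 := by
  funext c
  rcases c with j | u
  · simp [er]
  · have := u.2
    simp [er]; omega

theorem hv_of_le {i : ℕ} (h : D.rank ≤ i) : hv D F i = 0 := by
  funext c
  rcases c with j | u
  · have := j.2
    simp [hv]; omega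
  · simp [hv]

theorem mulVec_er (M : Matrix D.Idx D.Idx F) (s : Fin D.nroots) :
    M *ᵥ er D F s = fun row => M row (Sum.inr s) := by
  rw [er_eq_single, mulVec_single_one]; rfl

theorem mulVec_hv (M : Matrix D.Idx D.Idx F) (i : Fin D.rank) :
    M *ᵥ hv D F i = fun row => M row (Sum.inl i) := by
  rw [hv_eq_single, mulVec_single_one]; rfl

theorem mat_ext {M N : Matrix D.Idx D.Idx F} (h1 : ∀ i < D.rank, M *ᵥ hv D F i = N *ᵥ hv D F i)
    (h2 : ∀ s < D.nroots, M *ᵥ er D F s = N *ᵥ er D F s) : M = N := by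
  ext row col
  rcases col with i | s
  · have := congrFun (h1 i i.2) row
    rwa [mulVec_hv, mulVec_hv] at this
  · have := congrFun (h2 s s.2) row
    rwa [mulVec_er, mulVec_er] at this

theorem mat_ext_bv {M N : Matrix D.Idx D.Idx F}
    (h : ∀ c < D.rank + D.nroots, M *ᵥ bv D F c = N *ᵥ bv D F c) : M = N := by
  apply mat_ext
  · intro i hi
    have := h i (by omega)
    rwa [bv, if_pos hi] at this
  · intro s hs
    have := h (D.rank + s) (by omega)
    rwa [bv, if_neg (by omega), Nat.add_sub_cancel_left] at this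

theorem hr_eq_sum (r : ℕ) : hr D F r = ∑ i ∈ Finset.range D.rank, ((cor D r i : ℤ) : F) • hv D F i := by
  funext c
  rcases c with j | u
  · simp only [hr, Sum.elim_inl, Finset.sum_apply, Pi.smul_apply, hv, smul_eq_mul, mul_ite, mul_one, mul_zero]
    rw [Finset.sum_ite_eq]; simp
  · simp [hr, hv, Finset.sum_apply]

theorem bv_add (s : ℕ) : bv D F (D.rank + s) = er D F s := by
  rw [bv, if_neg (by omega), Nat.add_sub_cancel_left]

theorem bv_lt {i : ℕ} (h : i < D.rank) : bv D F i = hv D F i := by rw [bv, if_pos h]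

end vecs

/-- the facts needed to read off the columns of `x_r(t)` -/
structure Tab0 (D : ChevalleyDatum) : Prop where
  coeff : ∀ r s u, D.chainCoeff r s u =
    (((D.chainEntry r s).zipIdx).filter (fun q => decide (q.1.1 = u))).map fun q => (q.2 + 1, q.1.2)
  neg_lt : ∀ r < D.nroots, D.neg r < D.nroots
  neg_neg : ∀ r < D.nroots, D.neg (D.neg r) = r
  neg_ne : ∀ r < D.nroots, D.neg r ≠ r

section cols
variable {D : ChevalleyDatum} {F : Type*} [Field F]

theorem x_of_le {r : ℕ} (h : D.nroots ≤ r) (t : F) : D.x F r t = 1 := by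
  unfold ChevalleyDatum.x; rw [dif_neg (by omega)]

theorem x_hv {r i : ℕ} (hr : r < D.nroots) (hi : i < D.rank) (t : F) :
    D.x F r t *ᵥ hv D F i = hv D F i - (((D.cartan i r : ℤ) : F) * t) • er D F r := by
  unfold ChevalleyDatum.x
  rw [dif_pos hr]
  have := mulVec_hv (D.xMat F ⟨r, hr⟩ t) ⟨i, hi⟩
  rw [this]
  funext row
  rcases row with j | u
  · simp [ChevalleyDatum.xMat, hv, er, Fin.ext_iff]
  · simp only [ChevalleyDatum.xMat, of_apply, hv, er, Fin.ext_iff, Pi.sub_apply, Sum.elim_inr, Pi.smul_apply,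
      smul_eq_mul, ChevalleyDatum.cartan]
    split_ifs <;> simp

theorem x_er_self {r : ℕ} (hr : r < D.nroots) (t : F) : D.x F r t *ᵥ er D F r = er D F r := by
  unfold ChevalleyDatum.x
  rw [dif_pos hr]
  have := mulVec_er (D.xMat F ⟨r, hr⟩ t) ⟨r, hr⟩
  rw [this]
  funext row
  rcases row with j | u
  · simp [ChevalleyDatum.xMat, er]
  · simp [ChevalleyDatum.xMat, er, Fin.ext_iff]

theorem x_er_neg (h : Tab0 D) {r : ℕ} (hr' : r < D.nroots) (t : F) :
    D.x F r t *ᵥ er D F (D.neg r) = er D F (D.neg r) + t • hr D F r - (t ^ 2) • er D F r := by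
  unfold ChevalleyDatum.x
  rw [dif_pos hr']
  have := mulVec_er (D.xMat F ⟨r, hr'⟩ t) ⟨D.neg r, h.neg_lt r hr'⟩
  rw [this]
  have hne := h.neg_ne r hr'
  have e : D.negIdx.getD r 0 = D.neg r := rfl
  funext row
  rcases row with j | u
  · simp only [ChevalleyDatum.xMat, of_apply, Fin.ext_iff, hne, e, if_true, if_false]
    simp [er, hr, cor, mul_comm]
  · simp only [ChevalleyDatum.xMat, of_apply, Fin.ext_iff, hne, e, if_true, if_false]
    simp only [er, hr, Pi.sub_apply, Pi.add_apply, Sum.elim_inr, Pi.smul_apply, smul_eq_mul]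
    by_cases h1 : (u : ℕ) = D.neg r
    · have : ¬ (u : ℕ) = r := by omega
      simp [h1, hne]
    · simp only [h1, if_false]; split_ifs <;> simp

theorem sum_filter_er (L : List ((ℕ × ℤ) × ℕ)) (t : F) (u : Fin D.nroots) :
    (((L.filter (fun q => decide (q.1.1 = (u : ℕ)))).map fun q : (ℕ × ℤ) × ℕ => (q.2 + 1, q.1.2)).map
        fun km : ℕ × ℤ => ((km.2 : ℤ) : F) * t ^ km.1).sum =
      (L.map fun q => (((q.1.2 : ℤ) : F) * t ^ (q.2 + 1)) • er D F q.1.1).sum (Sum.inr u) := by
  induction L with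
  | nil => simp
  | cons a L ih =>
    rw [List.map_cons, List.sum_cons, Pi.add_apply, ← ih, List.filter_cons]
    by_cases h : a.1.1 = u
    · simp [h, er]
    · have h' : ¬ (u : ℕ) = a.1.1 := fun e => h e.symm
      simp [h, er, h']

theorem sum_er_inl (L : List ((ℕ × ℤ) × ℕ)) (g : (ℕ × ℤ) × ℕ → F) (j : Fin D.rank) :
    (L.map fun q => g q • er D F q.1.1).sum (Sum.inl j) = 0 := by
  induction L with
  | nil => simp
  | cons a L ih => rw [List.map_cons, List.sum_cons, Pi.add_apply, ih]; simp [er]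

theorem x_er (h : Tab0 D) {r s : ℕ} (hr : r < D.nroots) (hs : s < D.nroots) (h1 : s ≠ r) (h2 : s ≠ D.neg r)
    (t : F) : D.x F r t *ᵥ er D F s = er D F s +
      ((D.chainEntry r s).zipIdx.map fun q => (((q.1.2 : ℤ) : F) * t ^ (q.2 + 1)) • er D F q.1.1).sum := by
  unfold ChevalleyDatum.x
  rw [dif_pos hr]
  have := mulVec_er (D.xMat F ⟨r, hr⟩ t) ⟨s, hs⟩
  rw [this]
  have e : D.negIdx.getD r 0 = D.neg r := rfl
  funext row
  rcases row with j | u
  · simp only [ChevalleyDatum.xMat, of_apply, Fin.ext_iff, h1, h2, e, if_false]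
    rw [Pi.add_apply, sum_er_inl]; simp [er]
  · simp only [ChevalleyDatum.xMat, of_apply, Fin.ext_iff, h1, h2, e, if_false]
    rw [Pi.add_apply, ← sum_filter_er, h.coeff]
    simp [er]

theorem x_zero (h : Tab0 D) (r : ℕ) : D.x F r 0 = 1 := by
  by_cases hr : r < D.nroots
  swap
  · exact x_of_le (by omega) _
  apply mat_ext
  · intro i hi
    rw [x_hv hr hi]; simp
  · intro s hs
    by_cases h1 : s = r
    · subst h1; rw [x_er_self hr]; simp
    by_cases h2 : s = D.neg r
    · subst h2; rw [x_er_neg h hr]; simp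
    rw [x_er h hr hs h1 h2]
    simp

end cols

/-- the column of `x_r(t)` at the basis vector with code `c`: triples (code, coefficient, power of `t`) -/
def Rec.col (R : Rec) (r c : ℕ) : List (ℕ × ℤ × ℕ) :=
  bif Nat.blt r R.n then
    bif Nat.blt c R.l then [(c, 1, 0), (Nat.add R.l r, -R.car c r, 1)]
    else
      bif Nat.blt (Nat.sub c R.l) R.n then
        bif Nat.beq (Nat.sub c R.l) r then [(c, 1, 0)]
        else bif Nat.beq (Nat.sub c R.l) (R.neg r) then
          (c, 1, 0) :: (Nat.add R.l r, -1, 2) :: (List.range R.l).map (fun i => (i, R.cor r i, 1))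
        else (c, 1, 0) :: (R.ch r (Nat.sub c R.l)).zipIdx.map (fun q => (Nat.add R.l q.1.1, q.1.2, q.2 + 1))
      else []
  else [(c, 1, 0)]

theorem blt_false {a b : ℕ} (h : ¬ a < b) : Nat.blt a b = false := by
  rw [← Bool.not_eq_true, Nat.blt_eq]; exact h

theorem blt_true {a b : ℕ} (h : a < b) : Nat.blt a b = true := by rw [Nat.blt_eq]; exact h

theorem beq_false {a b : ℕ} (h : a ≠ b) : Nat.beq a b = false := by
  rw [← Bool.not_eq_true, Nat.beq_eq]; exact h

theorem beq_true {a b : ℕ} (h : a = b) : Nat.beq a b = true := by rw [Nat.beq_eq]; exact h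

section ev
variable {D : ChevalleyDatum} {F : Type*} [Field F]

theorem col_spec (h : Tab0 D) (r c : ℕ) (t : F) :
    D.x F r t *ᵥ bv D F c =
      (((recOf D).col r c).map fun e => (((e.2.1 : ℤ) : F) * t ^ e.2.2) • bv D F e.1).sum := by
  unfold Rec.col
  change _ = (List.map _ (bif Nat.blt r D.nroots then
    bif Nat.blt c D.rank then [(c, 1, 0), (D.rank + r, -D.cartan c r, 1)]
    else
      bif Nat.blt (c - D.rank) D.nroots then
        bif Nat.beq (c - D.rank) r then [(c, 1, 0)]
        else bif Nat.beq (c - D.rank) (D.neg r) then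
          (c, 1, 0) :: (D.rank + r, -1, 2) :: (List.range D.rank).map (fun i => (i, cor D r i, 1))
        else (c, 1, 0) :: (D.chainEntry r (c - D.rank)).zipIdx.map (fun q => (D.rank + q.1.1, q.1.2, q.2 + 1))
      else []
  else [(c, 1, 0)])).sum
  by_cases hr : r < D.nroots
  swap
  · rw [blt_false hr, x_of_le (by omega)]; simp
  rw [blt_true hr, cond_true]
  by_cases hc : c < D.rank
  · rw [blt_true hc, cond_true, bv_lt hc, x_hv hr hc]
    simp [bv_add, bv_lt hc, sub_eq_add_neg]
  rw [blt_false hc, cond_false]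
  obtain ⟨s, rfl⟩ : ∃ s, c = D.rank + s := ⟨c - D.rank, by omega⟩
  rw [Nat.add_sub_cancel_left, bv_add]
  by_cases hs : s < D.nroots
  swap
  · rw [blt_false hs, er_of_le (by omega)]; simp
  rw [blt_true hs, cond_true]
  by_cases h1 : s = r
  · rw [beq_true h1, cond_true, h1, x_er_self hr]; simp [bv_add]
  rw [beq_false h1, cond_false]
  by_cases h2 : s = D.neg r
  · rw [beq_true h2, cond_true, h2, x_er_neg h hr, hr_eq_sum]
    simp only [List.map_cons, List.sum_cons, bv_add, List.map_map]
    rw [Finset.smul_sum, Finset.sum_range, ← List.sum_ofFn, List.ofFn_eq_map]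
    have : (List.map ((fun e : ℕ × ℤ × ℕ => (((e.2.1 : ℤ) : F) * t ^ e.2.2) • bv D F e.1) ∘
        fun i => (i, cor D r i, 1)) (List.range D.rank)) =
        List.map (fun i : Fin D.rank => t • ((cor D r i : ℤ) : F) • hv D F i) (List.finRange D.rank) := by
      rw [← List.map_coe_finRange_eq_range, List.map_map]
      apply List.map_congr_left
      intro i _
      simp [bv_lt i.2, smul_smul, mul_comm]
    rw [this]
    simp only [Int.cast_one, pow_zero, mul_one, one_smul, Int.cast_neg, neg_mul, one_mul, neg_smul]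
    abel
  rw [beq_false h2, cond_false, x_er h hr hs h1 h2]
  simp [bv_add, Function.comp_def]

end ev

section evaluator
variable {M : Type} [Add M] [Zero M] [DecidableEq M]

def pmul (P Q : List (ℤ × M)) : List (ℤ × M) := P.flatMap fun a => Q.map fun b => (a.1 * b.1, a.2 + b.2)

def ppow (P : List (ℤ × M)) : ℕ → List (ℤ × M)
  | 0 => [(1, 0)]
  | k + 1 => pmul P (ppow P k)

def vins (e : ℕ × ℤ × M) : List (ℕ × ℤ × M) → List (ℕ × ℤ × M)
  | [] => [e]
  | f :: L => bif Nat.beq e.1 f.1 && decide (e.2.2 = f.2.2) then (f.1, e.2.1 + f.2.1, f.2.2) :: L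
      else f :: vins e L

def vnorm (p : ℤ) (L : List (ℕ × ℤ × M)) : List (ℕ × ℤ × M) :=
  (L.foldr vins []).filter fun e => !decide (e.2.1 % p = 0)

def Rec.app (R : Rec) (p : ℤ) (a : ℕ × List (ℤ × M)) (L : List (ℕ × ℤ × M)) : List (ℕ × ℤ × M) :=
  vnorm p (L.flatMap fun e => (R.col a.1 e.1).flatMap fun v =>
    (ppow a.2 v.2.2).map fun q => (v.1, e.2.1 * v.2.1 * q.1, e.2.2 + q.2))

def Rec.appW (R : Rec) (p : ℤ) (w : List (ℕ × List (ℤ × M))) (L : List (ℕ × ℤ × M)) : List (ℕ × ℤ × M) :=
  w.foldr (R.app p) L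

def veq (p : ℤ) (L₁ L₂ : List (ℕ × ℤ × M)) : Bool :=
  (vnorm p (L₁ ++ L₂.map fun e => (e.1, -e.2.1, e.2.2))).isEmpty

/-- Boolean test: the two words give the same matrix over any field in which `p = 0` -/
def Rec.weq (R : Rec) (p : ℤ) (w₁ w₂ : List (ℕ × List (ℤ × M))) : Bool :=
  allB (Nat.add R.l R.n) fun c => veq p (R.appW p w₁ [(c, 1, 0)]) (R.appW p w₂ [(c, 1, 0)])

variable {D : ChevalleyDatum} {F : Type*} [Field F] (ev : M → F)

def evP (P : List (ℤ × M)) : F := (P.map fun e => ((e.1 : ℤ) : F) * ev e.2).sum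

variable (D) in
def evV (L : List (ℕ × ℤ × M)) : D.Idx → F :=
  (L.map fun e => (((e.2.1 : ℤ) : F) * ev e.2.2) • bv D F e.1).sum

def evW (w : List (ℕ × List (ℤ × M))) : List (ℕ × F) := w.map fun a => (a.1, evP ev a.2)

variable {ev}

omit [Add M] [Zero M] [DecidableEq M] in
theorem evV_append (L₁ L₂ : List (ℕ × ℤ × M)) : evV D ev (L₁ ++ L₂) = evV D ev L₁ + evV D ev L₂ := by
  simp [evV]

omit [Add M] [Zero M] [DecidableEq M] in
theorem evV_cons (e : ℕ × ℤ × M) (L : List (ℕ × ℤ × M)) :
    evV D ev (e :: L) = (((e.2.1 : ℤ) : F) * ev e.2.2) • bv D F e.1 + evV D ev L := by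
  simp [evV]

omit [Zero M] [DecidableEq M] in
theorem evP_pmul (hadd : ∀ a b, ev (a + b) = ev a * ev b) (P Q : List (ℤ × M)) :
    evP ev (pmul P Q) = evP ev P * evP ev Q := by
  induction P with
  | nil => simp [pmul, evP]
  | cons a P ih =>
    have h1 : pmul (a :: P) Q = (Q.map fun b => (a.1 * b.1, a.2 + b.2)) ++ pmul P Q := by simp [pmul]
    have h2 : ∀ A B : List (ℤ × M), evP ev (A ++ B) = evP ev A + evP ev B := by intro A B; simp [evP]
    have h3 : evP ev (Q.map fun b => (a.1 * b.1, a.2 + b.2)) = (a.1 : F) * ev a.2 * evP ev Q := by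
      unfold evP
      rw [← List.sum_map_mul_left, List.map_map]
      congr 1
      apply List.map_congr_left
      intro b _
      simp only [Function.comp_apply, hadd, Int.cast_mul]; ring
    rw [h1, h2, h3, ih]
    simp only [evP, List.map_cons, List.sum_cons]; ring

omit [DecidableEq M] in
theorem evP_ppow (h0 : ev 0 = 1) (hadd : ∀ a b, ev (a + b) = ev a * ev b) (P : List (ℤ × M)) (k : ℕ) :
    evP ev (ppow P k) = evP ev P ^ k := by
  induction k with
  | zero => simp [ppow, evP, h0]
  | succ k ih => rw [ppow, evP_pmul hadd, ih, pow_succ']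

omit [Add M] [Zero M] in
theorem evV_vins (e : ℕ × ℤ × M) (L : List (ℕ × ℤ × M)) : evV D ev (vins e L) = evV D ev (e :: L) := by
  induction L with
  | nil => rfl
  | cons f L ih =>
    unfold vins
    cases hb : (Nat.beq e.1 f.1 && decide (e.2.2 = f.2.2))
    · rw [cond_false, evV_cons, ih, evV_cons, evV_cons, evV_cons]; abel
    · rw [cond_true]
      rw [Bool.and_eq_true, Nat.beq_eq, decide_eq_true_eq] at hb
      rw [evV_cons, evV_cons, evV_cons, hb.1, hb.2]
      simp only [Int.cast_add, add_mul, add_smul]; abel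

omit [Add M] [Zero M] in
theorem evV_vnorm {p : ℤ} (hp : ((p : ℤ) : F) = 0) (L : List (ℕ × ℤ × M)) :
    evV D ev (vnorm p L) = evV D ev L := by
  have h1 : ∀ L : List (ℕ × ℤ × M), evV D ev (L.filter fun e => !decide (e.2.1 % p = 0)) = evV D ev L := by
    intro L
    induction L with
    | nil => rfl
    | cons e L ih =>
      rw [List.filter_cons]
      by_cases he : e.2.1 % p = 0
      · have : ((e.2.1 : ℤ) : F) = 0 := by
          obtain ⟨c, hc⟩ := Int.dvd_of_emod_eq_zero he
          rw [hc, Int.cast_mul, hp, zero_mul]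
        rw [if_neg (by simp only [he, decide_true, Bool.not_true]; decide), ih, evV_cons, this]; simp
      · rw [if_pos (by simp only [he, decide_false, Bool.not_false]), evV_cons, evV_cons, ih]
  unfold vnorm
  rw [h1]
  induction L with
  | nil => rfl
  | cons e L ih => rw [List.foldr_cons, evV_vins, evV_cons, ih, evV_cons]

theorem evV_app (h : Tab0 D) (h0 : ev 0 = 1) (hadd : ∀ a b, ev (a + b) = ev a * ev b) {p : ℤ}
    (hp : ((p : ℤ) : F) = 0) (a : ℕ × List (ℤ × M)) (L : List (ℕ × ℤ × M)) :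
    evV D ev ((recOf D).app p a L) = D.x F a.1 (evP ev a.2) *ᵥ evV D ev L := by
  unfold Rec.app
  rw [evV_vnorm hp]
  induction L with
  | nil => simp [evV]
  | cons e L ih =>
    rw [List.flatMap_cons, evV_append, ih, evV_cons, mulVec_add, mulVec_smul, col_spec h]
    congr 1
    generalize (recOf D).col a.1 e.1 = C
    induction C with
    | nil => simp [evV]
    | cons v C ihC =>
      rw [List.flatMap_cons, evV_append, ihC, List.map_cons, List.sum_cons, smul_add]
      congr 1
      rw [← evP_ppow h0 hadd]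
      generalize ppow a.2 v.2.2 = Q
      induction Q with
      | nil => simp [evV, evP]
      | cons q Q ihQ =>
        rw [List.map_cons, evV_cons, ihQ]
        simp only [evP, List.map_cons, List.sum_cons, smul_smul, hadd, Int.cast_mul, ← add_smul]
        congr 1; ring

theorem evV_appW (h : Tab0 D) (h0 : ev 0 = 1) (hadd : ∀ a b, ev (a + b) = ev a * ev b) {p : ℤ}
    (hp : ((p : ℤ) : F) = 0) (w : List (ℕ × List (ℤ × M))) (L : List (ℕ × ℤ × M)) :
    evV D ev ((recOf D).appW p w L) = D.wordMat F (evW ev w) *ᵥ evV D ev L := by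
  induction w with
  | nil => simp [Rec.appW, evW, ChevalleyDatum.wordMat]
  | cons a w ih =>
    have : (recOf D).appW p (a :: w) L = (recOf D).app p a ((recOf D).appW p w L) := rfl
    rw [this, evV_app h h0 hadd hp, ih, mulVec_mulVec]
    simp [evW, ChevalleyDatum.wordMat]

omit [Add M] [Zero M] in
theorem evV_of_veq {p : ℤ} (hp : ((p : ℤ) : F) = 0) {L₁ L₂ : List (ℕ × ℤ × M)} (h : veq p L₁ L₂ = true) :
    evV D ev L₁ = evV D ev L₂ := by
  unfold veq at h
  rw [List.isEmpty_iff] at h
  have h1 := evV_vnorm (D := D) (ev := ev) hp (L₁ ++ L₂.map fun e => (e.1, -e.2.1, e.2.2))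
  rw [h, evV_append] at h1
  have h2 : evV D ev (L₂.map fun e => (e.1, -e.2.1, e.2.2)) = - evV D ev L₂ := by
    induction L₂ with
    | nil => simp [evV]
    | cons e L _ =>
      unfold evV
      rw [List.map_map, List.sum_neg, List.map_map]
      congr 1
      apply List.map_congr_left
      intro b _
      simp
  rw [h2] at h1
  have h3 : evV D ev ([] : List (ℕ × ℤ × M)) = 0 := rfl
  rw [h3] at h1
  exact (add_neg_eq_zero.1 h1.symm)

omit [Add M] [DecidableEq M] in
theorem evV_single (h0 : ev 0 = 1) (c : ℕ) : evV D ev [(c, 1, (0 : M))] = bv D F c := by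
  simp [evV, h0]

/-- soundness of the word test -/
theorem wordMat_eq_of_weq (h : Tab0 D) (h0 : ev 0 = 1) (hadd : ∀ a b, ev (a + b) = ev a * ev b) {p : ℤ}
    (hp : ((p : ℤ) : F) = 0) {w₁ w₂ : List (ℕ × List (ℤ × M))} (hw : (recOf D).weq p w₁ w₂ = true) :
    D.wordMat F (evW ev w₁) = D.wordMat F (evW ev w₂) := by
  apply mat_ext_bv
  intro c hc
  have h1 := allB_iff.1 hw c hc
  have h2 := evV_of_veq (D := D) (ev := ev) hp h1
  rwa [evV_appW h h0 hadd hp, evV_appW h h0 hadd hp, evV_single h0] at h2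

end evaluator

end H19
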