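import Mathlib
import Cfsg.Prelude.Def_ChevStructure
import Cfsg.Agent.H19.Col

/-! The finite table facts behind the matrix identities in a Chevalley group, as Boolean checks on a
function record and in the notation of the datum. -/

set_option autoImplicit false

namespace H19
open Cfsg Cfsg.Lie

/-- the Cartan integer `A_{r,s} = ⟨s, r^∨⟩` for arbitrary roots `r`, `s` -/
def pair (D : ChevalleyDatum) (r s : ℕ) : ℤ := ∑ i ∈ Finset.range D.rank, cor D r i * D.cartan i s

/-- the measure for the induction from the fundamental roots -/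
def mu (n r : ℕ) : ℕ := if n ≤ 2 * r then 2 * (2 * r - n) else 2 * (2 * (n - 1 - r) - n) + 1

namespace Rec
variable (R : Rec)

def chainRoot (r s i : ℕ) : Option ℕ := ((R.ch r s)[i - 1]?).map Prod.fst

def chainM (r s i : ℕ) : ℤ := (((R.ch r s)[i - 1]?).map Prod.snd).getD 0

def commTerms (r s : ℕ) : List (ℕ × ℤ × ℕ × ℕ) :=
  let rs := R.chainRoot r s 1
  let cands : List (Option ℕ × ℤ × ℕ × ℕ) :=
    [ (R.chainRoot r s 1, R.chainM r s 1, 1, 1),
      (R.chainRoot r s 2, R.chainM r s 2, 2, 1),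
      (R.chainRoot s r 2, R.chainM s r 2, 1, 2),
      (R.chainRoot r s 3, R.chainM r s 3, 3, 1),
      (R.chainRoot s r 3, - R.chainM s r 3, 1, 3),
      ((R.chainRoot r s 3).bind fun k => R.chainRoot k s 1, (rs.map fun k => R.chainM k r 2 / 3).getD 0, 3, 2),
      ((R.chainRoot s r 3).bind fun k => R.chainRoot k r 1, (rs.map fun k => -2 * R.chainM k s 2 / 3).getD 0, 2, 3) ]
  cands.filterMap fun c => c.1.map fun k => (k, c.2)

def refl (i s : ℕ) : ℕ :=
  let p := R.sim i
  let A := R.car i s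
  if s = p then R.neg p
  else if s = R.neg p then p
  else if 0 < A then (R.chainRoot (R.neg p) s A.toNat).getD s
  else if A < 0 then (R.chainRoot p s (-A).toNat).getD s
  else s

def pair (r s : ℕ) : ℤ := ∑ i ∈ Finset.range R.l, R.cor r i * R.car i s

/-- checks indexed by one root -/
def chk1 : Bool :=
  allB R.n fun r => decide (R.neg r < R.n ∧ R.neg (R.neg r) = r ∧ R.neg r ≠ r) &&
    allB R.l fun i => decide (R.car i (R.neg r) = - R.car i r ∧ R.cor (R.neg r) i = - R.cor r i)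

/-- checks indexed by the fundamental roots -/
def chkS : Bool :=
  allB R.l fun i => decide (R.sim i < R.n ∧ R.car i (R.sim i) = 2) &&
    allB R.l fun j => decide (R.cor (R.sim i) j = if j = i then 1 else 0)

/-- checks indexed by a pair of roots -/
def chk2 (r : ℕ) : Bool :=
  allB R.n fun s =>
    ((R.ch r s).zipIdx.all fun q => Nat.blt q.1.1 R.n &&
      allB R.l fun i => decide (R.car i q.1.1 = R.car i s + ((q.2 + 1 : ℕ) : ℤ) * R.car i r)) &&
    decide (R.chainRoot r s 1 = R.chainRoot s r 1) &&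
    (match R.chainRoot r s 1, R.chainRoot r s 3 with
      | some k1, some k3 => decide (R.chainRoot k1 r 2 = R.chainRoot k3 s 1 ∧ R.chainM k1 r 2 % 3 = 0)
      | _, _ => true) &&
    (Nat.beq r s || !(allB R.l fun i => decide (R.car i r = R.car i s)))

variable (w : ℕ → ℕ → ℕ) (η : ℕ → ℕ → ℤ)

/-- checks on the fundamental reflections and their signs -/
def chkW : Bool :=
  allB R.l fun i => decide (η i (R.sim i) = -1) && allB R.n fun s =>
    decide (R.refl i s = w i s ∧ w i s < R.n ∧ w i (w i s) = s ∧ w i (R.neg s) = R.neg (w i s) ∧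
      (η i s = 1 ∨ η i s = -1) ∧ η i s * η i (R.neg s) = 1 ∧ η i s * η i (w i s) = (-1) ^ (R.car i s).natAbs ∧
      (R.car i s < 0 → s < w i s) ∧ (R.car i s = 0 → w i s = s)) &&
    allB R.l fun j => decide (R.car j (w i s) = R.car j s - R.car i s * R.car j (R.sim i) ∧
      R.cor (w i s) j = R.cor s j - if j = i then R.pair s (R.sim i) else 0)

/-- every root is a fundamental root or is moved nearer to one by a fundamental reflection -/
def chkInd : Bool :=
  allB R.n fun r => !(allB R.l fun i => !(Nat.beq r (R.sim i) || Nat.blt (mu R.n (w i r)) (mu R.n r)))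

/-- compatibility of the chain table with the `i`-th fundamental reflection -/
def chkCompat (i : ℕ) : Bool :=
  allB R.n fun s => allB R.n fun u =>
    decide (R.ch (w i s) (w i u) =
      (R.ch s u).zipIdx.map fun q => (w i q.1.1, η i s ^ (q.2 + 1) * η i u * η i q.1.1 * q.1.2))

/-- the matrix of `n_p(t)` -/
def chkN : Bool :=
  allB R.l fun i =>
    (allB R.l fun j => veq 0
      (R.appW 0 [(R.sim i, [(1, (1 : ℤ))]), (R.neg (R.sim i), [(-1, -1)]), (R.sim i, [(1, 1)])] [(j, 1, 0)])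
      [(j, 1, 0), (i, - R.car j (R.sim i), 0)]) &&
    allB R.n fun s => veq 0
      (R.appW 0 [(R.sim i, [(1, (1 : ℤ))]), (R.neg (R.sim i), [(-1, -1)]), (R.sim i, [(1, 1)])]
        [(Nat.add R.l s, 1, 0)])
      [(Nat.add R.l (w i s), η i s, - R.car i s)]

/-- additivity for the fundamental roots and their negatives -/
def chkAdd : Bool :=
  allB R.l fun i =>
    R.weq 0 [(R.sim i, [(1, ((1 : ℕ), (0 : ℕ)))]), (R.sim i, [(1, (0, 1))])]
      [(R.sim i, [(1, (1, 0)), (1, (0, 1))])] &&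
    R.weq 0 [(R.neg (R.sim i), [(1, ((1 : ℕ), (0 : ℕ)))]), (R.neg (R.sim i), [(1, (0, 1))])]
      [(R.neg (R.sim i), [(1, (1, 0)), (1, (0, 1))])]

/-- the commutator formula for the dominant pairs -/
def chkComm : Bool :=
  allB R.n fun r => !(allB R.l fun i => decide (0 ≤ R.car i r)) ||
    allB R.n fun s => !(allB R.l fun i => decide (R.car i r = 0 → 0 ≤ R.car i s)) ||
      Nat.beq s r || Nat.beq s (R.neg r) ||
      R.weq 0 [(s, [(1, ((0 : ℕ), (1 : ℕ)))]), (r, [(1, (1, 0))])]
        ((r, [(1, (1, 0))]) :: (s, [(1, (0, 1))]) ::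
          (R.commTerms r s).map fun c => (c.1, [(c.2.1 * (-1) ^ c.2.2.1, (c.2.2.1, c.2.2.2))]))

/-- all the checks -/
structure Chk : Prop where
  c1 : R.chk1 = true
  cS : R.chkS = true
  c2 : ∀ r < R.n, R.chk2 r = true
  cW : R.chkW w η = true
  cInd : R.chkInd w = true
  cCompat : ∀ i < R.l, R.chkCompat w η i = true
  cN : R.chkN w η = true
  cAdd : R.chkAdd = true
  cComm : R.chkComm = true

end Rec

/-- The table facts in the notation of the datum; `η i s` is the sign with `n_{p_i} e_s = η i s • e_{w_i s}`. -/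
structure Tab (D : ChevalleyDatum) (η : ℕ → ℕ → ℤ) : Prop extends Tab0 D where
  coroot_toList : ∀ r < D.nroots, (D.coroot.getD r #[]).toList = (List.range D.rank).map (cor D r)
  car_neg : ∀ i < D.rank, ∀ r < D.nroots, D.cartan i (D.neg r) = - D.cartan i r
  cor_neg : ∀ i < D.rank, ∀ r < D.nroots, cor D (D.neg r) i = - cor D r i
  sim_lt : ∀ i < D.rank, D.simple i < D.nroots
  car_sim : ∀ i < D.rank, D.cartan i (D.simple i) = 2
  cor_sim : ∀ i < D.rank, ∀ j < D.rank, cor D (D.simple i) j = if j = i then 1 else 0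
  ch_lt : ∀ r < D.nroots, ∀ s < D.nroots, ∀ q ∈ (D.chainEntry r s).zipIdx, q.1.1 < D.nroots
  car_ch : ∀ r < D.nroots, ∀ s < D.nroots, ∀ q ∈ (D.chainEntry r s).zipIdx, ∀ i < D.rank,
    D.cartan i q.1.1 = D.cartan i s + ((q.2 + 1 : ℕ) : ℤ) * D.cartan i r
  ch_symm : ∀ r < D.nroots, ∀ s < D.nroots, D.chainRoot r s 1 = D.chainRoot s r 1
  ch_three : ∀ r < D.nroots, ∀ s < D.nroots, ∀ k1 k3, D.chainRoot r s 1 = some k1 → D.chainRoot r s 3 = some k3 →
    D.chainRoot k1 r 2 = D.chainRoot k3 s 1 ∧ D.chainM k1 r 2 % 3 = 0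
  wt_inj : ∀ r < D.nroots, ∀ s < D.nroots, (∀ i < D.rank, D.cartan i r = D.cartan i s) → r = s
  eta_sim : ∀ i < D.rank, η i (D.simple i) = -1
  w_lt : ∀ i < D.rank, ∀ s < D.nroots, D.reflectRoot i s < D.nroots
  w_w : ∀ i < D.rank, ∀ s < D.nroots, D.reflectRoot i (D.reflectRoot i s) = s
  w_neg : ∀ i < D.rank, ∀ s < D.nroots, D.reflectRoot i (D.neg s) = D.neg (D.reflectRoot i s)
  eta_pm : ∀ i < D.rank, ∀ s < D.nroots, η i s = 1 ∨ η i s = -1
  eta_neg : ∀ i < D.rank, ∀ s < D.nroots, η i s * η i (D.neg s) = 1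
  eta_w : ∀ i < D.rank, ∀ s < D.nroots, η i s * η i (D.reflectRoot i s) = (-1) ^ (D.cartan i s).natAbs
  raise : ∀ i < D.rank, ∀ s < D.nroots, D.cartan i s < 0 → s < D.reflectRoot i s
  w_fix : ∀ i < D.rank, ∀ s < D.nroots, D.cartan i s = 0 → D.reflectRoot i s = s
  car_w : ∀ i < D.rank, ∀ s < D.nroots, ∀ j < D.rank,
    D.cartan j (D.reflectRoot i s) = D.cartan j s - D.cartan i s * D.cartan j (D.simple i)
  cor_w : ∀ i < D.rank, ∀ s < D.nroots, ∀ j < D.rank,
    cor D (D.reflectRoot i s) j = cor D s j - if j = i then pair D s (D.simple i) else 0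
  ind : ∀ r < D.nroots, ∃ i < D.rank, r = D.simple i ∨ mu D.nroots (D.reflectRoot i r) < mu D.nroots r
  compat : ∀ i < D.rank, ∀ s < D.nroots, ∀ u < D.nroots,
    D.chainEntry (D.reflectRoot i s) (D.reflectRoot i u) =
      (D.chainEntry s u).zipIdx.map fun q =>
        (D.reflectRoot i q.1.1, η i s ^ (q.2 + 1) * η i u * η i q.1.1 * q.1.2)
  evN_h : ∀ i < D.rank, ∀ j < D.rank, veq 0
      ((recOf D).appW 0 [(D.simple i, [(1, (1 : ℤ))]), (D.neg (D.simple i), [(-1, -1)]), (D.simple i, [(1, 1)])]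
        [(j, 1, 0)]) [(j, 1, 0), (i, - D.cartan j (D.simple i), 0)] = true
  evN_e : ∀ i < D.rank, ∀ s < D.nroots, veq 0
      ((recOf D).appW 0 [(D.simple i, [(1, (1 : ℤ))]), (D.neg (D.simple i), [(-1, -1)]), (D.simple i, [(1, 1)])]
        [(D.rank + s, 1, 0)]) [(D.rank + D.reflectRoot i s, η i s, - D.cartan i s)] = true
  evAdd : ∀ i < D.rank, ∀ r, r = D.simple i ∨ r = D.neg (D.simple i) →
    (recOf D).weq 0 [(r, [(1, ((1 : ℕ), (0 : ℕ)))]), (r, [(1, (0, 1))])] [(r, [(1, (1, 0)), (1, (0, 1))])] = true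
  evComm : ∀ r < D.nroots, ∀ s < D.nroots, (∀ i < D.rank, 0 ≤ D.cartan i r) →
    (∀ i < D.rank, D.cartan i r = 0 → 0 ≤ D.cartan i s) → s ≠ r → s ≠ D.neg r →
    (recOf D).weq 0 [(s, [(1, ((0 : ℕ), (1 : ℕ)))]), (r, [(1, (1, 0))])]
        ((r, [(1, (1, 0))]) :: (s, [(1, (0, 1))]) ::
          (D.commTerms r s).map fun c => (c.1, [(c.2.1 * (-1) ^ c.2.2.1, (c.2.2.1, c.2.2.2))])) = true

theorem Tab.of_chk {D : ChevalleyDatum} {T : Fast} (hA : Agree D T) (h : T.toRec.Chk T.w T.eta) :
    Tab D T.eta := by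
  rw [← hA.recOf_eq] at h
  generalize T.w = w at h
  generalize T.eta = η at h ⊢
  obtain ⟨c1, cS, c2, cW, cInd, cCompat, cN, cAdd, cComm⟩ := h
  simp only [Rec.chk1, allB_iff, Bool.and_eq_true, decide_eq_true_eq] at c1
  simp only [Rec.chkS, allB_iff, Bool.and_eq_true, decide_eq_true_eq] at cS
  simp only [Rec.chk2, allB_iff, Bool.and_eq_true, decide_eq_true_eq, List.all_eq_true, Nat.blt_eq,
    Bool.or_eq_true, Nat.beq_eq, Bool.not_eq_true', ← Bool.not_eq_true] at c2
  simp only [Rec.chkW, allB_iff, Bool.and_eq_true, decide_eq_true_eq] at cW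
  simp only [Rec.chkCompat, allB_iff, decide_eq_true_eq] at cCompat
  simp only [Rec.chkN, allB_iff, Bool.and_eq_true] at cN
  simp only [Rec.chkAdd, allB_iff, Bool.and_eq_true] at cAdd
  simp only [Rec.chkComm, allB_iff, Bool.or_eq_true, Nat.beq_eq, Bool.not_eq_true', ← Bool.not_eq_true,
    decide_eq_true_eq] at cComm
  simp only [Rec.chkInd, allB_iff, Bool.or_eq_true, Nat.beq_eq, Bool.not_eq_true', ← Bool.not_eq_true,
    Nat.blt_eq] at cInd
  have hw : ∀ i < D.rank, ∀ s < D.nroots, D.reflectRoot i s = w i s :=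
    fun i hi s hs => ((cW i hi).2 s hs).1.1
  have hlt : ∀ i < D.rank, ∀ s < D.nroots, w i s < D.nroots :=
    fun i hi s hs => ((cW i hi).2 s hs).1.2.1
  have hneg : ∀ r < D.nroots, D.neg r < D.nroots := fun r hr => (c1 r hr).1.1
  refine
    { coeff := hA.chainCoeff_eq
      neg_lt := hneg
      neg_neg := fun r hr => (c1 r hr).1.2.1
      neg_ne := fun r hr => (c1 r hr).1.2.2
      coroot_toList := hA.coroot_toList
      car_neg := fun i hi r hr => ((c1 r hr).2 i hi).1
      cor_neg := fun i hi r hr => ((c1 r hr).2 i hi).2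
      sim_lt := fun i hi => (cS i hi).1.1
      car_sim := fun i hi => (cS i hi).1.2
      cor_sim := fun i hi j hj => (cS i hi).2 j hj
      ch_lt := fun r hr s hs q hq => ((c2 r hr s hs).1.1.1 q hq).1
      car_ch := fun r hr s hs q hq => ((c2 r hr s hs).1.1.1 q hq).2
      ch_symm := fun r hr s hs => (c2 r hr s hs).1.1.2
      ch_three := ?_
      wt_inj := ?_
      eta_sim := fun i hi => (cW i hi).1
      w_lt := fun i hi s hs => hw i hi s hs ▸ hlt i hi s hs
      w_w := ?_
      w_neg := ?_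
      eta_pm := fun i hi s hs => ((cW i hi).2 s hs).1.2.2.2.2.1
      eta_neg := fun i hi s hs => ((cW i hi).2 s hs).1.2.2.2.2.2.1
      eta_w := fun i hi s hs => hw i hi s hs ▸ ((cW i hi).2 s hs).1.2.2.2.2.2.2.1
      raise := fun i hi s hs => hw i hi s hs ▸ ((cW i hi).2 s hs).1.2.2.2.2.2.2.2.1
      w_fix := fun i hi s hs => hw i hi s hs ▸ ((cW i hi).2 s hs).1.2.2.2.2.2.2.2.2
      car_w := fun i hi s hs j hj => hw i hi s hs ▸ (((cW i hi).2 s hs).2 j hj).1
      cor_w := fun i hi s hs j hj => hw i hi s hs ▸ (((cW i hi).2 s hs).2 j hj).2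
      ind := ?_
      compat := ?_
      evN_h := fun i hi j hj => (cN i hi).1 j hj
      evN_e := fun i hi s hs => hw i hi s hs ▸ (cN i hi).2 s hs
      evAdd := ?_
      evComm := ?_ }
  · intro r hr s hs k1 k3 h1 h3
    have := (c2 r hr s hs).1.2
    have e1 : (recOf D).chainRoot r s 1 = some k1 := h1
    have e3 : (recOf D).chainRoot r s 3 = some k3 := h3
    rw [e1, e3] at this
    exact of_decide_eq_true this
  · intro r hr s hs h
    rcases (c2 r hr s hs).2 with h' | h'
    · exact h'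
    · exact absurd h h'
  · intro i hi s hs
    rw [hw i hi s hs, hw i hi _ (hlt i hi s hs)]
    exact ((cW i hi).2 s hs).1.2.2.1
  · intro i hi s hs
    rw [hw i hi s hs, hw i hi _ (hneg s hs)]
    exact ((cW i hi).2 s hs).1.2.2.2.1
  · intro r hr
    have := cInd r hr
    push Not at this
    obtain ⟨i, hi, h⟩ := this
    refine ⟨i, hi, ?_⟩
    rw [hw i hi r hr]
    exact h
  · intro i hi s hs u hu
    rw [hw i hi s hs, hw i hi u hu]
    refine (cCompat i hi s hs u hu).trans ?_
    apply List.map_congr_left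
    intro q hq
    rw [hw i hi _ ((c2 s hs u hu).1.1.1 q hq).1]
  · rintro i hi r (rfl | rfl)
    · exact (cAdd i hi).1
    · exact (cAdd i hi).2
  · intro r hr s hs h1 h2 h3 h4
    rcases cComm r hr with h | h
    · exact absurd h1 h
    · rcases h s hs with ((h | h) | h) | h
      · exact absurd h2 h
      · exact absurd h h3
      · exact absurd h h4
      · exact h

end H19
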