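import Mathlib
import Cfsg.Prelude.Def_ChevStructure
import Cfsg.Agent.H19.Tab

/-! The basic matrix identities in a Chevalley group: the matrix of `n_p(t)` for fundamental `p`, conjugation of
root elements by `n_p`, additivity (R1), the commutator formula (R2) and the action of diagonal matrices. -/

set_option autoImplicit false

namespace H19
open Cfsg Cfsg.Lie Matrix

variable {D : ChevalleyDatum} {η : ℕ → ℕ → ℤ} {F : Type*} [Field F]

@[simp] theorem wordMat_nil : D.wordMat F [] = 1 := rfl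

theorem wordMat_cons (a : ℕ × F) (w : List (ℕ × F)) :
    D.wordMat F (a :: w) = D.x F a.1 a.2 * D.wordMat F w := by
  simp [ChevalleyDatum.wordMat]

theorem wordMat_append (v w : List (ℕ × F)) : D.wordMat F (v ++ w) = D.wordMat F v * D.wordMat F w := by
  simp [ChevalleyDatum.wordMat]

theorem nMat_eq (r : ℕ) (t : F) : D.nMat F r t = D.x F r t * D.x F (D.neg r) (-t⁻¹) * D.x F r t := by
  simp [ChevalleyDatum.nMat, ChevalleyDatum.nWord, ChevalleyDatum.wordMat, mul_assoc]

theorem hMat_eq (r : ℕ) (t : F) : D.hMat F r t = D.nMat F r t * D.nMat F r (-1) := by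
  unfold ChevalleyDatum.hMat ChevalleyDatum.hWord; rw [wordMat_append]; rfl

namespace Tab
variable (h : Tab D η)
include h

theorem induction {P : ℕ → Prop} (h0 : ∀ i < D.rank, P (D.simple i))
    (hs : ∀ i < D.rank, ∀ r < D.nroots, P r → P (D.reflectRoot i r)) : ∀ r < D.nroots, P r := by
  intro r hr
  induction hm : mu D.nroots r using Nat.strong_induction_on generalizing r with
  | _ m ih =>
    obtain ⟨i, hi, h1 | h1⟩ := h.ind r hr
    · exact h1 ▸ h0 i hi
    · have := hs i hi _ (h.w_lt i hi r hr) (ih _ (hm ▸ h1) _ (h.w_lt i hi r hr) rfl)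
      rwa [h.w_w i hi r hr] at this

theorem eta_sq {i s : ℕ} (hi : i < D.rank) (hs : s < D.nroots) : η i s * η i s = 1 := by
  rcases h.eta_pm i hi s hs with e | e <;> rw [e] <;> norm_num

theorem eta_sq' {i s : ℕ} (hi : i < D.rank) (hs : s < D.nroots) : ((η i s : ℤ) : F) * (η i s : ℤ) = 1 := by
  rw [← Int.cast_mul, h.eta_sq hi hs, Int.cast_one]

theorem eta_neg_eq {i s : ℕ} (hi : i < D.rank) (hs : s < D.nroots) : η i (D.neg s) = η i s := by
  have := h.eta_neg i hi s hs
  rcases h.eta_pm i hi s hs with e | e <;> rw [e] at this ⊢ <;> omega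

theorem eta_ne {i s : ℕ} (hi : i < D.rank) (hs : s < D.nroots) : ((η i s : ℤ) : F) ≠ 0 := by
  intro e; have := h.eta_sq' (F := F) hi hs; rw [e, zero_mul] at this; exact zero_ne_one this

theorem w_inj {i s u : ℕ} (hi : i < D.rank) (hs : s < D.nroots) (hu : u < D.nroots)
    (e : D.reflectRoot i s = D.reflectRoot i u) : s = u := by
  rw [← h.w_w i hi s hs, e, h.w_w i hi u hu]

theorem car_w_self {i s : ℕ} (hi : i < D.rank) (hs : s < D.nroots) :
    D.cartan i (D.reflectRoot i s) = - D.cartan i s := by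
  rw [h.car_w i hi s hs i hi, h.car_sim i hi]; ring

theorem nMat_simple_hv {i j : ℕ} (hi : i < D.rank) (hj : j < D.rank) {t : F} (ht : t ≠ 0) :
    D.nMat F (D.simple i) t *ᵥ hv D F j = hv D F j - ((D.cartan j (D.simple i) : ℤ) : F) • hv D F i := by
  have h0 : (fun a : ℤ => t ^ a) 0 = 1 := zpow_zero t
  have hadd : ∀ a b : ℤ, (fun a : ℤ => t ^ a) (a + b) = (fun a : ℤ => t ^ a) a * (fun a : ℤ => t ^ a) b :=
    fun a b => zpow_add₀ ht a b
  have := evV_of_veq (D := D) (ev := fun a : ℤ => t ^ a) (p := 0) (by simp) (h.evN_h i hi j hj)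
  rw [evV_appW h.toTab0 h0 hadd (by simp), evV_single h0, bv_lt hj] at this
  have e : D.wordMat F (evW (fun a : ℤ => t ^ a) [(D.simple i, [(1, (1 : ℤ))]),
      (D.neg (D.simple i), [(-1, -1)]), (D.simple i, [(1, 1)])]) = D.nMat F (D.simple i) t := by
    simp [evW, evP, ChevalleyDatum.nMat, ChevalleyDatum.nWord]
  rw [e] at this
  rw [this]
  simp [evV, bv_lt hi, bv_lt hj, sub_eq_add_neg]

theorem nMat_simple_er {i s : ℕ} (hi : i < D.rank) (hs : s < D.nroots) {t : F} (ht : t ≠ 0) :
    D.nMat F (D.simple i) t *ᵥ er D F s =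
      (((η i s : ℤ) : F) * t ^ (-D.cartan i s)) • er D F (D.reflectRoot i s) := by
  have h0 : (fun a : ℤ => t ^ a) 0 = 1 := zpow_zero t
  have hadd : ∀ a b : ℤ, (fun a : ℤ => t ^ a) (a + b) = (fun a : ℤ => t ^ a) a * (fun a : ℤ => t ^ a) b :=
    fun a b => zpow_add₀ ht a b
  have := evV_of_veq (D := D) (ev := fun a : ℤ => t ^ a) (p := 0) (by simp) (h.evN_e i hi s hs)
  rw [evV_appW h.toTab0 h0 hadd (by simp), evV_single h0, bv_add] at this
  have e : D.wordMat F (evW (fun a : ℤ => t ^ a) [(D.simple i, [(1, (1 : ℤ))]),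
      (D.neg (D.simple i), [(-1, -1)]), (D.simple i, [(1, 1)])]) = D.nMat F (D.simple i) t := by
    simp [evW, evP, ChevalleyDatum.nMat, ChevalleyDatum.nWord]
  rw [e] at this
  rw [this]
  simp [evV, bv_add]

theorem n1_er {i s : ℕ} (hi : i < D.rank) (hs : s < D.nroots) :
    D.nMat F (D.simple i) 1 *ᵥ er D F s = ((η i s : ℤ) : F) • er D F (D.reflectRoot i s) := by
  rw [h.nMat_simple_er hi hs one_ne_zero]; simp

theorem nMat_simple_hr {i s : ℕ} (hi : i < D.rank) (hs : s < D.nroots) {t : F} (ht : t ≠ 0) :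
    D.nMat F (D.simple i) t *ᵥ hr D F s = hr D F (D.reflectRoot i s) := by
  rw [hr_eq_sum, hr_eq_sum, mulVec_sum]
  have e1 : ∀ j ∈ Finset.range D.rank, D.nMat F (D.simple i) t *ᵥ (((cor D s j : ℤ) : F) • hv D F j) =
      ((cor D s j : ℤ) : F) • hv D F j - ((cor D s j * D.cartan j (D.simple i) : ℤ) : F) • hv D F i := by
    intro j hj
    rw [mulVec_smul, h.nMat_simple_hv hi (Finset.mem_range.1 hj) ht, smul_sub, smul_smul, Int.cast_mul]
  have e2 : ∀ j ∈ Finset.range D.rank, ((cor D (D.reflectRoot i s) j : ℤ) : F) • hv D F j =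
      ((cor D s j : ℤ) : F) • hv D F j - if j = i then ((pair D s (D.simple i) : ℤ) : F) • hv D F i else 0 := by
    intro j hj
    rw [h.cor_w i hi s hs j (Finset.mem_range.1 hj), Int.cast_sub, sub_smul]
    split_ifs with e
    · rw [e]
    · simp
  rw [Finset.sum_congr rfl e1, Finset.sum_congr rfl e2, Finset.sum_sub_distrib, Finset.sum_sub_distrib,
    Finset.sum_ite_eq', if_pos (Finset.mem_range.2 hi), ← Finset.sum_smul, pair, Int.cast_sum]

theorem x_add_simple {i r : ℕ} (hi : i < D.rank) (hr : r = D.simple i ∨ r = D.neg (D.simple i)) (t u : F) :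
    D.x F r t * D.x F r u = D.x F r (t + u) := by
  have := wordMat_eq_of_weq (F := F) (ev := fun a : ℕ × ℕ => t ^ a.1 * u ^ a.2) h.toTab0 (by simp)
    (by intro a b; simp only [Prod.fst_add, Prod.snd_add, pow_add]; ring) (p := 0) (by simp) (h.evAdd i hi r hr)
  simpa [evW, evP, ChevalleyDatum.wordMat] using this

theorem n1_mul_nneg {i : ℕ} (hi : i < D.rank) :
    D.nMat F (D.simple i) 1 * D.nMat F (D.simple i) (-1) = 1 := by
  have a := fun t u : F => h.x_add_simple hi (Or.inl rfl) t u
  have b := fun t u : F => h.x_add_simple hi (Or.inr rfl) t u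
  rw [nMat_eq, nMat_eq]
  simp only [mul_assoc]
  rw [← mul_assoc (D.x F (D.simple i) 1) (D.x F (D.simple i) (-1)), a, add_neg_cancel, x_zero h.toTab0, one_mul,
    ← mul_assoc (D.x F (D.neg (D.simple i)) _), b]
  simp only [inv_one, inv_neg, neg_neg, neg_add_cancel]
  rw [x_zero h.toTab0, one_mul, a, add_neg_cancel, x_zero h.toTab0]

theorem n1_cancel {i : ℕ} (hi : i < D.rank) {A B : Matrix D.Idx D.Idx F}
    (e : A * D.nMat F (D.simple i) 1 = B * D.nMat F (D.simple i) 1) : A = B := by
  have := congrArg (· * D.nMat F (D.simple i) (-1)) e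
  simpa only [mul_assoc, h.n1_mul_nneg hi, mul_one] using this

/-- `n_p x_s(t) = x_{w_p s}(η t) n_p` for a fundamental root `p` -/
theorem n1_x {i s : ℕ} (hi : i < D.rank) (hs : s < D.nroots) (t : F) :
    D.nMat F (D.simple i) 1 * D.x F s t =
      D.x F (D.reflectRoot i s) (((η i s : ℤ) : F) * t) * D.nMat F (D.simple i) 1 := by
  have hw := h.w_lt i hi s hs
  apply mat_ext
  · intro j hj
    rw [← mulVec_mulVec, ← mulVec_mulVec, x_hv hs hj, mulVec_sub, mulVec_smul, h.n1_er hi hs,
      h.nMat_simple_hv hi hj one_ne_zero, mulVec_sub, mulVec_smul, x_hv hw hj, x_hv hw hi,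
      h.car_w i hi s hs j hj, h.car_w_self hi hs]
    push_cast
    module
  · intro u hu
    rw [← mulVec_mulVec, ← mulVec_mulVec]
    by_cases h1 : u = s
    · subst h1
      rw [x_er_self hs, h.n1_er hi hs, mulVec_smul, x_er_self hw]
    by_cases h2 : u = D.neg s
    · subst h2
      rw [x_er_neg h.toTab0 hs, mulVec_sub, mulVec_add, mulVec_smul, mulVec_smul, h.n1_er hi hs, h.n1_er hi hu,
        h.nMat_simple_hr hi hs one_ne_zero, mulVec_smul, h.w_neg i hi s hs, x_er_neg h.toTab0 hw,
        h.eta_neg_eq hi hs]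
      have e := h.eta_sq' (F := F) hi hs
      rw [smul_sub, smul_add, smul_smul, smul_smul, smul_smul, ← mul_assoc, e, one_mul, mul_pow,
        sq ((η i s : ℤ) : F), e, one_mul, mul_comm (t ^ 2)]
    have h1' : D.reflectRoot i u ≠ D.reflectRoot i s := fun e => h1 (h.w_inj hi hu hs e)
    have h2' : D.reflectRoot i u ≠ D.neg (D.reflectRoot i s) := fun e =>
      h2 (h.w_inj hi hu (h.neg_lt s hs) (by rw [e, h.w_neg i hi s hs]))
    rw [x_er h.toTab0 hs hu h1 h2, mulVec_add, h.n1_er hi hu, mulVec_smul,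
      x_er h.toTab0 hw (h.w_lt i hi u hu) h1' h2', smul_add, h.compat i hi s hs u hu]
    congr 1
    rw [List.zipIdx_map, List.map_map, List.smul_sum, List.map_map]
    have : D.nMat F (D.simple i) 1 *ᵥ ((D.chainEntry s u).zipIdx.map
        fun q => (((q.1.2 : ℤ) : F) * t ^ (q.2 + 1)) • er D F q.1.1).sum =
        ((D.chainEntry s u).zipIdx.map fun q => D.nMat F (D.simple i) 1 *ᵥ
          ((((q.1.2 : ℤ) : F) * t ^ (q.2 + 1)) • er D F q.1.1)).sum := by
      rw [← mulVecLin_apply, map_list_sum, List.map_map]; rfl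
    rw [this]
    have z : (D.chainEntry s u).zipIdx.zipIdx = (D.chainEntry s u).zipIdx.map fun q => (q, q.2) := by
      apply List.ext_getElem
      · simp
      · intro k h1 h2; simp
    rw [z, List.map_map]
    congr 1
    apply List.map_congr_left
    intro q hq
    have hq' := h.ch_lt s hs u hu q hq
    simp only [Function.comp_apply, Prod.map_fst, Prod.map_snd, id_eq]
    rw [mulVec_smul, h.n1_er hi hq', smul_smul, smul_smul]
    congr 1
    have e1 := h.eta_sq' (F := F) hi hs
    have e2 := h.eta_sq' (F := F) hi hu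
    have e3 : ((η i s : ℤ) : F) ^ (q.2 + 1) * ((η i s : ℤ) : F) ^ (q.2 + 1) = 1 := by
      rw [← mul_pow, e1, one_pow]
    push_cast
    rw [mul_pow]
    linear_combination (-(q.1.2 : F) * t ^ (q.2 + 1) * (η i q.1.1 : F)) * e3 +
      (-(q.1.2 : F) * t ^ (q.2 + 1) * (η i q.1.1 : F) * ((η i s : ℤ) : F) ^ (q.2 + 1) *
        ((η i s : ℤ) : F) ^ (q.2 + 1)) * e2

/-- (R1) additivity of root elements -/
theorem x_add (r : ℕ) (t u : F) : D.x F r t * D.x F r u = D.x F r (t + u) := by
  by_cases hr : r < D.nroots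
  swap
  · simp [x_of_le (Nat.le_of_not_lt hr)]
  revert t u
  refine h.induction (P := fun r => ∀ t u : F, D.x F r t * D.x F r u = D.x F r (t + u)) ?_ ?_ r hr
  · intro i hi t u; exact h.x_add_simple hi (Or.inl rfl) t u
  · intro i hi s hs ih t u
    apply h.n1_cancel hi
    have e := h.eta_sq' (F := F) hi hs
    have k : ∀ a : F, D.x F (D.reflectRoot i s) a * D.nMat F (D.simple i) 1 =
        D.nMat F (D.simple i) 1 * D.x F s (((η i s : ℤ) : F) * a) := by
      intro a; rw [h.n1_x hi hs, ← mul_assoc, e, one_mul]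
    rw [mul_assoc, k, ← mul_assoc, k, mul_assoc, ih, k, mul_add]

theorem x_mul_neg (r : ℕ) (t : F) : D.x F r t * D.x F r (-t) = 1 := by
  rw [h.x_add, add_neg_cancel, x_zero h.toTab0]

theorem x_neg_mul (r : ℕ) (t : F) : D.x F r (-t) * D.x F r t = 1 := by
  rw [h.x_add, neg_add_cancel, x_zero h.toTab0]

/-- conjugating a word by `n_p` -/
theorem n1_word {i : ℕ} (hi : i < D.rank) (w : List (ℕ × F)) (hw : ∀ a ∈ w, a.1 < D.nroots) :
    D.nMat F (D.simple i) 1 * D.wordMat F w =
      D.wordMat F (w.map fun a => (D.reflectRoot i a.1, ((η i a.1 : ℤ) : F) * a.2)) * D.nMat F (D.simple i) 1 := by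
  induction w with
  | nil => simp
  | cons a w ih =>
    rw [List.map_cons, wordMat_cons, wordMat_cons, ← mul_assoc, h.n1_x hi (hw a (by simp)), mul_assoc,
      ih (fun b hb => hw b (by simp [hb])), mul_assoc]

theorem chainRoot_lt {r s k j : ℕ} (hr : r < D.nroots) (hs : s < D.nroots) (e : D.chainRoot r s j = some k) :
    k < D.nroots := by
  unfold ChevalleyDatum.chainRoot at e
  obtain ⟨a, ha, rfl⟩ := Option.map_eq_some_iff.1 e
  exact h.ch_lt r hr s hs (a, j - 1) (List.mem_zipIdx_iff_getElem?.2 ha)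

theorem chainRoot_w {i r s : ℕ} (hi : i < D.rank) (hr : r < D.nroots) (hs : s < D.nroots) (j : ℕ) :
    D.chainRoot (D.reflectRoot i r) (D.reflectRoot i s) j = (D.chainRoot r s j).map (D.reflectRoot i) := by
  unfold ChevalleyDatum.chainRoot
  rw [h.compat i hi r hr s hs, List.getElem?_map, List.getElem?_zipIdx]
  cases (D.chainEntry r s)[j - 1]? <;> simp

theorem chainM_w {i r s k j : ℕ} (hi : i < D.rank) (hr : r < D.nroots) (hs : s < D.nroots) (hj : 1 ≤ j)
    (e : D.chainRoot r s j = some k) :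
    D.chainM (D.reflectRoot i r) (D.reflectRoot i s) j = η i r ^ j * η i s * η i k * D.chainM r s j := by
  unfold ChevalleyDatum.chainRoot at e
  unfold ChevalleyDatum.chainM
  rw [h.compat i hi r hr s hs, List.getElem?_map, List.getElem?_zipIdx]
  obtain ⟨a, ha, rfl⟩ := Option.map_eq_some_iff.1 e
  rw [ha]
  simp [Nat.sub_add_cancel hj]

omit h in
theorem chainRoot_one_of_three {r s k : ℕ} (e : D.chainRoot r s 3 = some k) : ∃ k1, D.chainRoot r s 1 = some k1 := by
  unfold ChevalleyDatum.chainRoot at e ⊢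
  obtain ⟨a, ha, -⟩ := Option.map_eq_some_iff.1 e
  obtain ⟨hl, -⟩ := List.getElem?_eq_some_iff.1 ha
  have : 1 - 1 < (D.chainEntry r s).length := by omega
  exact ⟨_, by rw [List.getElem?_eq_getElem this]; rfl⟩

theorem commTerms_lt {r s : ℕ} (hr : r < D.nroots) (hs : s < D.nroots) :
    ∀ c ∈ D.commTerms r s, c.1 < D.nroots := by
  intro c hc
  unfold ChevalleyDatum.commTerms at hc
  obtain ⟨a, ha, e⟩ := List.mem_filterMap.1 hc
  obtain ⟨k, hk, rfl⟩ := Option.map_eq_some_iff.1 e
  simp only [List.mem_cons, List.not_mem_nil, or_false] at ha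
  rcases ha with rfl | rfl | rfl | rfl | rfl | rfl | rfl
  · exact h.chainRoot_lt hr hs hk
  · exact h.chainRoot_lt hr hs hk
  · exact h.chainRoot_lt hs hr hk
  · exact h.chainRoot_lt hr hs hk
  · exact h.chainRoot_lt hs hr hk
  · obtain ⟨k3, h3, h4⟩ := Option.bind_eq_some_iff.1 hk
    exact h.chainRoot_lt (h.chainRoot_lt hr hs h3) hs h4
  · obtain ⟨k3, h3, h4⟩ := Option.bind_eq_some_iff.1 hk
    exact h.chainRoot_lt (h.chainRoot_lt hs hr h3) hr h4

theorem commTerms_w {i r s : ℕ} (hi : i < D.rank) (hr : r < D.nroots) (hs : s < D.nroots) :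
    D.commTerms (D.reflectRoot i r) (D.reflectRoot i s) = (D.commTerms r s).map fun c =>
      (D.reflectRoot i c.1, η i r ^ c.2.2.1 * η i s ^ c.2.2.2 * η i c.1 * c.2.1, c.2.2) := by
  have er := h.eta_pm i hi r hr
  have es := h.eta_pm i hi s hs
  have key : ∀ (o o' : Option ℕ) (C C' : ℤ) (a b : ℕ), o' = o.map (D.reflectRoot i) →
      (∀ k, o = some k → C' = η i r ^ a * η i s ^ b * η i k * C) →
      o'.map (fun k => (k, C', a, b)) = (o.map (fun k => (k, C, a, b))).map fun c : ℕ × ℤ × ℕ × ℕ =>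
        (D.reflectRoot i c.1, η i r ^ c.2.2.1 * η i s ^ c.2.2.2 * η i c.1 * c.2.1, c.2.2) := by
    intro o o' C C' a b h1 h2
    subst h1
    cases o with
    | none => rfl
    | some k => simp [h2 k rfl]
  have three : ∀ r s : ℕ, r < D.nroots → s < D.nroots → ∀ k3 k, D.chainRoot r s 3 = some k3 →
      D.chainRoot k3 s 1 = some k → ∃ k1 m, D.chainRoot r s 1 = some k1 ∧ D.chainM k1 r 2 = 3 * m ∧
        D.chainM (D.reflectRoot i k1) (D.reflectRoot i r) 2 = 3 * (η i r * η i k * m) := by
    intro r s hr hs k3 k h3 h4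
    obtain ⟨k1, h1⟩ := chainRoot_one_of_three h3
    obtain ⟨a, b⟩ := h.ch_three r hr s hs k1 k3 h1 h3
    obtain ⟨m, hm⟩ := Int.dvd_of_emod_eq_zero b
    have hk1 := h.chainRoot_lt hr hs h1
    refine ⟨k1, m, h1, hm, ?_⟩
    rw [h.chainM_w hi hk1 hr (by norm_num) (a.trans h4), hm, sq, h.eta_sq hi hk1]; ring
  unfold ChevalleyDatum.commTerms
  simp only [List.map_filterMap]
  rw [List.filterMap_eq_flatMap_toList, List.filterMap_eq_flatMap_toList]
  simp only [List.flatMap_cons, List.flatMap_nil]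
  congr 1
  · congr 1
    apply key _ _ _ _ _ _ (h.chainRoot_w hi hr hs 1)
    intro k hk; rw [h.chainM_w hi hr hs le_rfl hk]; ring
  congr 1
  · congr 1
    apply key _ _ _ _ _ _ (h.chainRoot_w hi hr hs 2)
    intro k hk; rw [h.chainM_w hi hr hs (by norm_num) hk]; ring
  congr 1
  · congr 1
    apply key _ _ _ _ _ _ (h.chainRoot_w hi hs hr 2)
    intro k hk; rw [h.chainM_w hi hs hr (by norm_num) hk]; ring
  congr 1
  · congr 1
    apply key _ _ _ _ _ _ (h.chainRoot_w hi hr hs 3)
    intro k hk; rw [h.chainM_w hi hr hs (by norm_num) hk]; ring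
  congr 1
  · congr 1
    apply key _ _ _ _ _ _ (h.chainRoot_w hi hs hr 3)
    intro k hk; rw [h.chainM_w hi hs hr (by norm_num) hk]; ring
  congr 1
  · congr 1
    apply key
    · rw [h.chainRoot_w hi hr hs 3]
      cases e : D.chainRoot r s 3 with
      | none => rfl
      | some k3 => exact h.chainRoot_w hi (h.chainRoot_lt hr hs e) hs 1
    · intro k hk
      obtain ⟨k3, h3, h4⟩ := Option.bind_eq_some_iff.1 hk
      obtain ⟨k1, m, h1, a, b⟩ := three r s hr hs k3 k h3 h4
      rw [h.chainRoot_w hi hr hs 1, h1]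
      simp only [Option.map_some, Option.getD_some]
      rw [a, b, Int.mul_ediv_cancel_left _ (by norm_num), Int.mul_ediv_cancel_left _ (by norm_num)]
      rcases er with e | e <;> rcases es with e' | e' <;> rw [e, e'] <;> ring
  congr 1
  congr 1
  apply key
  · rw [h.chainRoot_w hi hs hr 3]
    cases e : D.chainRoot s r 3 with
    | none => rfl
    | some k3 => exact h.chainRoot_w hi (h.chainRoot_lt hs hr e) hr 1
  · intro k hk
    obtain ⟨k3, h3, h4⟩ := Option.bind_eq_some_iff.1 hk
    obtain ⟨k1, m, h1, a, b⟩ := three s r hs hr k3 k h3 h4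
    rw [h.chainRoot_w hi hr hs 1, h.ch_symm r hr s hs, h1]
    simp only [Option.map_some, Option.getD_some]
    rw [a, b, show -2 * (3 * m) = 3 * (-2 * m) by ring,
      show -2 * (3 * (η i s * η i k * m)) = 3 * (-2 * (η i s * η i k * m)) by ring,
      Int.mul_ediv_cancel_left _ (by norm_num), Int.mul_ediv_cancel_left _ (by norm_num)]
    rcases er with e | e <;> rcases es with e' | e' <;> rw [e, e'] <;> ring

theorem comm_transport {i r s : ℕ} (hi : i < D.rank) (hr : r < D.nroots) (hs : s < D.nroots)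
    (ih : ∀ t u : F, D.x F s u * D.x F r t = D.x F r t * D.x F s u * D.wordMat F (D.commWord F r s t u))
    (t u : F) : D.x F (D.reflectRoot i s) u * D.x F (D.reflectRoot i r) t =
      D.x F (D.reflectRoot i r) t * D.x F (D.reflectRoot i s) u *
        D.wordMat F (D.commWord F (D.reflectRoot i r) (D.reflectRoot i s) t u) := by
  apply h.n1_cancel hi
  have k : ∀ s < D.nroots, ∀ a : F, D.x F (D.reflectRoot i s) a * D.nMat F (D.simple i) 1 =
      D.nMat F (D.simple i) 1 * D.x F s (((η i s : ℤ) : F) * a) := by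
    intro s hs a; rw [h.n1_x hi hs, ← mul_assoc, h.eta_sq' hi hs, one_mul]
  have k2 : D.wordMat F (D.commWord F (D.reflectRoot i r) (D.reflectRoot i s) t u) * D.nMat F (D.simple i) 1 =
      D.nMat F (D.simple i) 1 * D.wordMat F (D.commWord F r s (((η i r : ℤ) : F) * t) (((η i s : ℤ) : F) * u)) := by
    rw [h.n1_word hi]
    · congr 2
      unfold ChevalleyDatum.commWord
      rw [h.commTerms_w hi hr hs, List.map_map, List.map_map]
      apply List.map_congr_left
      intro c _
      simp only [Function.comp_apply, Prod.mk.injEq, true_and]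
      push_cast
      rw [neg_mul_eq_mul_neg, mul_pow, mul_pow]; ring
    · intro a ha
      unfold ChevalleyDatum.commWord at ha
      obtain ⟨c, hc, rfl⟩ := List.mem_map.1 ha
      exact h.commTerms_lt hr hs c hc
  rw [mul_assoc, k r hr, ← mul_assoc, k s hs, mul_assoc, ih, mul_assoc, mul_assoc, k2,
    mul_assoc (D.x F (D.reflectRoot i r) t), ← mul_assoc (D.x F _ u), k s hs, ← mul_assoc (D.x F _ t),
    ← mul_assoc (D.x F _ t), k r hr]
  simp only [mul_assoc]

/-- (R2) Chevalley's commutator formula -/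
theorem x_comm {r s : ℕ} (hr : r < D.nroots) (hs : s < D.nroots) (h1 : s ≠ r) (h2 : s ≠ D.neg r) (t u : F) :
    D.x F s u * D.x F r t = D.x F r t * D.x F s u * D.wordMat F (D.commWord F r s t u) := by
  revert t u
  induction hm : D.nroots - r using Nat.strong_induction_on generalizing r s with
  | _ m ih =>
  induction hm' : D.nroots - s using Nat.strong_induction_on generalizing s with
  | _ m' ih' =>
  have step : ∀ i < D.rank, (∀ t u : F, D.x F (D.reflectRoot i s) u * D.x F (D.reflectRoot i r) t =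
      D.x F (D.reflectRoot i r) t * D.x F (D.reflectRoot i s) u *
        D.wordMat F (D.commWord F (D.reflectRoot i r) (D.reflectRoot i s) t u)) →
      ∀ t u : F, D.x F s u * D.x F r t = D.x F r t * D.x F s u * D.wordMat F (D.commWord F r s t u) := by
    intro i hi hh t u
    have := h.comm_transport hi (h.w_lt i hi r hr) (h.w_lt i hi s hs) hh t u
    rwa [h.w_w i hi r hr, h.w_w i hi s hs] at this
  have ne1 : ∀ i < D.rank, D.reflectRoot i s ≠ D.reflectRoot i r := fun i hi e => h1 (h.w_inj hi hs hr e)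
  have ne2 : ∀ i < D.rank, D.reflectRoot i s ≠ D.neg (D.reflectRoot i r) := fun i hi e =>
    h2 (h.w_inj hi hs (h.neg_lt r hr) (by rw [e, h.w_neg i hi r hr]))
  by_cases c1 : ∀ i < D.rank, 0 ≤ D.cartan i r
  swap
  · push Not at c1
    obtain ⟨i, hi, c1⟩ := c1
    have := h.raise i hi r hr c1
    have hw := h.w_lt i hi r hr
    exact step i hi (ih _ (by omega) hw (h.w_lt i hi s hs) (ne1 i hi) (ne2 i hi) rfl)
  by_cases c2 : ∀ i < D.rank, D.cartan i r = 0 → 0 ≤ D.cartan i s
  swap
  · push Not at c2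
    obtain ⟨i, hi, c2, c3⟩ := c2
    have := h.raise i hi s hs c3
    have hw := h.w_lt i hi s hs
    have e := h.w_fix i hi r hr c2
    apply step i hi
    have n1 := ne1 i hi
    have n2 := ne2 i hi
    rw [e] at n1 n2 ⊢
    exact ih' _ (by omega) hw n1 n2 rfl
  intro t u
  have := wordMat_eq_of_weq (F := F) (ev := fun a : ℕ × ℕ => t ^ a.1 * u ^ a.2) h.toTab0 (by simp)
    (by intro a b; simp only [Prod.fst_add, Prod.snd_add, pow_add]; ring) (p := 0) (by simp)
    (h.evComm r hr s hs c1 c2 h1 h2)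
  simp only [evW, List.map_cons, List.map_nil, wordMat_cons, wordMat_nil, evP, List.sum_cons, List.sum_nil,
    Int.cast_one, pow_zero, pow_one, mul_one, one_mul, add_zero, List.map_map] at this
  rw [this, mul_assoc]
  congr 3
  unfold ChevalleyDatum.commWord
  apply List.map_congr_left
  intro c _
  simp only [Function.comp_apply, Prod.mk.injEq, true_and, List.map_cons, List.map_nil, List.sum_cons,
    List.sum_nil]
  push_cast
  rw [neg_pow t]; ring

end Tab

end H19
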