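import Mathlib
import Cfsg.Prelude.Def_ChevStructure
import Cfsg.Agent.H19.Mat

/-! Diagonal matrices of characters, reflections in arbitrary roots, and the matrices `n_r(t)`, `h_r(t)` for
arbitrary roots `r`. -/

set_option autoImplicit false

namespace H19
open Cfsg Cfsg.Lie Matrix

variable {D : ChevalleyDatum} {η : ℕ → ℕ → ℤ} {F : Type*} [Field F]

/-- an integer function on the roots that is additive along chains -/
structure IsAdd (D : ChevalleyDatum) (f : ℕ → ℤ) : Prop where
  neg : ∀ r < D.nroots, f (D.neg r) = - f r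
  ch : ∀ r < D.nroots, ∀ s < D.nroots, ∀ q ∈ (D.chainEntry r s).zipIdx, f q.1.1 = f s + ((q.2 + 1 : ℕ) : ℤ) * f r

/-- a function on the roots that is multiplicative along chains -/
structure IsChar (D : ChevalleyDatum) (χ : ℕ → F) : Prop where
  neg : ∀ r < D.nroots, χ (D.neg r) * χ r = 1
  ch : ∀ r < D.nroots, ∀ s < D.nroots, ∀ q ∈ (D.chainEntry r s).zipIdx, χ q.1.1 = χ r ^ (q.2 + 1) * χ s

theorem IsAdd.isChar {f : ℕ → ℤ} (hf : IsAdd D f) {c : F} (hc : c ≠ 0) : IsChar D fun s => c ^ f s where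
  neg r hr := by rw [hf.neg r hr, ← zpow_add₀ hc, neg_add_cancel, zpow_zero]
  ch r hr s hs q hq := by
    rw [hf.ch r hr s hs q hq, zpow_add₀ hc, mul_comm (((q.2 + 1 : ℕ) : ℤ)), _root_.zpow_mul, zpow_natCast, mul_comm]

theorem IsChar.mul {χ ψ : ℕ → F} (h1 : IsChar D χ) (h2 : IsChar D ψ) : IsChar D fun s => χ s * ψ s where
  neg r hr := by linear_combination (ψ (D.neg r) * ψ r) * h1.neg r hr + h2.neg r hr
  ch r hr s hs q hq := by rw [h1.ch r hr s hs q hq, h2.ch r hr s hs q hq, mul_pow]; ring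

theorem isChar_one : IsChar D fun _ => (1 : F) where
  neg r hr := mul_one _
  ch r hr s hs q hq := by simp

theorem IsChar.ne_zero {χ : ℕ → F} (h : IsChar D χ) {r : ℕ} (hr : r < D.nroots) : χ r ≠ 0 :=
  right_ne_zero_of_mul_eq_one (h.neg r hr)

theorem IsChar.inv {χ : ℕ → F} (h : IsChar D χ) : IsChar D fun s => (χ s)⁻¹ where
  neg r hr := by rw [← mul_inv, h.neg r hr, inv_one]
  ch r hr s hs q hq := by rw [h.ch r hr s hs q hq, mul_inv, inv_pow]

theorem IsAdd.sum {ι : Type*} (S : Finset ι) (c : ι → ℤ) (f : ι → ℕ → ℤ) (hf : ∀ i ∈ S, IsAdd D (f i)) :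
    IsAdd D fun s => ∑ i ∈ S, c i * f i s where
  neg r hr := by
    rw [← Finset.sum_neg_distrib]
    exact Finset.sum_congr rfl fun i hi => by rw [(hf i hi).neg r hr, mul_neg]
  ch r hr s hs q hq := by
    rw [Finset.mul_sum, ← Finset.sum_add_distrib]
    exact Finset.sum_congr rfl fun i hi => by rw [(hf i hi).ch r hr s hs q hq]; ring

variable (D) in
/-- the diagonal matrix `h(χ)`: trivial on the coroots, `χ s` on `e_s` -/
def diagM (χ : ℕ → F) : Matrix D.Idx D.Idx F :=
  Matrix.diagonal (Sum.elim (fun _ => (1 : F)) (fun s : Fin D.nroots => χ s))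

theorem diagM_hv (χ : ℕ → F) (i : ℕ) : diagM D χ *ᵥ hv D F i = hv D F i := by
  funext c; rcases c with j | u <;> simp [diagM, mulVec_diagonal, hv]

theorem diagM_hr (χ : ℕ → F) (r : ℕ) : diagM D χ *ᵥ hr D F r = hr D F r := by
  funext c; rcases c with j | u <;> simp [diagM, mulVec_diagonal, hr]

theorem diagM_er (χ : ℕ → F) (s : ℕ) : diagM D χ *ᵥ er D F s = χ s • er D F s := by
  funext c
  rcases c with j | u
  · simp [diagM, mulVec_diagonal, er]
  · simp only [diagM, mulVec_diagonal, er, Sum.elim_inr, Pi.smul_apply, smul_eq_mul]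
    split_ifs with e
    · rw [e]
    · simp

theorem diagM_mul (χ ψ : ℕ → F) : diagM D χ * diagM D ψ = diagM D fun s => χ s * ψ s := by
  unfold diagM; rw [diagonal_mul_diagonal]; congr 1; funext c; rcases c with j | u <;> simp

theorem diagM_one : diagM D (fun _ => (1 : F)) = 1 := by
  unfold diagM; rw [← diagonal_one]; congr 1; funext c; rcases c with j | u <;> simp

theorem diagM_congr {χ ψ : ℕ → F} (h : ∀ s < D.nroots, χ s = ψ s) : diagM D χ = diagM D ψ := by
  unfold diagM; congr 2; funext s; exact h s s.2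

theorem diagM_inj {χ ψ : ℕ → F} (h : diagM D χ = diagM D ψ) : ∀ s < D.nroots, χ s = ψ s := by
  intro s hs
  have := congrFun (diagonal_injective h) (Sum.inr ⟨s, hs⟩)
  simpa using this

theorem diagM_comm (χ ψ : ℕ → F) : diagM D χ * diagM D ψ = diagM D ψ * diagM D χ := by
  rw [diagM_mul, diagM_mul]; exact diagM_congr fun s _ => mul_comm _ _

theorem mulVec_list_sum {ι : Type*} (M : Matrix D.Idx D.Idx F) (L : List ι) (f : ι → D.Idx → F) :
    M *ᵥ (L.map f).sum = (L.map fun q => M *ᵥ f q).sum := by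
  rw [← mulVecLin_apply, map_list_sum, List.map_map]; rfl

/-- conjugation of a root element by the diagonal matrix of a character -/
theorem diag_x (h : Tab0 D) {χ : ℕ → F} (hχ : IsChar D χ) {r : ℕ} (hr : r < D.nroots) (t : F) :
    diagM D χ * D.x F r t = D.x F r (χ r * t) * diagM D χ := by
  apply mat_ext
  · intro j hj
    rw [← mulVec_mulVec, ← mulVec_mulVec, x_hv hr hj, mulVec_sub, mulVec_smul, diagM_hv, diagM_er, x_hv hr hj]
    module
  · intro u hu
    rw [← mulVec_mulVec, ← mulVec_mulVec, diagM_er, mulVec_smul]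
    by_cases h1 : u = r
    · subst h1; rw [x_er_self hr, x_er_self hr, diagM_er]
    by_cases h2 : u = D.neg r
    · subst h2
      rw [x_er_neg h hr, x_er_neg h hr, mulVec_sub, mulVec_add, mulVec_smul, mulVec_smul, diagM_er, diagM_er,
        diagM_hr, smul_sub, smul_add, smul_smul, smul_smul, smul_smul, ← mul_assoc, hχ.neg r hr, one_mul]
      congr 2
      linear_combination (-χ r * t ^ 2) * hχ.neg r hr
    rw [x_er h hr hu h1 h2, x_er h hr hu h1 h2, mulVec_add, diagM_er, smul_add, mulVec_list_sum, List.smul_sum,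
      List.map_map]
    congr 2
    apply List.map_congr_left
    intro q hq
    simp only [Function.comp_apply]
    rw [mulVec_smul, diagM_er, smul_smul, smul_smul, hχ.ch r hr u hu q hq, mul_pow]
    congr 1; ring

/-- `s'` is the root `s - A_{r,s} r` -/
def IsRefl (D : ChevalleyDatum) (r s s' : ℕ) : Prop :=
  s' < D.nroots ∧ ∀ i < D.rank, D.cartan i s' = D.cartan i s - pair D r s * D.cartan i r

instance instDecIsRefl (D : ChevalleyDatum) (r s s' : ℕ) : Decidable (IsRefl D r s s') := by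
  unfold IsRefl; infer_instance

/-- the reflection `w_r(s) = s - A_{r,s} r` in an arbitrary root -/
def refl (D : ChevalleyDatum) (r s : ℕ) : ℕ :=
  ((List.range D.nroots).find? fun s' => decide (IsRefl D r s s')).getD s

namespace Tab
variable (h : Tab D η)
include h

theorem isAdd_cartan {i : ℕ} (hi : i < D.rank) : IsAdd D (D.cartan i) :=
  ⟨h.car_neg i hi, fun r hr s hs q hq => h.car_ch r hr s hs q hq i hi⟩

theorem isAdd_pair (r : ℕ) : IsAdd D (pair D r) :=
  IsAdd.sum (Finset.range D.rank) (cor D r) D.cartan fun _ hi => h.isAdd_cartan (Finset.mem_range.1 hi)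

theorem pair_simple {i : ℕ} (hi : i < D.rank) (s : ℕ) : pair D (D.simple i) s = D.cartan i s := by
  unfold pair
  rw [Finset.sum_congr rfl fun j hj => by rw [h.cor_sim i hi j (Finset.mem_range.1 hj)]]
  simp [hi]

theorem pair_neg_right (r : ℕ) {s : ℕ} (hs : s < D.nroots) : pair D r (D.neg s) = - pair D r s :=
  (h.isAdd_pair r).neg s hs

theorem pair_neg_left {r : ℕ} (hr : r < D.nroots) (s : ℕ) : pair D (D.neg r) s = - pair D r s := by
  unfold pair
  rw [← Finset.sum_neg_distrib]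
  exact Finset.sum_congr rfl fun i hi => by rw [h.cor_neg i (Finset.mem_range.1 hi) r hr, neg_mul]

theorem pair_w_right {i s : ℕ} (hi : i < D.rank) (r : ℕ) (hs : s < D.nroots) :
    pair D r (D.reflectRoot i s) = pair D r s - D.cartan i s * pair D r (D.simple i) := by
  unfold pair
  rw [Finset.mul_sum, ← Finset.sum_sub_distrib]
  exact Finset.sum_congr rfl fun j hj => by rw [h.car_w i hi s hs j (Finset.mem_range.1 hj)]; ring

theorem pair_w_left {i r : ℕ} (hi : i < D.rank) (hr : r < D.nroots) (s : ℕ) :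
    pair D (D.reflectRoot i r) s = pair D r s - pair D r (D.simple i) * D.cartan i s := by
  have : ∀ j ∈ Finset.range D.rank, cor D (D.reflectRoot i r) j * D.cartan j s =
      cor D r j * D.cartan j s - if j = i then pair D r (D.simple i) * D.cartan i s else 0 := by
    intro j hj
    rw [h.cor_w i hi r hr j (Finset.mem_range.1 hj)]
    split_ifs with e
    · rw [e]; ring
    · ring
  rw [pair, Finset.sum_congr rfl this, Finset.sum_sub_distrib, Finset.sum_ite_eq', if_pos (Finset.mem_range.2 hi)]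
  rfl

theorem pair_w_w {i r s : ℕ} (hi : i < D.rank) (hr : r < D.nroots) (hs : s < D.nroots) :
    pair D (D.reflectRoot i r) (D.reflectRoot i s) = pair D r s := by
  rw [h.pair_w_left hi hr, h.pair_w_right hi r hs, h.car_w_self hi hs]; ring

theorem pair_w_swap {i r s : ℕ} (hi : i < D.rank) (hr : r < D.nroots) (hs : s < D.nroots) :
    pair D (D.reflectRoot i r) s = pair D r (D.reflectRoot i s) := by
  rw [← h.pair_w_w hi hr (h.w_lt i hi s hs), h.w_w i hi s hs]

theorem pair_self {r : ℕ} (hr : r < D.nroots) : pair D r r = 2 := by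
  refine h.induction (P := fun r => pair D r r = 2) ?_ ?_ r hr
  · intro i hi; rw [h.pair_simple hi, h.car_sim i hi]
  · intro i hi s hs ih; rw [h.pair_w_w hi hs hs, ih]

theorem isRefl_unique {r s a b : ℕ} (ha : IsRefl D r s a) (hb : IsRefl D r s b) : a = b :=
  h.wt_inj a ha.1 b hb.1 fun i hi => by rw [ha.2 i hi, hb.2 i hi]

theorem isRefl_simple {i s : ℕ} (hi : i < D.rank) (hs : s < D.nroots) :
    IsRefl D (D.simple i) s (D.reflectRoot i s) :=
  ⟨h.w_lt i hi s hs, fun j hj => by rw [h.car_w i hi s hs j hj, h.pair_simple hi]⟩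

theorem isRefl_w {i r s a : ℕ} (hi : i < D.rank) (hr : r < D.nroots) (hs : s < D.nroots)
    (ha : IsRefl D r (D.reflectRoot i s) a) : IsRefl D (D.reflectRoot i r) s (D.reflectRoot i a) := by
  refine ⟨h.w_lt i hi a ha.1, fun j hj => ?_⟩
  rw [h.car_w i hi a ha.1 j hj, ha.2 j hj, ha.2 i hi, h.car_w i hi s hs j hj, h.car_w_self hi hs,
    h.car_w i hi r hr j hj, h.pair_w_swap hi hr hs]
  ring

theorem exists_isRefl {r : ℕ} (hr : r < D.nroots) : ∀ s < D.nroots, ∃ a, IsRefl D r s a := by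
  refine h.induction (P := fun r => ∀ s < D.nroots, ∃ a, IsRefl D r s a) ?_ ?_ r hr
  · intro i hi s hs; exact ⟨_, h.isRefl_simple hi hs⟩
  · intro i hi r hr ih s hs
    obtain ⟨a, ha⟩ := ih _ (h.w_lt i hi s hs)
    exact ⟨_, h.isRefl_w hi hr hs ha⟩

theorem isRefl_refl {r s : ℕ} (hr : r < D.nroots) (hs : s < D.nroots) : IsRefl D r s (refl D r s) := by
  obtain ⟨a, ha⟩ := h.exists_isRefl hr s hs
  unfold refl
  cases e : (List.range D.nroots).find? fun s' => decide (IsRefl D r s s') with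
  | none =>
    rw [List.find?_eq_none] at e
    exact absurd (decide_eq_true ha) (e a (List.mem_range.2 ha.1))
  | some b => exact of_decide_eq_true (List.find?_some (p := fun s' => decide (IsRefl D r s s')) e)

theorem refl_eq {r s a : ℕ} (hr : r < D.nroots) (hs : s < D.nroots) (ha : IsRefl D r s a) : refl D r s = a :=
  h.isRefl_unique (h.isRefl_refl hr hs) ha

theorem refl_lt {r s : ℕ} (hr : r < D.nroots) (hs : s < D.nroots) : refl D r s < D.nroots :=
  (h.isRefl_refl hr hs).1

theorem refl_simple {i s : ℕ} (hi : i < D.rank) (hs : s < D.nroots) :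
    refl D (D.simple i) s = D.reflectRoot i s :=
  h.refl_eq (h.sim_lt i hi) hs (h.isRefl_simple hi hs)

theorem refl_w {i r s : ℕ} (hi : i < D.rank) (hr : r < D.nroots) (hs : s < D.nroots) :
    refl D (D.reflectRoot i r) s = D.reflectRoot i (refl D r (D.reflectRoot i s)) :=
  h.refl_eq (h.w_lt i hi r hr) hs (h.isRefl_w hi hr hs (h.isRefl_refl hr (h.w_lt i hi s hs)))

theorem pair_refl_right (a : ℕ) {r s : ℕ} (hr : r < D.nroots) (hs : s < D.nroots) :
    pair D a (refl D r s) = pair D a s - pair D r s * pair D a r := by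
  have := (h.isRefl_refl hr hs).2
  generalize pair D r s = k at this ⊢
  unfold pair
  rw [Finset.sum_congr rfl fun j hj => by rw [this j (Finset.mem_range.1 hj)],
    Finset.mul_sum, ← Finset.sum_sub_distrib]
  exact Finset.sum_congr rfl fun j _ => by ring

theorem pair_refl_self {r s : ℕ} (hr : r < D.nroots) (hs : s < D.nroots) :
    pair D r (refl D r s) = - pair D r s := by
  rw [h.pair_refl_right r hr hs, h.pair_self hr]; ring

theorem refl_refl {r s : ℕ} (hr : r < D.nroots) (hs : s < D.nroots) : refl D r (refl D r s) = s := by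
  refine h.refl_eq hr (h.refl_lt hr hs) ⟨hs, fun i hi => ?_⟩
  rw [(h.isRefl_refl hr hs).2 i hi, h.pair_refl_self hr hs]; ring

theorem refl_neg_right {r s : ℕ} (hr : r < D.nroots) (hs : s < D.nroots) :
    refl D r (D.neg s) = D.neg (refl D r s) := by
  refine h.refl_eq hr (h.neg_lt s hs) ⟨h.neg_lt _ (h.refl_lt hr hs), fun i hi => ?_⟩
  rw [h.car_neg i hi _ (h.refl_lt hr hs), (h.isRefl_refl hr hs).2 i hi, h.car_neg i hi s hs,
    h.pair_neg_right r hs]; ring

theorem refl_neg_left {r s : ℕ} (hr : r < D.nroots) (hs : s < D.nroots) :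
    refl D (D.neg r) s = refl D r s := by
  refine h.refl_eq (h.neg_lt r hr) hs ⟨h.refl_lt hr hs, fun i hi => ?_⟩
  rw [(h.isRefl_refl hr hs).2 i hi, h.car_neg i hi r hr, h.pair_neg_left hr]; ring

theorem refl_self {r : ℕ} (hr : r < D.nroots) : refl D r r = D.neg r := by
  refine h.refl_eq hr hr ⟨h.neg_lt r hr, fun i hi => ?_⟩
  rw [h.car_neg i hi r hr, h.pair_self hr]; ring

theorem refl_neg_self {r : ℕ} (hr : r < D.nroots) : refl D r (D.neg r) = r := by
  rw [h.refl_neg_right hr hr, h.refl_self hr, h.neg_neg r hr]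

/-- `h_p(c)` is diagonal for a fundamental root `p` -/
theorem hMat_simple {i : ℕ} (hi : i < D.rank) {c : F} (hc : c ≠ 0) :
    D.hMat F (D.simple i) c = diagM D fun s => c ^ D.cartan i s := by
  rw [hMat_eq]
  have n1 : (-1 : F) ≠ 0 := neg_ne_zero.2 one_ne_zero
  apply mat_ext
  · intro j hj
    rw [← mulVec_mulVec, h.nMat_simple_hv hi hj n1, mulVec_sub, mulVec_smul, h.nMat_simple_hv hi hj hc,
      h.nMat_simple_hv hi hi hc, diagM_hv, h.car_sim i hi]
    push_cast
    module
  · intro s hs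
    rw [← mulVec_mulVec, h.nMat_simple_er hi hs n1, mulVec_smul, h.nMat_simple_er hi (h.w_lt i hi s hs) hc,
      h.w_w i hi s hs, h.car_w_self hi hs, neg_neg, diagM_er, smul_smul]
    congr 1
    have e : ((η i s : ℤ) : F) * (η i (D.reflectRoot i s) : ℤ) = (-1) ^ (D.cartan i s).natAbs := by
      rw [← Int.cast_mul, h.eta_w i hi s hs]; push_cast; rfl
    have e2 : (-1 : F) ^ (D.cartan i s).natAbs * (-1) ^ (-D.cartan i s) = 1 := by
      rw [← zpow_natCast, ← zpow_add₀ n1]
      apply Even.neg_one_zpow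
      rcases Int.natAbs_eq (D.cartan i s) with e | e
      · rw [← e]; simp
      · refine ⟨((D.cartan i s).natAbs : ℤ), ?_⟩; omega
    linear_combination (c ^ D.cartan i s * (-1) ^ (-D.cartan i s)) * e + c ^ D.cartan i s * e2

theorem nMat_mul_neg (r : ℕ) (t : F) : D.nMat F r t * D.nMat F r (-t) = 1 := by
  rw [nMat_eq, nMat_eq]
  simp only [mul_assoc]
  rw [← mul_assoc (D.x F r t) (D.x F r (-t)), h.x_mul_neg, one_mul, ← mul_assoc (D.x F (D.neg r) _), inv_neg,
    h.x_mul_neg, one_mul, h.x_mul_neg]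

theorem nMat_neg_mul (r : ℕ) (t : F) : D.nMat F r (-t) * D.nMat F r t = 1 := by
  have := h.nMat_mul_neg r (-t); rwa [neg_neg] at this

theorem hMat_one (r : ℕ) : D.hMat F r 1 = 1 := by rw [hMat_eq, h.nMat_mul_neg]

theorem nMat_eq_hMat_mul (r : ℕ) (t : F) : D.nMat F r t = D.hMat F r t * D.nMat F r 1 := by
  rw [hMat_eq, mul_assoc, h.nMat_neg_mul, mul_one]

/-- `n_p n_r(t) = n_{w_p r}(η t) n_p` -/
theorem n1_nMat {i r : ℕ} (hi : i < D.rank) (hr : r < D.nroots) (t : F) :
    D.nMat F (D.simple i) 1 * D.nMat F r t =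
      D.nMat F (D.reflectRoot i r) (((η i r : ℤ) : F) * t) * D.nMat F (D.simple i) 1 := by
  have hn := h.neg_lt r hr
  rw [nMat_eq r, nMat_eq (D.reflectRoot i r), ← mul_assoc, ← mul_assoc, h.n1_x hi hr, mul_assoc _ (D.nMat _ _ _),
    h.n1_x hi hn, ← mul_assoc, mul_assoc _ (D.nMat _ _ _), h.n1_x hi hr, h.w_neg i hi r hr, h.eta_neg_eq hi hr,
    ← mul_assoc]
  congr 4
  have e : ((η i r : ℤ) : F)⁻¹ = ((η i r : ℤ) : F) := inv_eq_of_mul_eq_one_right (h.eta_sq' hi hr)
  rw [mul_inv, e, mul_neg]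

end Tab

/-- The action of `n_r(t)` for an arbitrary root `r`, with the sign function `ε` (`= η_{r,·}`). -/
structure NSpec (D : ChevalleyDatum) (F : Type*) [Field F] (r : ℕ) (ε : ℕ → ℤ) : Prop where
  pm : ∀ s < D.nroots, ε s = 1 ∨ ε s = -1
  neg : ∀ s < D.nroots, ε (D.neg s) = ε s
  self : ε r = -1
  mul_refl : ∀ s < D.nroots, ε s * ε (refl D r s) = (-1) ^ (pair D r s).natAbs
  hv : ∀ t : F, t ≠ 0 → ∀ j < D.rank,
    D.nMat F r t *ᵥ hv D F j = hv D F j - ((D.cartan j r : ℤ) : F) • hr D F r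
  er : ∀ t : F, t ≠ 0 → ∀ s < D.nroots,
    D.nMat F r t *ᵥ er D F s = (((ε s : ℤ) : F) * t ^ (-pair D r s)) • er D F (refl D r s)
  x : ∀ t : F, t ≠ 0 → ∀ s < D.nroots, ∀ u : F,
    D.nMat F r t * D.x F s u = D.x F (refl D r s) (((ε s : ℤ) : F) * t ^ (-pair D r s) * u) * D.nMat F r t

/-- the sign table `η_{r,s}` of a fundamental reflection transported along a fundamental reflection -/
def epsStep (D : ChevalleyDatum) (η : ℕ → ℕ → ℤ) (i r : ℕ) (ε : ℕ → ℤ) (s : ℕ) : ℤ :=
  η i (D.reflectRoot i s) * ε (D.reflectRoot i s) * η i r ^ (pair D r (D.reflectRoot i s)).natAbs *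
    η i (refl D r (D.reflectRoot i s))

theorem pm_zpow {a : ℤ} (ha : a = 1 ∨ a = -1) (k : ℤ) : ((a : ℤ) : F) ^ (-k) = ((a ^ k.natAbs : ℤ) : F) := by
  rcases ha with rfl | rfl
  · simp
  · push_cast
    rcases Int.natAbs_eq k with e | e
    · rw [e, _root_.zpow_neg, zpow_natCast, Int.natAbs_natCast, ← inv_pow, inv_neg, inv_one]
    · rw [e, neg_neg, zpow_natCast, Int.natAbs_neg, Int.natAbs_natCast]

namespace Tab
variable (h : Tab D η)
include h

theorem hr_simple {i : ℕ} (hi : i < D.rank) : hr D F (D.simple i) = hv D F i := by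
  funext c
  rcases c with j | u
  · simp [hr, hv, h.cor_sim i hi j j.2]
  · simp [hr, hv]

theorem nSpec_simple {i : ℕ} (hi : i < D.rank) : NSpec D F (D.simple i) (η i) where
  pm := h.eta_pm i hi
  neg s hs := h.eta_neg_eq hi hs
  self := h.eta_sim i hi
  mul_refl s hs := by rw [h.refl_simple hi hs, h.pair_simple hi, h.eta_w i hi s hs]
  hv t ht j hj := by rw [h.nMat_simple_hv hi hj ht, h.hr_simple hi]
  er t ht s hs := by rw [h.nMat_simple_er hi hs ht, h.refl_simple hi hs, h.pair_simple hi]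
  x t ht s hs u := by
    rw [h.nMat_eq_hMat_mul, mul_assoc, h.n1_x hi hs, ← mul_assoc, h.hMat_simple hi ht,
      diag_x h.toTab0 ((h.isAdd_cartan hi).isChar ht) (h.w_lt i hi s hs), h.refl_simple hi hs, h.pair_simple hi,
      h.car_w_self hi hs, mul_assoc]
    congr 2; ring

theorem nSpec_step {i r : ℕ} {ε : ℕ → ℤ} (hi : i < D.rank) (hr : r < D.nroots) (hε : NSpec D F r ε) :
    NSpec D F (D.reflectRoot i r) (epsStep D η i r ε) := by
  have N := fun t : F => h.n1_nMat hi hr t
  have key : ∀ t : F, D.nMat F (D.reflectRoot i r) t * D.nMat F (D.simple i) 1 =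
      D.nMat F (D.simple i) 1 * D.nMat F r (((η i r : ℤ) : F) * t) := by
    intro t; rw [N, ← mul_assoc, h.eta_sq' hi hr, one_mul]
  have hne : ∀ t : F, t ≠ 0 → ((η i r : ℤ) : F) * t ≠ 0 := fun t ht => mul_ne_zero (h.eta_ne hi hr) ht
  have coef : ∀ t : F, ∀ s < D.nroots, ((epsStep D η i r ε s : ℤ) : F) * t ^ (-pair D (D.reflectRoot i r) s) =
      ((η i (D.reflectRoot i s) : ℤ) : F) * (((ε (D.reflectRoot i s) : ℤ) : F) *
        (((η i r : ℤ) : F) * t) ^ (-pair D r (D.reflectRoot i s))) *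
        ((η i (refl D r (D.reflectRoot i s)) : ℤ) : F) := by
    intro t s hs
    rw [h.pair_w_swap hi hr hs, mul_zpow, pm_zpow (h.eta_pm i hi r hr), epsStep]
    push_cast; ring
  refine ⟨?_, ?_, ?_, ?_, ?_, ?_, ?_⟩
  · intro s hs
    have hw := h.w_lt i hi s hs
    unfold epsStep
    rcases h.eta_pm i hi _ hw with e1 | e1 <;> rcases hε.pm _ hw with e2 | e2 <;>
      rcases h.eta_pm i hi _ (h.refl_lt hr hw) with e3 | e3 <;> rcases h.eta_pm i hi _ hr with e4 | e4 <;>
      rw [e1, e2, e3, e4] <;> simp [neg_one_pow_eq_or]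
    all_goals
      rcases neg_one_pow_eq_or ℤ (pair D r (D.reflectRoot i s)).natAbs with e | e <;> rw [e] <;> simp
  · intro s hs
    have hw := h.w_lt i hi s hs
    unfold epsStep
    rw [h.w_neg i hi s hs, h.eta_neg_eq hi hw, hε.neg _ hw, h.pair_neg_right r hw, Int.natAbs_neg,
      h.refl_neg_right hr hw, h.eta_neg_eq hi (h.refl_lt hr hw)]
  · unfold epsStep
    rw [h.w_w i hi r hr, hε.self, h.pair_self hr, h.refl_self hr, h.eta_neg_eq hi hr]
    rcases h.eta_pm i hi r hr with e | e <;> rw [e] <;> norm_num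
  · intro s hs
    have hw := h.w_lt i hi s hs
    have hw2 := h.refl_lt hr hw
    unfold epsStep
    rw [h.refl_w hi hr hs, h.w_w i hi _ hw2, h.refl_refl hr hw, h.pair_refl_self hr hw, Int.natAbs_neg,
      h.pair_w_swap hi hr hs, ← hε.mul_refl _ hw]
    have e1 := h.eta_sq hi hw
    have e2 := h.eta_sq hi hw2
    have e3 : η i r ^ (pair D r (D.reflectRoot i s)).natAbs * η i r ^ (pair D r (D.reflectRoot i s)).natAbs = 1 := by
      rw [← mul_pow, h.eta_sq hi hr, one_pow]
    generalize η i r ^ (pair D r (D.reflectRoot i s)).natAbs = a at e3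
    generalize η i (D.reflectRoot i s) = b at e1
    generalize η i (refl D r (D.reflectRoot i s)) = c at e2
    generalize ε (D.reflectRoot i s) = d
    generalize ε (refl D r (D.reflectRoot i s)) = e
    linear_combination (d * e * a * a * c * c) * e1 + (d * e * a * a) * e2 + (d * e) * e3
  · intro t ht j hj
    have v : hv D F j = D.nMat F (D.simple i) 1 *ᵥ
        (hv D F j - ((D.cartan j (D.simple i) : ℤ) : F) • hv D F i) := by
      rw [mulVec_sub, mulVec_smul, h.nMat_simple_hv hi hj one_ne_zero, h.nMat_simple_hv hi hi one_ne_zero,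
        h.car_sim i hi]
      push_cast; module
    conv_lhs => rw [v, mulVec_mulVec, key, ← mulVec_mulVec, mulVec_sub, mulVec_smul, hε.hv _ (hne t ht) j hj,
      hε.hv _ (hne t ht) i hi]
    rw [h.car_w i hi r hr j hj, ← h.nMat_simple_hr hi hr one_ne_zero]
    conv_rhs => rw [v, ← mulVec_smul, ← mulVec_sub]
    congr 1
    push_cast; module
  · intro t ht s hs
    have hw := h.w_lt i hi s hs
    have v : er D F s = D.nMat F (D.simple i) 1 *ᵥ
        (((η i (D.reflectRoot i s) : ℤ) : F) • er D F (D.reflectRoot i s)) := by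
      rw [mulVec_smul, h.n1_er hi hw, smul_smul, h.eta_sq' hi hw, one_smul, h.w_w i hi s hs]
    rw [v, mulVec_mulVec, key, ← mulVec_mulVec, mulVec_smul, hε.er _ (hne t ht) _ hw, mulVec_smul, mulVec_smul,
      h.n1_er hi (h.refl_lt hr hw), smul_smul, smul_smul, coef t s hs, h.refl_w hi hr hs]
  · intro t ht s hs u
    have hw := h.w_lt i hi s hs
    apply h.n1_cancel hi
    have k : D.x F s u * D.nMat F (D.simple i) 1 =
        D.nMat F (D.simple i) 1 * D.x F (D.reflectRoot i s) (((η i (D.reflectRoot i s) : ℤ) : F) * u) := by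
      rw [h.n1_x hi hw, ← mul_assoc, h.eta_sq' hi hw, one_mul, h.w_w i hi s hs]
    rw [mul_assoc, k, ← mul_assoc, key, mul_assoc, hε.x _ (hne t ht) _ hw, ← mul_assoc,
      h.n1_x hi (h.refl_lt hr hw), mul_assoc, mul_assoc _ (D.nMat F (D.reflectRoot i r) t), key, coef t s hs,
      h.refl_w hi hr hs]
    congr 2; ring

/-- a field-independent sign table for all roots -/
theorem exists_eps : ∃ ε : ℕ → ℕ → ℤ, ∀ r < D.nroots, ∀ (K : Type*) [Field K], NSpec D K r (ε r) := by
  have : ∀ r < D.nroots, ∃ ε : ℕ → ℤ, ∀ (K : Type _) [Field K], NSpec D K r ε := by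
    refine h.induction ?_ ?_
    · intro i hi; exact ⟨η i, fun K _ => h.nSpec_simple hi⟩
    · rintro i hi r hr ⟨ε, hε⟩; exact ⟨_, fun K _ => h.nSpec_step hi hr (hε K)⟩
  choose! ε hε using this
  exact ⟨ε, hε⟩

theorem exists_nSpec {r : ℕ} (hr : r < D.nroots) : ∃ ε, NSpec D F r ε := by
  obtain ⟨ε, hε⟩ := h.exists_eps
  exact ⟨ε r, hε r hr F⟩

/-- `h_r(c)` is the diagonal matrix of the character `s ↦ c ^ A_{r,s}` -/
theorem hMat_diag {r : ℕ} (hr : r < D.nroots) {c : F} (hc : c ≠ 0) :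
    D.hMat F r c = diagM D fun s => c ^ pair D r s := by
  obtain ⟨ε, hε⟩ := h.exists_nSpec (F := F) hr
  rw [hMat_eq]
  have n1 : (-1 : F) ≠ 0 := neg_ne_zero.2 one_ne_zero
  apply mat_ext
  · intro j hj
    have e1 : D.nMat F r c *ᵥ hv D F j = D.nMat F r 1 *ᵥ hv D F j := by
      rw [hε.hv c hc j hj, hε.hv 1 one_ne_zero j hj]
    have e2 : D.nMat F r c *ᵥ H19.hr D F r = D.nMat F r 1 *ᵥ H19.hr D F r := by
      rw [hr_eq_sum, mulVec_sum, mulVec_sum]
      refine Finset.sum_congr rfl fun k hk => ?_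
      rw [mulVec_smul, mulVec_smul, hε.hv c hc k (Finset.mem_range.1 hk),
        hε.hv 1 one_ne_zero k (Finset.mem_range.1 hk)]
    rw [← mulVec_mulVec, hε.hv _ n1 j hj, mulVec_sub, mulVec_smul, e1, e2, ← mulVec_smul, ← mulVec_sub,
      ← hε.hv _ n1 j hj, mulVec_mulVec, h.nMat_mul_neg, one_mulVec, diagM_hv]
  · intro s hs
    rw [← mulVec_mulVec, hε.er _ n1 s hs, mulVec_smul, hε.er c hc _ (h.refl_lt hr hs), h.refl_refl hr hs,
      h.pair_refl_self hr hs, neg_neg, diagM_er, smul_smul]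
    congr 1
    have e : ((ε s : ℤ) : F) * (ε (refl D r s) : ℤ) = (-1) ^ (pair D r s).natAbs := by
      rw [← Int.cast_mul, hε.mul_refl s hs]; push_cast; rfl
    have e2 : (-1 : F) ^ (pair D r s).natAbs * (-1) ^ (-pair D r s) = 1 := by
      have := pm_zpow (F := F) (a := -1) (Or.inr rfl) (pair D r s)
      push_cast at this
      rw [this, ← mul_pow]; simp
    linear_combination (c ^ pair D r s * (-1) ^ (-pair D r s)) * e + c ^ pair D r s * e2

/-- (R3) -/
theorem hMat_mul {r : ℕ} (hr : r < D.nroots) {a b : F} (ha : a ≠ 0) (hb : b ≠ 0) :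
    D.hMat F r a * D.hMat F r b = D.hMat F r (a * b) := by
  rw [h.hMat_diag hr ha, h.hMat_diag hr hb, h.hMat_diag hr (mul_ne_zero ha hb), diagM_mul]
  exact diagM_congr fun s _ => (mul_zpow _ _ _).symm

theorem hMat_x {r s : ℕ} (hr : r < D.nroots) (hs : s < D.nroots) {c : F} (hc : c ≠ 0) (t : F) :
    D.hMat F r c * D.x F s t = D.x F s (c ^ pair D r s * t) * D.hMat F r c := by
  rw [h.hMat_diag hr hc, diag_x h.toTab0 ((h.isAdd_pair r).isChar hc) hs]

end Tab

end H19
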