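import Mathlib
import Cfsg.Prelude.Def_ChevStructure
import Cfsg.Agent.H19.Gen

/-! Gradings of the adjoint module by additive functions on the roots, and (uni)triangularity. -/

set_option autoImplicit false

namespace H19
open Cfsg Cfsg.Lie Matrix

variable {D : ChevalleyDatum} {η : ℕ → ℕ → ℤ} {F : Type*} [Field F]

variable (D) in
/-- the degree of a basis vector for the grading by `f` -/
def deg (f : ℕ → ℤ) : D.Idx → ℤ := Sum.elim (fun _ => 0) (fun s => f s)

/-- the matrix `A` raises the degree by at least `k` -/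
def Gr (f : ℕ → ℤ) (k : ℤ) (A : Matrix D.Idx D.Idx F) : Prop :=
  ∀ row col, A row col ≠ 0 → deg D f col + k ≤ deg D f row

namespace Gr
variable {f : ℕ → ℤ} {k a b : ℤ} {A B : Matrix D.Idx D.Idx F}

theorem zero : Gr f k (0 : Matrix D.Idx D.Idx F) := fun _ _ h => absurd rfl h

theorem mono (h : Gr f a A) (hab : b ≤ a) : Gr f b A := fun r c e => by have := h r c e; omega

theorem add (hA : Gr f k A) (hB : Gr f k B) : Gr f k (A + B) := by
  intro r c e
  by_cases h : A r c = 0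
  · exact hB r c (by simpa [h] using e)
  · exact hA r c h

theorem neg (hA : Gr f k A) : Gr f k (-A) := fun r c e => hA r c (by simpa using e)

theorem sub (hA : Gr f k A) (hB : Gr f k B) : Gr f k (A - B) := by
  rw [sub_eq_add_neg]; exact hA.add hB.neg

theorem mul (hA : Gr f a A) (hB : Gr f b B) : Gr f (a + b) (A * B) := by
  intro r c e
  rw [Matrix.mul_apply] at e
  obtain ⟨m, -, hm⟩ := Finset.exists_ne_zero_of_sum_ne_zero e
  have h1 := hA r m (left_ne_zero_of_mul hm)
  have h2 := hB m c (right_ne_zero_of_mul hm)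
  omega

theorem diagonal (d : D.Idx → F) : Gr f 0 (Matrix.diagonal d) := by
  intro r c e
  by_cases h : r = c
  · rw [h]; omega
  · exact absurd (Matrix.diagonal_apply_ne d h) e

theorem one : Gr f 0 (1 : Matrix D.Idx D.Idx F) := diagonal _

theorem pow (hA : Gr f a A) (n : ℕ) : Gr f (n * a) (A ^ n) := by
  induction n with
  | zero => simpa using one
  | succ n ih => rw [pow_succ]; exact (ih.mul hA).mono (by push_cast; ring_nf; rfl)

theorem eq_zero_of_opp (h1 : Gr f a A) (h2 : Gr (fun s => -f s) b A) (hab : 0 < a + b) : A = 0 := by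
  ext r c
  by_contra e
  have e1 := h1 r c e
  have e2 := h2 r c e
  have : ∀ x : D.Idx, deg D (fun s => -f s) x = - deg D f x := by
    intro x; rcases x with j | u <;> simp [deg]
  rw [this, this] at e2
  omega

theorem exists_bound (f : ℕ → ℤ) :
    ∃ K : ℕ, ∀ (A : Matrix D.Idx D.Idx F), Gr f K A → A = 0 := by
  obtain ⟨M, hM⟩ := (Set.toFinite (Set.range fun p : D.Idx × D.Idx => deg D f p.1 - deg D f p.2)).bddAbove
  refine ⟨M.toNat + 1, fun A hA => ?_⟩
  ext r c
  by_contra e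
  have h1 := hA r c e
  have h2 : deg D f r - deg D f c ≤ M := hM ⟨(r, c), rfl⟩
  push_cast at h1
  omega

theorem isNilpotent (hA : Gr f 1 A) : IsNilpotent A := by
  obtain ⟨K, hK⟩ := exists_bound (D := D) (F := F) f
  exact ⟨K, hK _ (by simpa using hA.pow K)⟩

end Gr

/-- `M - 1` raises the degree by at least `k` -/
def Up (f : ℕ → ℤ) (k : ℤ) (M : Matrix D.Idx D.Idx F) : Prop := Gr f k (M - 1)

namespace Up
variable {f : ℕ → ℤ} {k a b : ℤ} {M N : Matrix D.Idx D.Idx F}

theorem one : Up f k (1 : Matrix D.Idx D.Idx F) := by unfold Up; rw [sub_self]; exact Gr.zero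

theorem mono (h : Up f a M) (hab : b ≤ a) : Up f b M := Gr.mono h hab

theorem gr (h : Up f k M) (hk : 0 ≤ k) : Gr f 0 M := by
  have := (Gr.mono h hk).add Gr.one
  rwa [sub_add_cancel] at this

theorem of_gr (h : Gr f 0 M) : Up f 0 M := h.sub Gr.one

theorem mul (hk : 0 ≤ k) (hM : Up f k M) (hN : Up f k N) : Up f k (M * N) := by
  have e : M * N - 1 = (M - 1) * (N - 1) + (M - 1) + (N - 1) := by noncomm_ring
  unfold Up
  rw [e]
  exact (((Gr.mul hM hN).mono (by omega)).add hM).add hN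

theorem diagM (χ : ℕ → F) : Up f 0 (diagM D χ) := of_gr (Gr.diagonal _)

theorem eq_one_of_opp (h1 : Up f a M) (h2 : Up (fun s => -f s) b M) (hab : 0 < a + b) : M = 1 :=
  sub_eq_zero.1 (Gr.eq_zero_of_opp h1 h2 hab)

/-- commutators raise the degree further -/
theorem comm {M' N' : Matrix D.Idx D.Idx F} (ha : 0 ≤ a) (hb : 0 ≤ b) (hM : Up f a M) (hN : Up f b N)
    (hM' : Up f a M') (hN' : Up f b N') (e1 : M * M' = 1) (e2 : N * N' = 1) :
    Up f (a + b) (M * N * M' * N') := by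
  have e : M * N * M' * N' - 1 = ((M - 1) * (N - 1) - (N - 1) * (M - 1)) * M' * N' := by
    have : ((M - 1) * (N - 1) - (N - 1) * (M - 1)) = M * N - N * M := by noncomm_ring
    rw [this, sub_mul, sub_mul, mul_assoc N M M', e1, mul_one, e2]
  unfold Up
  rw [e]
  have h1 : Gr f (a + b) ((M - 1) * (N - 1) - (N - 1) * (M - 1)) :=
    (Gr.mul hM hN).sub ((Gr.mul hN hM).mono (by omega))
  simpa using (h1.mul (hM'.gr ha)).mul (hN'.gr hb)

end Up

theorem IsAdd.neg' {f : ℕ → ℤ} (hf : IsAdd D f) : IsAdd D fun s => -f s where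
  neg r hr := by rw [hf.neg r hr]
  ch r hr s hs q hq := by rw [hf.ch r hr s hs q hq]; ring

theorem er_ne_zero {s : ℕ} {c : D.Idx} (h : er D F s c ≠ 0) (f : ℕ → ℤ) : deg D f c = f s := by
  rcases c with j | u
  · simp [er] at h
  · simp only [er, Sum.elim_inr, ne_eq, ite_eq_right_iff, one_ne_zero, imp_false, not_not] at h
    simp [deg, h]

theorem hr_ne_zero_deg {s : ℕ} {c : D.Idx} (h : hr D F s c ≠ 0) (f : ℕ → ℤ) : deg D f c = 0 := by
  rcases c with j | u
  · simp [deg]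
  · simp [hr] at h

theorem list_sum_apply_ne_zero {ι : Type*} {L : List ι} {g : ι → D.Idx → F} {c : D.Idx}
    (h : (L.map g).sum c ≠ 0) : ∃ q ∈ L, g q c ≠ 0 := by
  induction L with
  | nil => simp at h
  | cons a L ih =>
    rw [List.map_cons, List.sum_cons, Pi.add_apply] at h
    by_cases e : g a c = 0
    · obtain ⟨q, hq, e'⟩ := ih (by simpa [e] using h)
      exact ⟨q, List.mem_cons_of_mem _ hq, e'⟩
    · exact ⟨a, List.mem_cons_self, e⟩

/-- the entries of `x_r(t) - 1` raise the degree by a positive multiple of `f r` -/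
theorem x_sub_one_deg (h : Tab0 D) {f : ℕ → ℤ} (hf : IsAdd D f) {r : ℕ} (hr' : r < D.nroots) (t : F)
    {row col : D.Idx} (e : (D.x F r t - 1) row col ≠ 0) :
    ∃ k : ℕ, 1 ≤ k ∧ deg D f row = deg D f col + k * f r := by
  rcases col with i | s
  · have e1 : ((D.x F r t - 1) *ᵥ hv D F i) row ≠ 0 := by rwa [mulVec_hv]
    rw [sub_mulVec, one_mulVec, x_hv hr' i.2, sub_sub_cancel_left, Pi.neg_apply, Pi.smul_apply, neg_ne_zero,
      smul_eq_mul] at e1
    exact ⟨1, le_rfl, by rw [er_ne_zero (right_ne_zero_of_mul e1)]; simp [deg]⟩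
  · have e1 : ((D.x F r t - 1) *ᵥ er D F s) row ≠ 0 := by rwa [mulVec_er]
    rw [sub_mulVec, one_mulVec] at e1
    have ds : deg D f (Sum.inr s) = f s := rfl
    by_cases h1 : (s : ℕ) = r
    · rw [h1, x_er_self hr'] at e1; simp at e1
    by_cases h2 : (s : ℕ) = D.neg r
    · rw [h2, x_er_neg h hr'] at e1
      have e2 : (t • hr D F r - t ^ 2 • er D F r) row ≠ 0 := by
        have : er D F (D.neg r) + t • hr D F r - t ^ 2 • er D F r - er D F (D.neg r) =
          t • hr D F r - t ^ 2 • er D F r := by abel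
        rwa [this] at e1
      rw [ds, h2, hf.neg r hr']
      by_cases e3 : hr D F r row = 0
      · have : er D F r row ≠ 0 := by
          intro e4; apply e2; simp [e3, e4]
        exact ⟨2, by norm_num, by rw [er_ne_zero this]; push_cast; ring⟩
      · exact ⟨1, le_rfl, by rw [hr_ne_zero_deg e3]; simp⟩
    rw [x_er h hr' s.2 h1 h2, add_sub_cancel_left] at e1
    obtain ⟨q, hq, e2⟩ := list_sum_apply_ne_zero e1
    rw [Pi.smul_apply, smul_eq_mul] at e2
    exact ⟨q.2 + 1, by omega, by rw [er_ne_zero (right_ne_zero_of_mul e2), ds, hf.ch r hr' s s.2 q hq]⟩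

theorem x_up (h : Tab0 D) {f : ℕ → ℤ} (hf : IsAdd D f) {r : ℕ} (hr : r < D.nroots) (h0 : 0 ≤ f r) (t : F) :
    Up f (f r) (D.x F r t) := by
  intro row col e
  obtain ⟨k, hk, e'⟩ := x_sub_one_deg h hf hr t e
  have : (1 : ℤ) ≤ k := by exact_mod_cast hk
  rw [e']; nlinarith

/-- the subgroup of invertible matrices that, with their inverses, raise the degree by `k ≥ 0` modulo `1` -/
def upGrp (D : ChevalleyDatum) (F : Type*) [Field F] (f : ℕ → ℤ) (k : ℕ) : Subgroup (GL D.Idx F) where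
  carrier := {g | Up f k (g : Matrix D.Idx D.Idx F) ∧ Up f k ((g⁻¹ : GL D.Idx F) : Matrix D.Idx D.Idx F)}
  one_mem' := ⟨by simpa using Up.one, by simpa using Up.one⟩
  mul_mem' := by
    rintro a b ⟨h1, h2⟩ ⟨h3, h4⟩
    exact ⟨by rw [Units.val_mul]; exact Up.mul (by positivity) h1 h3,
      by rw [_root_.mul_inv_rev, Units.val_mul]; exact Up.mul (by positivity) h4 h2⟩
  inv_mem' := by rintro a ⟨h1, h2⟩; exact ⟨h2, by rwa [inv_inv]⟩

theorem upGrp_mono {f : ℕ → ℤ} {a b : ℕ} (h : a ≤ b) : upGrp D F f b ≤ upGrp D F f a :=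
  fun _ hg => ⟨hg.1.mono (by exact_mod_cast h), hg.2.mono (by exact_mod_cast h)⟩

theorem upGrp_comm {f : ℕ → ℤ} {a b : ℕ} {g k : GL D.Idx F} (hg : g ∈ upGrp D F f a) (hk : k ∈ upGrp D F f b) :
    g * k * g⁻¹ * k⁻¹ ∈ upGrp D F f (a + b) := by
  constructor
  · simp only [Units.val_mul]
    rw [Nat.cast_add]
    exact Up.comm (by positivity) (by positivity) hg.1 hk.1 hg.2 hk.2 (by simp) (by simp)
  · have : (g * k * g⁻¹ * k⁻¹)⁻¹ = k * g * k⁻¹ * g⁻¹ := by group
    rw [this]
    simp only [Units.val_mul]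
    rw [Nat.cast_add, add_comm]
    exact Up.comm (by positivity) (by positivity) hk.1 hg.1 hk.2 hg.2 (by simp) (by simp)

theorem upGrp_inf_opp {f : ℕ → ℤ} {a b : ℕ} (hab : 0 < a + b) {g : GL D.Idx F} (h1 : g ∈ upGrp D F f a)
    (h2 : g ∈ upGrp D F (fun s => -f s) b) : g = 1 :=
  Units.ext (Up.eq_one_of_opp h1.1 h2.1 (by exact_mod_cast hab))

theorem isNilpotent_of_le_upGrp {f : ℕ → ℤ} {U : Subgroup (GL D.Idx F)} (hU : U ≤ upGrp D F f 1) :
    Group.IsNilpotent U := by
  rw [Subgroup.nilpotent_iff_finite_descending_central_series]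
  obtain ⟨K, hK⟩ := Gr.exists_bound (D := D) (F := F) f
  refine ⟨K, fun n => (upGrp D F f (n + 1)).subgroupOf U, ⟨?_, ?_⟩, ?_⟩
  · rw [eq_top_iff]; intro g _; exact hU g.2
  · intro g n hg k
    exact upGrp_comm (a := n + 1) (b := 1) hg (hU k.2)
  · rw [eq_bot_iff]
    intro g hg
    have := hK _ ((upGrp_mono (Nat.le_succ K) hg).1)
    exact Subtype.ext (Units.ext (sub_eq_zero.1 this))

namespace Tab
variable (h : Tab D η)
include h

theorem mem_upGrp {f : ℕ → ℤ} (hf : IsAdd D f) {r : ℕ} (hr : r < D.nroots) {k : ℕ} (hk : (k : ℤ) ≤ f r) {t : F}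
    {g : GL D.Idx F} (hg : (g : Matrix D.Idx D.Idx F) = D.x F r t) : g ∈ upGrp D F f k := by
  have h0 : 0 ≤ f r := le_trans (by positivity) hk
  refine ⟨hg ▸ (x_up h.toTab0 hf hr h0 t).mono hk, ?_⟩
  have : ((g⁻¹ : GL D.Idx F) : Matrix D.Idx D.Idx F) = D.x F r (-t) := by
    apply Units.inv_eq_of_mul_eq_one_right
    rw [hg, h.x_mul_neg]
  rw [this]
  exact (x_up h.toTab0 hf hr h0 (-t)).mono hk

theorem hMat_mem_upGrp (f : ℕ → ℤ) {r : ℕ} (hr : r < D.nroots) {t : F} (ht : t ≠ 0)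
    {g : GL D.Idx F} (hg : (g : Matrix D.Idx D.Idx F) = D.hMat F r t) : g ∈ upGrp D F f 0 := by
  refine ⟨by rw [hg, h.hMat_diag hr ht]; exact Up.diagM _, ?_⟩
  have : ((g⁻¹ : GL D.Idx F) : Matrix D.Idx D.Idx F) = D.hMat F r t⁻¹ := by
    apply Units.inv_eq_of_mul_eq_one_right
    rw [hg, h.hMat_mul hr ht (inv_ne_zero ht), mul_inv_cancel₀ ht, h.hMat_one]
  rw [this, h.hMat_diag hr (inv_ne_zero ht)]
  exact Up.diagM _

theorem hr_ne_zero {r : ℕ} (hr' : r < D.nroots) : hr D F r ≠ 0 := by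
  refine h.induction (P := fun r => hr D F r ≠ 0) ?_ ?_ r hr'
  · intro i hi e
    rw [h.hr_simple hi] at e
    simpa [hv] using congrFun e (Sum.inl ⟨i, hi⟩)
  · intro i hi s hs ih e
    apply ih
    rw [← h.nMat_simple_hr hi hs one_ne_zero] at e
    have := congrArg (D.nMat F (D.simple i) (-1) *ᵥ ·) e
    simpa only [mulVec_mulVec, h.nMat_neg_mul, one_mulVec, mulVec_zero] using this

/-- a root element that raises the degree by more than `f r` is trivial -/
theorem eq_zero_of_up {f : ℕ → ℤ} (hf : IsAdd D f) {r : ℕ} (hr' : r < D.nroots) {t : F}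
    (e : Up f (f r + 1) (D.x F r t)) : t = 0 := by
  by_contra ht
  apply h.hr_ne_zero (F := F) hr'
  funext c
  rcases c with j | u
  swap
  · rfl
  by_contra e1
  have hn := h.neg_lt r hr'
  have e2 : (D.x F r t - 1) (Sum.inl j) (Sum.inr ⟨D.neg r, hn⟩) ≠ 0 := by
    have := congrFun (mulVec_er (D.x F r t - 1) ⟨D.neg r, hn⟩) (Sum.inl j)
    rw [← this, sub_mulVec, one_mulVec, x_er_neg h.toTab0 hr']
    simpa [er, ht] using e1
  have := e _ _ e2
  simp only [deg, Sum.elim_inr, Sum.elim_inl, hf.neg r hr'] at this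
  omega

end Tab

end H19
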