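import Mathlib
import Cfsg.Agent.H19.Tri
import Cfsg.Agent.H20.DRG

/-! The matrix Chevalley group as an abstract root group (`H20.MatRG`). -/

set_option autoImplicit false

namespace H19
open Cfsg Cfsg.Lie Matrix

variable {D : ChevalleyDatum} {η : ℕ → ℕ → ℤ} {F : Type*} [Field F]

/-- an additive functional on the root lattice, as a function of the root index -/
def linF (g : H20.Good D) (φ : (Fin D.rank → ℤ) →+ ℤ) (s : ℕ) : ℤ :=
  if hs : s < D.nroots then φ (g.rs.rt ⟨s, hs⟩) else 0

theorem linF_val (g : H20.Good D) (φ : (Fin D.rank → ℤ) →+ ℤ) (s : Fin D.nroots) :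
    linF g φ s = φ (g.rs.rt s) := by
  unfold linF; rw [dif_pos s.2]

theorem isAdd_linF (g : H20.Good D) (φ : (Fin D.rank → ℤ) →+ ℤ) : IsAdd D (linF g φ) where
  neg r hr := by
    have e1 := linF_val g φ (g.rs.neg ⟨r, hr⟩)
    have e2 := linF_val g φ ⟨r, hr⟩
    rw [g.rs.rt_neg, map_neg] at e1
    exact e1.trans (by rw [← e2])
  ch r hr s hs q hq := by
    have e : D.chainRoot (⟨r, hr⟩ : Fin D.nroots) (⟨s, hs⟩ : Fin D.nroots) (q.2 + 1) = some q.1.1 := by
      unfold ChevalleyDatum.chainRoot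
      rw [Nat.add_sub_cancel, List.mem_zipIdx_iff_getElem?.1 hq]; rfl
    obtain ⟨hu, h⟩ := g.chainRoot_sound (by omega) e
    have e1 := linF_val g φ ⟨q.1.1, hu⟩
    have e2 := linF_val g φ ⟨r, hr⟩
    have e3 := linF_val g φ ⟨s, hs⟩
    rw [h, map_add, map_zsmul, ← e2, ← e3, smul_eq_mul] at e1
    exact e1.trans (add_comm _ _)

/-- the order functional -/
def keyHom (g : H20.Good D) : (Fin D.rank → ℤ) →+ ℤ := AddMonoidHom.mk' g.rs.keyv g.rs.keyv_add

/-- the order functional on root indices -/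
def keyF (g : H20.Good D) : ℕ → ℤ := linF g (keyHom g)

theorem keyF_val (g : H20.Good D) (s : Fin D.nroots) : keyF g s = g.rs.keyv (g.rs.rt s) := linF_val g _ s

theorem isAdd_keyF (g : H20.Good D) : IsAdd D (keyF g) := isAdd_linF g _

namespace Tab
variable (h : Tab D η)

/-- the root element as an invertible matrix -/
def xg (F : Type*) [Field F] (r : ℕ) (t : F) : GL D.Idx F :=
  ⟨D.x F r t, D.x F r (-t), h.x_mul_neg r t, h.x_neg_mul r t⟩

@[simp] theorem coe_xg (r : ℕ) (t : F) : (h.xg F r t : Matrix D.Idx D.Idx F) = D.x F r t := rfl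

theorem coe_prod_xg (w : List (ℕ × F)) :
    (((w.map fun p => h.xg F p.1 p.2).prod : GL D.Idx F) : Matrix D.Idx D.Idx F) = D.wordMat F w := by
  induction w with
  | nil => rfl
  | cons a w ih => rw [List.map_cons, List.prod_cons, Units.val_mul, ih, wordMat_cons]; rfl

/-- the relations (R1), (R2) in the matrix group -/
def rel (F : Type*) [Field F] : H20.Rel D F (GL D.Idx F) where
  x := h.xg F
  x_add r _ t u := Units.ext (h.x_add r t u).symm
  comm r s hr hs h1 h2 t u := Units.ext (by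
    simp only [Units.val_mul, coe_xg, coe_prod_xg]; exact h.x_comm hr hs h1 h2 t u)

theorem isMat_rel (g : H20.Good D) : H20.IsMat ((h.rel F).toWRG g) := fun _ _ => rfl

omit h in
theorem rs_A_eq (g : H20.Good D) (r s : Fin D.nroots) : g.rs.A r s = pair D r s := g.rs_A r s

include h in
theorem rf_val (g : H20.Good D) (r s : Fin D.nroots) : (g.rs.rf r s : ℕ) = refl D r s :=
  (h.refl_eq r.2 s.2 ⟨(g.rs.rf r s).2, fun i hi => by
    have := g.rs.ca_rf ⟨i, hi⟩ r s
    rw [rs_A_eq] at this
    exact this⟩).symm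

include h in
theorem XS_le_upGrp {g : H20.Good D} {X : H20.WRG g.rs F (GL D.Idx F)} (hX : H20.IsMat X) {f : ℕ → ℤ}
    (hf : IsAdd D f) {S : Set (Fin D.nroots)} {k : ℕ} (hk : ∀ r ∈ S, (k : ℤ) ≤ f r) :
    X.XS S ≤ upGrp D F f k :=
  X.XS_le_iff.2 fun r hr t => h.mem_upGrp hf r.2 (hk r hr) (hX r t)

include h in
theorem H_le_upGrp {g : H20.Good D} {X : H20.WRG g.rs F (GL D.Idx F)} (hX : H20.IsMat X) (f : ℕ → ℤ) :
    X.H ≤ upGrp D F f 0 :=
  X.H_le_iff.2 fun r t ht => h.hMat_mem_upGrp f r.2 ht (hX.coe_h r t)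

include h in
theorem U_le_upGrp {g : H20.Good D} {X : H20.WRG g.rs F (GL D.Idx F)} (hX : H20.IsMat X) :
    X.U ≤ upGrp D F (keyF g) 1 :=
  h.XS_le_upGrp hX (isAdd_keyF g) fun r hr => by
    rw [keyF_val]; exact g.rs.pos_iff_key.1 hr

include h in
theorem V_le_upGrp {g : H20.Good D} {X : H20.WRG g.rs F (GL D.Idx F)} (hX : H20.IsMat X) :
    X.V ≤ upGrp D F (fun s => -keyF g s) 1 :=
  h.XS_le_upGrp hX (isAdd_keyF g).neg' fun r hr => by
    have := g.rs.pos_iff_key.1 (g.rs.pos_neg_iff.2 hr)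
    rw [g.rs.rt_neg, g.rs.keyv_neg] at this
    rw [keyF_val]; exact this

include h in
theorem B_le_upGrp {g : H20.Good D} {X : H20.WRG g.rs F (GL D.Idx F)} (hX : H20.IsMat X) :
    X.B ≤ upGrp D F (keyF g) 0 :=
  sup_le ((h.U_le_upGrp hX).trans (upGrp_mono (by norm_num))) (h.H_le_upGrp hX _)

/-- the matrix group as a non-degenerate root group -/
noncomputable def rg (g : H20.Good D) (F : Type*) [Field F] : H20.RG g.rs F (GL D.Idx F) where
  toWRG := (h.rel F).toWRG g
  η r s := ((h.exists_eps.choose r s : ℤ) : F)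
  η_sq r s := by
    rcases (h.exists_eps.choose_spec r r.2 F).pm s s.2 with e | e <;> rw [e] <;> simp
  η_neg r s := by
    rw [g.rs_neg_val, (h.exists_eps.choose_spec r r.2 F).neg s s.2]
  η_rf r s := by
    rw [h.rf_val, mul_comm, ← Int.cast_mul, (h.exists_eps.choose_spec r r.2 F).mul_refl s s.2, rs_A_eq]
    have := pm_zpow (F := F) (a := -1) (Or.inr rfl) (-pair D r s)
    rw [neg_neg, Int.natAbs_neg] at this
    rw [← this]; simp
  conj_n r s t u ht := by
    rw [mul_inv_eq_iff_eq_mul]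
    apply Units.ext
    rw [Units.val_mul, Units.val_mul, (h.isMat_rel g).coe_n, h.isMat_rel g, h.isMat_rel g, h.rf_val, rs_A_eq]
    exact (h.exists_eps.choose_spec r r.2 F).x t ht s s.2 u
  h_mul r t u ht hu := by
    apply Units.ext
    rw [Units.val_mul, (h.isMat_rel g).coe_h, (h.isMat_rel g).coe_h, (h.isMat_rel g).coe_h]
    exact h.hMat_mul r.2 ht hu
  nd1 r a hr ha := by
    have hk := g.rs.pos_iff_key.1 hr
    have := h.XS_le_upGrp (h.isMat_rel g) (isAdd_keyF g) (k := (keyF g r + 1).toNat) (S := {s | r < s})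
      (fun s hs => by
        have := g.rs.lt_iff_key.1 hs
        rw [keyF_val, keyF_val]; omega) ha
    apply h.eq_zero_of_up (isAdd_keyF g) r.2
    refine Up.mono this.1 ?_
    omega
  nd2 := by
    rw [eq_bot_iff]
    intro a ha
    exact upGrp_inf_opp (by norm_num) (h.B_le_upGrp (h.isMat_rel g) ha.1) (h.V_le_upGrp (h.isMat_rel g) ha.2)

include h in
/-- the torus element `hmap c` is the diagonal matrix of its characters -/
theorem coe_hmap {g : H20.Good D} {X : H20.SRG g.rs F (GL D.Idx F)} (hX : H20.IsMat X.toWRG)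
    (c : Fin D.rank → Fˣ) :
    (X.hmap c : Matrix D.Idx D.Idx F) =
      Matrix.diagonal (Sum.elim (fun _ => (1 : F)) fun s : Fin D.nroots => (g.rs.chi s c : F)) := by
  let φ : (Fin D.rank → Fˣ) →* Matrix D.Idx D.Idx F :=
    { toFun := fun c => Matrix.diagonal (Sum.elim (fun _ => (1 : F)) fun s : Fin D.nroots => (g.rs.chi s c : F))
      map_one' := by
        rw [← diagonal_one]; congr 1; funext a; rcases a with j | u <;> simp
      map_mul' := fun a b => by
        rw [diagonal_mul_diagonal]; congr 1; funext a; rcases a with j | u <;> simp }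
  have : (Units.coeHom _).comp X.hmap = φ := by
    apply MonoidHom.pi_ext
    intro i t
    rw [MonoidHom.comp_apply, X.hmap_single, Units.coeHom_apply, hX.coe_h, g.rs_sim_val,
      h.hMat_simple i.2 t.ne_zero]
    change _ = Matrix.diagonal _
    unfold diagM
    congr 2
    funext s
    rw [g.rs.chi_single, Units.val_zpow_eq_zpow_val, g.rs_ca]
  exact DFunLike.congr_fun this c

/-- the package requested by the abstract theory -/
noncomputable def matRG (g : H20.Good D) (F : Type*) [Field F] : H20.MatRG g F where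
  Y := h.rel F
  X := h.rg g F
  eq := rfl
  isMat := h.isMat_rel g
  adj c hc := by
    apply Units.ext
    rw [h.coe_hmap (X := (h.rg g F).toSRG) (h.isMat_rel g), Units.val_one, ← diagonal_one]
    congr 1; funext a; rcases a with j | u <;> simp [hc]

end Tab

end H19
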