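import Mathlib
import Cfsg.Agent.H19.MatRG
import Cfsg.Agent.H20.Tw
import Cfsg.Agent.H20.Poincare

/-! Assembly of the structure theorems for the matrix Chevalley groups from the root group package. -/

set_option autoImplicit false

namespace H19
open Cfsg Cfsg.Lie H20

variable {D : ChevalleyDatum} {g : Good D} {F : Type*} [Field F]

/-- The positive roots as a list of elements of `Fin D.nroots`. -/
def posL (D : ChevalleyDatum) : List (Fin D.nroots) :=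
  (List.finRange D.nroots).filter fun r => decide (D.IsPosRoot r)

theorem posL_map (D : ChevalleyDatum) : (posL D).map Fin.val = D.posRoots := by
  unfold posL ChevalleyDatum.posRoots
  rw [← List.map_coe_finRange_eq_range, List.filter_map]
  rfl

theorem posL_nodup (D : ChevalleyDatum) : (posL D).Nodup := (List.nodup_finRange _).filter _

theorem mem_posL (g : Good D) {r : Fin D.nroots} : r ∈ posL D ↔ g.rs.Pos r := by
  simp [posL, g.isPosRoot_iff]

theorem coe_P_pos (M : MatRG g F) (t : ℕ → F) :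
    (M.X.P (posL D) (fun r => t r) : Matrix D.Idx D.Idx F) = D.wordMat F (D.posRoots.map fun r => (r, t r)) := by
  rw [← posL_map]
  generalize posL D = L
  induction L with
  | nil => simp [wordMat_nil]
  | cons r L ih => rw [WRG.P_cons, Units.val_mul, ih, M.isMat, List.map_cons, List.map_cons, wordMat_cons]

theorem asm1026 (M : MatRG g F) :
    (∀ a : GL D.Idx F, a ∈ D.posUnipotent F →
      ∃! t : ℕ → F, (∀ r, ¬ D.IsPosRoot r → t r = 0) ∧
        (a : Matrix D.Idx D.Idx F) = D.wordMat F (D.posRoots.map fun r => (r, t r))) ∧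
    (∀ t : ℕ → F, ∃ a : GL D.Idx F, a ∈ D.posUnipotent F ∧
      (a : Matrix D.Idx D.Idx F) = D.wordMat F (D.posRoots.map fun r => (r, t r))) := by
  classical
  rw [M.isMat.U_eq]
  refine ⟨fun a ha => ?_, fun t => ⟨M.X.P (posL D) fun r => t r,
    M.X.P_mem (fun r hr => (mem_posL g).1 hr) _, coe_P_pos M t⟩⟩
  obtain ⟨t, ht⟩ := M.X.exists_P g.rs.closed_pos (fun r hr => hr) (posL_nodup D) (fun r => mem_posL g) ha
  refine ⟨fun r => if h : D.IsPosRoot r then t ⟨r, h.1⟩ else 0, ⟨fun r hr => dif_neg hr, ?_⟩, ?_⟩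
  · rw [← coe_P_pos M, ht]
    congr 1
    exact M.X.P_congr fun r hr => by rw [dif_pos ((g.isPosRoot_iff r).2 ((mem_posL g).1 hr))]
  · rintro t' ⟨h0, h1⟩
    rw [← coe_P_pos M, ht, Units.val_inj] at h1
    have := M.X.P_injective M.X.nd1 g.rs.closed_pos (fun r hr => hr) (posL_nodup D)
      (fun r hr => (mem_posL g).1 hr) h1
    funext r
    split_ifs with h
    · exact (this ⟨r, h.1⟩ ((mem_posL g).2 ((g.isPosRoot_iff ⟨r, h.1⟩).1 h))).symm
    · exact h0 r h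

theorem card_pos (g : Good D) : (Finset.univ.filter g.rs.Pos).card = D.nroots / 2 := by
  have h1 : (Finset.univ.filter g.rs.Pos).card = (Finset.univ.filter fun r => ¬g.rs.Pos r).card := by
    refine Finset.card_bij (fun r _ => g.rs.neg r) ?_ ?_ ?_
    · intro r hr
      simp only [Finset.mem_filter, Finset.mem_univ, true_and] at hr ⊢
      rw [g.rs.pos_neg_iff]; exact not_not.2 hr
    · intro a _ b _ h; exact g.rs.neg_injective h
    · intro b hb
      simp only [Finset.mem_filter, Finset.mem_univ, true_and] at hb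
      exact ⟨g.rs.neg b, by simpa [g.rs.pos_neg_iff] using hb, g.rs.neg_neg b⟩
  have h2 := Finset.card_filter_add_card_filter_not (s := (Finset.univ : Finset (Fin D.nroots))) g.rs.Pos
  rw [Finset.card_univ, Fintype.card_fin] at h2
  omega

theorem asm1027 [Fintype F] (M : MatRG g F) :
    Nat.card (D.posUnipotent F) = Fintype.card F ^ (D.nroots / 2) := by
  rw [M.isMat.U_eq, ← card_pos g, ← Nat.card_eq_fintype_card,
    ← M.X.card_XS M.X.nd1 (S := Finset.univ.filter g.rs.Pos) (by simpa using g.rs.closed_pos) (by simp)]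
  simp [WRG.U]

theorem asm1029 (M : MatRG g F) : Group.IsNilpotent (D.posUnipotent F) := by
  rw [M.isMat.U_eq]
  exact M.X.isNilpotent_XS g.rs.closed_pos fun r hr => hr

theorem asm1036 (M : MatRG g F) :
    D.diagonalSubgroup F ≤ Subgroup.normalizer (D.posUnipotent F : Set (GL D.Idx F)) ∧
      D.posUnipotent F ⊓ D.diagonalSubgroup F = ⊥ := by
  rw [M.isMat.U_eq, M.isMat.H_eq]
  exact ⟨M.X.H_le_normalizer _, M.X.U_inf_H⟩

theorem asm1037 (M : MatRG g F) :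
    D.borelSubgroup F ⊓ D.negUnipotent F = ⊥ ∧
      D.borelSubgroup F ⊓ (D.negUnipotent F ⊔ D.diagonalSubgroup F) = D.diagonalSubgroup F := by
  rw [M.isMat.V_eq, M.isMat.H_eq, M.isMat.B_eq]
  exact ⟨M.X.nd2, M.X.B_inf_V_sup_H⟩

theorem asm1038 (M : MatRG g F) : ((D.diagonalSubgroup F).subgroupOf (D.monomialSubgroup F)).Normal := by
  rw [M.isMat.N_eq, M.isMat.H_eq]
  exact M.X.H_normal_N

theorem asm1040 (M : MatRG g F) :
    D.posUnipotent F ⊓ D.monomialSubgroup F = ⊥ ∧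
      D.borelSubgroup F ⊓ D.monomialSubgroup F = D.diagonalSubgroup F := by
  rw [M.isMat.N_eq, M.isMat.H_eq, M.isMat.B_eq, M.isMat.U_eq]
  exact ⟨M.X.U_inf_N, M.X.B_inf_N⟩

theorem asm1041 (M : MatRG g F) : D.posUnipotent F ⊔ D.negUnipotent F = D.group F := by
  rw [M.isMat.U_eq, M.isMat.V_eq, M.isMat.grp_eq]
  exact M.X.U_sup_V

theorem asm1043 (M : MatRG g F) :
    D.borelSubgroup F ≤ D.group F ∧ D.monomialSubgroup F ≤ D.group F ∧
      D.borelSubgroup F ⊔ D.monomialSubgroup F = D.group F := by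
  rw [M.isMat.N_eq, M.isMat.B_eq, M.isMat.grp_eq]
  exact ⟨M.X.B_le_grp, M.X.N_le_grp, M.X.B_sup_N⟩

theorem asm1050 (M : MatRG g F) : Group.IsSolvable ↥(D.borelSubgroup F) := by
  rw [M.isMat.B_eq]
  exact M.X.isSolvable_B

theorem asm1051 (M : MatRG g F) : ((D.borelSubgroup F).subgroupOf (D.group F)).normalCore = ⊥ := by
  rw [M.isMat.B_eq, M.isMat.grp_eq]
  have := M.X.tw.normalCore_eq_bot M.adj
  rwa [Subgroup.inf_subgroupOf_right] at this

theorem asm1053 (M : MatRG g F) :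
    ∃ n ∈ D.monomialSubgroup F, (D.posUnipotent F).map (MulAut.conj n).toMonoidHom = D.negUnipotent F := by
  rw [M.isMat.N_eq, M.isMat.U_eq, M.isMat.V_eq]
  obtain ⟨n, hn, h⟩ := M.X.exists_N_w0
  refine ⟨n, hn, ?_⟩
  rw [WRG.U, h.map_XS, WRG.V]
  congr 1
  ext r
  constructor
  · rintro ⟨s, hs, rfl⟩
    exact fun h' => RS.pos_w0_univ_iff.1 h' hs
  · intro hr
    exact ⟨g.rs.w0 Set.univ r, RS.pos_w0_univ_iff.2 hr, g.rs.w0_w0 _ _⟩

theorem asm1042 (M : MatRG g F) :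
    ∃ P : Cfsg.BNPair ↥(D.group F),
      P.B = (D.borelSubgroup F).subgroupOf (D.group F) ∧ P.N = (D.monomialSubgroup F).subgroupOf (D.group F) ∧
      P.S = {n : ↥(D.group F) | ∃ i < D.rank,
        ((n : GL D.Idx F) : Matrix D.Idx D.Idx F) = D.nMat F (D.simple i) 1} := by
  rw [M.isMat.N_eq, M.isMat.B_eq, M.isMat.grp_eq]
  refine ⟨M.X.tw.bn, ?_, ?_, ?_⟩
  · rw [Tw.bn_B, Subgroup.inf_subgroupOf_right]
  · rw [Tw.bn_N, Subgroup.inf_subgroupOf_right]
  · rw [Tw.bn_S]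
    ext n
    constructor
    · rintro ⟨i, hi⟩
      exact ⟨i, i.2, by rw [hi]; exact M.isMat.coe_n _ _⟩
    · rintro ⟨i, hi, h⟩
      exact ⟨⟨i, hi⟩, (M.isMat.eq_n (g.simple_lt hi)).1 h⟩

theorem asm1034 (M : MatRG g F) (a : GL D.Idx F) (ha : a ∈ D.diagonalSubgroup F) :
    ∃ c : ℕ → F, (∀ i < D.rank, c i ≠ 0) ∧ (a : Matrix D.Idx D.Idx F) =
      D.wordMat F ((List.range D.rank).flatMap fun i => D.hWord (D.simple i) (c i)) := by
  classical
  rw [M.isMat.H_eq] at ha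
  obtain ⟨c, rfl⟩ := M.X.mem_H_iff.1 ha
  refine ⟨fun i => if h : i < D.rank then (c ⟨i, h⟩ : F) else 1, fun i hi => by simp [hi], ?_⟩
  have key : ∀ L : List (Fin D.rank),
      ((M.X.hmap (L.map fun i => Pi.mulSingle i (c i)).prod : GL D.Idx F) : Matrix D.Idx D.Idx F) =
      D.wordMat F ((L.map Fin.val).flatMap fun i => D.hWord (D.simple i)
        (if h : i < D.rank then (c ⟨i, h⟩ : F) else 1)) := by
    intro L
    induction L with
    | nil => simp [wordMat_nil]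
    | cons i L ih =>
      rw [List.map_cons, List.prod_cons, map_mul, Units.val_mul, ih, List.map_cons, List.flatMap_cons,
        wordMat_append, M.X.hmap_single, M.isMat.coe_h, dif_pos i.2]
      rfl
  rw [← List.map_coe_finRange_eq_range, ← key]
  congr 2
  rw [← Fin.prod_univ_def, Finset.univ_prod_mulSingle]

/-- the set of fundamental roots given by a set of natural numbers -/
def JF (D : ChevalleyDatum) (J : Set ℕ) : Set (Fin D.rank) := {i | (i : ℕ) ∈ J}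

theorem inRootSub_iff' (g : Good D) (J : Set ℕ) (r : Fin D.nroots) :
    D.InRootSub J r ↔ r ∈ g.rs.Phi (JF D J) := g.inRootSub_iff J r

theorem parabolic_eq (M : MatRG g F) (J : Set ℕ) :
    D.parabolicSubgroup F J = M.X.PJ (JF D J) {r | g.rs.Pos r} := by
  rw [ChevalleyDatum.parabolicSubgroup, M.isMat.B_eq, SRG.PJ]
  congr 2
  ext a
  constructor
  · rintro ⟨j, hj, hl, h⟩
    exact ⟨⟨j, hl⟩, hj, (M.isMat.eq_n (g.simple_lt hl)).1 h⟩
  · rintro ⟨j, hj, rfl⟩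
    exact ⟨j, hj, j.2, M.isMat.coe_n _ _⟩

theorem radical_eq (M : MatRG g F) (J : Set ℕ) :
    D.unipotentRadical F J = M.X.XS {r | g.rs.Pos r ∧ r ∉ g.rs.Phi (JF D J)} := by
  have := M.isMat.XS_eq (fun r => D.IsPosRoot r ∧ ¬D.InRootSub J r) fun r hr => hr.1.1
  simp only [and_assoc] at this
  rw [ChevalleyDatum.unipotentRadical, this]
  simp only [g.isPosRoot_iff, inRootSub_iff' g]

theorem levi_eq (M : MatRG g F) (J : Set ℕ) :
    D.leviSubgroup F J = M.X.XS (g.rs.Phi (JF D J)) ⊔ M.X.H := by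
  rw [ChevalleyDatum.leviSubgroup, M.isMat.H_eq, M.isMat.XS_eq _ fun r hr => hr.1, sup_comm]
  simp only [inRootSub_iff' g]
  rfl

theorem PJ_eq {ι Λ : Type} [LinearOrder ι] [Fintype Λ] [DecidableEq Λ] {R : RS ι Λ} {K : Type*} [Field K]
    {G : Type*} [Group G] (X : SRG R K G) (J : Set Λ) :
    X.PJ J {r | R.Pos r} = X.U ⊔ X.H ⊔ X.XS (R.Phi J) :=
  le_antisymm SRG.PJ_le (sup_le (sup_le (SRG.XS_le_PJ _ _) (SRG.H_le_PJ _ _))
    (SRG.XS_Phi_le_PJ fun i _ => R.pos_sim i))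

theorem asm1047 (M : MatRG g F) (J : Set ℕ) :
    D.parabolicSubgroup F J = D.diagonalSubgroup F ⊔
      Subgroup.closure {a : GL D.Idx F | ∃ (r : ℕ) (t : F), (D.IsPosRoot r ∨ D.InRootSub J r) ∧
        (a : Matrix D.Idx D.Idx F) = D.x F r t} := by
  rw [parabolic_eq M, PJ_eq, M.isMat.XS_eq _ (fun r hr => hr.elim (·.1) (·.1)), M.isMat.H_eq]
  simp only [g.isPosRoot_iff, inRootSub_iff' g]
  rw [Set.ofPred_or, WRG.XS_union, WRG.U, sup_comm (M.X.XS _) M.X.H, sup_assoc]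
  rfl

section abstract
variable {ι Λ : Type} [LinearOrder ι] [Fintype Λ] [DecidableEq Λ] [Fintype ι] {R : RS ι Λ} {K : Type*} [Field K]
    {G : Type*} [Group G]

omit [Fintype ι] in
theorem PJ_le_normalizer (X : SRG R K G) (J : Set Λ) :
    X.PJ J {r | R.Pos r} ≤ Subgroup.normalizer (X.XS {r | R.Pos r ∧ r ∉ R.Phi J} : Set G) := by
  rw [PJ_eq]
  refine sup_le (sup_le ?_ (X.H_le_normalizer _)) ?_
  · refine X.XS_le_normalizer (fun r hr s hs => R.ne_neg_of_pos hr hs.1) fun r hr s hs k hk => ?_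
    by_cases hJ : r ∈ R.Phi J
    · exact hk.pos_not_Phi hJ hs.1 hs.2
    · exact RS.closed_pos_not_Phi J r ⟨hr, hJ⟩ s hs k hk
  · refine X.XS_le_normalizer (fun r hr s hs h => hs.2 ?_) fun r hr s hs k hk => hk.pos_not_Phi hr hs.1 hs.2
    rw [h]; exact RS.neg_mem_Phi.2 hr

omit [Fintype ι] in
theorem radical_sup_levi (X : SRG R K G) (J : Set Λ) :
    X.XS {r | R.Pos r ∧ r ∉ R.Phi J} ⊔ (X.XS (R.Phi J) ⊔ X.H) = X.PJ J {r | R.Pos r} := by
  rw [PJ_eq]
  apply le_antisymm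
  · refine sup_le (le_sup_of_le_left (le_sup_of_le_left (X.XS_mono fun r hr => hr.1)))
      (sup_le le_sup_right (le_sup_of_le_left le_sup_right))
  · refine sup_le (sup_le ?_ (le_sup_of_le_right le_sup_right)) (le_sup_of_le_right le_sup_left)
    rw [WRG.U, X.XS_le_iff]
    intro r hr t
    by_cases hJ : r ∈ R.Phi J
    · exact Subgroup.mem_sup_right (Subgroup.mem_sup_left (X.x_mem_XS hJ t))
    · exact Subgroup.mem_sup_left (X.x_mem_XS (by exact ⟨hr, hJ⟩) t)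

theorem radical_inf_levi (X : RG R K G) (J : Set Λ) :
    X.XS {r | R.Pos r ∧ r ∉ R.Phi J} ⊓ (X.XS (R.Phi J) ⊔ X.H) = ⊥ := by
  rw [eq_bot_iff]
  rintro a ⟨h1, h2⟩
  obtain ⟨w, -, b, hb, n, hn, c, hc, hw, h⟩ := SRG.exists_cell_levi h2
  have hU : a ∈ X.U := X.XS_mono (fun r hr => hr.1) h1
  have hbU : b ∈ X.U := X.XS_mono (fun r hr => hr.1) hb
  have hcU : c ∈ X.U := X.XS_mono (fun r hr => hr.1) hc
  have hnU : n ∈ X.U := by
    have : n = b⁻¹ * a * c⁻¹ := by rw [h]; group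
    rw [this]; exact mul_mem (mul_mem (inv_mem hbU) hU) (inv_mem hcU)
  have hn1 : n = 1 := by
    have : n ∈ X.U ⊓ X.N := ⟨hnU, hn⟩
    rwa [X.U_inf_N, Subgroup.mem_bot] at this
  have h3 : a ∈ X.XS {r | R.Pos r ∧ r ∈ R.Phi J} := by rw [h, hn1, mul_one]; exact mul_mem hb hc
  have h4 : a ∈ X.XS {r | R.Pos r ∧ r ∉ R.Phi J} ⊓ X.XS {r | R.Pos r ∧ r ∈ R.Phi J} := ⟨h1, h3⟩
  rw [X.XS_inf X.nd1 (RS.closed_pos_not_Phi J) (R.adm_Phi J).closed (fun r hr => hr.1)
    (fun r hr => hr.1)] at h4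
  have h5 : ({r | R.Pos r ∧ r ∉ R.Phi J} ∩ {r | R.Pos r ∧ r ∈ R.Phi J} : Set ι) = ∅ := by
    ext r; simp only [Set.mem_inter_iff, Set.mem_ofPred_eq, Set.mem_empty_iff_false]; tauto
  rwa [h5, X.XS_empty] at h4

theorem normalizer_radical (X : RG R K G) (J : Set Λ) :
    Subgroup.normalizer (X.XS {r | R.Pos r ∧ r ∉ R.Phi J} : Set G) ⊓ X.grp = X.PJ J {r | R.Pos r} := by
  apply le_antisymm
  · rintro a ⟨h1, h2⟩
    obtain ⟨w, b, hb, n, hn, c, hc, hw, rfl⟩ := SRG.exists_bruhat h2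
    have hUP : X.U ≤ X.PJ J {r | R.Pos r} := SRG.XS_le_PJ _ _
    have hcU := SRG.XS_inv_le_U w hc
    have hnN : n ∈ Subgroup.normalizer (X.XS {r | R.Pos r ∧ r ∉ R.Phi J} : Set G) := by
      have : n = b⁻¹ * (b * n * c) * c⁻¹ := by group
      rw [this]
      exact mul_mem (mul_mem (inv_mem (PJ_le_normalizer _ J (hUP hb))) h1)
        (inv_mem (PJ_le_normalizer _ J (hUP hcU)))
    have hwJ : w ∈ R.WJ J := by
      refine RS.mem_WJ_of_inv_subset hw.mem fun r hr => ?_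
      by_contra hJ
      rw [RS.mem_inv] at hr
      obtain ⟨e, he, hx⟩ := hw.conj_x r
      have h3 : n * X.x r 1 * n⁻¹ ∈ X.XS {r | R.Pos r ∧ r ∉ R.Phi J} :=
        (Subgroup.mem_set_normalizer_iff.1 hnN _).1 (X.x_mem_XS (by exact ⟨hr.1, hJ⟩) 1)
      rw [hx] at h3
      have h4 := X.eq_one_of_mem_B_V (X.U_le_B (X.XS_mono (fun r hr => hr.1) h3)) (X.x_mem_XS (by exact hr.2) _)
      exact he (by simpa using X.x_eq_one h4)
    obtain ⟨l, hl, hlw⟩ := R.mem_WJ_iff.1 hwJ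
    have h5 := X.inv_mul_mem_H (X.nw_mem_N l) hn (hlw ▸ X.acts_nw l) hw
    have hnP : n ∈ X.PJ J {r | R.Pos r} := by
      have : n = X.nw l * ((X.nw l)⁻¹ * n) := by group
      rw [this]
      exact mul_mem (SRG.nw_mem_PJ _ hl) (SRG.H_le_PJ _ _ h5)
    exact mul_mem (mul_mem (hUP hb) hnP) (hUP hcU)
  · refine le_inf (PJ_le_normalizer _ J) ?_
    rw [PJ_eq]
    exact sup_le (sup_le X.U_le_grp X.H_le_grp) (X.XS_le_grp _)

theorem conj_H_by_N (X : RG R K G) {h₁ h₂ a : G} (h1 : h₁ ∈ X.H) (h2 : h₂ ∈ X.H) (ha : a ∈ X.grp)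
    (hc : a * h₁ * a⁻¹ = h₂) : ∃ n ∈ X.N, n * h₁ * n⁻¹ = h₂ := by
  obtain ⟨w, b, hb, n, hn, c, hc', hw, rfl⟩ := SRG.exists_bruhat ha
  refine ⟨n, hn, ?_⟩
  have e : b * (n * h₁) * (h₁⁻¹ * c * h₁) = (h₂ * b * h₂⁻¹) * (h₂ * n) * c := by rw [← hc]; group
  have := X.bruhat_unique hb (X.H_conj_mem h2 hb) (mul_mem hn (X.H_le_N h1)) (mul_mem (X.H_le_N h2) hn)
    (X.H_conj_mem' h1 hc') hc' (by simpa using hw.mul (X.acts_of_mem_H h1))
    (by simpa using (X.acts_of_mem_H h2).mul hw) e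
  rw [this.2.2.1]; group

theorem minimal_parabolic (X : RG R K G) (i : Λ) :
    (X.PJ {i} {r | R.Pos r} : Set G) =
      (X.B : Set G) ∪ DoubleCoset.doubleCoset (X.n (R.sim i) 1) (X.B : Set G) X.B := by
  have hBP : X.B ≤ X.PJ {i} {r | R.Pos r} := sup_le (SRG.XS_le_PJ _ _) (SRG.H_le_PJ _ _)
  ext a
  constructor
  · intro ha
    obtain ⟨w, hw, hc⟩ := SRG.exists_cell (R.adm_pos _) ha
    have hw' : w ∈ X.tw.W1 := by rw [RG.tw_W1]; exact R.WJ_le_W _ hw
    rcases X.tw.eq_one_or_w0 hw' (i := i) hw with rfl | rfl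
    · exact Or.inl (X.cell_one_iff.1 hc)
    · right
      obtain ⟨b, hb, n, hn, c, hc, hw, rfl⟩ := hc
      have h5 := X.inv_mul_mem_H (X.tw.nJ_N i) hn (X.tw.nJ_acts i) hw
      refine DoubleCoset.mem_doubleCoset.2 ⟨b, X.U_le_B hb, (X.n (R.sim i) 1)⁻¹ * n * c,
        mul_mem (X.H_le_B h5) (X.U_le_B hc), by group⟩
  · rintro (ha | ha)
    · exact hBP ha
    · obtain ⟨b, hb, c, hc, rfl⟩ := DoubleCoset.mem_doubleCoset.1 ha
      exact mul_mem (mul_mem (hBP hb) (Subgroup.mem_sup_right (Subgroup.subset_closure ⟨i, rfl, rfl⟩))) (hBP hc)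

omit [Fintype ι] in
theorem pos_ne_sim_eq (R : RS ι Λ) (i : Λ) :
    {r | R.Pos r ∧ r ≠ R.sim i} = {r | R.Pos r ∧ r ∉ R.Phi {i}} := by
  ext r
  refine and_congr_right fun hr => ?_
  rw [RS.mem_Phi_singleton, not_or]
  exact ⟨fun h => ⟨h, R.ne_neg_of_pos (R.pos_sim i) hr⟩, fun h => h.1⟩

omit [Fintype ι] in
theorem rank_one_le_normalizer (X : SRG R K G) (i : Λ) :
    X.XS {R.sim i} ⊔ X.XS {R.neg (R.sim i)} ≤
      Subgroup.normalizer (X.XS {r | R.Pos r ∧ r ≠ R.sim i} : Set G) := by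
  rw [pos_ne_sim_eq]
  refine le_trans ?_ (PJ_le_normalizer X {i})
  refine le_trans ?_ (SRG.XS_Phi_le_PJ fun i _ => R.pos_sim i)
  exact sup_le (X.XS_mono (by simp [RS.mem_Phi_singleton])) (X.XS_mono (by simp [RS.mem_Phi_singleton]))

end abstract

theorem asm1048 (M : MatRG g F) (J : Set ℕ) :
    D.parabolicSubgroup F J ≤ Subgroup.normalizer (D.unipotentRadical F J : Set (GL D.Idx F)) ∧
      D.unipotentRadical F J ⊔ D.leviSubgroup F J = D.parabolicSubgroup F J ∧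
      D.unipotentRadical F J ⊓ D.leviSubgroup F J = ⊥ := by
  rw [parabolic_eq M, radical_eq M, levi_eq M]
  exact ⟨PJ_le_normalizer _ _, radical_sup_levi _ _, radical_inf_levi _ _⟩

theorem asm1049 (M : MatRG g F) (J : Set ℕ) :
    Subgroup.normalizer (D.unipotentRadical F J : Set (GL D.Idx F)) ⊓ D.group F = D.parabolicSubgroup F J := by
  rw [parabolic_eq M, radical_eq M, M.isMat.grp_eq]
  exact normalizer_radical _ _

theorem asm1046 (M : MatRG g F) (h₁ h₂ a : GL D.Idx F) (h1 : h₁ ∈ D.diagonalSubgroup F)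
    (h2 : h₂ ∈ D.diagonalSubgroup F) (ha : a ∈ D.group F) (hc : a * h₁ * a⁻¹ = h₂) :
    ∃ n ∈ D.monomialSubgroup F, n * h₁ * n⁻¹ = h₂ := by
  rw [M.isMat.H_eq] at h1 h2
  rw [M.isMat.grp_eq] at ha
  rw [M.isMat.N_eq]
  exact conj_H_by_N _ h1 h2 ha hc

theorem asm1044 (M : MatRG g F) (i : ℕ) (hi : i < D.rank) (n : GL D.Idx F)
    (hn : (n : Matrix D.Idx D.Idx F) = D.nMat F (D.simple i) 1) :
    ∃ P : Subgroup (GL D.Idx F), (P : Set (GL D.Idx F)) = (D.borelSubgroup F : Set (GL D.Idx F)) ∪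
      DoubleCoset.doubleCoset n (D.borelSubgroup F : Set (GL D.Idx F)) (D.borelSubgroup F) := by
  rw [M.isMat.B_eq, (M.isMat.eq_n (g.simple_lt hi)).1 hn]
  exact ⟨_, minimal_parabolic M.X ⟨i, hi⟩⟩

theorem asm1045 (M : MatRG g F) (i : ℕ) (hi : i < D.rank) :
    D.rootSubgroup F (D.simple i) ⊔ D.rootSubgroup F (D.neg (D.simple i)) ≤
        Subgroup.normalizer (Subgroup.closure {a : GL D.Idx F | ∃ (s : ℕ) (t : F), D.IsPosRoot s ∧
          s ≠ D.simple i ∧ (a : Matrix D.Idx D.Idx F) = D.x F s t} : Set (GL D.Idx F)) ∧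
      Subgroup.closure {a : GL D.Idx F | ∃ (s : ℕ) (t : F), D.IsPosRoot s ∧ s ≠ D.simple i ∧
          (a : Matrix D.Idx D.Idx F) = D.x F s t} ⊔ D.rootSubgroup F (D.simple i) = D.posUnipotent F := by
  have h0 := M.isMat.XS_eq (fun r => D.IsPosRoot r ∧ r ≠ D.simple i) fun r hr => hr.1.1
  simp only [and_assoc] at h0
  have h1 : {r : Fin D.nroots | D.IsPosRoot r ∧ (r : ℕ) ≠ D.simple i} =
      {r | g.rs.Pos r ∧ r ≠ g.rs.sim ⟨i, hi⟩} := by
    ext r; simp only [g.isPosRoot_iff, Set.mem_ofPred_eq, ne_eq, Fin.ext_iff, Good.rs_sim_val]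
  have h2 : D.rootSubgroup F (D.simple i) = M.X.XS {g.rs.sim ⟨i, hi⟩} :=
    M.isMat.rootSubgroup_eq (g.rs.sim ⟨i, hi⟩)
  have h3 : D.rootSubgroup F (D.neg (D.simple i)) = M.X.XS {g.rs.neg (g.rs.sim ⟨i, hi⟩)} :=
    M.isMat.rootSubgroup_eq (g.rs.neg (g.rs.sim ⟨i, hi⟩))
  rw [h0, h1, h2, h3, M.isMat.U_eq]
  constructor
  · exact rank_one_le_normalizer M.X.toSRG ⟨i, hi⟩
  · rw [← WRG.XS_union, WRG.U]
    congr 1
    ext r
    simp only [Set.mem_union, Set.mem_ofPred_eq, Set.mem_singleton_iff]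
    constructor
    · rintro (h | rfl)
      exacts [h.1, g.rs.pos_sim _]
    · intro h; tauto

end H19
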