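import Mathlib
import Cfsg.Agent.H19.Asm

/-! Perfectness, simplicity, the order of the torus and of the group. -/

set_option autoImplicit false

namespace H19
open Cfsg Cfsg.Lie H20 Finset
open scoped commutatorElement

theorem zpow_finset_sum {G α : Type*} [CommGroup G] (a : G) (s : Finset α) (f : α → ℤ) :
    a ^ (∑ j ∈ s, f j) = ∏ j ∈ s, a ^ f j := by
  classical
  induction s using Finset.induction_on with
  | empty => simp
  | insert j s hj ih => rw [sum_insert hj, prod_insert hj, zpow_add, ih]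

section abstract
variable {ι Λ : Type} [LinearOrder ι] [Fintype Λ] [DecidableEq Λ] {R : RS ι Λ} {K : Type*} [Field K]
    {G : Type*} [Group G]

/-! ### the kernel of the torus map -/

/-- the common kernel of the simple characters -/
def zker (R : RS ι Λ) (K : Type*) [Field K] : Subgroup (Λ → Kˣ) where
  carrier := {c | ∀ j, R.chi (R.sim j) c = 1}
  one_mem' _ := map_one _
  mul_mem' ha hb j := by rw [map_mul, ha j, hb j, mul_one]
  inv_mem' ha j := by rw [map_inv, ha j, inv_one]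

theorem mem_zker {c : Λ → Kˣ} : c ∈ zker R K ↔ ∀ j, ∏ i, c i ^ R.C i j = 1 := Iff.rfl

theorem zker_prod {c : Λ → Kˣ} (hc : c ∈ zker R K) (a : Λ → ℤ) : ∏ i, c i ^ (∑ j, R.C i j * a j) = 1 := by
  simp only [zpow_finset_sum, zpow_mul]
  rw [prod_comm]
  refine prod_eq_one fun j _ => ?_
  rw [prod_zpow, mem_zker.1 hc j, one_zpow]

/-- certificate for the structure of the fundamental group: `r` generators of order `m` -/
def KerCert (R : RS ι Λ) (m : ℕ) {r : ℕ} (i0 : Fin r → Λ) (v : Fin r → Λ → ℤ) (a : Λ → Λ → ℤ)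
    (b : Fin r → Λ → ℤ) : Prop :=
  (∀ k k', v k (i0 k') = if k = k' then 1 else 0) ∧ (∀ k j, (∑ i, v k i * R.C i j) % m = 0) ∧
  (∀ i i', ∑ j, R.C i' j * a i j = (if i' = i then 1 else 0) - ∑ k, if i' = i0 k then v k i else 0) ∧
  (∀ k i', ∑ j, R.C i' j * b k j = if i' = i0 k then (m : ℤ) else 0)

instance instDecKerCert (R : RS ι Λ) (m : ℕ) {r : ℕ} (i0 : Fin r → Λ) (v : Fin r → Λ → ℤ) (a : Λ → Λ → ℤ)
    (b : Fin r → Λ → ℤ) : Decidable (KerCert R m i0 v a b) := by unfold KerCert; infer_instance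

theorem card_zker [Finite K] {m r : ℕ} {i0 : Fin r → Λ} {v : Fin r → Λ → ℤ} {a : Λ → Λ → ℤ}
    {b : Fin r → Λ → ℤ} (h : KerCert R m i0 v a b) :
    Nat.card (zker R K) = Nat.gcd m (Nat.card K - 1) ^ r := by
  obtain ⟨hv, hd, ha, hb⟩ := h
  have e : zker R K ≃ (Fin r → (powMonoidHom m : Kˣ →* Kˣ).ker) := by
    refine ⟨fun c k => ⟨c.1 (i0 k), ?_⟩, fun z => ⟨fun i => ∏ k, (z k).1 ^ v k i, ?_⟩, fun c => ?_, fun z => ?_⟩
    · have := zker_prod c.2 (b k)
      simp only [hb, ← zpow_natCast] at this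
      rw [prod_eq_single (i0 k) (fun i _ hi => by rw [if_neg hi, zpow_zero]) (by simp), if_pos rfl] at this
      simpa using this
    · rw [mem_zker]
      intro j
      simp only [← prod_zpow, ← zpow_mul]
      rw [prod_comm]
      refine prod_eq_one fun k _ => ?_
      rw [← zpow_finset_sum]
      obtain ⟨c, hc⟩ := Int.dvd_of_emod_eq_zero (hd k j)
      have hz : (z k).1 ^ m = 1 := (z k).2
      rw [hc, zpow_mul, zpow_natCast, hz, one_zpow]
    · ext1; funext i
      have := zker_prod c.2 (a i)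
      simp only [ha, zpow_sub, prod_mul_distrib, prod_inv_distrib, zpow_finset_sum] at this
      rw [prod_eq_single i (fun i' _ hi => by rw [if_neg hi, zpow_zero]) (by simp), if_pos rfl, zpow_one,
        prod_comm, mul_inv_eq_one] at this
      rw [this]
      change ∏ k, c.1 (i0 k) ^ v k i = _
      refine prod_congr rfl fun k _ => ?_
      rw [prod_eq_single (i0 k) (fun i' _ hi => by rw [if_neg hi, zpow_zero]) (by simp), if_pos rfl]
    · funext k; ext1
      simp only [hv]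
      rw [prod_eq_single k (fun i' _ hi => by rw [if_neg hi, zpow_zero]) (by simp), if_pos rfl, zpow_one]
  rw [Nat.card_congr e, Nat.card_pi, prod_const, IsCyclic.card_powMonoidHom_ker, Nat.card_units, card_univ,
    Fintype.card_fin, Nat.gcd_comm]

theorem ker_hmap [Fintype ι] (X : RG R K G) (adj : ∀ c : Λ → Kˣ, (∀ s, R.chi s c = 1) → X.hmap c = 1) :
    X.hmap.ker = zker R K := by
  ext c
  constructor
  · intro hc j
    have := (X.actsBy_hmap c).conj (R.sim j) 1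
    rw [MonoidHom.mem_ker.1 hc, one_mul, inv_one, mul_one, mul_one] at this
    exact Units.ext (X.x_injective _ this).symm
  · intro hc
    exact adj c (RG.chi_eq_one_of_simple hc)

theorem card_H_mul [Fintype ι] [Finite K] (X : RG R K G)
    (adj : ∀ c : Λ → Kˣ, (∀ s, R.chi s c = 1) → X.hmap c = 1) :
    Nat.card (zker R K) * Nat.card X.H = (Nat.card K - 1) ^ Fintype.card Λ := by
  rw [← ker_hmap X adj, X.H_eq_range, ← Subgroup.index_ker, Subgroup.card_mul_index, Nat.card_pi, prod_const,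
    Nat.card_units, card_univ]

/-- the order formula -/
theorem card_grp_int [Fintype ι] [Finite K] (X : RG R K G)
    (adj : ∀ c : Λ → Kˣ, (∀ s, R.chi s c = 1) → X.hmap c = 1) :
    (Nat.card (zker R K) * Nat.card X.grp : ℤ) = (Nat.card K : ℤ) ^ (univ.filter R.Pos).card *
      (((Nat.card K : ℤ) - 1) ^ Fintype.card Λ * R.poin R.W Set.univ (Nat.card K : ℤ)) := by
  classical
  have h1 := congrArg (Nat.cast : ℕ → ℤ) (card_H_mul X adj)
  have h0 : 1 ≤ Nat.card K := Nat.card_pos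
  push_cast [h0] at h1
  rw [X.card_grp, ← RS.sum_eq_poin _ le_rfl, ← h1]
  push_cast
  ring

/-! ### irreducibility -/

theorem s_mul_s_ne {i j : Λ} (hij : i ≠ j) (h : R.C j i ≠ 0) : R.s i * R.s j ≠ R.s j * R.s i := by
  intro e
  have := congrArg (fun w : Equiv.Perm ι => R.rt (w (R.sim i)) j) e
  simp only [Equiv.Perm.mul_apply, RS.s_apply, R.rt_sr, R.sr_sim, R.rt_neg, R.rt_sim, R.ca_neg, Pi.sub_apply,
    Pi.neg_apply, Pi.single_eq_same, Pi.single_eq_of_ne hij.symm] at this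
  apply h
  unfold RS.C
  omega

/-- certificate for connectedness of the Dynkin diagram -/
def TreeCert (R : RS ι Λ) (i0 : Λ) (par : Λ → Λ) (dep : Λ → ℕ) : Prop :=
  ∀ i, i = i0 ∨ (dep (par i) < dep i ∧ R.C i (par i) ≠ 0 ∧ R.C (par i) i ≠ 0)

instance instDecTreeCert (R : RS ι Λ) (i0 : Λ) (par : Λ → Λ) (dep : Λ → ℕ) :
    Decidable (TreeCert R i0 par dep) := by unfold TreeCert; infer_instance

theorem irr_of_tree {i0 : Λ} {par : Λ → Λ} {dep : Λ → ℕ} (h : TreeCert R i0 par dep) (A : Set Λ)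
    (h1 : A.Nonempty) (h2 : Aᶜ.Nonempty) : ∃ i ∈ A, ∃ j ∉ A, R.s i * R.s j ≠ R.s j * R.s i := by
  have key : ∀ B : Set Λ, B.Nonempty → i0 ∉ B → ∃ j ∈ B, par j ∉ B ∧ R.C j (par j) ≠ 0 ∧ R.C (par j) j ≠ 0 := by
    intro B hB h0
    obtain ⟨j, hj, hm⟩ := Set.exists_min_image B dep B.toFinite hB
    rcases h j with rfl | ⟨h3, h4, h5⟩
    · exact absurd hj h0
    · exact ⟨j, hj, fun h6 => absurd (hm _ h6) (by omega), h4, h5⟩
  by_cases h0 : i0 ∈ A
  · obtain ⟨j, hj, h3, h4, -⟩ := key Aᶜ h2 (by simpa using h0)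
    rw [Set.notMem_compl_iff] at h3
    exact ⟨par j, h3, j, hj, s_mul_s_ne (fun e => hj (e ▸ h3)) h4⟩
  · obtain ⟨j, hj, h3, -, h5⟩ := key A h1 h0
    exact ⟨j, hj, par j, h3, s_mul_s_ne (fun e => h3 (e ▸ hj)) h5⟩

theorem simple_of_perfect [Fintype ι] (X : RG R K G) (adj : ∀ c : Λ → Kˣ, (∀ s, R.chi s c = 1) → X.hmap c = 1)
    {i0 : Λ} {par : Λ → Λ} {dep : Λ → ℕ} (h : TreeCert R i0 par dep) (hp : commutator X.grp = ⊤) :
    IsSimpleGroup X.grp ∧ ¬IsMulCommutative X.grp := by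
  have : Nonempty Λ := ⟨i0⟩
  refine X.tw.isSimpleGroup adj (fun A h1 h2 => ?_) hp
  obtain ⟨i, hi, j, hj, h3⟩ := irr_of_tree h A h1 h2
  exact ⟨i, hi, j, hj, by simpa only [RG.tw, RS.w0_singleton] using h3⟩

/-! ### perfectness -/

theorem commutator_eq_top_of (X : SRG R K G) (h : ∀ i t, X.x (R.sim i) t ∈ ⁅X.grp, X.grp⁆) :
    commutator X.grp = ⊤ := by
  have hle : X.grp ≤ ⁅X.grp, X.grp⁆ := by
    refine X.grp_le_of_simple h fun i t => ?_
    obtain ⟨c, hc, hx⟩ := (X.acts_n_sim i one_ne_zero).conj_x (R.sim i)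
    have hn := X.N_le_grp (X.n_mem_N (R.sim i) one_ne_zero)
    have e : X.x (R.neg (R.sim i)) t = ⁅X.n (R.sim i) 1, X.x (R.sim i) (c⁻¹ * t)⁆ * X.x (R.sim i) (c⁻¹ * t) := by
      rw [commutatorElement_def, inv_mul_cancel_right, hx, R.s_sim, mul_inv_cancel_left₀ hc]
    rw [e]
    exact mul_mem (Subgroup.commutator_mem_commutator hn (X.x_mem_grp _ _)) (h i _)
  apply Subgroup.map_injective X.grp.subtype_injective
  rw [Subgroup.map_subtype_commutator, ← MonoidHom.range_eq_map, Subgroup.range_subtype]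
  exact le_antisymm (Subgroup.commutator_le_self _) hle

theorem x_mem_comm_of_torus (X : SRG R K G) {r s : ι} (h : R.A s r = 1 ∨ R.A s r = -1) {a : K} (h0 : a ≠ 0)
    (h1 : a ≠ 1) (t : K) : X.x r t ∈ ⁅X.grp, X.grp⁆ := by
  have hne : a ^ R.A s r - 1 ≠ 0 := by
    rcases h with h | h <;> rw [h, sub_ne_zero]
    · simpa using h1
    · simpa using h1
  have e : X.x r t = ⁅X.h s a, X.x r ((a ^ R.A s r - 1)⁻¹ * t)⁆ := by
    rw [commutatorElement_def, X.h_conj_x s r h0, X.x_inv, X.x_mul_x]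
    congr 1
    field_simp
    ring
  rw [e]
  exact Subgroup.commutator_mem_commutator (X.H_le_grp (X.h_mem_H s h0)) (X.x_mem_grp _ _)

end abstract

variable {D : ChevalleyDatum} {g : Good D} {F : Type*} [Field F]

theorem matRG_x (M : MatRG g F) (r : Fin D.nroots) (t : F) : M.X.x r t = M.Y.x r t := by
  have := congrArg (fun Z : WRG g.rs F (GL D.Idx F) => Z.x r t) M.eq
  exact this

theorem commWord_mem (M : MatRG g F) {r s : ℕ} (hr : r < D.nroots) (hs : s < D.nroots) (h1 : s ≠ r)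
    (h2 : s ≠ D.neg r) (t u : F) :
    ((D.commWord F r s t u).map fun p => M.Y.x p.1 p.2).prod ∈ ⁅M.X.grp, M.X.grp⁆ := by
  have e : ((D.commWord F r s t u).map fun p => M.Y.x p.1 p.2).prod = ⁅(M.Y.x s u)⁻¹, (M.Y.x r t)⁻¹⁆ := by
    rw [commutatorElement_def, inv_inv, inv_inv, mul_assoc, mul_assoc, M.Y.comm r s hr hs h1 h2 t u]
    group
  rw [e]
  exact Subgroup.commutator_mem_commutator (inv_mem (matRG_x M ⟨s, hs⟩ u ▸ M.X.x_mem_grp _ _))
    (inv_mem (matRG_x M ⟨r, hr⟩ t ▸ M.X.x_mem_grp _ _))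

/-- the root `k` is the only term in the commutator formula of the pair `w`, with unit coefficient -/
def One (D : ChevalleyDatum) (k : ℕ) (w : ℕ × ℕ) : Prop :=
  w.1 < D.nroots ∧ w.2 < D.nroots ∧ w.2 ≠ w.1 ∧ w.2 ≠ D.neg w.1 ∧
    (D.commTerms w.1 w.2 = [(k, 1, 1, 1)] ∨ D.commTerms w.1 w.2 = [(k, -1, 1, 1)])

instance instDecOne (D : ChevalleyDatum) (k : ℕ) (w : ℕ × ℕ) : Decidable (One D k w) := by
  unfold One; infer_instance

theorem x_mem_comm_of_one (M : MatRG g F) {k : Fin D.nroots} {w : ℕ × ℕ} (h : One D k w) (t : F) :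
    M.X.x k t ∈ ⁅M.X.grp, M.X.grp⁆ := by
  obtain ⟨hr, hs, h1, h2, h3 | h3⟩ := h
  · simpa [ChevalleyDatum.commWord, h3, matRG_x] using commWord_mem M hr hs h1 h2 (-1) t
  · simpa [ChevalleyDatum.commWord, h3, matRG_x] using commWord_mem M hr hs h1 h2 1 t

theorem x_mem_comm_of_two (M : MatRG g F) {k k' : Fin D.nroots} {r s : ℕ} (hr : r < D.nroots) (hs : s < D.nroots)
    (h1 : s ≠ r) (h2 : s ≠ D.neg r) {e e' : ℤ} (he : e = 1 ∨ e = -1)
    (h3 : D.commTerms r s = [((k' : ℕ), e', 1, 1), ((k : ℕ), e, 2, 1)])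
    (h4 : ∀ t, M.X.x k' t ∈ ⁅M.X.grp, M.X.grp⁆) (t : F) : M.X.x k t ∈ ⁅M.X.grp, M.X.grp⁆ := by
  have := commWord_mem M hr hs h1 h2 1 ((e : F) * t)
  simp only [ChevalleyDatum.commWord, h3, List.map_cons, List.map_nil, List.prod_cons, List.prod_nil, mul_one,
    ← matRG_x] at this
  have := (Subgroup.mul_mem_cancel_left _ (h4 _)).1 this
  rcases he with rfl | rfl <;> simpa using this

theorem perfect_of_one (M : MatRG g F) (wL : List (ℕ × ℕ))
    (h : ∀ i < D.rank, One D (D.simple i) (wL.getD i (0, 0))) : commutator ↥(D.group F) = ⊤ := by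
  rw [M.isMat.grp_eq]
  exact commutator_eq_top_of M.X.toSRG fun i t => x_mem_comm_of_one M (k := g.rs.sim i) (h i i.2) t

theorem asm_simple (M : MatRG g F) {i0 : Fin D.rank} {par : Fin D.rank → Fin D.rank} {dep : Fin D.rank → ℕ}
    (h : TreeCert g.rs i0 par dep) (hp : commutator ↥(D.group F) = ⊤) :
    IsSimpleGroup ↥(D.group F) ∧ ¬IsMulCommutative ↥(D.group F) := by
  rw [M.isMat.grp_eq] at hp ⊢
  exact simple_of_perfect M.X M.adj h hp

theorem asm_card_H [Fintype F] (M : MatRG g F) {m r : ℕ} {i0 : Fin r → Fin D.rank} {v : Fin r → Fin D.rank → ℤ}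
    {a : Fin D.rank → Fin D.rank → ℤ} {b : Fin r → Fin D.rank → ℤ} (h : KerCert g.rs m i0 v a b) :
    Nat.gcd m (Fintype.card F - 1) ^ r * Nat.card (D.diagonalSubgroup F) = (Fintype.card F - 1) ^ D.rank := by
  have := card_H_mul M.X M.adj
  rwa [card_zker h, Nat.card_eq_fintype_card (α := F), Fintype.card_fin, ← M.isMat.H_eq] at this

theorem asm_card [Fintype F] (M : MatRG g F) {m r : ℕ} {i0 : Fin r → Fin D.rank} {v : Fin r → Fin D.rank → ℤ}
    {a : Fin D.rank → Fin D.rank → ℤ} {b : Fin r → Fin D.rank → ℤ} (h : KerCert g.rs m i0 v a b) :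
    ((Nat.gcd m (Fintype.card F - 1) ^ r * Nat.card (D.group F) : ℕ) : ℤ) =
      (Fintype.card F : ℤ) ^ (D.nroots / 2) * (((Fintype.card F : ℤ) - 1) ^ D.rank *
        g.rs.poin g.rs.W Set.univ (Fintype.card F : ℤ)) := by
  have := card_grp_int M.X M.adj
  rw [card_zker h, Nat.card_eq_fintype_card (α := F), Fintype.card_fin, ← M.isMat.grp_eq, card_pos] at this
  rw [← this]
  push_cast
  rfl

theorem asm1039 (M : MatRG g F) (CM : CoxeterMatrix (Fin D.rank))
    (h : ∃ e : g.rs.W ≃* CM.Group, ∀ i, e ⟨g.rs.s i, g.rs.s_mem_W i⟩ = CM.simple i) :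
    ∃ φ : ↥(D.monomialSubgroup F) →* CM.Group, Function.Surjective φ ∧
      φ.ker = (D.diagonalSubgroup F).subgroupOf (D.monomialSubgroup F) ∧
      ∀ (i : Fin D.rank) (a : ↥(D.monomialSubgroup F)),
        ((a : GL D.Idx F) : Matrix D.Idx D.Idx F) = D.nMat F (D.simple i) 1 → φ a = CM.simple i := by
  obtain ⟨e, he⟩ := h
  rw [M.isMat.N_eq, M.isMat.H_eq]
  refine ⟨e.toMonoidHom.comp M.X.piN, e.surjective.comp M.X.piN_surjective, ?_, fun i a ha => ?_⟩
  · rw [← M.X.piN_ker]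
    ext a
    simp
  · rw [← he]
    have h1 : (a : GL D.Idx F) = M.X.n (g.rs.sim i) 1 := (M.isMat.eq_n (g.simple_lt i.2)).1 ha
    have h2 := M.X.piN_eq (n := a) (h1 ▸ M.X.acts_n_sim i one_ne_zero)
    simp only [MonoidHom.comp_apply, MulEquiv.coe_toMonoidHom]
    congr 1
    exact Subtype.ext h2

theorem asm1028 {η : ℕ → ℕ → ℤ} (h : Tab D η) (g : Good D) (a : GL D.Idx F) (ha : a ∈ D.posUnipotent F) :
    ((a : Matrix D.Idx D.Idx F) - 1) ^ (D.rank + D.nroots) = 0 := by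
  rw [(h.matRG g F).isMat.U_eq] at ha
  have h1 : IsNilpotent ((a : Matrix D.Idx D.Idx F) - 1) :=
    Gr.isNilpotent (h.U_le_upGrp (h.matRG g F).isMat ha).1
  have h2 := Matrix.aeval_self_charpoly ((a : Matrix D.Idx D.Idx F) - 1)
  have h3 : ((a : Matrix D.Idx D.Idx F) - 1).charpoly = Polynomial.X ^ Fintype.card D.Idx := by
    rw [← sub_eq_zero]
    exact (Matrix.isNilpotent_charpoly_sub_pow_of_isNilpotent h1).eq_zero
  rw [h3] at h2
  simpa [ChevalleyDatum.Idx] using h2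

end H19
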