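import Mathlib
import Cfsg.Agent.H19.Tab
import Cfsg.Agent.H19.FastE7

/-! Kernel checks of the table facts for type E7 (generated). -/

set_option autoImplicit false

namespace H19
open Cfsg Cfsg.Lie

theorem c1E7 : fastE7.toRec.chk1 = true := by decide +kernel
theorem cSE7 : fastE7.toRec.chkS = true := by decide +kernel
theorem cWE7 : fastE7.toRec.chkW fastE7.w fastE7.eta = true := by decide +kernel
theorem cIndE7 : fastE7.toRec.chkInd fastE7.w = true := by decide +kernel
theorem cNE7 : fastE7.toRec.chkN fastE7.w fastE7.eta = true := by decide +kernel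
theorem cAddE7 : fastE7.toRec.chkAdd = true := by decide +kernel
theorem cCommE7 : fastE7.toRec.chkComm = true := by decide +kernel
theorem c2E7_0 : allB 63 (fun k => fastE7.toRec.chk2 (Nat.add 0 k)) = true := by decide +kernel
theorem c2E7_1 : allB 63 (fun k => fastE7.toRec.chk2 (Nat.add 63 k)) = true := by decide +kernel
theorem cCompatE7_0 : fastE7.toRec.chkCompat fastE7.w fastE7.eta 0 = true := by decide +kernel
theorem cCompatE7_1 : fastE7.toRec.chkCompat fastE7.w fastE7.eta 1 = true := by decide +kernel
theorem cCompatE7_2 : fastE7.toRec.chkCompat fastE7.w fastE7.eta 2 = true := by decide +kernel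
theorem cCompatE7_3 : fastE7.toRec.chkCompat fastE7.w fastE7.eta 3 = true := by decide +kernel
theorem cCompatE7_4 : fastE7.toRec.chkCompat fastE7.w fastE7.eta 4 = true := by decide +kernel
theorem cCompatE7_5 : fastE7.toRec.chkCompat fastE7.w fastE7.eta 5 = true := by decide +kernel
theorem cCompatE7_6 : fastE7.toRec.chkCompat fastE7.w fastE7.eta 6 = true := by decide +kernel

theorem c2E7 : ∀ r < fastE7.toRec.n, fastE7.toRec.chk2 r = true := by
  intro r hr
  have hr' : r < 126 := hr
  by_cases h0 : r < 63
  · have := allB_iff.1 c2E7_0 (r - 0) (by omega)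
    rwa [Nat.add_eq, show 0 + (r - 0) = r by omega] at this
  have := allB_iff.1 c2E7_1 (r - 63) (by omega)
  rwa [Nat.add_eq, show 63 + (r - 63) = r by omega] at this

theorem cCompatE7 : ∀ i < fastE7.toRec.l, fastE7.toRec.chkCompat fastE7.w fastE7.eta i = true := by
  intro i hi
  have hi' : i < 7 := hi
  interval_cases i
  · exact cCompatE7_0
  · exact cCompatE7_1
  · exact cCompatE7_2
  · exact cCompatE7_3
  · exact cCompatE7_4
  · exact cCompatE7_5
  · exact cCompatE7_6

theorem tabE7 : Tab chevE7 fastE7.eta :=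
  Tab.of_chk agreeE7 ⟨c1E7, cSE7, c2E7, cWE7, cIndE7, cCompatE7, cNE7, cAddE7, cCommE7⟩

end H19
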