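import Mathlib
import Cfsg.Agent.H19.Asm2
import Cfsg.Agent.H19.TabE7
import Cfsg.Agent.H20.GoodE7

/-! Certificates for type E7: fundamental group, connectedness, perfectness. -/

set_option autoImplicit false
set_option maxRecDepth 100000

namespace H19
open Cfsg Cfsg.Lie H20

/-- the root group package of type E7 -/
noncomputable def matE7 (F : Type*) [Field F] : MatRG goodE7 F := tabE7.matRG goodE7 F

theorem kerE7 : KerCert goodE7.rs 2 (r := 1) (fun k => ⟨([1] : List ℕ).getD k 0 % 7, Nat.mod_lt _ (by decide)⟩)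
    (fun k i => (([[0, 1, 0, 0, 1, 0, 1]] : List (List ℤ)).getD k []).getD i 0)
    (fun i j => (([[2, 2, 3, 4, 3, 2, 1], [0, 0, 0, 0, 0, 0, 0], [3, 4, 6, 8, 6, 4, 2], [4, 6, 8, 12, 9, 6, 3], [1, 1, 2, 3, 3, 2, 1], [2, 3, 4, 6, 5, 4, 2], [-1, -2, -2, -3, -2, -1, 0]] : List (List ℤ)).getD i []).getD j 0)
    (fun k i => (([[4, 7, 8, 12, 9, 6, 3]] : List (List ℤ)).getD k []).getD i 0) := by
  decide +kernel

theorem treeE7 : TreeCert goodE7.rs ⟨0, by decide⟩
    (fun i => ⟨([0, 3, 0, 2, 3, 4, 5] : List ℕ).getD i 0 % 7, Nat.mod_lt _ (by decide)⟩)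
    (fun i => ([0, 3, 1, 2, 3, 4, 5] : List ℕ).getD i 0) := by
  decide +kernel

theorem perfectE7 (F : Type*) [Field F] : commutator ↥(chevE7.group F) = ⊤ :=
  perfect_of_one (matE7 F) [(1, 125), (7, 122), (2, 124), (3, 123), (4, 122), (5, 121), (6, 120)] (by decide +kernel)

end H19
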