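import Mathlib
import Cfsg.Agent.H19.Tab
import Cfsg.Agent.H19.FastE8

/-! Kernel checks of the table facts for type E8 (generated), part a. -/

set_option autoImplicit false

namespace H19
open Cfsg Cfsg.Lie

theorem c1E8 : fastE8.toRec.chk1 = true := by decide +kernel
theorem cSE8 : fastE8.toRec.chkS = true := by decide +kernel
theorem cWE8 : fastE8.toRec.chkW fastE8.w fastE8.eta = true := by decide +kernel
theorem cIndE8 : fastE8.toRec.chkInd fastE8.w = true := by decide +kernel
theorem cNE8 : fastE8.toRec.chkN fastE8.w fastE8.eta = true := by decide +kernel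
theorem cAddE8 : fastE8.toRec.chkAdd = true := by decide +kernel
theorem cCommE8 : fastE8.toRec.chkComm = true := by decide +kernel
theorem cCompatE8_0 : fastE8.toRec.chkCompat fastE8.w fastE8.eta 0 = true := by decide +kernel

end H19
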