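import Mathlib
import Cfsg.Agent.H19.Tab
import Cfsg.Agent.H19.FastE8

/-! Kernel checks of the table facts for type E8 (generated), part b. -/

set_option autoImplicit false

namespace H19
open Cfsg Cfsg.Lie

theorem c2E8_0 : allB 30 (fun k => fastE8.toRec.chk2 (Nat.add 0 k)) = true := by decide +kernel
theorem c2E8_1 : allB 30 (fun k => fastE8.toRec.chk2 (Nat.add 30 k)) = true := by decide +kernel
theorem c2E8_2 : allB 30 (fun k => fastE8.toRec.chk2 (Nat.add 60 k)) = true := by decide +kernel
theorem c2E8_3 : allB 30 (fun k => fastE8.toRec.chk2 (Nat.add 90 k)) = true := by decide +kernel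
theorem c2E8_4 : allB 30 (fun k => fastE8.toRec.chk2 (Nat.add 120 k)) = true := by decide +kernel
theorem c2E8_5 : allB 30 (fun k => fastE8.toRec.chk2 (Nat.add 150 k)) = true := by decide +kernel
theorem c2E8_6 : allB 30 (fun k => fastE8.toRec.chk2 (Nat.add 180 k)) = true := by decide +kernel
theorem c2E8_7 : allB 30 (fun k => fastE8.toRec.chk2 (Nat.add 210 k)) = true := by decide +kernel
theorem cCompatE8_1 : fastE8.toRec.chkCompat fastE8.w fastE8.eta 1 = true := by decide +kernel

end H19
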