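import Mathlib
import Cfsg.Agent.H19.Tab
import Cfsg.Agent.H19.FastE8

/-! Kernel checks of the table facts for type E8 (generated), part d. -/

set_option autoImplicit false

namespace H19
open Cfsg Cfsg.Lie

theorem cCompatE8_5 : fastE8.toRec.chkCompat fastE8.w fastE8.eta 5 = true := by decide +kernel
theorem cCompatE8_6 : fastE8.toRec.chkCompat fastE8.w fastE8.eta 6 = true := by decide +kernel
theorem cCompatE8_7 : fastE8.toRec.chkCompat fastE8.w fastE8.eta 7 = true := by decide +kernel

end H19
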