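import Mathlib
import Cfsg.Agent.H19.Tab
import Cfsg.Agent.H19.TabE8a
import Cfsg.Agent.H19.TabE8b
import Cfsg.Agent.H19.TabE8c
import Cfsg.Agent.H19.TabE8d

/-! Kernel checks of the table facts for type E8 (generated). -/

set_option autoImplicit false

namespace H19
open Cfsg Cfsg.Lie


theorem c2E8 : ∀ r < fastE8.toRec.n, fastE8.toRec.chk2 r = true := by
  intro r hr
  have hr' : r < 240 := hr
  by_cases h0 : r < 30
  · have := allB_iff.1 c2E8_0 (r - 0) (by omega)
    rwa [Nat.add_eq, show 0 + (r - 0) = r by omega] at this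
  by_cases h1 : r < 60
  · have := allB_iff.1 c2E8_1 (r - 30) (by omega)
    rwa [Nat.add_eq, show 30 + (r - 30) = r by omega] at this
  by_cases h2 : r < 90
  · have := allB_iff.1 c2E8_2 (r - 60) (by omega)
    rwa [Nat.add_eq, show 60 + (r - 60) = r by omega] at this
  by_cases h3 : r < 120
  · have := allB_iff.1 c2E8_3 (r - 90) (by omega)
    rwa [Nat.add_eq, show 90 + (r - 90) = r by omega] at this
  by_cases h4 : r < 150
  · have := allB_iff.1 c2E8_4 (r - 120) (by omega)
    rwa [Nat.add_eq, show 120 + (r - 120) = r by omega] at this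
  by_cases h5 : r < 180
  · have := allB_iff.1 c2E8_5 (r - 150) (by omega)
    rwa [Nat.add_eq, show 150 + (r - 150) = r by omega] at this
  by_cases h6 : r < 210
  · have := allB_iff.1 c2E8_6 (r - 180) (by omega)
    rwa [Nat.add_eq, show 180 + (r - 180) = r by omega] at this
  have := allB_iff.1 c2E8_7 (r - 210) (by omega)
  rwa [Nat.add_eq, show 210 + (r - 210) = r by omega] at this

theorem cCompatE8 : ∀ i < fastE8.toRec.l, fastE8.toRec.chkCompat fastE8.w fastE8.eta i = true := by
  intro i hi
  have hi' : i < 8 := hi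
  interval_cases i
  · exact cCompatE8_0
  · exact cCompatE8_1
  · exact cCompatE8_2
  · exact cCompatE8_3
  · exact cCompatE8_4
  · exact cCompatE8_5
  · exact cCompatE8_6
  · exact cCompatE8_7

theorem tabE8 : Tab chevE8 fastE8.eta :=
  Tab.of_chk agreeE8 ⟨c1E8, cSE8, c2E8, cWE8, cIndE8, cCompatE8, cNE8, cAddE8, cCommE8⟩

end H19
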