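import Mathlib
import Cfsg.Agent.H19.Asm2
import Cfsg.Agent.H19.TabE8
import Cfsg.Agent.H20.GoodE8

/-! Certificates for type E8: fundamental group, connectedness, perfectness. -/

set_option autoImplicit false
set_option maxRecDepth 100000

namespace H19
open Cfsg Cfsg.Lie H20

/-- the root group package of type E8 -/
noncomputable def matE8 (F : Type*) [Field F] : MatRG goodE8 F := tabE8.matRG goodE8 F

theorem kerE8 : KerCert goodE8.rs 1 (r := 0) (fun k => ⟨([] : List ℕ).getD k 0 % 8, Nat.mod_lt _ (by decide)⟩)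
    (fun k i => (([] : List (List ℤ)).getD k []).getD i 0)
    (fun i j => (([[4, 5, 7, 10, 8, 6, 4, 2], [5, 8, 10, 15, 12, 9, 6, 3], [7, 10, 14, 20, 16, 12, 8, 4], [10, 15, 20, 30, 24, 18, 12, 6], [8, 12, 16, 24, 20, 15, 10, 5], [6, 9, 12, 18, 15, 12, 8, 4], [4, 6, 8, 12, 10, 8, 6, 3], [2, 3, 4, 6, 5, 4, 3, 2]] : List (List ℤ)).getD i []).getD j 0)
    (fun k i => (([] : List (List ℤ)).getD k []).getD i 0) := by
  decide +kernel

theorem treeE8 : TreeCert goodE8.rs ⟨0, by decide⟩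
    (fun i => ⟨([0, 3, 0, 2, 3, 4, 5, 6] : List ℕ).getD i 0 % 8, Nat.mod_lt _ (by decide)⟩)
    (fun i => ([0, 3, 1, 2, 3, 4, 5, 6] : List ℕ).getD i 0) := by
  decide +kernel

theorem perfectE8 (F : Type*) [Field F] : commutator ↥(chevE8.group F) = ⊤ :=
  perfect_of_one (matE8 F) [(14, 233), (7, 234), (6, 234), (5, 235), (4, 236), (3, 237), (2, 238), (1, 239)] (by decide +kernel)

end H19
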