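import Mathlib
import Cfsg.Prelude.Def_ChevG2
import Cfsg.Agent.H19.Fast

/-! Packed tables for the datum of type G2 (generated). -/

set_option autoImplicit false

namespace H19
open Cfsg Cfsg.Lie

def chTG2 : ℕ := 0x30a00000000000000030900000050800000050600000000000000000000000000000000000000000000000000000000000030b00000000000000030900000000000000050700000000000000050500000000000000000000000000000000010b00000010a00000000000000000000010b60800070a20700000000030b50850450a30750300000000000000000000000070b00000000000070b60900000000030b30930700000070600000000000010620400000000050650430200000000000000000000000070a00010a20900000000050a50930800000000000000000000000070500070560330530330200000000000000000000000050b00000000000000000000000050800000000000000000000000000000000030400000000000000000000000030100000050a000000000000000000000000507000000000000000000000000000000000303000000000000000000000000300000000000000000000506308509000706208000000106000000000000000000301502503000000000000101602000000101000000000000000000305507509000000000000105607000000000000000105500302504000000000000700202000000000000000100000000000000000000301304308500503307000000000000701604000100203000000000000000000000000701000000700000000000000000000000000000000000306000000000000000304000000000000000502000000000000000500000000000000000000000000000000000000000000000000000000000000305000000303000000502000000000000000501000000000000000000000000000000000000000000000000000000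

def fastG2 : Fast where
  n := 12
  l := 2
  cw := 36
  chT := chTG2
  carT := 0x97897a6978978b97a5b69758
  corT := 0xa9bb8978557699a998877677
  coT := 0xa99989787776bba998877655
  simT := 0x607
  wT := 0xa0b090708050603040200010b060809040a010702030500
  etaT := 0x969696

theorem agreeG2 : Agree chevG2 fastG2 := by decide +kernel

end H19
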