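import Mathlib
import Cfsg.Agent.H19.Tab
import Cfsg.Agent.H19.FastG2

/-! Kernel checks of the table facts for type G2 (generated). -/

set_option autoImplicit false

namespace H19
open Cfsg Cfsg.Lie

theorem c1G2 : fastG2.toRec.chk1 = true := by decide +kernel
theorem cSG2 : fastG2.toRec.chkS = true := by decide +kernel
theorem cWG2 : fastG2.toRec.chkW fastG2.w fastG2.eta = true := by decide +kernel
theorem cIndG2 : fastG2.toRec.chkInd fastG2.w = true := by decide +kernel
theorem cNG2 : fastG2.toRec.chkN fastG2.w fastG2.eta = true := by decide +kernel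
theorem cAddG2 : fastG2.toRec.chkAdd = true := by decide +kernel
theorem cCommG2 : fastG2.toRec.chkComm = true := by decide +kernel
theorem c2G2_0 : allB 12 (fun k => fastG2.toRec.chk2 (Nat.add 0 k)) = true := by decide +kernel
theorem cCompatG2_0 : fastG2.toRec.chkCompat fastG2.w fastG2.eta 0 = true := by decide +kernel
theorem cCompatG2_1 : fastG2.toRec.chkCompat fastG2.w fastG2.eta 1 = true := by decide +kernel

theorem c2G2 : ∀ r < fastG2.toRec.n, fastG2.toRec.chk2 r = true := by
  intro r hr
  have hr' : r < 12 := hr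
  have := allB_iff.1 c2G2_0 (r - 0) (by omega)
  rwa [Nat.add_eq, show 0 + (r - 0) = r by omega] at this

theorem cCompatG2 : ∀ i < fastG2.toRec.l, fastG2.toRec.chkCompat fastG2.w fastG2.eta i = true := by
  intro i hi
  have hi' : i < 2 := hi
  interval_cases i
  · exact cCompatG2_0
  · exact cCompatG2_1

theorem tabG2 : Tab chevG2 fastG2.eta :=
  Tab.of_chk agreeG2 ⟨c1G2, cSG2, c2G2, cWG2, cIndG2, cCompatG2, cNG2, cAddG2, cCommG2⟩

end H19
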