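import Mathlib
import Cfsg.Prelude.Def_ChevD4
import Cfsg.Agent.H19.Fast

/-! Packed tables for the datum of type D4 (generated). -/

set_option autoImplicit false

namespace H19
open Cfsg Cfsg.Lie

def chTD4 : ℕ := 0x31651551431300051131030f50e00000000000000000000000000000031700000031531400000000031251100050d50c00050900000000000000000000000051700000031600031300000031200051050d00000050b30800000000000000000000051700000031600031300000031200000050f50c00000050a30700000000000000000031700000000031531400000031200000000050e00050b50a00050600000000000000000031631531431300000000000000000000000000050950850750600000000000000051751600000000000000000031030f00050d50c00000000000000030530400000000031700051500000000000000031100030e50d00000050b00000000030500050300000031700000051400000000000031100030e00050c00000050a00000030500000050200051700000000051300000000000031030f00000000050b50a00000030500000000030100000000051651500000000051151000000000000000000030930800000000030430300000000051600051400000051100050f00000000000000030900030700000030400030200000051500051300000051000050e00000000000000030800030600000030300030100000000051451300000000050f50e00000000000000000030730600000000030230100000000051600000000051200000030d30c00000000050850700000000000030400000000030000031500000051200000030d00000030b00050900050600000000000030300000050000000031400051200000000030c00000030a50900050600000000000000030200050000000000051351200000000000000030b30a00050850700000000000000000030130000000000000000031131030f30e00000000000000000000000000050450350250100000000000000000031100030d30c00030900000000050500000050350200000000050000000000000000000051030d00000030b30800000050500000050400050100000030000000000000000000000050f30c00000030a30700050500000050400050100000030000000000000000000000000030e00030b30a000306505000000000503502000000500000000000000000000000000000000309508507306000504303302501000000000000000000000000000000000000000000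

def fastD4 : Fast where
  n := 24
  l := 4
  cw := 12
  chT := chTD4
  carT := 0x89797897978a6897978979788997789977a8869977899778978897899a7799677897889789999a777788889999677778
  corT := 0x998988989889788787887877999888998898878877888777a99998999988887777877776999999888888888888777777
  coT := 0x998988989889788787887877999888998898878877888777a99998999988887777877776999999888888888888777777
  simT := 0xc0d0e12
  wT := 0x17151613141210110e0f0d0b0c0a080906070503040102001714131615120f0e11100a0c0b0d07060908050201040300161715141213110d0c09100f08070e0b0a060405030200011711100f0e05161514130d0c0b0a04030201120908070600
  etaT := 0x52994a6324c6887e1107c3e0

theorem agreeD4 : Agree chevD4 fastD4 := by decide +kernel

end H19
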