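import Mathlib
import Cfsg.Agent.H19.Tab
import Cfsg.Agent.H19.FastD4

/-! Kernel checks of the table facts for type D4 (generated). -/

set_option autoImplicit false

namespace H19
open Cfsg Cfsg.Lie

theorem c1D4 : fastD4.toRec.chk1 = true := by decide +kernel
theorem cSD4 : fastD4.toRec.chkS = true := by decide +kernel
theorem cWD4 : fastD4.toRec.chkW fastD4.w fastD4.eta = true := by decide +kernel
theorem cIndD4 : fastD4.toRec.chkInd fastD4.w = true := by decide +kernel
theorem cND4 : fastD4.toRec.chkN fastD4.w fastD4.eta = true := by decide +kernel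
theorem cAddD4 : fastD4.toRec.chkAdd = true := by decide +kernel
theorem cCommD4 : fastD4.toRec.chkComm = true := by decide +kernel
theorem c2D4_0 : allB 24 (fun k => fastD4.toRec.chk2 (Nat.add 0 k)) = true := by decide +kernel
theorem cCompatD4_0 : fastD4.toRec.chkCompat fastD4.w fastD4.eta 0 = true := by decide +kernel
theorem cCompatD4_1 : fastD4.toRec.chkCompat fastD4.w fastD4.eta 1 = true := by decide +kernel
theorem cCompatD4_2 : fastD4.toRec.chkCompat fastD4.w fastD4.eta 2 = true := by decide +kernel
theorem cCompatD4_3 : fastD4.toRec.chkCompat fastD4.w fastD4.eta 3 = true := by decide +kernel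

theorem c2D4 : ∀ r < fastD4.toRec.n, fastD4.toRec.chk2 r = true := by
  intro r hr
  have hr' : r < 24 := hr
  have := allB_iff.1 c2D4_0 (r - 0) (by omega)
  rwa [Nat.add_eq, show 0 + (r - 0) = r by omega] at this

theorem cCompatD4 : ∀ i < fastD4.toRec.l, fastD4.toRec.chkCompat fastD4.w fastD4.eta i = true := by
  intro i hi
  have hi' : i < 4 := hi
  interval_cases i
  · exact cCompatD4_0
  · exact cCompatD4_1
  · exact cCompatD4_2
  · exact cCompatD4_3

theorem tabD4 : Tab chevD4 fastD4.eta :=
  Tab.of_chk agreeD4 ⟨c1D4, cSD4, c2D4, cWD4, cIndD4, cCompatD4, cND4, cAddD4, cCommD4⟩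

end H19
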