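import Mathlib
import Cfsg.Agent.H19.Asm2
import Cfsg.Agent.H19.TabD4
import Cfsg.Agent.H20.GoodD4

/-! Certificates for type D4: fundamental group, connectedness, perfectness. -/

set_option autoImplicit false
set_option maxRecDepth 100000

namespace H19
open Cfsg Cfsg.Lie H20

/-- the root group package of type D4 -/
noncomputable def matD4 (F : Type*) [Field F] : MatRG goodD4 F := tabD4.matRG goodD4 F

theorem kerD4 : KerCert goodD4.rs 2 (r := 2) (fun k => ⟨([0, 2] : List ℕ).getD k 0 % 4, Nat.mod_lt _ (by decide)⟩)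
    (fun k i => (([[1, 0, 0, 1], [0, 0, 1, 1]] : List (List ℤ)).getD k []).getD i 0)
    (fun i j => (([[0, 0, 0, 0], [1, 2, 1, 1], [0, 0, 0, 0], [-1, -1, -1, 0]] : List (List ℤ)).getD i []).getD j 0)
    (fun k i => (([[2, 2, 1, 1], [1, 2, 2, 1]] : List (List ℤ)).getD k []).getD i 0) := by
  decide +kernel

theorem treeD4 : TreeCert goodD4.rs ⟨0, by decide⟩
    (fun i => ⟨([0, 0, 1, 1] : List ℕ).getD i 0 % 4, Nat.mod_lt _ (by decide)⟩)
    (fun i => ([0, 1, 2, 2] : List ℕ).getD i 0) := by
  decide +kernel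

theorem perfectD4 (F : Type*) [Field F] : commutator ↥(chevD4.group F) = ⊤ :=
  perfect_of_one (matD4 F) [(6, 22), (1, 23), (3, 22), (2, 22)] (by decide +kernel)

end H19
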