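import Mathlib
import Cfsg.Agent.H19.Tab
import Cfsg.Agent.H19.FastE6

/-! Kernel checks of the table facts for type E6 (generated). -/

set_option autoImplicit false

namespace H19
open Cfsg Cfsg.Lie

theorem c1E6 : fastE6.toRec.chk1 = true := by decide +kernel
theorem cSE6 : fastE6.toRec.chkS = true := by decide +kernel
theorem cWE6 : fastE6.toRec.chkW fastE6.w fastE6.eta = true := by decide +kernel
theorem cIndE6 : fastE6.toRec.chkInd fastE6.w = true := by decide +kernel
theorem cNE6 : fastE6.toRec.chkN fastE6.w fastE6.eta = true := by decide +kernel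
theorem cAddE6 : fastE6.toRec.chkAdd = true := by decide +kernel
theorem cCommE6 : fastE6.toRec.chkComm = true := by decide +kernel
theorem c2E6_0 : allB 72 (fun k => fastE6.toRec.chk2 (Nat.add 0 k)) = true := by decide +kernel
theorem cCompatE6_0 : fastE6.toRec.chkCompat fastE6.w fastE6.eta 0 = true := by decide +kernel
theorem cCompatE6_1 : fastE6.toRec.chkCompat fastE6.w fastE6.eta 1 = true := by decide +kernel
theorem cCompatE6_2 : fastE6.toRec.chkCompat fastE6.w fastE6.eta 2 = true := by decide +kernel
theorem cCompatE6_3 : fastE6.toRec.chkCompat fastE6.w fastE6.eta 3 = true := by decide +kernel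
theorem cCompatE6_4 : fastE6.toRec.chkCompat fastE6.w fastE6.eta 4 = true := by decide +kernel
theorem cCompatE6_5 : fastE6.toRec.chkCompat fastE6.w fastE6.eta 5 = true := by decide +kernel

theorem c2E6 : ∀ r < fastE6.toRec.n, fastE6.toRec.chk2 r = true := by
  intro r hr
  have hr' : r < 72 := hr
  have := allB_iff.1 c2E6_0 (r - 0) (by omega)
  rwa [Nat.add_eq, show 0 + (r - 0) = r by omega] at this

theorem cCompatE6 : ∀ i < fastE6.toRec.l, fastE6.toRec.chkCompat fastE6.w fastE6.eta i = true := by
  intro i hi
  have hi' : i < 6 := hi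
  interval_cases i
  · exact cCompatE6_0
  · exact cCompatE6_1
  · exact cCompatE6_2
  · exact cCompatE6_3
  · exact cCompatE6_4
  · exact cCompatE6_5

theorem tabE6 : Tab chevE6 fastE6.eta :=
  Tab.of_chk agreeE6 ⟨c1E6, cSE6, c2E6, cWE6, cIndE6, cCompatE6, cNE6, cAddE6, cCommE6⟩

end H19
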