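import Mathlib
import Cfsg.Agent.H19.Asm2
import Cfsg.Agent.H19.TabE6
import Cfsg.Agent.H20.GoodE6

/-! Certificates for type E6: fundamental group, connectedness, perfectness. -/

set_option autoImplicit false
set_option maxRecDepth 100000

namespace H19
open Cfsg Cfsg.Lie H20

/-- the root group package of type E6 -/
noncomputable def matE6 (F : Type*) [Field F] : MatRG goodE6 F := tabE6.matRG goodE6 F

theorem kerE6 : KerCert goodE6.rs 3 (r := 1) (fun k => ⟨([0] : List ℕ).getD k 0 % 6, Nat.mod_lt _ (by decide)⟩)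
    (fun k i => (([[1, 0, 2, 0, 1, 2]] : List (List ℤ)).getD k []).getD i 0)
    (fun i j => (([[0, 0, 0, 0, 0, 0], [1, 2, 2, 3, 2, 1], [-1, 0, 0, 0, 0, 0], [2, 3, 4, 6, 4, 2], [0, 1, 1, 2, 2, 1], [-2, -1, -2, -2, -1, 0]] : List (List ℤ)).getD i []).getD j 0)
    (fun k i => (([[4, 3, 5, 6, 4, 2]] : List (List ℤ)).getD k []).getD i 0) := by
  decide +kernel

theorem treeE6 : TreeCert goodE6.rs ⟨0, by decide⟩
    (fun i => ⟨([0, 3, 0, 2, 3, 4] : List ℕ).getD i 0 % 6, Nat.mod_lt _ (by decide)⟩)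
    (fun i => ([0, 3, 1, 2, 3, 4] : List ℕ).getD i 0) := by
  decide +kernel

theorem perfectE6 (F : Type*) [Field F] : commutator ↥(chevE6.group F) = ⊤ :=
  perfect_of_one (matE6 F) [(16, 66), (1, 71), (5, 69), (2, 70), (3, 69), (4, 68)] (by decide +kernel)

end H19
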