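import Mathlib
import Cfsg.Agent.H19.Tab
import Cfsg.Agent.H19.FastF4

/-! Kernel checks of the table facts for type F4 (generated). -/

set_option autoImplicit false

namespace H19
open Cfsg Cfsg.Lie

theorem c1F4 : fastF4.toRec.chk1 = true := by decide +kernel
theorem cSF4 : fastF4.toRec.chkS = true := by decide +kernel
theorem cWF4 : fastF4.toRec.chkW fastF4.w fastF4.eta = true := by decide +kernel
theorem cIndF4 : fastF4.toRec.chkInd fastF4.w = true := by decide +kernel
theorem cNF4 : fastF4.toRec.chkN fastF4.w fastF4.eta = true := by decide +kernel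
theorem cAddF4 : fastF4.toRec.chkAdd = true := by decide +kernel
theorem cCommF4 : fastF4.toRec.chkComm = true := by decide +kernel
theorem c2F4_0 : allB 48 (fun k => fastF4.toRec.chk2 (Nat.add 0 k)) = true := by decide +kernel
theorem cCompatF4_0 : fastF4.toRec.chkCompat fastF4.w fastF4.eta 0 = true := by decide +kernel
theorem cCompatF4_1 : fastF4.toRec.chkCompat fastF4.w fastF4.eta 1 = true := by decide +kernel
theorem cCompatF4_2 : fastF4.toRec.chkCompat fastF4.w fastF4.eta 2 = true := by decide +kernel
theorem cCompatF4_3 : fastF4.toRec.chkCompat fastF4.w fastF4.eta 3 = true := by decide +kernel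

theorem c2F4 : ∀ r < fastF4.toRec.n, fastF4.toRec.chk2 r = true := by
  intro r hr
  have hr' : r < 48 := hr
  have := allB_iff.1 c2F4_0 (r - 0) (by omega)
  rwa [Nat.add_eq, show 0 + (r - 0) = r by omega] at this

theorem cCompatF4 : ∀ i < fastF4.toRec.l, fastF4.toRec.chkCompat fastF4.w fastF4.eta i = true := by
  intro i hi
  have hi' : i < 4 := hi
  interval_cases i
  · exact cCompatF4_0
  · exact cCompatF4_1
  · exact cCompatF4_2
  · exact cCompatF4_3

theorem tabF4 : Tab chevF4 fastF4.eta :=
  Tab.of_chk agreeF4 ⟨c1F4, cSF4, c2F4, cWF4, cIndF4, cCompatF4, cNF4, cAddF4, cCommF4⟩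

end H19
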