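import Mathlib
import Cfsg.Agent.H19.Asm2
import Cfsg.Agent.H19.TabF4
import Cfsg.Agent.H20.GoodF4

/-! Certificates for type F4: fundamental group, connectedness, perfectness. -/

set_option autoImplicit false
set_option maxRecDepth 100000

namespace H19
open Cfsg Cfsg.Lie H20

/-- the root group package of type F4 -/
noncomputable def matF4 (F : Type*) [Field F] : MatRG goodF4 F := tabF4.matRG goodF4 F

theorem kerF4 : KerCert goodF4.rs 1 (r := 0) (fun k => ⟨([] : List ℕ).getD k 0 % 4, Nat.mod_lt _ (by decide)⟩)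
    (fun k i => (([] : List (List ℤ)).getD k []).getD i 0)
    (fun i j => (([[2, 3, 2, 1], [3, 6, 4, 2], [4, 8, 6, 3], [2, 4, 3, 2]] : List (List ℤ)).getD i []).getD j 0)
    (fun k i => (([] : List (List ℤ)).getD k []).getD i 0) := by
  decide +kernel

theorem treeF4 : TreeCert goodF4.rs ⟨0, by decide⟩
    (fun i => ⟨([0, 0, 1, 2] : List ℕ).getD i 0 % 4, Nat.mod_lt _ (by decide)⟩)
    (fun i => ([0, 1, 2, 3] : List ℕ).getD i 0) := by
  decide +kernel

theorem perfectF4 (F : Type*) [Field F] : commutator ↥(chevF4.group F) = ⊤ :=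
  perfect_of_one (matF4 F) [(7, 44), (8, 40), (2, 46), (1, 47)] (by decide +kernel)

end H19
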