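import Mathlib
import Cfsg.Agent.H29.Ext

/-!
# Matrices over a prime field packed in natural numbers

A matrix is stored row by row with `b` bits for each entry; the product is computed with one
multiplication of big numbers for each value of the inner index.
-/

set_option autoImplicit false

namespace H19
open H29 Finset

/-- Field number `t` of `c`, with `b` bits for each field. -/
def ent (b c t : ℕ) : ℕ := (c >>> (b * t)) % 2 ^ b

theorem ent_lt (b c t : ℕ) : ent b c t < 2 ^ b := Nat.mod_lt _ (Nat.two_pow_pos b)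

theorem testBit_ent (b c t i : ℕ) :
    (ent b c t).testBit i = (decide (i < b) && c.testBit (b * t + i)) := by
  rw [ent, Nat.testBit_mod_two_pow, Nat.testBit_shiftRight]

theorem ent_land (b x y t : ℕ) : ent b (x &&& y) t = ent b x t &&& ent b y t := by
  apply Nat.eq_of_testBit_eq
  intro i
  simp only [testBit_ent, Nat.testBit_and]
  cases decide (i < b) <;> simp

theorem ent_shr (b x j t : ℕ) : ent b (x >>> (b * j)) t = ent b x (j + t) := by
  rw [ent, ent, ← Nat.shiftRight_add, mul_add]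

/-- The number with the fields `f 0, …, f (k - 1)`. -/
def pack (b k : ℕ) (f : ℕ → ℕ) : ℕ := ∑ t ∈ range k, f t * 2 ^ (b * t)

theorem pack_succ (b k : ℕ) (f : ℕ → ℕ) :
    pack b (k + 1) f = f 0 + 2 ^ b * pack b k (fun t => f (t + 1)) := by
  rw [pack, sum_range_succ', pack, mul_sum, add_comm]
  simp only [mul_zero, pow_zero, mul_one, add_right_inj]
  exact sum_congr rfl fun t _ => by ring

theorem pack_congr {b k : ℕ} {f g : ℕ → ℕ} (h : ∀ t < k, f t = g t) : pack b k f = pack b k g :=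
  sum_congr rfl fun t ht => by rw [h t (mem_range.1 ht)]

theorem ent_zero (b c : ℕ) : ent b c 0 = c % 2 ^ b := by simp [ent]

theorem ent_succ (b c t : ℕ) : ent b c (t + 1) = ent b (c / 2 ^ b) t := by
  rw [add_comm, ← ent_shr, mul_one, Nat.shiftRight_eq_div_pow]

theorem ent_pack {b : ℕ} : ∀ {k : ℕ} {f : ℕ → ℕ}, (∀ t < k, f t < 2 ^ b) → ∀ t,
    ent b (pack b k f) t = if t < k then f t else 0
  | 0, f, _, t => by simp [pack, ent]
  | k + 1, f, h, 0 => by
    rw [pack_succ, ent_zero, Nat.add_mul_mod_self_left, Nat.mod_eq_of_lt (h 0 (by omega))]; simp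
  | k + 1, f, h, t + 1 => by
    rw [pack_succ, ent_succ, Nat.add_mul_div_left _ _ (Nat.two_pow_pos b),
      Nat.div_eq_of_lt (h 0 (by omega)), zero_add,
      ent_pack (f := fun t => f (t + 1)) (fun t ht => h _ (by omega))]
    simp

theorem pack_lt {b : ℕ} : ∀ {k : ℕ} {f : ℕ → ℕ}, (∀ t < k, f t < 2 ^ b) → pack b k f < 2 ^ (b * k)
  | 0, f, _ => by simp [pack]
  | k + 1, f, h => by
    have h1 := pack_lt (f := fun t => f (t + 1)) (k := k) fun t ht => h _ (by omega)
    have h2 := h 0 (by omega)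
    rw [pack_succ, mul_add, mul_one, pow_add, mul_comm (2 ^ (b * k))]
    nlinarith

theorem pack_ent {b : ℕ} : ∀ {k c : ℕ}, c < 2 ^ (b * k) → pack b k (ent b c) = c
  | 0, c, h => by simp at h; simp [pack, h]
  | k + 1, c, h => by
    rw [pack_succ, ent_zero]
    simp only [ent_succ]
    rw [pack_ent, Nat.mod_add_div]
    rw [Nat.div_lt_iff_lt_mul (Nat.two_pow_pos b), ← pow_add]
    rwa [mul_add, mul_one] at h

theorem pack_add (b k : ℕ) (f g : ℕ → ℕ) :
    pack b k f + pack b k g = pack b k fun t => f t + g t := by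
  simp [pack, add_mul, sum_add_distrib]

theorem pack_mul (b k : ℕ) (f : ℕ → ℕ) (m : ℕ) : pack b k f * m = pack b k fun t => f t * m := by
  simp only [pack, sum_mul]
  exact sum_congr rfl fun t _ => by ring

theorem pack_add_len (b k n : ℕ) (f : ℕ → ℕ) :
    pack b (k + n) f = pack b k f + 2 ^ (b * k) * pack b n fun t => f (k + t) := by
  rw [pack, sum_range_add, pack, pack, mul_sum]
  congr 1
  exact sum_congr rfl fun t _ => by ring

/-- The outer product of a column and a row. -/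
theorem pack_outer {b n : ℕ} (hn : 0 < n) (a y : ℕ → ℕ) : ∀ r : ℕ,
    pack b (r * n) (fun t => if t % n = 0 then a (t / n) else 0) * pack b n y =
      pack b (r * n) fun t => a (t / n) * y (t % n)
  | 0 => by simp [pack]
  | r + 1 => by
    rw [add_mul, one_mul, pack_add_len, pack_add_len, add_mul, pack_outer hn a y r, mul_assoc]
    congr 2
    have e1 : ∀ t < n, (r * n + t) % n = t := fun t ht => by
      rw [mul_comm, Nat.mul_add_mod, Nat.mod_eq_of_lt ht]
    have e2 : ∀ t < n, (r * n + t) / n = r := fun t ht => by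
      rw [mul_comm, Nat.mul_add_div hn, Nat.div_eq_of_lt ht, add_zero]
    have e3 : pack b n (fun t => if (r * n + t) % n = 0 then a ((r * n + t) / n) else 0) = a r := by
      obtain ⟨m, rfl⟩ : ∃ m, n = m + 1 := ⟨n - 1, by omega⟩
      rw [pack_succ, e1 0 hn, e2 0 hn, if_pos rfl, pack_congr (g := fun _ => 0) fun t ht => by
        rw [e1 _ (by omega), if_neg (by omega)]]
      simp [pack]
    rw [e3, mul_comm, pack_mul]
    exact pack_congr fun t ht => by rw [e1 t ht, e2 t ht, mul_comm]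

/-- `k` copies of `v` at distance `w` bits. -/
noncomputable def geo (v w k : ℕ) : ℕ :=
  Nat.rec (motive := fun _ => ℕ) 0 (fun _ ih => Nat.add v (Nat.shiftLeft ih w)) k

theorem geo_eq (v w : ℕ) : ∀ k, geo v w k = pack w k fun _ => v
  | 0 => by simp [pack, show geo v w 0 = 0 from rfl]
  | k + 1 => by
    rw [show geo v w (k + 1) = v + geo v w k <<< w from rfl, geo_eq v w k, pack_succ,
      Nat.shiftLeft_eq, mul_comm]

theorem pack_stride {b n : ℕ} (hn : 0 < n) (v : ℕ) (r : ℕ) :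
    pack (b * n) r (fun _ => v) = pack b (r * n) fun t => if t % n = 0 then v else 0 := by
  have := pack_outer (b := b) hn (fun _ => v) (fun t => if t = 0 then 1 else 0) r
  have e : pack b n (fun t => if t = 0 then 1 else 0) = 1 := by
    obtain ⟨m, rfl⟩ : ∃ m, n = m + 1 := ⟨n - 1, by omega⟩
    rw [pack_succ]; simp [pack]
  induction r with
  | zero => simp [pack]
  | succ r ih =>
    clear this
    rw [add_mul, one_mul, pack_add_len, pack_add_len, ih (by
      have := pack_outer (b := b) hn (fun _ => v) (fun t => if t = 0 then 1 else 0) r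
      exact this), mul_assoc, mul_comm n r]
    congr 2
    obtain ⟨m, rfl⟩ : ∃ m, n = m + 1 := ⟨n - 1, by omega⟩
    rw [pack_succ, pack_succ, pack_congr (k := m) (g := fun _ => 0) fun t ht => by
      rw [mul_comm, Nat.mul_add_mod, Nat.mod_eq_of_lt (by omega), if_neg (by omega)]]
    simp [pack]

/-- `n * n` copies of `v` at distance `b` bits. -/
noncomputable def geo2 (v b n : ℕ) : ℕ := geo (geo v b n) (Nat.mul b n) n

theorem geo2_eq (v b : ℕ) {n : ℕ} (hn : 0 < n) : geo2 v b n = pack b (n * n) fun _ => v := by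
  have := pack_outer (b := b) hn (fun _ => 1) (fun _ => v) n
  rw [← pack_stride hn, pack_mul] at this
  simpa [geo2, geo_eq] using this

/-- The parameters: modulus, dimension, bits of a field, the constants of the division by `p`,
and masks. -/
structure PM where
  p : ℕ
  n : ℕ
  b : ℕ
  m : ℕ
  s : ℕ
  bn : ℕ
  CM : ℕ
  RM : ℕ
  QM : ℕ
  one : ℕ

namespace PM
variable (P : PM)

/-- The test of the parameters. -/
noncomputable def ok : Bool :=
  and2 (and2 (and2 (Nat.ble 1 P.n) (Nat.ble 2 P.p)) (and2 (Nat.ble P.s P.b) (Nat.beq P.bn (P.b * P.n))))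
    (and2 (and2 (Nat.beq P.CM (geo (2 ^ P.b - 1) P.bn P.n)) (Nat.beq P.RM (2 ^ P.bn - 1)))
      (and2 (and2 (Nat.beq P.QM (geo2 (2 ^ (P.b - P.s) - 1) P.b P.n))
        (Nat.beq P.one (geo 1 (P.bn + P.b) P.n)))
        (and2 (and2 (Nat.ble 1 P.m) (Nat.ble (P.n * (P.p - 1) * (P.p - 1) * P.m + 1) (2 ^ P.b)))
          (allN (P.n * (P.p - 1) * (P.p - 1) + 1) fun x =>
            Nat.beq (Nat.shiftRight (Nat.mul x P.m) P.s) (Nat.div x P.p)))))

structure OK : Prop where
  n_pos : 0 < P.n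
  p_ge : 2 ≤ P.p
  s_le : P.s ≤ P.b
  bn : P.bn = P.b * P.n
  CM : P.CM = pack P.b (P.n * P.n) fun t => if t % P.n = 0 then 2 ^ P.b - 1 else 0
  RM : P.RM = 2 ^ (P.b * P.n) - 1
  QM : P.QM = pack P.b (P.n * P.n) fun _ => 2 ^ (P.b - P.s) - 1
  one : P.one = pack P.b (P.n * P.n) fun t => if t / P.n = t % P.n then 1 else 0
  m_pos : 0 < P.m
  bd : P.n * (P.p - 1) * (P.p - 1) * P.m < 2 ^ P.b
  dv : ∀ x ≤ P.n * (P.p - 1) * (P.p - 1), (x * P.m) >>> P.s = x / P.p

variable {P}

theorem pack_diag {b n : ℕ} (hn : 0 < n) : ∀ r ≤ n,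
    pack (b * n + b) r (fun _ => 1) = pack b (r * n) fun t => if t / n = t % n then 1 else 0
  | 0, _ => by simp [pack]
  | r + 1, hr => by
    rw [add_mul, one_mul, pack_add_len, pack_add_len, pack_diag hn r (by omega)]
    congr 1
    have e1 : ∀ t < n, (r * n + t) % n = t := fun t ht => by
      rw [mul_comm, Nat.mul_add_mod, Nat.mod_eq_of_lt ht]
    have e2 : ∀ t < n, (r * n + t) / n = r := fun t ht => by
      rw [mul_comm, Nat.mul_add_div hn, Nat.div_eq_of_lt ht, add_zero]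
    rw [pack_congr (k := n) (g := fun t => if r = t then 1 else 0) fun t ht => by rw [e1 t ht, e2 t ht]]
    simp only [pack, ite_mul, one_mul, zero_mul, sum_ite_eq, mem_range, show r < n by omega, if_true,
      range_one, sum_singleton, mul_zero, pow_zero, mul_one]
    ring

theorem ok_of_chk (h : P.ok = true) : P.OK := by
  simp only [ok, and2_true, ble_true, H29.beq_true, allN_true] at h
  obtain ⟨⟨⟨h1, h2⟩, h3, h4⟩, ⟨h5, h6⟩, ⟨h7, h8⟩, ⟨h9, h10⟩, h11⟩ := h
  refine ⟨h1, h2, h3, h4, ?_, h4 ▸ h6, ?_, ?_, h9, h10, fun x hx => h11 x (by omega)⟩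
  · rw [h5, geo_eq, h4, pack_stride h1]
  · rw [h7, geo2_eq _ _ h1]
  · rw [h8, geo_eq, h4, pack_diag h1 _ le_rfl]

variable (P)

/-- The sum of the outer products. -/
noncomputable def acc (k : ℕ) : ℕ → ℕ → ℕ :=
  Nat.rec (motive := fun _ => ℕ → ℕ → ℕ) (fun _ _ => 0) (fun _ ih A B =>
    Nat.add (Nat.mul (Nat.land A P.CM) (Nat.land B P.RM))
      (ih (Nat.shiftRight A P.b) (Nat.shiftRight B P.bn))) k

/-- Reduction of all fields. -/
def red (S : ℕ) : ℕ :=
  Nat.sub S (Nat.mul (Nat.land (Nat.shiftRight (Nat.mul S P.m) P.s) P.QM) P.p)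

/-- The product. -/
noncomputable def mul (A B : ℕ) : ℕ := P.red (P.acc P.n A B)

/-- A reduced code. -/
def Red (c : ℕ) : Prop := c < 2 ^ (P.b * (P.n * P.n)) ∧ ∀ t, ent P.b c t < P.p

variable {P}

theorem OK.col (h : P.OK) (A : ℕ) : A &&& P.CM =
    pack P.b (P.n * P.n) fun t => if t % P.n = 0 then ent P.b A (t / P.n * P.n) else 0 := by
  have h1 : ∀ t < P.n * P.n, (if t % P.n = 0 then 2 ^ P.b - 1 else 0) < 2 ^ P.b := fun t _ => by
    have := Nat.two_pow_pos P.b
    split_ifs <;> omega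
  rw [← pack_ent (b := P.b) (k := P.n * P.n) (c := A &&& P.CM)
    (Nat.and_lt_two_pow _ (h.CM ▸ pack_lt h1))]
  refine pack_congr fun t ht => ?_
  rw [ent_land, h.CM, ent_pack h1, if_pos ht]
  split_ifs with h2
  · rw [Nat.and_two_pow_sub_one_eq_mod, Nat.mod_eq_of_lt (ent_lt _ _ _), Nat.div_mul_cancel
      (Nat.dvd_of_mod_eq_zero h2)]
  · simp

theorem OK.row (h : P.OK) (B : ℕ) : B &&& P.RM = pack P.b P.n (ent P.b B) := by
  rw [h.RM, Nat.and_two_pow_sub_one_eq_mod,
    ← pack_ent (b := P.b) (k := P.n) (Nat.mod_lt B (Nat.two_pow_pos _))]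
  refine pack_congr fun t ht => Nat.eq_of_testBit_eq fun i => ?_
  simp only [testBit_ent, Nat.testBit_mod_two_pow]
  by_cases hi : i < P.b
  · have : P.b * t + i < P.b * P.n := by nlinarith
    simp [this]
  · simp [hi]

theorem OK.acc_eq (h : P.OK) : ∀ (k A B : ℕ), P.acc k A B = pack P.b (P.n * P.n) fun t =>
    ∑ j ∈ range k, ent P.b A (t / P.n * P.n + j) * ent P.b B (j * P.n + t % P.n)
  | 0, _, _ => by simp [pack, show ∀ A B, P.acc 0 A B = 0 from fun _ _ => rfl]
  | k + 1, A, B => by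
    rw [show P.acc (k + 1) A B = (A &&& P.CM) * (B &&& P.RM) + P.acc k (A >>> P.b) (B >>> P.bn)
      from rfl, OK.acc_eq h k, h.col, h.row,
      pack_outer h.n_pos (fun i => ent P.b A (i * P.n)), pack_add]
    refine pack_congr fun t _ => ?_
    rw [sum_range_succ', add_comm]
    congr 1
    · refine sum_congr rfl fun j _ => ?_
      rw [h.bn, ent_shr, show A >>> P.b = A >>> (P.b * 1) by rw [mul_one], ent_shr]
      congr 2 <;> ring
    · simp

theorem OK.red_eq (h : P.OK) {f : ℕ → ℕ} (hf : ∀ t < P.n * P.n, f t ≤ P.n * (P.p - 1) * (P.p - 1)) :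
    P.red (pack P.b (P.n * P.n) f) = pack P.b (P.n * P.n) fun t => f t % P.p := by
  have h1 : ∀ t < P.n * P.n, f t * P.m < 2 ^ P.b := fun t ht =>
    lt_of_le_of_lt (Nat.mul_le_mul_right _ (hf t ht)) h.bd
  have h2 : ∀ t < P.n * P.n, 2 ^ (P.b - P.s) - 1 < 2 ^ P.b := fun _ _ =>
    lt_of_lt_of_le (Nat.sub_lt (Nat.two_pow_pos _) Nat.one_pos)
      (Nat.pow_le_pow_right (by norm_num) (by omega))
  have h3 : (pack P.b (P.n * P.n) f * P.m) >>> P.s &&& P.QM =
      pack P.b (P.n * P.n) fun t => f t / P.p := by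
    rw [← pack_ent (b := P.b) (k := P.n * P.n) (c := _ &&& P.QM)
      (Nat.and_lt_two_pow _ (h.QM ▸ pack_lt h2))]
    refine pack_congr fun t ht => ?_
    rw [← h.dv _ (hf t ht), ent_land, h.QM, ent_pack h2, if_pos ht, pack_mul]
    have e := ent_pack h1 t
    rw [if_pos ht] at e
    rw [← e]
    refine Nat.eq_of_testBit_eq fun i => ?_
    simp only [Nat.testBit_and, testBit_ent, Nat.testBit_shiftRight, Nat.testBit_two_pow_sub_one]
    have := h.s_le
    by_cases hi : i < P.b - P.s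
    · simp [hi, show i < P.b by omega, show P.s + i < P.b by omega, add_left_comm]
    · simp [hi, show ¬ P.s + i < P.b by omega]
  change pack P.b (P.n * P.n) f - ((pack P.b (P.n * P.n) f * P.m) >>> P.s &&& P.QM) * P.p = _
  rw [h3, pack_mul, Nat.sub_eq_iff_eq_add', pack_add]
  · exact pack_congr fun t _ => (Nat.div_add_mod' _ _).symm
  · exact sum_le_sum fun t _ => Nat.mul_le_mul_right _ (Nat.div_mul_le_self _ _)

theorem OK.p_le (h : P.OK) : P.p ≤ 2 ^ P.b := by
  have h1 := h.bd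
  have h2 := h.n_pos
  have h3 := h.p_ge
  have h4 := h.m_pos
  have : P.p - 1 ≤ P.n * (P.p - 1) * (P.p - 1) * P.m := by
    obtain ⟨q, hq⟩ : ∃ q, P.p - 1 = q + 1 := ⟨P.p - 2, by omega⟩
    rw [hq]
    calc q + 1 = 1 * (q + 1) * 1 * 1 := by ring
      _ ≤ _ := by gcongr <;> omega
  omega

theorem OK.mul_eq (h : P.OK) {A B : ℕ} (hA : P.Red A) (hB : P.Red B) :
    P.mul A B = pack P.b (P.n * P.n) fun t =>
      (∑ j ∈ range P.n, ent P.b A (t / P.n * P.n + j) * ent P.b B (j * P.n + t % P.n)) % P.p := by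
  rw [mul, h.acc_eq, h.red_eq]
  intro t _
  refine (sum_le_card_nsmul _ _ ((P.p - 1) * (P.p - 1)) fun j _ => Nat.mul_le_mul ?_ ?_).trans ?_
  · exact Nat.le_sub_one_of_lt (hA.2 _)
  · exact Nat.le_sub_one_of_lt (hB.2 _)
  · simp [mul_assoc]

theorem OK.red_pack (h : P.OK) {f : ℕ → ℕ} (hf : ∀ t < P.n * P.n, f t < P.p) :
    P.Red (pack P.b (P.n * P.n) f) := by
  have h1 : ∀ t < P.n * P.n, f t < 2 ^ P.b := fun t ht => lt_of_lt_of_le (hf t ht) h.p_le
  refine ⟨pack_lt h1, fun t => ?_⟩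
  rw [ent_pack h1]
  split_ifs with ht
  · exact hf t ht
  · exact lt_of_lt_of_le (by norm_num) h.p_ge

theorem OK.red_mul (h : P.OK) {A B : ℕ} (hA : P.Red A) (hB : P.Red B) : P.Red (P.mul A B) := by
  rw [h.mul_eq hA hB]
  exact h.red_pack fun t _ => Nat.mod_lt _ (lt_of_lt_of_le (by norm_num) h.p_ge)

theorem OK.red_one (h : P.OK) : P.Red P.one := by
  rw [h.one]
  refine h.red_pack fun t _ => ?_
  have := h.p_ge
  split_ifs <;> omega

variable (P)

/-- Test that a code is reduced: the fields are at most the bound `n (p - 1)²` written with `w`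
bits, and the reduction does not change them. -/
noncomputable def chkRed (w c : ℕ) : Bool :=
  and2 (Nat.ble (2 ^ w) (P.n * (P.p - 1) * (P.p - 1) + 1))
    (and2 (Nat.beq (Nat.land c (geo2 (2 ^ w - 1) P.b P.n)) c) (Nat.beq (P.red c) c))

variable {P}

theorem OK.red_of_chk (h : P.OK) {w c : ℕ} (hc : P.chkRed w c = true) : P.Red c := by
  simp only [chkRed, and2_true, ble_true, H29.beq_true, land_eq, geo2_eq _ _ h.n_pos] at hc
  obtain ⟨h1, h2, h3⟩ := hc
  have h4 : ∀ t < P.n * P.n, 2 ^ w - 1 < 2 ^ P.b := fun _ _ => by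
    have := h.bd
    have := Nat.le_mul_of_pos_right (P.n * (P.p - 1) * (P.p - 1)) h.m_pos
    omega
  have h5 : c < 2 ^ (P.b * (P.n * P.n)) := h2 ▸ Nat.and_lt_two_pow _ (pack_lt h4)
  rw [← h3, ← pack_ent h5, h.red_eq]
  · exact h.red_pack fun t _ => Nat.mod_lt _ (lt_of_lt_of_le (by norm_num) h.p_ge)
  · intro t ht
    rw [← h2, ent_land, ent_pack h4, if_pos ht]
    exact Nat.and_le_right.trans (by omega)

section dec
variable {I : Type} [Fintype I] [DecidableEq I]

variable (P) in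
/-- The matrix of a code. -/
def dec (ε : I ≃ Fin P.n) (c : ℕ) : Matrix I I (ZMod P.p) :=
  Matrix.of fun i j => (ent P.b c (ε i * P.n + ε j) : ZMod P.p)

variable {ε : I ≃ Fin P.n}

omit [Fintype I] [DecidableEq I] in
theorem OK.ent_pack' (h : P.OK) {f : ℕ → ℕ} (hf : ∀ t < P.n * P.n, f t < P.p) (i j : Fin P.n) :
    ent P.b (pack P.b (P.n * P.n) f) (i * P.n + j) = f (i * P.n + j) := by
  rw [ent_pack fun t ht => lt_of_lt_of_le (hf t ht) h.p_le, if_pos]
  have := i.2; have := j.2; nlinarith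

theorem div_idx (h : P.OK) (i j : Fin P.n) : (i * P.n + j) / P.n = i := by
  rw [mul_comm, Nat.mul_add_div h.n_pos, Nat.div_eq_of_lt j.2, add_zero]

theorem mod_idx (i j : Fin P.n) : (i * P.n + j) % P.n = j := by
  rw [mul_comm, Nat.mul_add_mod, Nat.mod_eq_of_lt j.2]

omit [DecidableEq I] in
theorem OK.dec_mul (h : P.OK) {A B : ℕ} (hA : P.Red A) (hB : P.Red B) :
    P.dec ε (P.mul A B) = P.dec ε A * P.dec ε B := by
  ext i j
  rw [Matrix.mul_apply, h.mul_eq hA hB, dec, Matrix.of_apply,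
    h.ent_pack' fun t _ => Nat.mod_lt _ (lt_of_lt_of_le (by norm_num) h.p_ge), ZMod.natCast_mod,
    div_idx h, mod_idx, Finset.sum_range, ← ε.sum_comp]
  simp [dec]

omit [Fintype I] in
theorem OK.dec_one (h : P.OK) : P.dec ε P.one = 1 := by
  ext i j
  rw [h.one, dec, Matrix.of_apply, h.ent_pack' fun t _ => by have := h.p_ge; split_ifs <;> omega,
    div_idx h, mod_idx, Matrix.one_apply]
  simp [Fin.val_inj]

omit [Fintype I] [DecidableEq I] in
theorem OK.dec_inj (h : P.OK) {A B : ℕ} (hA : P.Red A) (hB : P.Red B)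
    (e : P.dec ε A = P.dec ε B) : A = B := by
  rw [← pack_ent hA.1, ← pack_ent hB.1]
  refine pack_congr fun t ht => ?_
  have h1 : t / P.n < P.n := Nat.div_lt_of_lt_mul ht
  have := congrFun (congrFun e (ε.symm ⟨_, h1⟩)) (ε.symm ⟨_, Nat.mod_lt t h.n_pos⟩)
  simp only [dec, Matrix.of_apply, Equiv.apply_symm_apply, Nat.div_add_mod'] at this
  rwa [ZMod.natCast_eq_natCast_iff', Nat.mod_eq_of_lt (hA.2 _), Nat.mod_eq_of_lt (hB.2 _)] at this

variable (P ε) in
/-- The code `c` stands for the invertible matrix `g`. -/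
def Rep (g : GL I (ZMod P.p)) (c : ℕ) : Prop := P.Red c ∧ (g : Matrix I I (ZMod P.p)) = P.dec ε c

theorem OK.rep_mul (h : P.OK) {g g' : GL I (ZMod P.p)} {c c' : ℕ} (h1 : P.Rep ε g c)
    (h2 : P.Rep ε g' c') : P.Rep ε (g * g') (P.mul c c') :=
  ⟨h.red_mul h1.1 h2.1, by rw [h.dec_mul h1.1 h2.1, Units.val_mul, h1.2, h2.2]⟩

theorem OK.rep_one (h : P.OK) : P.Rep ε 1 P.one := ⟨h.red_one, by rw [h.dec_one]; rfl⟩

theorem Rep.eq {g g' : GL I (ZMod P.p)} {c : ℕ} (h1 : P.Rep ε g c) (h2 : P.Rep ε g' c) : g = g' :=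
  Units.ext (h1.2.trans h2.2.symm)

theorem OK.code_eq (h : P.OK) {g : GL I (ZMod P.p)} {c c' : ℕ} (h1 : P.Rep ε g c)
    (h2 : P.Rep ε g c') : c = c' := h.dec_inj h1.1 h2.1 (h1.2.symm.trans h2.2)

variable (P ε) in
open Classical in
/-- The invertible matrix of a code. -/
noncomputable def gl (c : ℕ) : GL I (ZMod P.p) :=
  if h : IsUnit (P.dec ε c) then h.unit else 1

theorem OK.rep_gl (h : P.OK) {c c' : ℕ} (h1 : P.Red c) (h2 : P.Red c') (h3 : P.mul c c' = P.one) :
    P.Rep ε (P.gl ε c) c := by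
  have h4 : P.dec ε c * P.dec ε c' = 1 := by rw [← h.dec_mul h1 h2, h3, h.dec_one]
  have h5 : IsUnit (P.dec ε c) := (Matrix.isUnit_iff_isUnit_det _).2 (Matrix.isUnit_det_of_right_inverse h4)
  exact ⟨h1, by rw [gl, dif_pos h5]; rfl⟩

end dec

end PM

/-- A system of codes for elements of a group. -/
structure Codes (K : Type*) [Group K] where
  mul : ℕ → ℕ → ℕ
  one : ℕ
  Rep : K → ℕ → Prop
  rep_mul : ∀ {g g' c c'}, Rep g c → Rep g' c' → Rep (g * g') (mul c c')
  rep_one : Rep 1 one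
  eq : ∀ {g g' c}, Rep g c → Rep g' c → g = g'
  code_eq : ∀ {g c c'}, Rep g c → Rep g c' → c = c'
  chk : ℕ → Bool
  cancel : ∀ {g g' a c}, chk c = true → Rep g a → Rep g' (mul c a) → Rep (g' * g⁻¹) c

/-- The codes of matrices. -/
noncomputable def PM.OK.codes {P : PM} (h : P.OK) {I : Type} [Fintype I] [DecidableEq I]
    (ε : I ≃ Fin P.n) (w : ℕ) : Codes (GL I (ZMod P.p)) :=
  ⟨P.mul, P.one, P.Rep ε, h.rep_mul, h.rep_one, PM.Rep.eq, h.code_eq, P.chkRed w,
    fun {g g' a c} h1 h2 h3 => ⟨h.red_of_chk h1, by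
      rw [Units.val_mul, h3.2, h.dec_mul (h.red_of_chk h1) h2.1, ← h2.2, mul_assoc, Units.mul_inv,
        mul_one]⟩⟩

/-- The codes of the elements of a group with a faithful representation. -/
def Codes.comap {K L : Type*} [Group K] [Group L] (C : Codes L) (f : K →* L)
    (hf : Function.Injective f) : Codes K :=
  ⟨C.mul, C.one, fun g c => C.Rep (f g) c, fun h1 h2 => by rw [map_mul]; exact C.rep_mul h1 h2,
    by rw [map_one]; exact C.rep_one, fun h1 h2 => hf (C.eq h1 h2), C.code_eq, C.chk,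
    fun h1 h2 h3 => by rw [map_mul, map_inv]; exact C.cancel h1 h2 h3⟩

/-- Multiply the code `x` on the right by the letters of a word. -/
noncomputable def evA (mul : ℕ → ℕ → ℕ) (lc : ℕ → ℕ) (w : List ℕ) : ℕ → ℕ :=
  List.rec (motive := fun _ => ℕ → ℕ) (fun x => x) (fun c _ ih x => seqN (mul x (lc c)) ih) w

/-- The code of a word. -/
noncomputable def evC (mul : ℕ → ℕ → ℕ) (one : ℕ) (lc : ℕ → ℕ) (w : List ℕ) : ℕ :=
  List.rec (motive := fun _ => ℕ) one (fun c w' _ => evA mul lc w' (lc c)) w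

namespace Codes
variable {K : Type*} [Group K] (C : Codes K) {σ : ℕ → K} {lc : ℕ → ℕ}

theorem rep_evA (h : ∀ c, C.Rep (σ c) (lc c)) : ∀ (w : List ℕ) {g : K} {x : ℕ}, C.Rep g x →
    C.Rep (g * ev σ w) (evA C.mul lc w x)
  | [], _, _, hx => by rw [ev_nil, mul_one]; exact hx
  | c :: w, g, x, hx => by
    rw [show evA C.mul lc (c :: w) x = seqN (C.mul x (lc c)) (evA C.mul lc w) from rfl, seqN_eq,
      ev_cons, ← mul_assoc]
    exact rep_evA h w (C.rep_mul hx (h c))

theorem rep_evC (h : ∀ c, C.Rep (σ c) (lc c)) : ∀ w : List ℕ, C.Rep (ev σ w) (evC C.mul C.one lc w)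
  | [] => C.rep_one
  | c :: w => C.rep_evA h w (h c)

theorem ev_eq (h : ∀ c, C.Rep (σ c) (lc c)) {u v : List ℕ}
    (e : evC C.mul C.one lc u = evC C.mul C.one lc v) : ev σ u = ev σ v :=
  C.eq (C.rep_evC h u) (e ▸ C.rep_evC h v)

theorem ev_ne (h : ∀ c, C.Rep (σ c) (lc c)) {u v : List ℕ}
    (e : evC C.mul C.one lc u ≠ evC C.mul C.one lc v) : ev σ u ≠ ev σ v := fun h' =>
  e (C.code_eq (C.rep_evC h u) (h' ▸ C.rep_evC h v))

end Codes

/-- Test of relators on codes; each is cut in two halves. -/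
noncomputable def chkRelC (mul : ℕ → ℕ → ℕ) (one : ℕ) (lc iv : ℕ → ℕ) (ws : List (List ℕ)) : Bool :=
  allL ws fun w => lit (Nat.div (Nat.succ w.length) 2) fun h =>
    Nat.beq (evC mul one lc (w.take h)) (evC mul one lc (invW iv (w.drop h)))

theorem Codes.rels {K : Type*} [Group K] (C : Codes K) {σ : ℕ → K} {lc iv : ℕ → ℕ}
    (h : ∀ c, C.Rep (σ c) (lc c)) (hiv : IvOK σ iv) {ws : List (List ℕ)}
    (hc : chkRelC C.mul C.one lc iv ws = true) : ∀ w ∈ ws, ev σ w = 1 := by
  simp only [chkRelC, allL_true, lit_eq, H29.beq_true] at hc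
  intro w hw
  have := C.ev_eq h (hc w hw)
  rw [ev_invW hiv, eq_inv_iff_mul_eq_one, ← ev_append, List.take_append_drop] at this
  exact this

namespace PM
variable {P : PM} {I : Type} [Fintype I] [DecidableEq I] {ε : I ≃ Fin P.n}

variable (P) in
/-- Test of the letter `c`: its code is reduced, and the code of `iv c` is inverse to it. -/
noncomputable def chkLet (w : ℕ) (l ivl : List ℕ) (c : ℕ) : Bool :=
  and2 (P.chkRed w (nth P.one l c)) (imp (Nat.ble c (ivOf ivl c))
    (Nat.beq (P.mul (nth P.one l c) (nth P.one l (ivOf ivl c))) P.one))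
where imp (a b : Bool) : Bool := Bool.rec true b a

theorem OK.letters (h : P.OK) {w : ℕ} {l ivl : List ℕ} (hii : ∀ c, ivOf ivl (ivOf ivl c) = c)
    (hl : ivl.length ≤ l.length) (hc : ∀ c < l.length, P.chkLet w l ivl c = true) :
    (∀ c, P.Rep ε (P.gl ε (nth P.one l c)) (nth P.one l c)) ∧
      IvOK (fun c => P.gl ε (nth P.one l c)) (ivOf ivl) := by
  have h1 : ∀ c, P.Red (nth P.one l c) := fun c => by
    by_cases hc' : c < l.length
    · have := hc c hc'
      rw [chkLet, and2_true] at this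
      exact h.red_of_chk this.1
    · rw [nth_default _ (by omega)]; exact h.red_one
  have h2 : ∀ c, c ≤ ivOf ivl c → P.mul (nth P.one l c) (nth P.one l (ivOf ivl c)) = P.one := by
    intro c hle
    by_cases hc' : c < l.length
    · have := hc c hc'
      rw [chkLet, and2_true, ble_true.2 hle] at this
      exact H29.beq_true.1 this.2
    · rw [nth_default _ (by omega), nth_default _ (by omega)]
      exact h.code_eq (ε := ε) (h.rep_mul h.rep_one h.rep_one) (by rw [mul_one]; exact h.rep_one)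
  have h3 : ∀ c, P.dec ε (nth P.one l c) * P.dec ε (nth P.one l (ivOf ivl c)) = 1 := fun c => by
    rcases le_total c (ivOf ivl c) with hle | hle
    · rw [← h.dec_mul (h1 _) (h1 _), h2 c hle, h.dec_one]
    · have := h2 (ivOf ivl c) (by rwa [hii])
      rw [hii] at this
      rw [mul_eq_one_comm, ← h.dec_mul (h1 _) (h1 _), this, h.dec_one]
  have h4 : ∀ c, P.Rep ε (P.gl ε (nth P.one l c)) (nth P.one l c) := fun c =>
    h.rep_gl (h1 c) (h1 (ivOf ivl c)) (h.dec_inj (ε := ε) (h.red_mul (h1 _) (h1 _)) h.red_one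
      (by rw [h.dec_mul (h1 _) (h1 _), h3, h.dec_one]))
  refine ⟨h4, fun c => eq_inv_of_mul_eq_one_right (Units.ext ?_)⟩
  rw [Units.val_mul, (h4 _).2, (h4 _).2, h3]; rfl

end PM

end H19
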