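import Mathlib
import Cfsg.Agent.H19.PM

/-!
# Certificates of double coset enumeration over a big subgroup

`φ : K →* G` has image `H`, and `z` conjugates the image of a subgroup of `K` into `H` in a known
way.  The name `(j, x)` stands for the right coset `H * rep j * φ x`.  Elements of `K` are handled
through codes.
-/

set_option autoImplicit false

namespace H19
open H29

section RC
variable {G : Type*} [Group G]

/-- `x` and `y` lie in one right coset of `H`. -/
def RC (H : Subgroup G) (x y : G) : Prop := x * y⁻¹ ∈ H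

theorem RC.refl (H : Subgroup G) (x : G) : RC H x x := by simp [RC]
theorem RC.symm {H : Subgroup G} {x y : G} (h : RC H x y) : RC H y x := by
  have := H.inv_mem h
  simpa [RC] using this
theorem RC.trans {H : Subgroup G} {x y z : G} (h : RC H x y) (h' : RC H y z) : RC H x z := by
  have := H.mul_mem h h'
  simpa [RC, mul_assoc] using this
theorem RC.mul {H : Subgroup G} {x y : G} (h : RC H x y) (z : G) : RC H (x * z) (y * z) := by
  simpa [RC, mul_assoc] using h
theorem RC.congr {H : Subgroup G} {x y x' y' : G} (h : RC H x y) (h1 : x = x') (h2 : y = y') :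
    RC H x' y' := h1 ▸ h2 ▸ h
theorem rc_iff {H : Subgroup G} {x y : G} : RC H x y ↔ ((x⁻¹ : G) : G ⧸ H) = (y⁻¹ : G) := by
  rw [QuotientGroup.eq, inv_inv, RC]

/-- The value `z * m₁ * z * m₂ * ⋯` of a list of words. -/
def evR (g : ℕ → G) (z : G) : List (List ℕ) → G
  | [] => 1
  | m :: R => z * ev g m * evR g z R

end RC

/-- A fact: `(j, p) z = (k, q)` if `s`, and `(j, 1) = (k, q)` otherwise. -/
structure DFact where
  s : Bool
  j : ℕ
  p : ℕ
  k : ℕ
  q : ℕ

/-- A template: `a₀ z a₁ ⋯ = b₀ z b₁ ⋯`, with a further `z` on the left side if `s`. -/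
structure DTpl where
  s : Bool
  a0 : List ℕ
  A : List (List ℕ)
  b0 : List ℕ
  B : List (List ℕ)

/-- An operation of a walk. -/
structure DOp where
  ty : ℕ
  f : ℕ
  d : List ℕ

/-- The proof of a fact: template, start and two walks.  The start is `(j, x * w)` where `x` is `1`
if `b = 0`, and the first code of fact `b - 1` otherwise.  The template number `0` marks a
definition. -/
structure DPf where
  t : ℕ
  j : ℕ
  b : ℕ
  w : List ℕ
  A : List DOp
  B : List DOp

/-- The data of a certificate. -/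
structure DD where
  mul : ℕ → ℕ → ℕ
  one : ℕ
  chk : ℕ → Bool
  lc : ℕ → ℕ
  al : ℕ → ℕ
  dl : List ℕ
  TP : List DTpl
  DF : List (ℕ × List ℕ)
  FT : ℕ → DFact

namespace DD
variable (D : DD)

section
variable {G : Type*} [Group G]

/-- The representative of the double coset number `k`. -/
noncomputable def rep (g : ℕ → G) (z : G) (k : ℕ) : G :=
  if (nth (0, []) D.DF k).1 < k then rep g z (nth (0, []) D.DF k).1 * ev g (nth (0, []) D.DF k).2 * z
  else 1
termination_by k

theorem rep_zero (g : ℕ → G) (z : G) : D.rep g z 0 = 1 := by rw [rep]; simp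

end

/-- One operation of a walk for fact number `i`. -/
noncomputable def op (i : ℕ) (o : DOp) (j c : ℕ) (R : List (List ℕ))
    (ih : ℕ → ℕ → List (List ℕ) → Bool) : Bool :=
  Nat.rec (motive := fun _ => Bool) (and2 (Nat.beq j 0) (seqN (evC D.mul D.one D.lc o.d) fun y => ih 0 y R))
    (fun t _ => and2 (and2 (Nat.ble (Nat.succ o.f) i) (Nat.beq (D.FT o.f).j j))
      (Bool.rec (seqN (D.mul (D.FT o.f).q c) fun y => ih (D.FT o.f).k y R)
        (List.rec (motive := fun _ => Bool) false (fun m R' _ =>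
          and2 (and2 (allL o.d fun a => memL a D.dl) (Nat.beq (evA D.mul D.lc o.d (D.FT o.f).p) c))
            (seqN (evA D.mul D.lc m (evA D.mul (fun a => D.lc (D.al a)) o.d (D.FT o.f).q)) fun y =>
              ih (D.FT o.f).k y R')) R) (D.FT o.f).s)) o.ty

/-- A walk. -/
noncomputable def walk (i : ℕ) (k : ℕ → ℕ → Bool) (ops : List DOp) : ℕ → ℕ → List (List ℕ) → Bool :=
  List.rec (motive := fun _ => ℕ → ℕ → List (List ℕ) → Bool)
    (fun j c R => List.rec (motive := fun _ => Bool) (k j c) (fun _ _ _ => false) R)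
    (fun o _ ih j c R => D.op i o j c R ih) ops

/-- The end of the two walks. -/
noncomputable def fin (x : DFact) (jA cA jB cB : ℕ) : Bool :=
  and2 (and2 (Nat.beq x.j jA) (Nat.beq x.k jB))
    (Bool.rec (and2 (D.chk x.q) (Nat.beq (D.mul x.q cA) cB))
      (and2 (Nat.beq x.p cA) (Nat.beq x.q cB)) x.s)

/-- The start code. -/
noncomputable def start (i : ℕ) (c : DPf) (k : ℕ → Bool) : Bool :=
  Nat.rec (motive := fun _ => Bool) (seqN (evC D.mul D.one D.lc c.w) k) (fun f _ =>
    and2 (and2 (Nat.ble (Nat.succ f) i) (D.FT f).s) (seqN (evA D.mul D.lc c.w (D.FT f).p) k)) c.b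

/-- Equality test of Booleans. -/
noncomputable def beqB (a b : Bool) : Bool := Bool.rec (Bool.rec true false b) b a

/-- The test of fact number `i`. -/
noncomputable def chk1 (i : ℕ) (c : DPf) : Bool :=
  Nat.rec (motive := fun _ => Bool)
    (and2 (and2 (and2 (D.FT i).s (Nat.ble (Nat.succ (D.FT i).j) (D.FT i).k))
        (Nat.beq (nth (0, []) D.DF (D.FT i).k).1 (D.FT i).j))
      (and2 (Nat.beq (evC D.mul D.one D.lc (nth (0, []) D.DF (D.FT i).k).2) (D.FT i).p)
        (Nat.beq (D.FT i).q D.one)))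
    (fun t _ => and2 (beqB (nth ⟨false, [], [], [], []⟩ D.TP t).s (D.FT i).s) (D.start i c fun x =>
      seqN (evA D.mul D.lc (nth ⟨false, [], [], [], []⟩ D.TP t).a0 x) fun xA =>
      D.walk i (fun jA cA =>
        seqN (evA D.mul D.lc (nth ⟨false, [], [], [], []⟩ D.TP t).b0 x) fun xB =>
        D.walk i (D.fin (D.FT i) jA cA) c.B c.j xB (nth ⟨false, [], [], [], []⟩ D.TP t).B)
        c.A c.j xA (nth ⟨false, [], [], [], []⟩ D.TP t).A)) c.t

/-- The test of the facts from number `i` on. -/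
noncomputable def chkL (l : List DPf) : ℕ → Bool :=
  List.rec (motive := fun _ => ℕ → Bool) (fun _ => true)
    (fun c _ ih i => and2 (D.chk1 i c) (lit (Nat.succ i) ih)) l

variable {G K : Type*} [Group G] [Group K]

/-- A template holds. -/
def _root_.H19.DTpl.Good (g : ℕ → G) (z : G) (T : DTpl) : Prop :=
  ev g T.a0 * evR g z T.A * (if T.s = true then z else 1) = ev g T.b0 * evR g z T.B

/-- The standing hypotheses. -/
structure Hyp (C : Codes K) (σ : ℕ → K) (φ : K →* G) (z : G) : Prop where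
  mul : D.mul = C.mul
  one : D.one = C.one
  chk : D.chk = C.chk
  lc : ∀ c, C.Rep (σ c) (D.lc c)
  al : ∀ c ∈ D.dl, φ (σ c) * z = z * φ (σ (D.al c))
  tp : ∀ T ∈ D.TP, T.Good (fun c => φ (σ c)) z

/-- The meaning of a fact. -/
def Sem (C : Codes K) (σ : ℕ → K) (φ : K →* G) (z : G) (x : DFact) : Prop :=
  ∃ q, C.Rep q x.q ∧
    (x.s = false → RC φ.range (D.rep (fun c => φ (σ c)) z x.j) (D.rep (fun c => φ (σ c)) z x.k * φ q)) ∧
    (x.s = true → ∃ p, C.Rep p x.p ∧
      RC φ.range (D.rep (fun c => φ (σ c)) z x.j * φ p * z) (D.rep (fun c => φ (σ c)) z x.k * φ q))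

/-- The facts below `i` hold. -/
def Upto (C : Codes K) (σ : ℕ → K) (φ : K →* G) (z : G) (i : ℕ) : Prop :=
  ∀ f < i, D.Sem C σ φ z (D.FT f)

/-- The invariant of a walk. -/
def Inv (C : Codes K) (σ : ℕ → K) (φ : K →* G) (z x0 : G) (j c : ℕ) (R : List (List ℕ)) : Prop :=
  ∃ y, C.Rep y c ∧
    RC φ.range (x0 * (evR (fun c => φ (σ c)) z R)⁻¹) (D.rep (fun c => φ (σ c)) z j * φ y)

variable {D} {C : Codes K} {σ : ℕ → K} {φ : K →* G} {z : G}

theorem Hyp.ev_al (h : D.Hyp C σ φ z) : ∀ {d : List ℕ}, (∀ a ∈ d, a ∈ D.dl) →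
    φ (ev σ d) * z = z * φ (ev (fun a => σ (D.al a)) d)
  | [], _ => by simp
  | a :: d, hd => by
    rw [ev_cons, ev_cons, map_mul, map_mul, mul_assoc, Hyp.ev_al h fun b hb => hd b (by simp [hb]),
      ← mul_assoc, h.al a (hd a (by simp)), mul_assoc]

theorem op_spec (h : D.Hyp C σ φ z) {i : ℕ} (hu : D.Upto C σ φ z i) {x0 : G} {o : DOp} {j c : ℕ}
    {R : List (List ℕ)} {ih : ℕ → ℕ → List (List ℕ) → Bool} (hi : D.Inv C σ φ z x0 j c R)
    (hc : D.op i o j c R ih = true) :
    ∃ j' c' R', D.Inv C σ φ z x0 j' c' R' ∧ ih j' c' R' = true := by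
  obtain ⟨ty, f, d⟩ := o
  obtain ⟨y, y1, y2⟩ := hi
  unfold op at hc
  rw [h.mul, h.one] at hc
  cases ty with
  | zero =>
    change and2 _ _ = true at hc
    simp only [and2_true, H29.beq_true, seqN_eq] at hc
    obtain ⟨rfl, a2⟩ := hc
    refine ⟨0, _, R, ⟨_, C.rep_evC h.lc d, y2.trans ?_⟩, a2⟩
    rw [rep_zero, one_mul, one_mul]
    exact φ.range.mul_mem ⟨_, rfl⟩ (φ.range.inv_mem ⟨_, rfl⟩)
  | succ t =>
    change and2 _ _ = true at hc
    simp only [and2_true, H29.beq_true, ble_true] at hc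
    obtain ⟨⟨a1, rfl⟩, hc⟩ := hc
    obtain ⟨q, q1, q2, q3⟩ := hu f a1
    generalize D.FT f = x at *
    cases hs : x.s with
    | false =>
      rw [hs] at hc
      change seqN _ _ = true at hc
      rw [seqN_eq] at hc
      refine ⟨_, _, _, ⟨_, C.rep_mul q1 y1, y2.trans ?_⟩, hc⟩
      rw [map_mul]
      exact ((q2 hs).mul _).congr rfl (mul_assoc _ _ _)
    | true =>
      rw [hs] at hc
      obtain ⟨p, p1, p2⟩ := q3 hs
      cases R with
      | nil => exact absurd hc (by simp)
      | cons m R =>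
        change and2 _ _ = true at hc
        simp only [and2_true, H29.beq_true, seqN_eq, allL_true, memL_true] at hc
        obtain ⟨⟨b1, b2⟩, b3⟩ := hc
        obtain rfl : y = p * ev σ d := C.eq y1 (b2 ▸ C.rep_evA h.lc d p1)
        refine ⟨_, _, _, ⟨_, C.rep_evA h.lc m
          (C.rep_evA (σ := fun a => σ (D.al a)) (fun a => h.lc _) d q1), ?_⟩, b3⟩
        have b4 := h.ev_al b1
        rw [map_mul, map_mul, map_ev φ σ m]
        generalize φ (ev (fun a => σ (D.al a)) d) = d' at b4 ⊢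
        refine ((y2.mul (z * ev (fun c => φ (σ c)) m)).congr ?_ ?_).trans
          ((p2.mul (d' * ev (fun c => φ (σ c)) m)).congr rfl ?_)
        · simp only [evR]; group
        · rw [map_mul]
          calc _ = D.rep (fun c => φ (σ c)) z x.j * φ p * (φ (ev σ d) * z) * ev (fun c => φ (σ c)) m := by
                group
            _ = _ := by rw [b4]; group
        · group

theorem walk_spec (h : D.Hyp C σ φ z) {i : ℕ} (hu : D.Upto C σ φ z i) {x0 : G} {k : ℕ → ℕ → Bool} :
    ∀ (ops : List DOp) (j c : ℕ) (R : List (List ℕ)), D.Inv C σ φ z x0 j c R →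
      D.walk i k ops j c R = true → ∃ j' c', D.Inv C σ φ z x0 j' c' [] ∧ k j' c' = true
  | [], j, c, [], hi, hc => ⟨j, c, hi, hc⟩
  | [], _, _, _ :: _, _, hc => absurd hc (by simp [walk])
  | o :: ops, j, c, R, hi, hc => by
    obtain ⟨j', c', R', a1, a2⟩ := op_spec (ih := D.walk i k ops) h hu hi hc
    exact walk_spec h hu ops j' c' R' a1 a2

theorem start_spec (h : D.Hyp C σ φ z) {i : ℕ} (hu : D.Upto C σ φ z i) {c : DPf} {k : ℕ → Bool}
    (hc : D.start i c k = true) : ∃ y x, C.Rep y x ∧ k x = true := by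
  unfold start at hc
  rw [h.mul, h.one] at hc
  cases hb : c.b with
  | zero =>
    rw [hb] at hc
    change seqN _ _ = true at hc
    rw [seqN_eq] at hc
    exact ⟨_, _, C.rep_evC h.lc _, hc⟩
  | succ f =>
    rw [hb] at hc
    change and2 _ _ = true at hc
    simp only [and2_true, ble_true, seqN_eq] at hc
    obtain ⟨q, -, -, q3⟩ := hu f hc.1.1
    obtain ⟨p, p1, -⟩ := q3 hc.1.2
    exact ⟨_, _, C.rep_evA h.lc _ p1, hc.2⟩

theorem chk1_spec (h : D.Hyp C σ φ z) {i : ℕ} (hu : D.Upto C σ φ z i) {c : DPf}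
    (hc : D.chk1 i c = true) : D.Sem C σ φ z (D.FT i) := by
  unfold chk1 at hc
  generalize D.FT i = x at *
  cases ht : c.t with
  | zero =>
    rw [ht] at hc
    change and2 _ _ = true at hc
    simp only [and2_true, H29.beq_true, ble_true, h.mul, h.one] at hc
    obtain ⟨⟨⟨a1, a2⟩, a3⟩, a4, a5⟩ := hc
    refine ⟨1, a5 ▸ C.rep_one, fun h0 => by simp [a1] at h0,
      fun _ => ⟨_, a4 ▸ C.rep_evC h.lc _, ?_⟩⟩
    rw [map_one, mul_one, rep.eq_1 _ _ _ x.k, if_pos (a3 ▸ a2), a3, map_ev]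
    exact RC.refl _ _
  | succ t =>
    rw [ht] at hc
    change and2 _ _ = true at hc
    have hT : (nth ⟨false, [], [], [], []⟩ D.TP t).Good (fun c => φ (σ c)) z :=
      nth_forall (p := DTpl.Good (fun c => φ (σ c)) z) (by simp [DTpl.Good, evR]) h.tp t
    generalize nth ⟨false, [], [], [], []⟩ D.TP t = T at *
    rw [and2_true] at hc
    obtain ⟨y, c0, y1, h1⟩ := start_spec h hu hc.2
    rw [seqN_eq, h.mul] at h1
    obtain ⟨jA, cA, ⟨yA, a1, a2⟩, h2⟩ := walk_spec
      (x0 := D.rep (fun c => φ (σ c)) z c.j * φ y *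
        (ev (fun c => φ (σ c)) T.a0 * evR (fun c => φ (σ c)) z T.A)) h hu _ _ _ _
      ⟨_, C.rep_evA h.lc T.a0 y1, (RC.refl _ _).congr (by rw [map_mul, map_ev]; group) rfl⟩ h1
    rw [seqN_eq] at h2
    obtain ⟨jB, cB, ⟨yB, b1, b2⟩, h3⟩ := walk_spec
      (x0 := D.rep (fun c => φ (σ c)) z c.j * φ y *
        (ev (fun c => φ (σ c)) T.b0 * evR (fun c => φ (σ c)) z T.B)) h hu _ _ _ _
      ⟨_, C.rep_evA h.lc T.b0 y1, (RC.refl _ _).congr (by rw [map_mul, map_ev]; group) rfl⟩ h2
    simp only [fin, and2_true, H29.beq_true] at h3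
    obtain ⟨⟨rfl, rfl⟩, h4⟩ := h3
    simp only [evR, inv_one, mul_one] at a2 b2
    rw [← hT] at b2
    have hs : T.s = x.s := by have := hc.1; revert this; cases T.s <;> cases x.s <;> simp [beqB]
    rw [hs] at b2
    cases hx : x.s with
    | false =>
      rw [hx] at h4 b2
      change and2 _ _ = true at h4
      simp only [and2_true, H29.beq_true, h.mul, h.chk] at h4
      refine ⟨_, C.cancel h4.1 a1 (h4.2 ▸ b1), fun _ => ?_, fun h0 => by simp [hx] at h0⟩
      simp only [Bool.false_eq_true, if_false, mul_one] at b2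
      refine ((a2.symm.trans b2).mul (φ yA)⁻¹).congr (by group) ?_
      rw [map_mul, map_inv, mul_assoc]
    | true =>
      rw [hx] at h4 b2
      change and2 _ _ = true at h4
      simp only [and2_true, H29.beq_true] at h4
      refine ⟨yB, h4.2 ▸ b1, fun h0 => by simp [hx] at h0, fun _ => ⟨yA, h4.1 ▸ a1, ?_⟩⟩
      simp only [if_true] at b2
      exact (a2.symm.mul z).trans (b2.congr (by group) rfl)

theorem upto_zero : D.Upto C σ φ z 0 := fun _ h => absurd h (Nat.not_lt_zero _)

theorem Upto.next (h : D.Hyp C σ φ z) : ∀ (l : List DPf) {i : ℕ}, D.Upto C σ φ z i →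
    D.chkL l i = true → D.Upto C σ φ z (i + l.length)
  | [], _, hu, _ => hu
  | c :: l, i, hu, hc => by
    change and2 (D.chk1 i c) (D.chkL l (i + 1)) = true at hc
    rw [and2_true] at hc
    have := Upto.next h l (lt_step hu (chk1_spec h hu hc.1)) hc.2
    rwa [List.length_cons, ← Nat.add_assoc, Nat.add_right_comm]

theorem Upto.next' (h : D.Hyp C σ φ z) {l : List DPf} {i i' : ℕ} (hu : D.Upto C σ φ z i)
    (hc : and2 (D.chkL l i) (Nat.beq (Nat.add i l.length) i') = true) : D.Upto C σ φ z i' := by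
  rw [and2_true, H29.beq_true] at hc
  exact hc.2 ▸ hu.next h l hc.1

end DD

/-- A live double coset: its number, the facts and words of generators of its stabiliser, and the
facts and words of its row. -/
structure DLive where
  j : ℕ
  gf : List ℕ
  gw : List (List ℕ)
  pf : List ℕ
  pw : List (List ℕ)

/-- Both lists are walked together. -/
noncomputable def all2 {α β : Type} (f : α → β → Bool) (l : List α) : List β → Bool :=
  List.rec (motive := fun _ => List β → Bool)
    (fun l' => List.rec (motive := fun _ => Bool) true (fun _ _ _ => false) l')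
    (fun a _ ih l' => List.rec (motive := fun _ => Bool) false
      (fun b l'' _ => and2 (f a b) (ih l'')) l') l

theorem all2_spec {α β : Type} {f : α → β → Bool} : ∀ {l : List α} {l' : List β},
    all2 f l l' = true → ∀ b ∈ l', ∃ a, f a b = true
  | [], [], _, _, hb => absurd hb (by simp)
  | [], _ :: _, h, _, _ => absurd h (by simp [all2])
  | _ :: _, [], _, _, hb => absurd hb (by simp)
  | a :: l, b' :: l', h, b, hb => by
    change and2 (f a b') (all2 f l l') = true at h
    rw [and2_true] at h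
    rcases List.mem_cons.1 hb with rfl | hb
    · exact ⟨a, h.1⟩
    · exact all2_spec h.2 b hb

namespace DD
variable (D : DD)

/-- The test of a live double coset. -/
noncomputable def chkLive (i : ℕ) (js : List ℕ) (a : DLive) : Bool :=
  and2 (all2 (fun f w => and2 (and2 (Nat.ble (Nat.succ f) i) (beqB (D.FT f).s false))
      (and2 (and2 (Nat.beq (D.FT f).j a.j) (Nat.beq (D.FT f).k a.j))
        (Nat.beq (evC D.mul D.one D.lc w) (D.FT f).q))) a.gf a.gw)
    (all2 (fun f w => and2 (and2 (Nat.ble (Nat.succ f) i) (D.FT f).s)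
      (and2 (and2 (Nat.beq (D.FT f).j a.j) (memL (D.FT f).k js))
        (Nat.beq (evC D.mul D.one D.lc w) (D.FT f).p))) a.pf a.pw)

variable {D} {G K : Type*} [Group G] [Group K] {C : Codes K} {σ : ℕ → K} {φ : K →* G} {z : G}

/-- The group generated by the values of some words. -/
def _root_.H19.genW (σ : ℕ → K) (ws : List (List ℕ)) : Subgroup K :=
  Subgroup.closure {x | ∃ w ∈ ws, ev σ w = x}

theorem live_stab (h : D.Hyp C σ φ z) {i : ℕ} (hu : D.Upto C σ φ z i) {js : List ℕ} {a : DLive}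
    (hc : D.chkLive i js a = true) : ∀ s ∈ genW σ a.gw,
    RC φ.range (D.rep (fun c => φ (σ c)) z a.j * φ s) (D.rep (fun c => φ (σ c)) z a.j) := by
  rw [chkLive, and2_true] at hc
  intro s hs
  induction hs using Subgroup.closure_induction with
  | one => rw [map_one, mul_one]; exact RC.refl _ _
  | mul x y _ _ hx hy => rw [map_mul, ← mul_assoc]; exact (hx.mul _).trans hy
  | inv x _ hx => rw [map_inv]; exact (hx.symm.mul (φ x)⁻¹).congr rfl (by group)
  | mem x hx =>
    obtain ⟨w, hw, rfl⟩ := hx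
    obtain ⟨f, hf⟩ := all2_spec hc.1 w hw
    simp only [and2_true, H29.beq_true, ble_true, h.mul, h.one] at hf
    obtain ⟨⟨a1, a2⟩, ⟨a3, a4⟩, a5⟩ := hf
    obtain ⟨q, q1, q2, -⟩ := hu f a1
    have := q2 (by revert a2; cases (D.FT f).s <;> simp [beqB])
    rw [a3, a4, C.eq q1 (a5 ▸ C.rep_evC h.lc w)] at this
    exact this.symm

/-- The live double cosets cover the group. -/
theorem live_cover (h : D.Hyp C σ φ z) {i : ℕ} (hu : D.Upto C σ φ z i) {L : List DLive}
    (hc : allL L (D.chkLive i (L.map DLive.j)) = true) (h0 : 0 ∈ L.map DLive.j)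
    (hz : z * z ∈ φ.range) (htop : φ.range ⊔ Subgroup.closure {z} = ⊤)
    (hcov : ∀ a ∈ L, ∀ x : K, ∃ s ∈ genW σ a.gw, ∃ w ∈ a.pw, ∃ d ∈ gen σ D.dl, x = s * ev σ w * d)
    (g : G) : ∃ a ∈ L, ∃ x : K, RC φ.range g (D.rep (fun c => φ (σ c)) z a.j * φ x) := by
  rw [allL_true] at hc
  let X : Set G := {g | ∃ a ∈ L, ∃ x : K, RC φ.range g (D.rep (fun c => φ (σ c)) z a.j * φ x)}
  have x1 : (1 : G) ∈ X := by
    obtain ⟨a, ha, e⟩ := List.mem_map.1 h0
    exact ⟨a, ha, 1, by rw [e, rep_zero, map_one, mul_one]; exact RC.refl _ _⟩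
  have x2 : ∀ x ∈ X, ∀ y ∈ φ.range, x * y ∈ X := by
    rintro x ⟨a, ha, q, a3⟩ _ ⟨c, rfl⟩
    exact ⟨a, ha, q * c, by rw [map_mul, ← mul_assoc]; exact a3.mul _⟩
  have hD : ∀ d ∈ gen σ D.dl, ∃ d', φ d * z = z * φ d' := by
    intro d hd
    induction hd using Subgroup.closure_induction with
    | one => exact ⟨1, by simp⟩
    | mul x y _ _ hx hy =>
      obtain ⟨x', hx⟩ := hx
      obtain ⟨y', hy⟩ := hy
      exact ⟨x' * y', by rw [map_mul, map_mul, mul_assoc, hy, ← mul_assoc, hx, mul_assoc]⟩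
    | inv x _ hx =>
      obtain ⟨x', hx⟩ := hx
      exact ⟨x'⁻¹, by rw [map_inv, map_inv, inv_mul_eq_iff_eq_mul, ← mul_assoc, hx]; group⟩
    | mem x hx =>
      obtain ⟨c, hc, rfl⟩ := hx
      exact ⟨_, h.al c hc⟩
  have x3 : ∀ x ∈ X, x * z ∈ X := by
    rintro x ⟨a, ha, q, a3⟩
    obtain ⟨s, hs, w, hw, d, hd, rfl⟩ := hcov a ha q
    obtain ⟨d', hd'⟩ := hD d hd
    have h1 := live_stab h hu (hc a ha) s hs
    have h2 := hc a ha
    rw [chkLive, and2_true] at h2
    obtain ⟨f, hf⟩ := all2_spec h2.2 w hw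
    simp only [and2_true, H29.beq_true, ble_true, h.mul, h.one, memL_true] at hf
    obtain ⟨⟨a1, a2⟩, ⟨a4, a5⟩, a6⟩ := hf
    obtain ⟨q, -, -, q3⟩ := hu f a1
    obtain ⟨p, p1, p2⟩ := q3 a2
    rw [a4, C.eq p1 (a6 ▸ C.rep_evC h.lc w)] at p2
    obtain ⟨b, hb, e⟩ := List.mem_map.1 a5
    refine ⟨b, hb, q * d', (a3.mul z).trans (((h1.mul (φ (ev σ w) * φ d * z)).congr ?_ ?_).trans
      ((p2.mul (φ d')).congr rfl ?_))⟩
    · rw [map_mul, map_mul]; group
    · rw [mul_assoc (φ (ev σ w)), hd']; group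
    · rw [e, map_mul, mul_assoc]
  have x4 : ∀ y ∈ φ.range ⊔ Subgroup.closure {z}, ∀ x ∈ X, x * y ∈ X := by
    intro y hy
    rw [← Subgroup.closure_eq φ.range, ← Subgroup.closure_union] at hy
    induction hy using Subgroup.closure_induction_right with
    | one => simp
    | mul_right y _ u hu ih =>
      intro x hx
      rw [← mul_assoc]
      rcases hu with hu | rfl
      · exact x2 _ (ih x hx) _ hu
      · exact x3 _ (ih x hx)
    | mul_inv_cancel y _ u hu ih =>
      intro x hx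
      rw [← mul_assoc]
      rcases hu with hu | rfl
      · exact x2 _ (ih x hx) _ (φ.range.inv_mem hu)
      · have := x2 _ (x3 _ (ih x hx)) _ (φ.range.inv_mem hz)
        rwa [show x * y * u * (u * u)⁻¹ = x * y * u⁻¹ by group] at this
  have := x4 g (htop ▸ Subgroup.mem_top g) 1 x1
  rwa [one_mul] at this

end DD

end H19
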