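import Mathlib
import Cfsg.Agent.H19.DCE
import Cfsg.Agent.H29.Cert

/-!
# Double coset enumeration: templates, covering and counting
-/

set_option autoImplicit false

namespace H19
open H29 MulAction

section Templates
variable {G : Type*} [Group G] {g : ℕ → G} {z : G}

theorem evR_append (g : ℕ → G) (z : G) : ∀ u v : List (List ℕ),
    evR g z (u ++ v) = evR g z u * evR g z v
  | [], _ => by simp [evR]
  | a :: u, v => by simp [evR, evR_append g z u v, mul_assoc]

theorem evR_rot {R : List (List ℕ)} (h : evR g z R = 1) (s : ℕ) :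
    evR g z (R.drop s ++ R.take s) = 1 := by
  rw [← List.take_append_drop s R, evR_append] at h
  rw [evR_append, mul_eq_one_comm.1 h]

/-- The inverse of a cyclic relator. -/
noncomputable def invR (iv : ℕ → ℕ) (uw : List ℕ) (R : List (List ℕ)) :
    List (List ℕ) → List (List ℕ) :=
  List.rec (motive := fun _ => List (List ℕ) → List (List ℕ)) (fun acc => acc)
    (fun m _ ih acc => ih (invW iv (uw ++ m) :: acc)) R

theorem evR_invR {iv : ℕ → ℕ} {uw : List ℕ} (hiv : IvOK g iv) (hu : z * z = ev g uw) :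
    ∀ R acc : List (List ℕ), evR g z (invR iv uw R acc) = z * (evR g z R)⁻¹ * z⁻¹ * evR g z acc
  | [], acc => by simp [evR, show invR iv uw [] acc = acc from rfl]
  | m :: R, acc => by
    rw [show invR iv uw (m :: R) acc = invR iv uw R (invW iv (uw ++ m) :: acc) from rfl,
      evR_invR hiv hu R]
    simp only [evR, ev_invW hiv, ev_append, ← hu]
    group

/-- The template made from a rotation of a base relator or of its inverse. -/
noncomputable def mkT (iv : ℕ → ℕ) (uw : List ℕ) (B : List (List (List ℕ))) (o : ℕ × ℕ × ℕ) : DTpl :=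
  List.rec (motive := fun _ => DTpl) ⟨false, [], [], [], []⟩
    (fun m R _ => ⟨true, [], [], uw ++ m, R⟩)
    ((Nat.rec (motive := fun _ => List (List ℕ)) (nth [] B o.1)
        (fun _ _ => invR iv uw (nth [] B o.1) []) o.2.2).drop o.2.1 ++
      (Nat.rec (motive := fun _ => List (List ℕ)) (nth [] B o.1)
        (fun _ _ => invR iv uw (nth [] B o.1) []) o.2.2).take o.2.1)

/-- All templates. -/
noncomputable def tpls (iv : ℕ → ℕ) (uw : List ℕ) (B : List (List (List ℕ)))
    (O : List (ℕ × ℕ × ℕ)) : List DTpl :=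
  ⟨false, [], [], [], []⟩ :: ⟨false, [], [[]], [], [[]]⟩ :: ⟨true, [], [], [], [[]]⟩ ::
    ⟨true, [], [[]], uw, []⟩ ::
    List.rec (motive := fun _ => List DTpl) [] (fun o _ ih => mkT iv uw B o :: ih) O

theorem good_mkT {iv : ℕ → ℕ} {uw : List ℕ} (hiv : IvOK g iv) (hu : z * z = ev g uw)
    {B : List (List (List ℕ))} (hB : ∀ R ∈ B, evR g z R = 1) (o : ℕ × ℕ × ℕ) :
    (mkT iv uw B o).Good g z := by
  have h1 : evR g z (nth [] B o.1) = 1 := nth_forall (p := fun R => evR g z R = 1) rfl hB _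
  have h2 : evR g z (Nat.rec (motive := fun _ => List (List ℕ)) (nth [] B o.1)
      (fun _ _ => invR iv uw (nth [] B o.1) []) o.2.2) = 1 := by
    cases o.2.2 with
    | zero => exact h1
    | succ n =>
      change evR g z (invR iv uw (nth [] B o.1) []) = 1
      rw [evR_invR hiv hu, h1]; simp [evR]
  have h3 := evR_rot h2 o.2.1
  unfold mkT
  generalize List.drop _ _ ++ List.take _ _ = V at h3
  cases V with
  | nil => simp [DTpl.Good]
  | cons m R =>
    change ev g [] * evR g z [] * (if true = true then z else 1) = ev g (uw ++ m) * evR g z R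
    rw [evR, mul_assoc] at h3
    rw [ev_append, ← hu, mul_assoc (z * z), mul_assoc z z, h3]
    simp [evR]

theorem good_tpls {iv : ℕ → ℕ} {uw : List ℕ} (hiv : IvOK g iv) (hu : z * z = ev g uw)
    {B : List (List (List ℕ))} (hB : ∀ R ∈ B, evR g z R = 1) (O : List (ℕ × ℕ × ℕ)) :
    ∀ T ∈ tpls iv uw B O, T.Good g z := by
  simp only [tpls, List.forall_mem_cons]
  refine ⟨by simp [DTpl.Good], by simp [DTpl.Good], by simp [DTpl.Good, evR],
    by simp [DTpl.Good, evR, hu], ?_⟩
  induction O with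
  | nil => simp
  | cons o O ih => exact List.forall_mem_cons.2 ⟨good_mkT hiv hu hB o, ih⟩

/-- Cut a word at the letters `zl` and `zi`. -/
noncomputable def shp (zl zi : ℕ) (ui w : List ℕ) : List ℕ × List (List ℕ) :=
  List.rec (motive := fun _ => List ℕ × List (List ℕ)) ([], []) (fun c _ ih =>
    Bool.rec (Bool.rec (c :: ih.1, ih.2) (ui, ih.1 :: ih.2) (Nat.beq c zi)) ([], ih.1 :: ih.2)
      (Nat.beq c zl)) w

theorem ev_shp {e : ℕ → G} {zl zi : ℕ} {ui : List ℕ} (h : e zi = ev e ui * e zl) : ∀ w : List ℕ,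
    ev e w = ev e (shp zl zi ui w).1 * evR e (e zl) (shp zl zi ui w).2
  | [] => by simp [evR, show shp zl zi ui [] = ([], []) from rfl]
  | c :: w => by
    rw [show shp zl zi ui (c :: w) = Bool.rec (Bool.rec (c :: (shp zl zi ui w).1, (shp zl zi ui w).2)
      (ui, (shp zl zi ui w).1 :: (shp zl zi ui w).2) (Nat.beq c zi))
      ([], (shp zl zi ui w).1 :: (shp zl zi ui w).2) (Nat.beq c zl) from rfl, ev_cons, ev_shp h w]
    cases h1 : Nat.beq c zl with
    | true => simp [evR, H29.beq_true.1 h1, mul_assoc]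
    | false =>
      cases h2 : Nat.beq c zi with
      | true => simp [evR, H29.beq_true.1 h2, h, mul_assoc]
      | false => simp [mul_assoc]

/-- Append a word to the last member of a list of words. -/
noncomputable def appL (p : List ℕ) (R : List (List ℕ)) : List (List ℕ) :=
  List.rec (motive := fun _ => List (List ℕ)) [] (fun m R' ih =>
    List.rec (motive := fun _ => List (List ℕ)) [m ++ p] (fun _ _ _ => m :: ih) R') R

theorem evR_appL (p : List ℕ) : ∀ (m : List ℕ) (R : List (List ℕ)),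
    evR g z (appL p (m :: R)) = evR g z (m :: R) * ev g p
  | m, [] => by simp [evR, show appL p [m] = [m ++ p] from rfl, mul_assoc]
  | m, m' :: R => by
    rw [show appL p (m :: m' :: R) = m :: appL p (m' :: R) from rfl, evR, evR_appL p m' R]
    simp [evR, mul_assoc]

/-- The cyclic relator of a word. -/
noncomputable def cycR (zl zi : ℕ) (ui w : List ℕ) : List (List ℕ) :=
  appL (shp zl zi ui w).1 (shp zl zi ui w).2

theorem evR_congr {e : ℕ → G} {n : ℕ} (h : ∀ c < n, g c = e c) : ∀ {R : List (List ℕ)},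
    (∀ w ∈ R, ∀ c ∈ w, c < n) → evR g z R = evR e z R
  | [], _ => rfl
  | m :: R, hR => by
    rw [evR, evR, evR_congr h fun w hw => hR w (by simp [hw]),
      ev_congr fun c hc => h c (hR m (by simp) c hc)]

/-- Equality test of lists of words. -/
noncomputable def eqLL (A B : List (List ℕ)) : Bool := all2 eqL A B

theorem eqLL_true : ∀ {A B : List (List ℕ)}, eqLL A B = true → A = B
  | [], [], _ => rfl
  | [], _ :: _, h => absurd h (by simp [eqLL, all2])
  | _ :: _, [], h => absurd h (by simp [eqLL, all2])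
  | a :: A, b :: B, h => by
    change and2 (eqL a b) (eqLL A B) = true at h
    rw [and2_true] at h
    rw [eqL_true h.1, eqLL_true h.2]

theorem base_rels {e : ℕ → G} {zl zi n : ℕ} {ui : List ℕ} (h : e zi = ev e ui * e zl)
    (hg : ∀ c < n, g c = e c) {R : List (List ℕ)} (hR : ∀ r ∈ R, ev e r = 1) {l : List ℕ}
    {B : List (List (List ℕ))}
    (hc : all2 (fun i V => and2 (eqLL (cycR zl zi ui (nth [] R i)) V) (chkLt n V)) l B = true) :
    ∀ V ∈ B, evR g (e zl) V = 1 := by
  intro V hV
  obtain ⟨i, hi⟩ := all2_spec hc V hV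
  simp only [and2_true, chkLt, allL_true, ble_true] at hi
  rw [evR_congr hg hi.2, ← eqLL_true hi.1, cycR]
  have h1 : ev e (nth [] R i) = 1 := nth_forall (p := fun w => ev e w = 1) rfl hR _
  rw [ev_shp h] at h1
  generalize shp zl zi ui (nth [] R i) = a at h1
  obtain ⟨p, _ | ⟨m, U⟩⟩ := a
  · rfl
  · rw [evR_appL, mul_eq_one_comm.1 h1]

/-- The action of `z` on the letters `dl`, read from relators. -/
theorem al_of_rels {e : ℕ → G} {iv al : ℕ → ℕ} {zl n : ℕ} (hiv : IvOK e iv)
    (hg : ∀ c < n, g c = e c) {R : List (List ℕ)} (hR : ∀ r ∈ R, ev e r = 1) {dl : List ℕ}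
    (hc : allL dl (fun c => and2 (and2 (Nat.ble (Nat.succ c) n) (Nat.ble (Nat.succ (al c)) n))
      (Bool.rec (memLL [iv zl, c, zl, iv (al c)] R) true (memLL [iv zl, iv c, zl, al c] R))) = true) :
    ∀ c ∈ dl, g c * e zl = e zl * g (al c) := by
  simp only [allL_true, and2_true, ble_true] at hc
  intro c h
  obtain ⟨⟨h1, h2⟩, h3⟩ := hc c h
  rw [hg _ h1, hg _ h2]
  cases h4 : memLL [iv zl, iv c, zl, al c] R with
  | true =>
    have := hR _ (memLL_true h4)
    simp only [ev_cons, ev_nil, hiv _] at this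
    calc _ = e c * e zl * ((e zl)⁻¹ * ((e c)⁻¹ * (e zl * (e (al c) * 1)))) := by rw [this, mul_one]
      _ = _ := by group
  | false =>
    rw [h4] at h3
    have := hR _ (memLL_true h3)
    simp only [ev_cons, ev_nil, hiv _] at this
    calc _ = e zl * ((e zl)⁻¹ * (e c * (e zl * ((e (al c))⁻¹ * 1)))) * e (al c) := by group
      _ = _ := by rw [this, mul_one]

/-- The letters `L` are words in the letters `L'` by the relators. -/
theorem gen_le_of_defs {e : ℕ → G} {iv : ℕ → ℕ} (hiv : IvOK e iv) {R : List (List ℕ)}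
    (hR : ∀ r ∈ R, ev e r = 1) {L' : List ℕ} {l : List (ℕ × ℕ)} {L : List ℕ}
    (hc : and2 (allL l fun a => List.rec (motive := fun _ => Bool) false
        (fun c w _ => and2 (Nat.beq c a.1) (allL w fun y => memL y L')) (nth [] R a.2))
      (allL L fun c => Bool.rec (Bool.rec (memL c L') true (memL c (l.map Prod.fst))) true
        (memL (iv c) (l.map Prod.fst))) = true) : gen e L ≤ gen e L' := by
  simp only [and2_true, allL_true] at hc
  have h1 : ∀ c ∈ l.map Prod.fst, e c ∈ gen e L' := by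
    intro c hc'
    obtain ⟨a, ha, rfl⟩ := List.mem_map.1 hc'
    have h2 := hc.1 a ha
    have h3 : ev e (nth [] R a.2) = 1 := nth_forall (p := fun w => ev e w = 1) rfl hR _
    generalize nth [] R a.2 = r at h2 h3
    cases r with
    | nil => exact absurd h2 (by simp)
    | cons c w =>
      change and2 _ _ = true at h2
      simp only [and2_true, allL_true, H29.beq_true, memL_true] at h2
      rw [ev_cons, mul_eq_one_iff_eq_inv, h2.1] at h3
      rw [h3]
      exact inv_mem (ev_mem_gen h2.2)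
  refine gen_le.2 fun c h => ?_
  have h2 := hc.2 c h
  cases h3 : memL (iv c) (l.map Prod.fst) with
  | true =>
    have := h1 _ (memL_true.1 h3)
    rwa [hiv, inv_mem_iff] at this
  | false =>
    rw [h3] at h2
    cases h4 : memL c (l.map Prod.fst) with
    | true => exact h1 _ (memL_true.1 h4)
    | false => rw [h4] at h2; exact mem_gen (memL_true.1 h2)

end Templates

section Product
variable {G H : Type} [Group G] [Group H]

/-- If two systems of letters satisfy relators that bound the order, and the first one reaches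
the bound, then all its relators hold in the second one. -/
theorem tr_of_bd {e : ℕ → G} {e' : ℕ → H} {iv : ℕ → ℕ} {R : List (List ℕ)} {L : List ℕ} {n : ℕ}
    (hb : ∀ (J : Type) [Group J] (f : ℕ → J), IvOK f iv → (∀ r ∈ R, ev f r = 1) → Bd (gen f L) n)
    (h1 : IvOK e iv) (h2 : IvOK e' iv) (hL : ∀ c ∈ L, iv c ∈ L) (r1 : ∀ r ∈ R, ev e r = 1)
    (r2 : ∀ r ∈ R, ev e' r = 1) (hn : n ≤ Nat.card (gen e L)) : Tr e e' L := by
  let f : ℕ → G × H := fun c => (e c, e' c)
  have h3 : IvOK f iv := fun c => Prod.ext (h1 c) (h2 c)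
  have r3 : ∀ r ∈ R, ev f r = 1 := fun r hr => Prod.ext
    ((map_ev (MonoidHom.fst G H) f r).trans (r1 r hr)) ((map_ev (MonoidHom.snd G H) f r).trans (r2 r hr))
  exact ((Tr.of_hom (MonoidHom.fst G H) fun _ _ => rfl).symm_of_card h3 h1 hL (hb _ f h3 r3) hn).trans
    (Tr.of_hom (MonoidHom.snd G H) fun _ _ => rfl)

theorem hom_of_tr {e : ℕ → G} {e' : ℕ → H} {iv : ℕ → ℕ} {L : List ℕ} (h : Tr e e' L)
    (h1 : IvOK e iv) (h2 : IvOK e' iv) (hL : ∀ c ∈ L, iv c ∈ L) (htop : gen e L = ⊤) :
    ∃ φ : G →* H, ∀ c ∈ L, φ (e c) = e' c := by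
  obtain ⟨f, hf⟩ := h.exists_hom h1 h2 hL
  refine ⟨f.comp ((MulEquiv.subgroupCongr htop).trans Subgroup.topEquiv).symm.toMonoidHom,
    fun c hc => ?_⟩
  have := hf [c] (by simpa using hc)
  rw [show e' c = ev e' [c] by simp, ← this]
  exact congrArg f (Subtype.ext (by simp))

end Product

section Nets
variable {K : Type*} [Group K] {σ : ℕ → K} {ρ : K →* Equiv.Perm ℕ} {nets : ℕ → Net}

theorem gen_wE_le (σ : ℕ → K) (ws : List (List ℕ)) (L : List ℕ) : gen (wE σ ws) L ≤ genW σ ws := by
  refine gen_le.2 fun c _ => ?_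
  exact nth_forall (p := fun w => ev σ w ∈ genW σ ws) (one_mem _)
    (fun w hw => Subgroup.subset_closure ⟨w, hw, rfl⟩) c

/-- All letters of all words lie in `cols`. -/
noncomputable def chkIn (cols : List ℕ) (ws : List (List ℕ)) : Bool :=
  allL ws fun w => allL w fun c => memL c cols

theorem map_wE' {cols : List ℕ} (hρ : ∀ c ∈ cols, ρ (σ c) = sg nets c) {ws : List (List ℕ)}
    (h : chkIn cols ws = true) (c : ℕ) : ρ (wE σ ws c) = sg (wNets nets ws) c := by
  simp only [chkIn, allL_true, memL_true] at h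
  rw [sg_wNets]
  exact nth_forall (p := fun w => ρ (ev σ w) = ev (sg nets) w) (d := []) (map_one ρ)
    (fun w hw => map_ev_sg fun c hc => hρ c (h w hw c hc)) c

/-- The images of the point `0` under some words. -/
noncomputable def startSet (nets : ℕ → Net) (iv : ℕ → ℕ) (pw : List (List ℕ)) : ℕ :=
  List.rec (motive := fun _ => ℕ) 0 (fun w _ ih => Nat.lor (pullW nets (invW iv w) 1) ih) pw

theorem testBit_startSet {N : ℕ} (hn : NetsOK N nets) {iv : ℕ → ℕ} (hiv : IvOK (sg nets) iv) :
    ∀ {pw : List (List ℕ)} {s : ℕ}, (startSet nets iv pw).testBit s = true →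
      ∃ w ∈ pw, ev (sg nets) w 0 = s
  | [], _, h => absurd h (by simp [show startSet nets iv [] = 0 from rfl])
  | w :: pw, s, h => by
    rw [show startSet nets iv (w :: pw) = pullW nets (invW iv w) 1 ||| startSet nets iv pw from rfl,
      Nat.testBit_or, Bool.or_eq_true, testBit_pullW hn, ev_invW hiv,
      Nat.testBit_one_eq_true_iff_self_eq_zero, Equiv.Perm.inv_eq_iff_eq] at h
    rcases h with h | h
    · exact ⟨w, by simp, h.symm⟩
    · obtain ⟨v, hv, e⟩ := testBit_startSet hn hiv h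
      exact ⟨v, by simp [hv], e⟩

theorem cover_of_nets {N N' : ℕ} (hn : NetsOK N' nets) {iv : ℕ → ℕ} (hiv : IvOK (sg nets) iv)
    {D : Subgroup K} (cm : CosetModel ρ D N) {cols : List ℕ} (hρ : ∀ c ∈ cols, ρ (σ c) = sg nets c)
    {gw pw : List (List ℕ)} (h1 : and2 (chkIn cols gw) (chkIn cols pw) = true) {L : List ℕ} {S : ℕ}
    (h2 : sub S (startSet nets iv pw) = true) (h3 : Reach (wNets nets gw) L S (ones N)) (x : K) :
    ∃ s ∈ genW σ gw, ∃ w ∈ pw, ∃ d ∈ D, x = s * ev σ w * d := by
  rw [and2_true] at h1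
  obtain ⟨s, hs, b, hb, e⟩ := h3.exists_mem (fun c _ => map_wE' hρ h1.1 c) (i := ρ x 0)
    (by rw [testBit_ones]; simpa using cm.lt x 0 cm.pos)
  obtain ⟨w, hw, e'⟩ := testBit_startSet hn hiv (sub_true h2 hb)
  have h4 := h1.2
  simp only [chkIn, allL_true, memL_true] at h4
  rw [← map_ev_sg fun c hc => hρ c (h4 w hw c hc)] at e'
  refine ⟨s, gen_wE_le _ _ _ hs, w, hw, (s * ev σ w)⁻¹ * x, (cm.mem _).1 ?_, by group⟩
  rw [map_mul, map_inv, Equiv.Perm.mul_apply, Equiv.Perm.inv_eq_iff_eq, map_mul,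
    Equiv.Perm.mul_apply, e', e]

theorem le_card_of_chain [Finite K] {N N' k : ℕ} (hn : NetsOK N' nets) :
    ∀ (ch : List (ℕ × ℕ × ℕ × List ℕ)) (L : List ℕ), (∀ c ∈ L, ρ (σ c) = sg nets c) →
      chkChain N k nets ch L = true → (ch.map fun a => a.2.2.1).prod ≤ Nat.card (gen σ L)
  | [], L, _, _ => Nat.card_pos
  | a :: ch, L, hρ, h => by
    rw [show chkChain N k nets (a :: ch) L = and2 (and2 (Nat.ble (Nat.succ a.1) N)
      (Nat.ble a.2.2.1 (popc k (orb nets L a.2.1 (bit a.1)))))
      (and2 (allL a.2.2.2 fun c => and2 (memL c L) (sub (bit a.1) ((nets c).pull (bit a.1))))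
        (chkChain N k nets ch a.2.2.2)) from rfl] at h
    simp only [and2_true, ble_true, allL_true, memL_true] at h
    obtain ⟨⟨h1, h2⟩, h3, h4⟩ := h
    have ih := le_card_of_chain hn ch a.2.2.2 (fun c hc => hρ c (h3 c hc).1) h4
    rw [List.map_cons, List.prod_cons]
    refine (Nat.mul_le_mul_left _ ih).trans (card_mul_le_of_orbit (ρ := ρ) (b := a.1)
      (gen_mono fun c hc => (h3 c hc).1) ?_ (h2.trans ?_))
    · have : gen σ a.2.2.2 ≤ stab ρ a.1 := by
        refine gen_le.2 fun c hc => ?_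
        have := sub_true (h3 c hc).2 (i := a.1) (by simp [testBit_bit])
        rw [Net.testBit_pull (hn c), testBit_bit, decide_eq_true_eq] at this
        rw [mem_stab, hρ c (h3 c hc).1]
        exact this.symm
      exact fun g hg => this hg
    · refine popc_le_ncard ?_ fun i hi => ?_
      · exact (Set.finite_range fun g : K => ρ g a.1).subset fun i ⟨g, _, hg⟩ => ⟨g, hg⟩
      · exact ((Reach.refl nets L _).orb hn a.2.1).exists_bit hρ hi

theorem le_card_genW [Finite K] {N N' k : ℕ} (hn : NetsOK N' nets) {cols : List ℕ}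
    (hρ : ∀ c ∈ cols, ρ (σ c) = sg nets c) {ws : List (List ℕ)} (h1 : chkIn cols ws = true)
    {ch : List (ℕ × ℕ × ℕ × List ℕ)} {L : List ℕ} (h2 : chkChain N k (wNets nets ws) ch L = true) :
    (ch.map fun a => a.2.2.1).prod ≤ Nat.card (genW σ ws) :=
  (le_card_of_chain (hn.wNets ws) ch L (fun c _ => map_wE' hρ h1 c) h2).trans
    (Subgroup.card_le_of_le (gen_wE_le _ _ _))

/-- A transitive action with a known big enough subgroup of the stabiliser. -/
theorem cosetModel_of_card [Finite K] {N N' : ℕ} (hn : NetsOK N' nets) {cols : List ℕ}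
    (hρ : ∀ c ∈ cols, ρ (σ c) = sg nets c) (htop : gen σ cols = ⊤) (hN : 0 < N)
    (h1 : chkInv nets cols (ones N) = true) (h2 : Reach nets cols (bit 0) (ones N))
    {D : Subgroup K} (h3 : D ≤ stab ρ 0) (h4 : Nat.card K ≤ N * Nat.card D) : CosetModel ρ D N := by
  have ht : H29.Trans ρ N := ⟨hN, fun g i hi => by
      have := inv_of_chk hn hρ h1 (htop ▸ Subgroup.mem_top g) i
      simpa [testBit_ones, hi] using this,
    fun i hi => by
      obtain ⟨g, -, hg⟩ := h2.exists_bit hρ (i := i) (by simp [testBit_ones, hi])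
      exact ⟨g, hg⟩⟩
  have : D = stab ρ 0 := Subgroup.eq_of_le_of_card_ge h3 (by
    rw [ht.card_eq] at h4
    exact Nat.le_of_mul_le_mul_left h4 hN)
  exact this ▸ ht.cosetModel

theorem genW_le_stab {N' : ℕ} (hn : NetsOK N' nets) {cols : List ℕ}
    (hρ : ∀ c ∈ cols, ρ (σ c) = sg nets c) {ws : List (List ℕ)} (h1 : chkIn cols ws = true)
    (h2 : (allL ws fun w => sub 1 (pullW nets w 1)) = true) : genW σ ws ≤ stab ρ 0 := by
  simp only [chkIn, allL_true, memL_true] at h1 h2
  rw [genW, Subgroup.closure_le]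
  rintro _ ⟨w, hw, rfl⟩
  have := sub_true (h2 w hw) (i := 0) rfl
  rw [testBit_pullW hn, Nat.testBit_one_eq_true_iff_self_eq_zero] at this
  change ρ (ev σ w) 0 = 0
  rwa [map_ev_sg fun c hc => hρ c (h1 w hw c hc)]

end Nets

section Count
variable {G K : Type*} [Group G] [Group K]

/-- The result of a double coset enumeration. -/
structure DCS (φ : K →* G) {m : ℕ} (r : Fin m → G) (S : Fin m → Subgroup K) (n : Fin m → ℕ) :
    Prop where
  fin : Finite K
  cover : ∀ g, ∃ i x, RC φ.range g (r i * φ x)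
  stab : ∀ i, ∀ s ∈ S i, RC φ.range (r i * φ s) (r i)
  card : ∀ i, Nat.card K ≤ n i * Nat.card (S i)

/-- The cosets in a double coset. -/
def dco (H : Subgroup G) (r : G) : Set (G ⧸ H) := orbit H ((r⁻¹ : G) : G ⧸ H)

/-- The stabiliser of a name. -/
def nst (φ : K →* G) (r : G) : Subgroup K :=
  (stabilizer φ.range ((r⁻¹ : G) : G ⧸ φ.range)).comap φ.rangeRestrict

theorem mem_nst {φ : K →* G} {r : G} {x : K} : x ∈ nst φ r ↔ RC φ.range (r * φ x⁻¹) r := by
  rw [rc_iff, mul_inv_rev, map_inv, inv_inv]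
  rfl

theorem index_nst (φ : K →* G) (r : G) : (nst φ r).index = (dco φ.range r).ncard := by
  rw [nst, Subgroup.index_comap_of_surjective _ φ.rangeRestrict_surjective, index_stabilizer, dco]

namespace DCS
variable {φ : K →* G} {m : ℕ} {r : Fin m → G} {S : Fin m → Subgroup K} {n : Fin m → ℕ}

theorem le_nst (h : DCS φ r S n) (i : Fin m) : S i ≤ nst φ (r i) := fun _ hx =>
  mem_nst.2 (h.stab i _ (inv_mem hx))

theorem finite_dco (h : DCS φ r S n) (g : G) : (dco φ.range g).Finite := by
  have := h.fin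
  have : Finite φ.range := Finite.of_surjective _ φ.rangeRestrict_surjective
  exact Set.finite_range _

theorem ncard_le (h : DCS φ r S n) (i : Fin m) : (dco φ.range (r i)).ncard ≤ n i := by
  have := h.fin
  have h1 := h.card i
  rw [← (nst φ (r i)).index_mul_card, index_nst] at h1
  exact Nat.le_of_mul_le_mul_right ((Nat.mul_le_mul_left _
    (Subgroup.card_le_of_le (h.le_nst i))).trans h1) Nat.card_pos

theorem exists_mem (h : DCS φ r S n) (q : G ⧸ φ.range) : ∃ i, q ∈ dco φ.range (r i) := by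
  obtain ⟨g, rfl⟩ := QuotientGroup.mk_surjective q
  obtain ⟨i, x, hx⟩ := h.cover g⁻¹
  refine ⟨i, ⟨(φ x)⁻¹, inv_mem ⟨x, rfl⟩⟩, ?_⟩
  have := rc_iff.1 hx
  rw [inv_inv, mul_inv_rev] at this
  exact this.symm

theorem finite_quot (h : DCS φ r S n) : Finite (G ⧸ φ.range) :=
  Set.finite_univ_iff.1 ((Set.finite_iUnion fun i => h.finite_dco (r i)).subset
    fun q _ => Set.mem_iUnion.2 (h.exists_mem q))

theorem finite (h : DCS φ r S n) : Finite G := by
  have := h.fin
  have := h.finite_quot
  have : Finite φ.range := Finite.of_surjective _ φ.rangeRestrict_surjective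
  exact Finite.of_equiv _ (Subgroup.groupEquivQuotientProdSubgroup (s := φ.range)).symm

theorem ncard_le_sum (h : DCS φ r S n) (Y : Set (G ⧸ φ.range)) :
    Y.ncard ≤ ∑ i, (Y ∩ dco φ.range (r i)).ncard := by
  have := h.finite_quot
  refine le_trans (le_of_eq ?_) (Set.ncard_iUnion_le_of_fintype _)
  congr 1
  ext q
  simpa [Set.mem_iUnion] using fun _ => h.exists_mem q

theorem index_le (h : DCS φ r S n) : φ.range.index ≤ ∑ i, n i := by
  have := h.ncard_le_sum Set.univ
  rw [Set.ncard_univ] at this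
  exact this.trans (Finset.sum_le_sum fun i _ => by rw [Set.univ_inter]; exact h.ncard_le i)

theorem card_le (h : DCS φ r S n) : Nat.card G ≤ (∑ i, n i) * Nat.card K := by
  have := h.fin
  rw [← φ.range.index_mul_card]
  exact Nat.mul_le_mul h.index_le (Nat.card_le_card_of_surjective _ φ.rangeRestrict_surjective)

section exact
variable (h : DCS φ r S n) (hx : (∑ i, n i) * Nat.card K ≤ Nat.card G)
include h hx

theorem index_eq_and : φ.range.index = ∑ i, n i ∧ Nat.card φ.range = Nat.card K := by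
  have := h.fin
  have := h.finite
  have h1 := h.index_le
  have h2 := Nat.card_le_card_of_surjective _ φ.rangeRestrict_surjective
  have h3 : 0 < Nat.card φ.range := Nat.card_pos
  have h4 : 0 < φ.range.index := Nat.pos_of_ne_zero Subgroup.index_ne_zero_of_finite
  rw [← φ.range.index_mul_card] at hx
  constructor <;> nlinarith

theorem index_eq : φ.range.index = ∑ i, n i := (h.index_eq_and hx).1

theorem injective : Function.Injective φ := by
  have := h.fin
  have h1 := (φ.rangeRestrict_surjective.bijective_of_nat_card_le (h.index_eq_and hx).2.ge).1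
  exact fun a b e => h1 (Subtype.ext e)

theorem ncard_split (Y : Set (G ⧸ φ.range)) :
    Y.ncard = ∑ i, (Y ∩ dco φ.range (r i)).ncard ∧ ∀ i, (dco φ.range (r i)).ncard = n i := by
  have := h.finite_quot
  have h1 := h.ncard_le_sum Y
  have h2 := h.ncard_le_sum Yᶜ
  have h3 : Y.ncard + Yᶜ.ncard = ∑ i, n i := by rw [Set.ncard_add_ncard_compl, ← h.index_eq hx]; rfl
  have h4 : ∑ i, (Y ∩ dco φ.range (r i)).ncard + ∑ i, (Yᶜ ∩ dco φ.range (r i)).ncard =
      ∑ i, (dco φ.range (r i)).ncard := by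
    rw [← Finset.sum_add_distrib]
    refine Finset.sum_congr rfl fun i _ => ?_
    rw [← Set.ncard_inter_add_ncard_sdiff_eq_ncard (dco φ.range (r i)) Y, Set.inter_comm Y,
      Set.inter_comm Yᶜ, Set.sdiff_eq]
  have h5 : ∑ i, (dco φ.range (r i)).ncard ≤ ∑ i, n i := Finset.sum_le_sum fun i _ => h.ncard_le i
  refine ⟨by omega, fun i => ?_⟩
  exact (Finset.sum_eq_sum_iff_of_le fun i _ => h.ncard_le i).1 (by omega) i (Finset.mem_univ i)

theorem nst_index (i : Fin m) : (nst φ (r i)).index = n i := by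
  rw [index_nst, (h.ncard_split hx ∅).2]

theorem nst_eq (i : Fin m) : nst φ (r i) = S i := by
  have := h.fin
  refine (Subgroup.eq_of_le_of_card_ge (h.le_nst i) ?_).symm
  have h1 := h.card i
  rw [← (nst φ (r i)).index_mul_card, h.nst_index hx] at h1
  refine Nat.le_of_mul_le_mul_left h1 ?_
  rw [← h.nst_index hx]
  exact Nat.pos_of_ne_zero Subgroup.index_ne_zero_of_finite

/-- A normal subgroup is trivial or transitive on the cosets. -/
theorem normal_cases {i0 i1 : Fin m} (h0 : r i0 = 1) (h1 : (S i1).normalCore = ⊥)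
    (hd : ∀ J : Finset (Fin m), i0 ∈ J → (∑ i ∈ J, n i) ∣ ∑ i, n i → J = {i0} ∨ J = Finset.univ)
    (M : Subgroup G) [M.Normal] : M = ⊥ ∨ (∑ i, n i) ∣ Nat.card M := by
  classical
  have := h.finite_quot
  have := h.finite
  let Y : Set (G ⧸ φ.range) := orbit M ((1 : G) : G ⧸ φ.range)
  have hY : ∀ (g : G), g ∈ φ.range → ∀ q ∈ Y, g • q ∈ Y := by
    rintro g hg _ ⟨x, rfl⟩
    refine ⟨⟨g * x * g⁻¹, Subgroup.Normal.conj_mem inferInstance _ x.2 _⟩, ?_⟩
    change ((g * x * g⁻¹ * 1 : G) : G ⧸ φ.range) = ((g * (x * 1) : G) : G ⧸ φ.range)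
    rw [QuotientGroup.eq]
    simpa [mul_assoc] using hg
  let J : Finset (Fin m) := Finset.univ.filter fun i => (((r i)⁻¹ : G) : G ⧸ φ.range) ∈ Y
  have e1 : Y.ncard = ∑ i ∈ J, n i := by
    rw [(h.ncard_split hx Y).1, Finset.sum_filter]
    refine Finset.sum_congr rfl fun i _ => ?_
    split_ifs with hi
    · rw [← (h.ncard_split hx ∅).2, Set.inter_eq_right.2]
      rintro _ ⟨x, rfl⟩
      exact hY _ x.2 _ hi
    · rw [Set.ncard_eq_zero, Set.eq_empty_iff_forall_notMem]
      rintro _ ⟨a, x, rfl⟩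
      have := hY _ (inv_mem x.2) _ a
      change (x : G)⁻¹ • (x : G) • (((r i)⁻¹ : G) : G ⧸ φ.range) ∈ Y at this
      exact hi (by rwa [inv_smul_smul] at this)
  have e2 : Y.ncard ∣ ∑ i, n i := by
    rw [← h.index_eq hx]
    exact (IsBlock.orbit_of_normal (G := G) _).ncard_dvd_card ⟨_, mem_orbit_self _⟩
  have e3 : i0 ∈ J := by
    simp only [J, Finset.mem_filter, Finset.mem_univ, true_and, h0, inv_one]
    exact mem_orbit_self _
  rcases hd J e3 (e1 ▸ e2) with e | e
  · left
    have e4 : n i0 = 1 := by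
      rw [← h.nst_index hx, Subgroup.index_eq_one, eq_top_iff]
      intro x _
      rw [mem_nst, h0, one_mul, RC, inv_one, mul_one]
      exact ⟨_, rfl⟩
    rw [e, Finset.sum_singleton, e4, Set.ncard_eq_one] at e1
    obtain ⟨q, hq⟩ := e1
    have e5 : M ≤ φ.range := fun x hx' => by
      have a1 : ((x * 1 : G) : G ⧸ φ.range) ∈ Y := ⟨⟨x, hx'⟩, rfl⟩
      have a2 : ((1 : G) : G ⧸ φ.range) ∈ Y := mem_orbit_self _
      rw [hq, Set.mem_singleton_iff] at a1 a2
      simpa using QuotientGroup.eq.1 (a2.trans a1.symm)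
    have e6 : M.comap φ ≤ (S i1).normalCore := by
      rw [Subgroup.normal_le_normalCore, ← h.nst_eq hx]
      intro x hx'
      rw [mem_nst, RC]
      exact e5 (Subgroup.Normal.conj_mem inferInstance _ (by rw [map_inv]; exact inv_mem hx') _)
    rw [eq_bot_iff]
    intro x hx'
    obtain ⟨y, rfl⟩ := e5 hx'
    have := e6 hx'
    rw [h1, Subgroup.mem_bot] at this
    rw [this, map_one]; exact one_mem _
  · right
    rw [← e, ← e1, ← index_stabilizer]
    exact Subgroup.index_dvd_card _

end exact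

end DCS

end Count

end H19
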