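import Mathlib
import Cfsg.Agent.H19.DCE2

/-!
# Double coset enumeration: assembly, letters in subgroups, divisibility from orbits of vectors
-/

set_option autoImplicit false

namespace H19
open H29 MulAction

theorem DD.dcs {D : DD} {G K : Type*} [Group G] [Group K] {C : Codes K} {σ : ℕ → K} {φ : K →* G}
    {z : G} (h : D.Hyp C σ φ z) {i : ℕ} (hu : D.Upto C σ φ z i) {L : List DLive}
    (hc : allL L (D.chkLive i (L.map DLive.j)) = true) (h0 : 0 ∈ L.map DLive.j)
    (hz : z * z ∈ φ.range) (htop : φ.range ⊔ Subgroup.closure {z} = ⊤)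
    (hcov : ∀ a ∈ L, ∀ x : K, ∃ s ∈ genW σ a.gw, ∃ w ∈ a.pw, ∃ d ∈ gen σ D.dl, x = s * ev σ w * d)
    [Finite K] {n : Fin L.length → ℕ}
    (hn : ∀ i, Nat.card K ≤ n i * Nat.card (genW σ (L.get i).gw)) :
    DCS φ (fun i => D.rep (fun c => φ (σ c)) z (L.get i).j) (fun i => genW σ (L.get i).gw) n where
  fin := inferInstance
  cover g := by
    obtain ⟨a, ha, x, hx⟩ := DD.live_cover h hu hc h0 hz htop hcov g
    obtain ⟨i, rfl⟩ := List.get_of_mem ha
    exact ⟨i, x, hx⟩
  stab i := DD.live_stab h hu (allL_true.1 hc _ (List.get_mem L i))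
  card := hn

section Sub
variable {G : Type*} [Group G] {σ : ℕ → G} {Γ : Subgroup G}

/-- Letters as elements of a subgroup. -/
def subL (h : ∀ c, σ c ∈ Γ) (c : ℕ) : Γ := ⟨σ c, h c⟩

theorem coe_ev_subL (h : ∀ c, σ c ∈ Γ) (w : List ℕ) : ((ev (subL h) w : Γ) : G) = ev σ w :=
  map_ev Γ.subtype (subL h) w

theorem ivOK_subL (h : ∀ c, σ c ∈ Γ) {iv : ℕ → ℕ} (hiv : IvOK σ iv) : IvOK (subL h) iv :=
  fun c => Subtype.ext (hiv c)

theorem rels_subL (h : ∀ c, σ c ∈ Γ) {R : List (List ℕ)} (hR : ∀ r ∈ R, ev σ r = 1) :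
    ∀ r ∈ R, ev (subL h) r = 1 := fun r hr => Subtype.ext ((coe_ev_subL h r).trans (hR r hr))

theorem gen_subL (h : ∀ c, σ c ∈ Γ) {L : List ℕ} (hL : Γ ≤ gen σ L) : gen (subL h) L = ⊤ := by
  apply Subgroup.map_injective Γ.subtype_injective
  rw [map_gen, ← MonoidHom.range_eq_map, Subgroup.range_subtype]
  exact le_antisymm (gen_le.2 fun c _ => h c) hL

theorem range_eq_gen {K : Type*} [Group K] {τ : ℕ → K} {φ : K →* G} {L : List ℕ}
    (h : ∀ c ∈ L, φ (τ c) = σ c) (htop : gen τ L = ⊤) : φ.range = gen σ L := by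
  rw [MonoidHom.range_eq_map, ← htop, map_gen, gen_congr h]

theorem wE_mem (h : ∀ c, σ c ∈ Γ) (ws : List (List ℕ)) (c : ℕ) : wE σ ws c ∈ Γ :=
  ev_mem fun c _ => h c

theorem map_wE_eq {H : Type*} [Group H] (f : G →* H) (σ : ℕ → G) (ws : List (List ℕ)) (c : ℕ) :
    f (wE σ ws c) = wE (fun c => f (σ c)) ws c := map_ev f σ _

theorem Codes.rep_wE (C : Codes G) {lc : ℕ → ℕ} (h : ∀ c, C.Rep (σ c) (lc c))
    {ws : List (List ℕ)} {xs : List ℕ} (hl : xs.length ≤ ws.length)
    (hc : ∀ k < ws.length, Nat.beq (evC C.mul C.one lc (nth [] ws k)) (nth C.one xs k) = true)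
    (k : ℕ) : C.Rep (wE σ ws k) (nth C.one xs k) := by
  by_cases hk : k < ws.length
  · exact H29.beq_true.1 (hc k hk) ▸ C.rep_evC h _
  · rw [wE, nth_default _ (by omega), nth_default _ (by omega)]
    exact C.rep_one

end Sub

section Vec
variable {P : PM} {I : Type} [Fintype I] [DecidableEq I] {ε : I ≃ Fin P.n}

/-- Grow an orbit: each step applies a letter to an earlier member. -/
noncomputable def grow (mul : ℕ → ℕ → ℕ) (lc : ℕ → ℕ) (L : List ℕ) (k : List ℕ → Bool)
    (st : List (ℕ × ℕ)) : List ℕ → Bool :=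
  List.rec (motive := fun _ => List ℕ → Bool) k (fun a _ ih O =>
    List.rec (motive := fun _ => Bool) false (fun x _ _ => seqN (mul x (lc a.2)) fun y =>
      and2 (and2 (memL a.2 L) (Bool.rec true false (memL y O))) (ih (y :: O))) (O.drop a.1)) st

/-- A chain of orbits of vectors: each level is `(v, steps, L')`. -/
noncomputable def chkVec (P : PM) (w : ℕ) (lc : ℕ → ℕ) (ch : List (ℕ × List (ℕ × ℕ) × List ℕ)) :
    List ℕ → Bool :=
  List.rec (motive := fun _ => List ℕ → Bool) (fun _ => true) (fun a _ ih L =>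
    and2 (and2 (P.chkRed w a.1) (grow P.mul lc L
        (fun O => allL O fun x => allL L fun c => seqN (P.mul x (lc c)) fun y => memL y O) a.2.1 [a.1]))
      (and2 (allL a.2.2 fun c => and2 (memL c L) (Nat.beq (P.mul a.1 (lc c)) a.1)) (ih a.2.2))) ch

theorem grow_spec {mul : ℕ → ℕ → ℕ} {lc : ℕ → ℕ} {L : List ℕ} {k : List ℕ → Bool} {p : ℕ → Prop}
    (hp : ∀ x, p x → ∀ c ∈ L, p (mul x (lc c))) : ∀ (st : List (ℕ × ℕ)) (O : List ℕ), O.Nodup →
      (∀ x ∈ O, p x) → grow mul lc L k st O = true →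
      ∃ O' : List ℕ, O'.Nodup ∧ (∀ x ∈ O', p x) ∧ (∀ x ∈ O, x ∈ O') ∧
        O'.length = O.length + st.length ∧ k O' = true
  | [], O, h1, h2, h3 => ⟨O, h1, h2, fun _ h => h, rfl, h3⟩
  | a :: st, O, h1, h2, h3 => by
    change List.rec (motive := fun _ => Bool) false (fun x _ _ => seqN (mul x (lc a.2)) fun y =>
      and2 (and2 (memL a.2 L) (Bool.rec true false (memL y O))) (grow mul lc L k st (y :: O)))
      (O.drop a.1) = true at h3
    have h4 : ∀ x ∈ O.drop a.1, p x := fun x hx => h2 x (List.mem_of_mem_drop hx)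
    generalize O.drop a.1 = U at h3 h4
    cases U with
    | nil => exact absurd h3 (by simp)
    | cons x U =>
      change seqN _ _ = true at h3
      simp only [seqN_eq, and2_true, memL_true] at h3
      obtain ⟨⟨a1, a2⟩, a3⟩ := h3
      have a4 : mul x (lc a.2) ∉ O := fun h => by rw [memL_true.2 h] at a2; exact absurd a2 (by simp)
      obtain ⟨O', b1, b2, b3, b4, b5⟩ := grow_spec hp st _ (List.nodup_cons.2 ⟨a4, h1⟩)
        (List.forall_mem_cons.2 ⟨hp x (h4 x (by simp)) _ a1, h2⟩) a3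
      exact ⟨O', b1, b2, fun y hy => b3 y (by simp [hy]), by simp at b4 ⊢; omega, b5⟩

theorem dvd_step {G X : Type*} [Group G] [MulAction G X] {σ : ℕ → G} {L L' : List ℕ}
    [Finite (gen σ L)] {v : X} {O : Set X} (hv : v ∈ O) (hO : ∀ x ∈ O, x ∈ orbit (gen σ L) v)
    (hcl : ∀ x ∈ O, ∀ c ∈ L, (σ c)⁻¹ • x ∈ O) (hle : gen σ L' ≤ gen σ L)
    (hfix : ∀ c ∈ L', (σ c)⁻¹ • v = v) : O.ncard * Nat.card (gen σ L') ∣ Nat.card (gen σ L) := by
  have e1 : orbit (gen σ L) v = O := by
    refine Set.Subset.antisymm ?_ hO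
    rintro _ ⟨⟨g, hg⟩, rfl⟩
    have key : ∀ g ∈ gen σ L, ∀ X ∈ O, g⁻¹ • X ∈ O := by
      intro g hg
      have hg' : g ∈ Submonoid.closure (σ '' {c | c ∈ L}) := by
        have e : (Subgroup.closure (σ '' {c | c ∈ L})).toSubmonoid =
            Submonoid.closure (σ '' {c | c ∈ L}) := by
          refine le_antisymm ?_ (Subgroup.le_closure_toSubmonoid _)
          rw [Subgroup.closure_toSubmonoid, Submonoid.closure_le]
          rintro y (hy | hy)
          · exact Submonoid.subset_closure hy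
          · have y1 : IsOfFinOrder y⁻¹ := by
              have := isOfFinOrder_of_finite (⟨y⁻¹, Subgroup.subset_closure hy⟩ : gen σ L)
              exact (Subgroup.subtype _).isOfFinOrder this
            have y2 := y1.mem_powers_iff_mem_zpowers.2 (Subgroup.inv_mem _ (Subgroup.mem_zpowers _))
            rw [inv_inv] at y2
            exact Submonoid.powers_le.2 (Submonoid.subset_closure (Set.mem_inv.1 hy)) y2
        rw [← e]; exact hg
      clear hg
      induction hg' using Submonoid.closure_induction with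
      | one => simp
      | mul x y _ _ hx hy => intro X hX; rw [mul_inv_rev, mul_smul]; exact hy _ (hx _ hX)
      | mem x hx =>
        obtain ⟨c, hc, rfl⟩ := hx
        exact fun X hX => hcl X hX c hc
    have := key _ (inv_mem hg) _ hv
    rwa [inv_inv] at this
  have e3 : (gen σ L').subgroupOf (gen σ L) ≤ stabilizer (gen σ L) v := by
    have : gen σ L' ≤ stabilizer G v := gen_le.2 fun c hc => by
      rw [← inv_mem_iff, mem_stabilizer_iff]
      exact hfix c hc
    exact fun x hx => this hx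
  rw [← (stabilizer (gen σ L) v).index_mul_card, index_stabilizer, e1]
  refine Nat.mul_dvd_mul_left _ ?_
  rw [← Nat.card_congr (Subgroup.subgroupOfEquivOfLe hle).toEquiv]
  exact Subgroup.card_dvd_of_le e3

/-- Matrices with the action by multiplication on the right. -/
structure RV (I R : Type) where
  x : Matrix I I R

instance instRVAct (I : Type) [Fintype I] [DecidableEq I] (R : Type) [CommRing R] :
    MulAction (GL I R) (RV I R) where
  smul g X := ⟨X.x * (g⁻¹ : GL I R)⟩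
  one_smul X := by change RV.mk (X.x * _) = X; simp
  mul_smul g g' X := by change RV.mk (X.x * _) = ⟨X.x * _ * _⟩; simp [mul_assoc]

theorem dvd_of_chkVec (h : P.OK) {σ : ℕ → GL I (ZMod P.p)} {lc : ℕ → ℕ}
    (hl : ∀ c, P.Rep ε (σ c) (lc c)) {w : ℕ} : ∀ (ch : List (ℕ × List (ℕ × ℕ) × List ℕ))
      (L : List ℕ), Finite (gen σ L) → chkVec P w lc ch L = true →
      (ch.map fun a => a.2.1.length + 1).prod ∣ Nat.card (gen σ L)
  | [], _, _, _ => one_dvd _
  | a :: ch, L, hf, hc => by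
    change and2 (and2 _ _) (and2 _ (chkVec P w lc ch a.2.2)) = true at hc
    simp only [and2_true, allL_true, memL_true, H29.beq_true] at hc
    obtain ⟨⟨h1, h2⟩, h3, h4⟩ := hc
    have hle : gen σ a.2.2 ≤ gen σ L := gen_mono fun c hc => (h3 c hc).1
    have ih := dvd_of_chkVec h hl ch a.2.2 (Finite.of_injective _ (Subgroup.inclusion_injective hle)) h4
    have r1 := h.red_of_chk h1
    let f : ℕ → RV I (ZMod P.p) := fun x => ⟨P.dec ε x⟩
    have hf : ∀ x, P.Red x → ∀ c, (σ c)⁻¹ • f x = f (P.mul x (lc c)) := fun x hx c => by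
      change RV.mk (P.dec ε x * ((σ c)⁻¹⁻¹ : GL I (ZMod P.p)).val) = ⟨_⟩
      rw [inv_inv, h.dec_mul hx (hl c).1, (hl c).2]
    obtain ⟨O, b1, b2, b3, b4, b5⟩ := grow_spec
      (p := fun x => P.Red x ∧ f x ∈ orbit (gen σ L) (f a.1)) (by
        rintro x ⟨x1, g, x2⟩ c hc
        refine ⟨h.red_mul x1 (hl c).1, ⟨(σ c)⁻¹, inv_mem (mem_gen hc)⟩ * g, ?_⟩
        rw [← hf x x1, ← x2]
        exact mul_smul _ g _) _ _ (List.nodup_singleton _)
      (fun x hx => by rw [List.mem_singleton.1 hx]; exact ⟨r1, mem_orbit_self _⟩) h2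
    simp only [allL_true, seqN_eq, memL_true] at b5
    have := dvd_step (σ := σ) (L := L) (L' := a.2.2) (v := f a.1) (O := f '' {x | x ∈ O})
      ⟨a.1, b3 _ (by simp), rfl⟩ (by rintro _ ⟨x, hx, rfl⟩; exact (b2 x hx).2)
      (by rintro _ ⟨x, hx, rfl⟩ c hc; exact ⟨_, b5 x hx c hc, (hf x (b2 x hx).1 c).symm⟩) hle
      (fun c hc => by rw [hf _ r1, (h3 c hc).2])
    have hinj : Set.InjOn f {x | x ∈ O} := fun x hx y hy e =>
      h.dec_inj (ε := ε) (b2 x hx).1 (b2 y hy).1 (congrArg RV.x e)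
    rw [hinj.ncard_image,
      show {x | x ∈ O} = (O.toFinset : Set ℕ) by simp,
      Set.ncard_coe_finset, List.toFinset_card_of_nodup b1, b4, add_comm] at this
    exact (Nat.mul_dvd_mul_left _ ih).trans this

end Vec

end H19
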