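import Mathlib
import Cfsg.Agent.H19.DCE3

/-!
# Double coset enumeration: small additions
-/

set_option autoImplicit false

namespace H19
open H29 MulAction

theorem gen_le_genW {K : Type*} [Group K] {σ : ℕ → K} {iv : ℕ → ℕ} (hiv : IvOK σ iv) {L : List ℕ}
    {ws : List (List ℕ)}
    (h : (allL L fun c => Bool.rec (memLL [iv c] ws) true (memLL [c] ws)) = true) :
    gen σ L ≤ genW σ ws := by
  rw [allL_true] at h
  refine gen_le.2 fun c hc => ?_
  have h1 := h c hc
  cases h2 : memLL [c] ws with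
  | true => exact Subgroup.subset_closure ⟨_, memLL_true h2, by simp⟩
  | false =>
    rw [h2] at h1
    rw [← inv_mem_iff, ← hiv]
    exact Subgroup.subset_closure ⟨_, memLL_true h1, by simp⟩

theorem sq_of_rel {G : Type*} [Group G] {e : ℕ → G} {iv : ℕ → ℕ} (hiv : IvOK e iv) {zl : ℕ}
    {ui : List ℕ} (h : ev e (zl :: zl :: ui) = 1) :
    e zl * e zl = ev e (invW iv ui) ∧ e (iv zl) = ev e ui * e zl := by
  rw [ev_cons, ev_cons, ← mul_assoc, mul_eq_one_iff_eq_inv] at h
  refine ⟨by rw [ev_invW hiv, h], ?_⟩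
  rw [hiv, ← inv_inv (ev e ui), ← h]
  group

theorem range_sup_eq_top {G K : Type*} [Group G] [Group K] {φ : K →* G} {e : ℕ → G} {σ : ℕ → K}
    {iv : ℕ → ℕ} (hiv : IvOK e iv) {L : List ℕ} (htop : gen e L = ⊤) {n zl : ℕ}
    (hφ : ∀ c < n, φ (σ c) = e c) (h : ∀ c ∈ L, c < n ∨ c = zl ∨ c = iv zl) :
    φ.range ⊔ Subgroup.closure {e zl} = ⊤ := by
  rw [eq_top_iff, ← htop, gen_le]
  intro c hc
  rcases h c hc with h | rfl | rfl
  · exact Subgroup.mem_sup_left ⟨_, hφ c h⟩
  · exact Subgroup.mem_sup_right (Subgroup.subset_closure rfl)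
  · rw [hiv]; exact inv_mem (Subgroup.mem_sup_right (Subgroup.subset_closure rfl))

end H19
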