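import Mathlib
import Cfsg.Agent.H19.DCE4

/-!
# Upper bounds for centralisers from fixed points; enumeration of small groups by codes
-/

set_option autoImplicit false

namespace H19
open H29 MulAction Subgroup

theorem ncard_of_fibers {α β : Type*} [Finite α] {A : Set α} {B : Set β} (f : α → β) {k : ℕ}
    (hB : B.Finite) (h1 : ∀ a ∈ A, f a ∈ B) (h2 : ∀ b ∈ B, {a | a ∈ A ∧ f a = b}.ncard = k) :
    A.ncard = B.ncard * k := by
  classical
  have hA := A.toFinite
  rw [Set.ncard_eq_toFinset_card _ hA, Set.ncard_eq_toFinset_card _ hB,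
    Finset.card_eq_sum_card_fiberwise (f := f) (t := hB.toFinset) (fun a ha => by simpa using h1 a (by simpa using ha)),
    Finset.sum_const_nat]
  intro b hb
  rw [← h2 b (by simpa using hb), ← Set.ncard_coe_finset]
  congr 1
  ext a
  simp

theorem card_cent_mul {X Ω : Type*} [Group X] [Finite X] [MulAction X Ω] (t : X) (ω : Ω) :
    Nat.card (centralizer ({t} : Set X)) * {s | s ∈ stabilizer X ω ∧ IsConj t s}.ncard =
      {p | p ∈ orbit X ω ∧ t • p = p}.ncard * Nat.card (stabilizer X ω) := by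
  let A : Set X := {g | g⁻¹ * t * g ∈ stabilizer X ω}
  have e1 : A.ncard = {p | p ∈ orbit X ω ∧ t • p = p}.ncard * Nat.card (stabilizer X ω) := by
    refine ncard_of_fibers (fun g => g • ω) ((Set.finite_range _).subset fun _ h => h.1)
      (fun g hg => ⟨mem_orbit _ _, ?_⟩) ?_
    · have : (g⁻¹ * t * g) • ω = ω := hg
      rwa [mul_smul, mul_smul, inv_smul_eq_iff] at this
    · rintro _ ⟨⟨g, rfl⟩, hg⟩
      rw [← SetLike.coe_sort_coe, Nat.card_coe_set_eq,
        ← Set.ncard_image_of_injective (stabilizer X ω : Set X) (mul_right_injective g)]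
      congr 1
      ext a
      constructor
      · rintro ⟨-, ha⟩
        exact ⟨g⁻¹ * a, by
          change (g⁻¹ * a) • ω = ω
          rw [mul_smul, inv_smul_eq_iff]; exact ha, by simp⟩
      · rintro ⟨s, hs, rfl⟩
        have hs' : s • ω = ω := hs
        have hg' : t • g • ω = g • ω := hg
        refine ⟨?_, by change (g * s) • ω = g • ω; rw [mul_smul, hs']⟩
        change ((g * s)⁻¹ * t * (g * s)) • ω = ω
        rw [mul_smul, mul_smul, inv_smul_eq_iff, mul_smul, hs', hg']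
  have e2 : A.ncard = {s | s ∈ stabilizer X ω ∧ IsConj t s}.ncard *
      Nat.card (centralizer ({t} : Set X)) := by
    refine ncard_of_fibers (fun g => g⁻¹ * t * g) (Set.toFinite _)
      (fun g hg => ⟨hg, isConj_iff.2 ⟨g⁻¹, by simp⟩⟩) ?_
    rintro s ⟨h1, h2⟩
    obtain ⟨g, rfl⟩ := isConj_iff.1 h2
    rw [← SetLike.coe_sort_coe, Nat.card_coe_set_eq,
      ← Set.ncard_image_of_injective (centralizer ({t} : Set X) : Set X) (mul_left_injective g⁻¹)]
    congr 1
    ext a
    constructor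
    · rintro ⟨-, ha⟩
      refine ⟨a * g, ?_, by simp⟩
      rw [SetLike.mem_coe, mem_centralizer_singleton_iff]
      have : t = a * (g * t * g⁻¹) * a⁻¹ := by rw [← ha]; group
      conv_rhs => rw [this]
      group
    · rintro ⟨c, hc, rfl⟩
      rw [SetLike.mem_coe, mem_centralizer_singleton_iff] at hc
      have : (c * g⁻¹)⁻¹ * t * (c * g⁻¹) = g * t * g⁻¹ := by
        rw [mul_assoc, ← mul_assoc t, ← hc]; group
      exact ⟨by change (c * g⁻¹)⁻¹ * t * (c * g⁻¹) ∈ stabilizer X ω; rwa [this], this⟩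
  rw [← e1, e2, mul_comm]

theorem card_cent_mul_top {X : Type*} [Group X] [Finite X] (t : X) :
    Nat.card (centralizer ({t} : Set X)) * {s | s ∈ (⊤ : Subgroup X) ∧ IsConj t s}.ncard =
      1 * Nat.card (⊤ : Subgroup X) := by
  let _ : MulAction X Unit := { smul := fun _ _ => (), one_smul := fun _ => rfl, mul_smul := fun _ _ _ => rfl }
  have := card_cent_mul t ()
  rw [show stabilizer X () = ⊤ from eq_top_iff.2 fun _ _ => rfl,
    show {p | p ∈ orbit X () ∧ t • p = p} = {()} from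
      Set.eq_singleton_iff_unique_mem.2 ⟨⟨mem_orbit_self _, rfl⟩, fun _ _ => rfl⟩,
    Set.ncard_singleton] at this
  exact this

theorem cosetModel_cent {K : Type*} [Group K] [Finite K] {ρ : K →* Equiv.Perm ℕ} {D : Subgroup K}
    {N : ℕ} (cm : CosetModel ρ D N) (t : K) :
    Nat.card (centralizer ({t} : Set K)) * {s | s ∈ D ∧ IsConj t s}.ncard =
      {i | i < N ∧ ρ t i = i}.ncard * Nat.card D := by
  let _ : MulAction K ℕ := MulAction.compHom ℕ ρ
  have := card_cent_mul t (0 : ℕ)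
  rw [show stabilizer K (0 : ℕ) = D from Subgroup.ext fun g => cm.mem g,
    show {p | p ∈ orbit K (0 : ℕ) ∧ t • p = p} = {i | i < N ∧ ρ t i = i} from Set.ext fun i =>
      and_congr ⟨fun ⟨g, hg⟩ => hg ▸ cm.lt g 0 cm.pos, fun hi => cm.trans i hi⟩ Iff.rfl] at this
  exact this

theorem DCS.card_cent_le {G K : Type*} [Group G] [Group K] {φ : K →* G} {m : ℕ} {r : Fin m → G}
    {S : Fin m → Subgroup K} {n : Fin m → ℕ} (h : DCS φ r S n)
    (hx : (∑ i, n i) * Nat.card K ≤ Nat.card G) (t : K) {f : Fin m → ℕ}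
    (hf : ∀ i, Nat.card (centralizer ({t} : Set K)) * {s | s ∈ S i ∧ IsConj t s}.ncard ≤
      f i * Nat.card (S i)) :
    Nat.card (centralizer ({φ t} : Set G)) ≤ (∑ i, f i) * Nat.card (centralizer ({t} : Set K)) := by
  have := h.fin
  have := h.finite
  let Y : Set (G ⧸ φ.range) := {q | φ t • q = q}
  have e1 : Y.ncard ≤ ∑ i, f i := by
    refine (h.ncard_le_sum Y).trans (Finset.sum_le_sum fun i _ => ?_)
    let _ : MulAction K (G ⧸ φ.range) := MulAction.compHom _ φ
    have a := card_cent_mul t (((r i)⁻¹ : G) : G ⧸ φ.range)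
    rw [show stabilizer K (((r i)⁻¹ : G) : G ⧸ φ.range) = nst φ (r i) from rfl, h.nst_eq hx,
      show {p | p ∈ orbit K (((r i)⁻¹ : G) : G ⧸ φ.range) ∧ t • p = p} = Y ∩ dco φ.range (r i) from
        Set.ext fun q => ⟨fun ⟨⟨g, hg⟩, b⟩ => ⟨b, ⟨⟨φ g, g, rfl⟩, hg⟩⟩,
          fun ⟨b, ⟨_, g, rfl⟩, hg⟩ => ⟨⟨g, hg⟩, b⟩⟩] at a
    exact Nat.le_of_mul_le_mul_right (a ▸ hf i) Nat.card_pos
  let Z := centralizer ({φ t} : Set G)
  rw [← (stabilizer Z ((1 : G) : G ⧸ φ.range)).index_mul_card, index_stabilizer]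
  refine Nat.mul_le_mul (le_trans (Set.ncard_le_ncard ?_ (Set.toFinite _)) e1) ?_
  · rintro _ ⟨c, rfl⟩
    change ((φ t * (c * 1) : G) : G ⧸ φ.range) = ((c * 1 : G) : G ⧸ φ.range)
    rw [mul_one, ← mem_centralizer_singleton_iff.1 c.2, QuotientGroup.eq]
    simp
  · refine Nat.card_le_card_of_surjective (fun y => ⟨⟨φ y, ?_⟩, ?_⟩) ?_
    · rw [mem_centralizer_singleton_iff, ← map_mul, ← map_mul, mem_centralizer_singleton_iff.1 y.2]
    · change ((φ y * 1 : G) : G ⧸ φ.range) = ((1 : G) : G ⧸ φ.range)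
      rw [QuotientGroup.eq]
      simp
    · rintro ⟨⟨c, hc⟩, hs⟩
      have : ((c * 1 : G) : G ⧸ φ.range) = ((1 : G) : G ⧸ φ.range) := hs
      rw [QuotientGroup.eq, mul_one, mul_one, inv_mem_iff] at this
      obtain ⟨y, rfl⟩ := this
      refine ⟨⟨y, ?_⟩, rfl⟩
      rw [mem_centralizer_singleton_iff] at hc ⊢
      exact h.injective hx (by rw [map_mul, map_mul, hc])

/-- The points below `N` not moved by the word `w`. -/
noncomputable def fixM (N k : ℕ) (nets : ℕ → Net) (w : List ℕ) : ℕ :=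
  Nat.rec (motive := fun _ => ℕ) (ones N) (fun j ih =>
    Nat.land ih (Nat.xor (ones N) (Nat.xor (pullW nets w (idK N k j)) (idK N k j)))) k

theorem ncard_fix_le {N k f : ℕ} {nets : ℕ → Net} (hn : NetsOK N nets) (hK : N ≤ 2 ^ k)
    {w : List ℕ} (h : (seqN (fixM N k nets w) fun V => and2 (Nat.beq (Nat.shiftRight V (Nat.pow 2 k)) 0)
      (Nat.ble (popc k V) f)) = true) : {i | i < N ∧ ev (sg nets) w i = i}.ncard ≤ f := by
  simp only [seqN_eq, and2_true, H29.beq_true, ble_true] at h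
  refine le_trans (Set.ncard_le_ncard ?_ ?_) ((ncard_bits h.1).le.trans h.2)
  · rintro i ⟨h1, h2⟩
    have : ∀ m, (Nat.rec (motive := fun _ => ℕ) (ones N) (fun j ih =>
        Nat.land ih (Nat.xor (ones N) (Nat.xor (pullW nets w (idK N k j)) (idK N k j)))) m).testBit i =
        true := by
      intro m
      induction m with
      | zero => simp [testBit_ones, h1]
      | succ m ih =>
        change (_ &&& (ones N ^^^ (pullW nets w (idK N k m) ^^^ idK N k m))).testBit i = true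
        rw [Nat.testBit_and, ih, Nat.testBit_xor, Nat.testBit_xor, testBit_pullW hn, h2]
        simp [testBit_ones, h1]
    exact this k
  · refine (Set.finite_lt_nat (fixM N k nets w)).subset fun i hi => ?_
    exact lt_of_lt_of_le Nat.lt_two_pow_self (Nat.ge_two_pow_of_testBit hi)

/-- The values of `f` on `l` increase from `a` to `b`, and at most `c` of them pass the test. -/
structure En (f : ℕ → ℕ) (test : ℕ → Bool) (l : List ℕ) (a b c : ℕ) : Prop where
  sorted : (l.map f).Pairwise (· < ·)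
  lo : ∀ n ∈ l, a < f n
  hi : ∀ n ∈ l, f n ≤ b
  ab : a ≤ b
  cnt : (l.map f).countP test ≤ c

theorem En.append {f : ℕ → ℕ} {test : ℕ → Bool} {l l' : List ℕ} {a b c d c' : ℕ}
    (h : En f test l a b c) (h' : En f test l' b d c') : En f test (l ++ l') a d (c + c') where
  sorted := by
    rw [List.map_append, List.pairwise_append]
    refine ⟨h.sorted, h'.sorted, fun x hx y hy => ?_⟩
    obtain ⟨n, hn, rfl⟩ := List.mem_map.1 hx
    obtain ⟨m, hm, rfl⟩ := List.mem_map.1 hy
    exact lt_of_le_of_lt (h.hi n hn) (h'.lo m hm)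
  lo n hn := (List.mem_append.1 hn).elim (h.lo n) fun e => lt_of_le_of_lt h.ab (h'.lo n e)
  hi n hn := (List.mem_append.1 hn).elim (fun e => (h.hi n e).trans h'.ab) (h'.hi n)
  ab := h.ab.trans h'.ab
  cnt := by rw [List.map_append, List.countP_append]; exact Nat.add_le_add h.cnt h'.cnt

/-- The test of `En`. -/
noncomputable def chkEn (f : ℕ → ℕ) (test : ℕ → Bool) (b : ℕ) (l : List ℕ) : ℕ → ℕ → Bool :=
  List.rec (motive := fun _ => ℕ → ℕ → Bool) (fun a _ => Nat.ble a b) (fun n _ ih a c =>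
    seqN (f n) fun x => and2 (Nat.ble (Nat.succ a) x)
      (Bool.rec (ih x c) (Nat.rec (motive := fun _ => Bool) false (fun c' _ => ih x c') c) (test x))) l

theorem en_of_chk {f : ℕ → ℕ} {test : ℕ → Bool} {b : ℕ} : ∀ {l : List ℕ} {a c : ℕ},
    chkEn f test b l a c = true → En f test l a b c
  | [], a, c, h => ⟨by simp, by simp, by simp, ble_true.1 h, by simp⟩
  | n :: l, a, c, h => by
    change seqN (f n) (fun x => and2 (Nat.ble (Nat.succ a) x) (Bool.rec (chkEn f test b l x c)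
      (Nat.rec (motive := fun _ => Bool) false (fun c' _ => chkEn f test b l x c') c) (test x))) = true at h
    rw [seqN_eq, and2_true, ble_true] at h
    obtain ⟨h1, h2⟩ := h
    obtain ⟨c', h3, h4⟩ : ∃ c', En f test l (f n) b c' ∧ c' + (if test (f n) = true then 1 else 0) ≤ c := by
      cases ht : test (f n) with
      | false => rw [ht] at h2; exact ⟨c, en_of_chk h2, by simp⟩
      | true =>
        rw [ht] at h2
        cases c with
        | zero => exact absurd h2 (by simp)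
        | succ c => exact ⟨c, en_of_chk h2, by simp⟩
    refine ⟨?_, ?_, ?_, (Nat.le_of_succ_le h1).trans h3.ab, ?_⟩
    · rw [List.map_cons, List.pairwise_cons]
      refine ⟨fun y hy => ?_, h3.sorted⟩
      obtain ⟨m, hm, rfl⟩ := List.mem_map.1 hy
      exact h3.lo m hm
    · exact List.forall_mem_cons.2 ⟨h1, fun m hm => lt_trans h1 (h3.lo m hm)⟩
    · exact List.forall_mem_cons.2 ⟨h3.ab, h3.hi⟩
    · rw [List.map_cons, List.countP_cons]
      exact (Nat.add_le_add_right h3.cnt _).trans h4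

theorem En.ncard {K : Type*} [Group K] [Finite K] (C : Codes K) {T : Set K} {f : ℕ → ℕ}
    {test : ℕ → Bool} {l : List ℕ} {a b c : ℕ} (h : En f test l a b c)
    (hf : ∀ n, ∃ g ∈ T, C.Rep g (f n)) : l.length ≤ T.ncard ∧ (T.ncard ≤ l.length →
      ∀ Q : K → Prop, (∀ g x, Q g → C.Rep g x → test x = true) → {g | g ∈ T ∧ Q g}.ncard ≤ c) := by
  classical
  choose g h1 h2 using hf
  have nd : (l.map g).Nodup := by
    have := h.sorted
    rw [List.pairwise_map] at this
    rw [List.Nodup, List.pairwise_map]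
    exact this.imp fun {m n} hlt (e : g m = g n) => hlt.ne (C.code_eq (h2 m) (e ▸ h2 n))
  have e1 : ((l.map g).toFinset : Set K).ncard = l.length := by
    rw [Set.ncard_coe_finset, List.toFinset_card_of_nodup nd, List.length_map]
  have e2 : ((l.map g).toFinset : Set K) ⊆ T := fun x hx => by
    obtain ⟨n, -, rfl⟩ := List.mem_map.1 (List.mem_toFinset.1 hx)
    exact h1 n
  refine ⟨e1 ▸ Set.ncard_le_ncard e2, fun hT Q hQ => ?_⟩
  have e3 := Set.eq_of_subset_of_ncard_le e2 (e1 ▸ hT)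
  refine le_trans ?_ h.cnt
  rw [List.countP_map, List.countP_eq_length_filter, ← List.length_map g]
  refine le_trans ?_ (List.toFinset_card_le _)
  rw [← Set.ncard_coe_finset]
  refine Set.ncard_le_ncard fun x ⟨x1, x2⟩ => ?_
  rw [← e3] at x1
  obtain ⟨n, hn, rfl⟩ := List.mem_map.1 (List.mem_toFinset.1 x1)
  exact List.mem_toFinset.2 (List.mem_map.2 ⟨n, List.mem_filter.2 ⟨hn, hQ _ _ x2 (h2 n)⟩, rfl⟩)

/-- The word packed in a number: the low three bits give the length. -/
noncomputable def decW (b n : ℕ) : List ℕ := H29.dec b (Nat.land n 7) (Nat.shiftRight n 3)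

/-- Elements of a subgroup with a given property are counted by an enumeration. -/
theorem ncard_le_of_en {K : Type*} [Group K] [Finite K] (C : Codes K) {σ : ℕ → K} {lc : ℕ → ℕ}
    (hl : ∀ c, C.Rep (σ c) (lc c)) {S : Subgroup K} (hS : ∀ c, σ c ∈ S) {test : ℕ → Bool}
    {l : List ℕ} {a b c d : ℕ} (h : En (fun n => evC C.mul C.one lc (decW d n)) test l a b c)
    (hc : Nat.card S ≤ l.length) {Q : K → Prop} (hQ : ∀ g x, Q g → C.Rep g x → test x = true) :
    {g | g ∈ S ∧ Q g}.ncard ≤ c :=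
  (h.ncard C (T := S) fun _ => ⟨_, ev_mem fun c _ => hS c, C.rep_evC hl _⟩).2
    (by rwa [← Nat.card_coe_set_eq]) Q hQ

/-- The conjugate named by a number: the low two bits choose the start. -/
noncomputable def cjW (iv : ℕ → ℕ) (st : List (List ℕ)) (dl : List ℕ) (d n : ℕ) : List ℕ :=
  invW iv ((decW d (Nat.shiftRight n 2)).map (nth (nth 0 dl 0) dl)) ++
    nth (nth [] st 0) st (Nat.land n 3) ++ (decW d (Nat.shiftRight n 2)).map (nth (nth 0 dl 0) dl)

theorem le_ncard_conj {K : Type*} [Group K] [Finite K] (C : Codes K) {σ : ℕ → K} {lc iv : ℕ → ℕ}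
    (hl : ∀ c, C.Rep (σ c) (lc c)) (hiv : IvOK σ iv) {c0 : ℕ} {dl : List ℕ} {t : K} {s0 : List ℕ}
    {st : List (List ℕ)} (h1 : ∀ s ∈ s0 :: st, (∀ c ∈ s, c ∈ c0 :: dl) ∧ IsConj t (ev σ s))
    {test : ℕ → Bool} {l : List ℕ} {a b c d : ℕ}
    (h : En (fun n => evC C.mul C.one lc (cjW iv (s0 :: st) (c0 :: dl) d n)) test l a b c) :
    l.length ≤ {s | s ∈ gen σ (c0 :: dl) ∧ IsConj t s}.ncard := by
  refine (h.ncard C fun n => ⟨_, ?_, C.rep_evC hl _⟩).1
  have h2 := nth_forall (p := fun s => (∀ c ∈ s, c ∈ c0 :: dl) ∧ IsConj t (ev σ s)) (d := s0)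
    (h1 s0 (by simp)) h1 (Nat.land n 3)
  have h3 : ev σ ((decW d (Nat.shiftRight n 2)).map (nth c0 (c0 :: dl))) ∈ gen σ (c0 :: dl) :=
    ev_mem_gen fun c hc => by
      obtain ⟨k, -, rfl⟩ := List.mem_map.1 hc
      exact nth_forall (p := fun c => c ∈ c0 :: dl) (by simp) (fun _ h => h) k
  change ev σ (invW iv ((decW d (Nat.shiftRight n 2)).map (nth c0 (c0 :: dl))) ++
    nth s0 (s0 :: st) (Nat.land n 3) ++ (decW d (Nat.shiftRight n 2)).map (nth c0 (c0 :: dl))) ∈ _
  rw [ev_append, ev_append, ev_invW hiv]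
  exact ⟨mul_mem (mul_mem (inv_mem h3) (ev_mem_gen h2.1)) h3,
    h2.2.trans (isConj_iff.2 ⟨_, by rw [inv_inv]⟩)⟩

/-- Test for an involution. -/
noncomputable def tInv (mul : ℕ → ℕ → ℕ) (one x : ℕ) : Bool :=
  Bool.rec (Nat.beq (mul x x) one) false (Nat.beq x one)

theorem tInv_of_conj {K : Type*} [Group K] (C : Codes K) {t : K} (h1 : t ≠ 1) (h2 : t * t = 1)
    (g : K) (x : ℕ) (h : IsConj t g) (hx : C.Rep g x) : tInv C.mul C.one x = true := by
  obtain ⟨c, rfl⟩ := isConj_iff.1 h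
  have e1 : Nat.beq x C.one = false := by
    rw [Bool.eq_false_iff]
    intro e
    have := C.eq hx (H29.beq_true.1 e ▸ C.rep_one)
    exact h1 (by simpa using this)
  rw [tInv, e1]
  refine H29.beq_true.2 (C.code_eq (C.rep_mul hx hx) ?_)
  rw [show c * t * c⁻¹ * (c * t * c⁻¹) = c * (t * t) * c⁻¹ by group, h2, mul_one, mul_inv_cancel]
  exact C.rep_one

namespace PM
variable (P : PM)

/-- The sum of the first `k` diagonal entries. -/
noncomputable def trAux (k : ℕ) : ℕ → ℕ :=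
  Nat.rec (motive := fun _ => ℕ → ℕ) (fun _ => 0) (fun _ ih c =>
    Nat.add (Nat.mod c (Nat.pow 2 P.b)) (ih (Nat.shiftRight c (Nat.add P.bn P.b)))) k

/-- The trace of a code. -/
noncomputable def tr (c : ℕ) : ℕ := Nat.mod (P.trAux P.n c) P.p

variable {P}

theorem OK.trAux_eq (h : P.OK) : ∀ k c : ℕ,
    P.trAux k c = ∑ i ∈ Finset.range k, ent P.b c (i * P.n + i)
  | 0, _ => rfl
  | k + 1, c => by
    rw [show P.trAux (k + 1) c = c % 2 ^ P.b + P.trAux k (c >>> (P.bn + P.b)) from rfl,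
      OK.trAux_eq h k, Finset.sum_range_succ', add_comm, h.bn, ← mul_add_one, zero_mul, zero_add,
      ent_zero]
    congr 1
    refine Finset.sum_congr rfl fun i _ => ?_
    rw [ent_shr]
    congr 1
    ring

theorem OK.tr_eq (h : P.OK) {I : Type} [Fintype I] [DecidableEq I] {ε : I ≃ Fin P.n}
    {g g' : GL I (ZMod P.p)} {x y : ℕ} (h1 : P.Rep ε g x) (h2 : P.Rep ε g' y) (hc : IsConj g g') :
    P.tr x = P.tr y := by
  have e : ∀ c, ((P.trAux P.n c : ℕ) : ZMod P.p) = (P.dec ε c).trace := fun c => by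
    rw [h.trAux_eq, Finset.sum_range, ← ε.sum_comp, Nat.cast_sum]
    rfl
  change P.trAux P.n x % P.p = P.trAux P.n y % P.p
  rw [← ZMod.natCast_eq_natCast_iff', e, e, ← h1.2, ← h2.2]
  obtain ⟨c, rfl⟩ := isConj_iff.1 hc
  rw [Units.val_mul, Units.val_mul, Matrix.trace_units_conj]

end PM

/-- The `n`-th power of a code, with `k` binary digits of `n`. -/
noncomputable def powC (mul : ℕ → ℕ → ℕ) (one x k : ℕ) : ℕ → ℕ :=
  Nat.rec (motive := fun _ => ℕ → ℕ) (fun _ => one) (fun _ ih n =>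
    Bool.rec (seqN (ih (Nat.div n 2)) fun y => seqN (mul y y) fun y2 =>
      Bool.rec (mul y2 x) y2 (Nat.beq (Nat.mod n 2) 0)) x (Nat.beq n 1)) k

theorem Codes.rep_powC {K : Type*} [Group K] (C : Codes K) {g : K} {x : ℕ} (h : C.Rep g x) :
    ∀ k n : ℕ, n < 2 ^ k → C.Rep (g ^ n) (powC C.mul C.one x k n)
  | 0, n, hn => by
    obtain rfl : n = 0 := by simpa using hn
    rw [pow_zero]; exact C.rep_one
  | k + 1, n, hn => by
    change C.Rep _ (Bool.rec (seqN (powC C.mul C.one x k (n / 2)) fun y => seqN (C.mul y y) fun y2 =>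
      Bool.rec (C.mul y2 x) y2 (Nat.beq (n % 2) 0)) x (Nat.beq n 1))
    cases h1 : Nat.beq n 1 with
    | true => rw [H29.beq_true.1 h1, pow_one]; exact h
    | false =>
      have ih := Codes.rep_powC C h k (n / 2) (by omega)
      have h2 := C.rep_mul ih ih
      rw [← pow_add] at h2
      simp only [seqN_eq]
      cases h3 : Nat.beq (n % 2) 0 with
      | true =>
        rw [H29.beq_true] at h3
        rwa [show n / 2 + n / 2 = n by omega] at h2
      | false =>
        have h4 : n % 2 ≠ 0 := fun e => by rw [e] at h3; exact absurd h3 (by decide)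
        have := C.rep_mul h2 h
        rwa [← pow_succ, show n / 2 + n / 2 + 1 = n by omega] at this

theorem Codes.pow_eq_one {K : Type*} [Group K] (C : Codes K) {σ : ℕ → K} {lc : ℕ → ℕ}
    (hl : ∀ c, C.Rep (σ c) (lc c)) {w : List ℕ} {n : ℕ} (hn : n < 2 ^ 8)
    (h : (seqN (evC C.mul C.one lc w) fun x => and2 (Nat.beq (powC C.mul C.one x 8 n) C.one)
      (Bool.rec true false (Nat.beq x C.one))) = true) : ev σ w ^ n = 1 ∧ ev σ w ≠ 1 := by
  rw [seqN_eq, and2_true, H29.beq_true] at h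
  refine ⟨C.eq (C.rep_powC (C.rep_evC hl w) 8 n hn) (by rw [h.1]; exact C.rep_one), fun e => ?_⟩
  have h2 := h.2
  rw [H29.beq_true.2 (C.code_eq (C.rep_evC hl w) (e ▸ C.rep_one))] at h2
  exact absurd h2 (by simp)

/-- Test of the code of word number `k`. -/
noncomputable def chkW (mul : ℕ → ℕ → ℕ) (one : ℕ) (lc : ℕ → ℕ) (ws : List (List ℕ)) (xs : List ℕ)
    (k : ℕ) : Bool := Nat.beq (evC mul one lc (nth [] ws k)) (nth one xs k)

theorem Codes.rep_wE' {G : Type*} [Group G] {σ : ℕ → G} (C : Codes G) {lc : ℕ → ℕ}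
    (h : ∀ c, C.Rep (σ c) (lc c)) {ws : List (List ℕ)} {xs : List ℕ} {n : ℕ}
    (hl : xs.length ≤ ws.length ∧ ws.length ≤ n) (hc : ∀ k < n, chkW C.mul C.one lc ws xs k = true)
    (k : ℕ) : C.Rep (wE σ ws k) (nth C.one xs k) :=
  C.rep_wE h hl.1 (fun k hk => hc k (lt_of_lt_of_le hk hl.2)) k

/-- Test of equations between words. -/
noncomputable def chkEqs (mul : ℕ → ℕ → ℕ) (one : ℕ) (lc : ℕ → ℕ) (E : List (List ℕ × List ℕ)) :
    Bool := allL E fun p => Nat.beq (evC mul one lc p.1) (evC mul one lc p.2)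

theorem Codes.eqs {K : Type*} [Group K] (C : Codes K) {σ : ℕ → K} {lc : ℕ → ℕ}
    (hl : ∀ c, C.Rep (σ c) (lc c)) {E : List (List ℕ × List ℕ)}
    (h : chkEqs C.mul C.one lc E = true) : ∀ p ∈ E, ev σ p.1 = ev σ p.2 := fun p hp =>
  C.ev_eq hl (H29.beq_true.1 (allL_true.1 h p hp))

theorem eqs_append {K : Type*} [Group K] {σ : ℕ → K} {E E' : List (List ℕ × List ℕ)}
    (h : ∀ p ∈ E, ev σ p.1 = ev σ p.2) (h' : ∀ p ∈ E', ev σ p.1 = ev σ p.2) :
    ∀ p ∈ E ++ E', ev σ p.1 = ev σ p.2 := fun p hp => (List.mem_append.1 hp).elim (h p) (h' p)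

theorem eqs_of_injective {K L : Type*} [Group K] [Group L] {σ : ℕ → K} {f : K →* L}
    (hf : Function.Injective f) {τ : ℕ → L} (hτ : ∀ c, f (σ c) = τ c) {E : List (List ℕ × List ℕ)}
    (h : ∀ p ∈ E, ev τ p.1 = ev τ p.2) : ∀ p ∈ E, ev σ p.1 = ev σ p.2 := fun p hp =>
  hf (by rw [map_ev, map_ev, funext hτ]; exact h p hp)

end H19
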