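import Mathlib
import Cfsg.Agent.H19.DCE5
import Cfsg.Agent.H29.Cover

/-!
# Double coset enumeration: small additions for centralisers
-/

set_option autoImplicit false

namespace H19
open H29 MulAction Subgroup

theorem DCS.card_S {G K : Type*} [Group G] [Group K] {φ : K →* G} {m : ℕ} {r : Fin m → G}
    {S : Fin m → Subgroup K} {n : Fin m → ℕ} (h : DCS φ r S n)
    (hx : (∑ i, n i) * Nat.card K ≤ Nat.card G) (i : Fin m) :
    n i * Nat.card (S i) = Nat.card K := by
  rw [← h.nst_index hx, h.nst_eq hx, index_mul_card]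

theorem wE_mem_genW {K : Type*} [Group K] (σ : ℕ → K) (ws : List (List ℕ)) (c : ℕ) :
    wE σ ws c ∈ genW σ ws := gen_wE_le σ ws [c] (mem_gen (by simp))

theorem genW_le_gen {K : Type*} [Group K] {σ : ℕ → K} {ws : List (List ℕ)} {L : List ℕ}
    (h : chkIn L ws = true) : genW σ ws ≤ gen σ L := by
  simp only [chkIn, allL_true, memL_true] at h
  rw [genW, closure_le]
  rintro _ ⟨w, hw, rfl⟩
  exact ev_mem_gen (h w hw)

theorem isConj_of_code {K : Type*} [Group K] (C : Codes K) {σ : ℕ → K} {lc iv : ℕ → ℕ}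
    (hl : ∀ c, C.Rep (σ c) (lc c)) (hiv : IvOK σ iv) {t s : List ℕ} (w : List ℕ)
    (h : chkEqs C.mul C.one lc [(invW iv w ++ t ++ w, s)] = true) : IsConj (ev σ t) (ev σ s) := by
  have := C.eqs hl h _ (List.mem_singleton_self _)
  rw [ev_append, ev_append, ev_invW hiv] at this
  exact isConj_iff.2 ⟨_, by rw [← this, inv_inv]⟩

/-- Test for an element with a given trace and with `k`-th power `1`. -/
noncomputable def tTr (P : PM) (k a x : ℕ) : Bool :=
  and2 (Nat.beq (P.tr x) a) (Nat.beq (powC P.mul P.one x 8 k) P.one)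

theorem tTr_of_conj {P : PM} (h : P.OK) {I : Type} [Fintype I] [DecidableEq I] {ε : I ≃ Fin P.n}
    {t g : GL I (ZMod P.p)} {k y x : ℕ} (hk : k < 2 ^ 8) (h1 : P.Rep ε t y) (h2 : t ^ k = 1)
    (h3 : IsConj t g) (h4 : P.Rep ε g x) : tTr P k (P.tr y) x = true := by
  rw [tTr, and2_true, H29.beq_true, H29.beq_true]
  refine ⟨(h.tr_eq h1 h4 h3).symm, h.code_eq ((h.codes ε 0).rep_powC h4 8 k hk) ?_⟩
  obtain ⟨c, rfl⟩ := isConj_iff.1 h3
  rw [conj_pow, h2, mul_one, mul_inv_cancel]
  exact h.rep_one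

theorem cent_le_of_model {K : Type*} [Group K] [Finite K] {ρ : K →* Equiv.Perm ℕ} {D : Subgroup K}
    {N : ℕ} (cm : CosetModel ρ D N) {t : K} {m f d c : ℕ}
    (h1 : m ≤ {s | s ∈ D ∧ IsConj t s}.ncard) (h2 : {i | i < N ∧ ρ t i = i}.ncard ≤ f)
    (h3 : Nat.card K = N * d) (h4 : f * d ≤ c * m) (h5 : 0 < m) :
    Nat.card (centralizer ({t} : Set K)) ≤ c := by
  have := cosetModel_cent cm t
  rw [cm.card_sub h3] at this
  refine Nat.le_of_mul_le_mul_right ?_ h5
  exact (Nat.mul_le_mul_left _ h1).trans (this.le.trans ((Nat.mul_le_mul_right _ h2).trans h4))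

/-- The action on the cosets of a subgroup as a permutation group on `Fin N`. -/
theorem exists_perm_group {G : Type*} [Group G] [Finite G] (H : Subgroup G) {N : ℕ} [NeZero N]
    (hN : H.index = N) (hc : H.normalCore = ⊥) :
    ∃ (P : Subgroup (Equiv.Perm (Fin N))) (_ : G ≃* P), IsPretransitive P (Fin N) ∧
      Nonempty (H ≃* stabilizer P (0 : Fin N)) := by
  obtain ⟨e0⟩ : Nonempty ((G ⧸ H) ≃ Fin N) := ⟨Finite.equivFinOfCardEq hN⟩
  let e : (G ⧸ H) ≃ Fin N := e0.trans (Equiv.swap (e0 ((1 : G) : G ⧸ H)) 0)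
  have he : e ((1 : G) : G ⧸ H) = 0 := by simp [e]
  let f : G →* Equiv.Perm (Fin N) := e.permCongrHom.toMonoidHom.comp (toPermHom G (G ⧸ H))
  have hf : ∀ g q, f g (e q) = e (g • q) := fun g q => by simp [f]
  have hi : Function.Injective f := by
    refine e.permCongrHom.injective.comp ?_
    rwa [← MonoidHom.ker_eq_bot_iff, ← normalCore_eq_ker]
  refine ⟨f.range, MonoidHom.ofInjective hi, ⟨fun a b => ?_⟩, ⟨?_⟩⟩
  · obtain ⟨g, hg⟩ := exists_smul_eq G (e.symm a) (e.symm b)
    refine ⟨⟨f g, g, rfl⟩, ?_⟩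
    change f g a = b
    rw [← e.apply_symm_apply a, hf, hg, e.apply_symm_apply]
  · refine ((MonoidHom.ofInjective hi).subgroupMap H).trans (MulEquiv.subgroupCongr ?_)
    ext ⟨_, g, rfl⟩
    have : f g 0 = 0 ↔ g ∈ H := by
      rw [← he, hf, e.apply_eq_iff_eq]
      change ((g * 1 : G) : G ⧸ H) = _ ↔ _
      rw [QuotientGroup.eq]
      simp
    rw [mem_stabilizer_iff]
    refine Iff.trans ?_ this.symm
    exact mem_map_iff_mem (f := (MonoidHom.ofInjective hi).toMonoidHom) (x := g)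
      (MonoidHom.ofInjective hi).injective

theorem nonsplit_congr {A B K : Type*} [Group A] [Group B] [Group K] (e : A ≃* B)
    (h : Cfsg.IsNonsplitDoubleCover A K) : Cfsg.IsNonsplitDoubleCover B K := by
  obtain ⟨h1, ⟨g⟩, h3⟩ := h
  have hc : (center A).map e.toMonoidHom = center B := by
    ext b
    obtain ⟨a, rfl⟩ := e.surjective b
    rw [show e a = e.toMonoidHom a from rfl, mem_map_iff_mem e.injective, mem_center_iff, mem_center_iff]
    exact ⟨fun h b => by
        obtain ⟨c, rfl⟩ := e.surjective b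
        exact (map_mul e _ _).symm.trans ((congrArg e (h c)).trans (map_mul e _ _)),
      fun h c => e.injective (by rw [map_mul, map_mul]; exact h _)⟩
  refine ⟨by rw [← hc, card_map_of_injective e.injective, h1],
    ⟨(QuotientGroup.congr _ _ e hc).symm.trans g⟩, fun L hL => h3 (L.map e.symm.toMonoidHom) ?_⟩
  have : (center B).map e.symm.toMonoidHom = center A := by
    rw [← hc, map_map]; simp
  rw [← this]
  rw [isComplement'_def, isComplement_iff_existsUnique] at hL ⊢
  intro a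
  obtain ⟨⟨⟨x, hx⟩, ⟨y, hy⟩⟩, h4, h5⟩ := hL (e a)
  refine ⟨⟨⟨e.symm x, x, hx, rfl⟩, ⟨e.symm y, y, hy, rfl⟩⟩, ?_, ?_⟩
  · change e.symm x * e.symm y = a
    rw [← map_mul, show x * y = e a from h4, e.symm_apply_apply]
  · rintro ⟨⟨_, x', hx', rfl⟩, ⟨_, y', hy', rfl⟩⟩ h6
    have h7 := h5 ⟨⟨x', hx'⟩, ⟨y', hy'⟩⟩ (by
      change x' * y' = e a
      rw [← show e.symm x' * e.symm y' = a from h6]; simp)
    simp only [Prod.mk.injEq, Subtype.mk.injEq] at h7
    obtain ⟨rfl, rfl⟩ := h7
    rfl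

/-- Centralisers correspond under an isomorphism. -/
def centEquiv {A B : Type*} [Group A] [Group B] (e : A ≃* B) (t : A) :
    centralizer ({t} : Set A) ≃* centralizer ({e t} : Set B) :=
  (e.subgroupMap _).trans (MulEquiv.subgroupCongr (by
    ext b
    obtain ⟨a, rfl⟩ := e.surjective b
    rw [show e a = (e : A →* B) a from rfl, mem_map_iff_mem e.injective,
      mem_centralizer_singleton_iff, mem_centralizer_singleton_iff]
    exact ⟨fun h => (map_mul e _ _).symm.trans ((congrArg e h).trans (map_mul e _ _)),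
      fun h => e.injective (by rw [map_mul, map_mul]; exact h)⟩))

end H19
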