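import Mathlib
import Cfsg.Agent.H29.Ext

set_option autoImplicit false
set_option maxRecDepth 100000
set_option Elab.async false
set_option linter.all false

namespace H19.McT2
open H29

noncomputable def n0 : Net := ben 7 [(nat_lit 0xf114c7151555c5c0ff0),
 (nat_lit 0xf0a520f003362023310),
 (nat_lit 0x18815ce000000005508),
 (nat_lit 0x109c0d0000000cf0050),
 (nat_lit 0x180c18000000000),
 (nat_lit 0x18000000180),
 (nat_lit 0x180)]
noncomputable def t0 : List ℕ := [(nat_lit 0x646413c00066808a502),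
 (nat_lit 0x76401e4c6062040004),
 (nat_lit 0x5f818040c0f00000000),
 (nat_lit 0x7000043c60e244a500),
 (nat_lit 0x400698244a010),
 (nat_lit 0x7be781a700000000000)]
noncomputable def d0 : ℕ := (nat_lit 0x10010481028015204a40)
noncomputable def n1 : Net := ben 7 [(nat_lit 0x47304030300000a4f14),
 (nat_lit 0xb0a5520a03309fa00),
 (nat_lit 0x8a119d01000f8b8b00),
 (nat_lit 0x82ab80cc7b7b0080),
 (nat_lit 0x80829000007b00),
 (nat_lit 0x8000000080),
 (nat_lit 0x80)]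
noncomputable def t1 : List ℕ := [(nat_lit 0x2de6128a82a14000842),
 (nat_lit 0x11e041010181002fc440),
 (nat_lit 0x1039cd00008382000000),
 (nat_lit 0x3e1c101a183962fc400),
 (nat_lit 0x100410000801406c800),
 (nat_lit 0x12f98c01a10000000000)]
noncomputable def d1 : ℕ := (nat_lit 0x8001214540060d00128)
noncomputable def n2 : Net := ben 7 [(nat_lit 0xf11733153080911f0cc),
 (nat_lit 0xafa0b100fffa6002222),
 (nat_lit 0x11118800cc0000002804),
 (nat_lit 0x80a00803333000000a0),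
 (nat_lit 0xf3ecf3ec00000000),
 (nat_lit 0x1029f3cc1029),
 (nat_lit 0x1029)]
noncomputable def t2 : List ℕ := [(nat_lit 0x8040800c8a887b04260),
 (nat_lit 0x800c184000000302110),
 (nat_lit 0x80706000a0240388400),
 (nat_lit 0x804de003aa8c2800000),
 (nat_lit 0x1000c00408a882802000),
 (nat_lit 0x18071e00f00000000000)]
noncomputable def d2 : ℕ := (nat_lit 0x7e00042015500021084)
noncomputable def n3 : Net := ben 7 [(nat_lit 0x155555555555555301),
 (nat_lit 0x55a325aa1033030b00),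
 (nat_lit 0x4219086f0000008800),
 (nat_lit 0x74eb606000000080),
 (nat_lit 0x6066f000000000),
 (nat_lit 0x6000000060),
 (nat_lit 0x60)]
noncomputable def t3 : List ℕ := [(nat_lit 0xb01960bd20c66f60064),
 (nat_lit 0xf6056cbde6000360078),
 (nat_lit 0xd73c0001e0c00000800),
 (nat_lit 0xce1d2c9c06006f03180),
 (nat_lit 0x124012c84c6c06c03000),
 (nat_lit 0x1db3c403920000000000)]
noncomputable def d3 : ℕ := (nat_lit 0x82920200288088402)
noncomputable def n4 : Net := ben 7 [(nat_lit 0x2ad6551714555f0000),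
 (nat_lit 0xaa5ccaa000003111f0),
 (nat_lit 0xef6788030000ee070c),
 (nat_lit 0x181821c000c0c1c10000),
 (nat_lit 0x8e199610000c120),
 (nat_lit 0x18e1000018e1),
 (nat_lit 0x18e1)]
noncomputable def t4 : List ℕ := [(nat_lit 0xb280be12001c098156a),
 (nat_lit 0xd4000612002f0025c00),
 (nat_lit 0x10e13100100300001400),
 (nat_lit 0x1ee131613000fc680100),
 (nat_lit 0x140306000000c601c40),
 (nat_lit 0x1ea10381704000000000)]
noncomputable def d4 : ℕ := (nat_lit 0x16c008882802052010)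
def ivl : List ℕ := [0, 1, 2, 3, 4, 5]
def cols : List ℕ := [0, 1, 2, 3, 4]
def hcols : List ℕ := [0, 1, 2, 4]
def G0 : List (List ℕ) := [[0, 1, 0, 1, 0, 1],
 [0, 2, 0, 2],
 [0, 3, 0, 3],
 [0, 4, 0, 4, 0, 4, 0, 4],
 [1, 2, 1, 2, 1, 2, 1, 2, 1, 2],
 [1, 3, 1, 3],
 [1, 4, 1, 4],
 [2, 3, 2, 3, 2, 3],
 [2, 4, 2, 4, 2, 4],
 [3, 4, 3, 4],
 [4, 0, 1, 4, 0, 1, 4, 0, 1],
 [1, 2, 4, 1, 2, 4, 1, 2, 4, 1, 2, 4, 1, 2, 4],
 [0, 4, 2, 3, 0, 4, 2, 3, 0, 4, 2, 3, 0, 4, 2, 3],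
 [0, 1, 2, 0, 1, 2, 0, 1, 2, 0, 1, 2, 0, 1, 2],
 [1, 2, 3, 1, 2, 3, 1, 2, 3, 1, 2, 3, 1, 2, 3],
 [0, 1, 0, 2, 4, 0, 1, 0, 2, 4, 0, 1, 0, 2, 4, 0, 1, 0, 2, 4]]
def R0 : List (List ℕ) := G0
theorem hii : ∀ c, ivOf ivl (ivOf ivl c) = c := ivOf_ivOf (by decide +kernel)
theorem der : Derives (ivOf ivl) R0 R0 := Derives.refl _ _
noncomputable def nl : List Net := [n0, n1, n2, n3, n4]
noncomputable def T : TCData := ⟨77, 77, 7, 6, nth Net.nil nl, ivOf ivl, cols, hcols, R0,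
  nth [] [t0, t1, t2, t3, t4], nth 0 [d0, d1, d2, d3, d4]⟩
theorem hn : NetsOK 77 (nth Net.nil nl) := netsOK_of_all (by decide +kernel)
theorem hiv : IvOK (sg (nth Net.nil nl)) (ivOf ivl) :=
  ivOK_of_chk (k := 7) hn (by decide) (n := 6) (by decide) (by decide) (allN_true.1 (by decide +kernel))
theorem hb : T.Basic := TCData.basic_of_chk hn hiv (by decide +kernel)
theorem hG0 : ∀ r ∈ G0, ev (sg (nth Net.nil nl)) r = 1 :=
  rels_of_chk (k := 7) hn (by decide) hiv (allN_true.1 (by decide +kernel))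
noncomputable def s0 : List TCData.Step := [.all 0 0 0,
 .all 1 0 0,
 .all 2 0 0,
 .pts 3 0 0 35 [62],
 .pts 3 0 0 46 [68],
 .pts 10 1 0 14 [43],
 .pts 10 1 0 24 [31],
 .pts 10 1 0 35 [66],
 .pts 12 0 0 16 [4],
 .pts 12 0 0 20 [32]]
noncomputable def s1 : List TCData.Step := [.all 0 1 0,
 .pts 4 0 0 26 [72],
 .pts 4 0 0 30 [39],
 .pts 4 0 0 41 [45, 73],
 .pts 4 0 0 43 [70],
 .pts 5 0 0 1 [1, 53],
 .pts 5 0 0 14 [32],
 .pts 5 0 0 31 [56],
 .pts 5 0 0 36 [58],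
 .all 6 0 0,
 .pts 10 2 0 26 [14, 15],
 .pts 10 2 0 37 [67],
 .pts 10 2 0 44 [64],
 .pts 11 0 0 13 [33]]
noncomputable def s2 : List TCData.Step := [.all 1 1 0,
 .pts 4 1 0 2 [8],
 .pts 4 1 0 18 [50],
 .pts 4 1 0 45 [66],
 .pts 4 1 0 47 [75],
 .pts 7 0 0 4 [10, 15, 19],
 .pts 7 0 0 40 [44, 60],
 .pts 7 0 0 41 [59],
 .pts 7 0 0 44 [57],
 .all 8 0 0,
 .pts 13 2 0 7 [20],
 .pts 13 2 0 29 [43]]
noncomputable def s3 : List TCData.Step := [.all 2 1 0,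
 .all 5 1 0,
 .all 7 1 0,
 .all 9 0 0,
 .pts 14 2 0 8 [7],
 .pts 14 2 0 39 [41, 72]]
noncomputable def s4 : List TCData.Step := [.pts 3 1 0 18 [11],
 .pts 3 1 0 24 [26],
 .pts 3 1 0 44 [44],
 .pts 6 1 0 1 [3, 20],
 .pts 6 1 0 24 [21],
 .pts 6 1 0 43 [45, 75],
 .all 8 1 0,
 .all 9 1 0,
 .pts 10 0 0 10 [29],
 .pts 10 0 0 17 [6],
 .pts 10 0 0 32 [46],
 .pts 10 0 0 33 [57],
 .pts 10 0 0 44 [71, 76],
 .pts 15 4 0 23 [12]]
theorem hR0 : ∀ r ∈ R0, ev (sg (nth Net.nil nl)) r = 1 := hG0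
theorem col0 : T.ColOK 0 := TCData.colOK_of_chk (U := (T.stepsMask 0 s0 (T.mask0 0))) (V := (T.stepsMask 0 s0 (T.mask0 0))) hb (TCData.cov_stepsMask hb (by decide) s0 _ (T.cov_mask0 0)) (TCData.cov_stepsMask hb (by decide) s0 _ (T.cov_mask0 0)) (by decide +kernel)
theorem col1 : T.ColOK 1 := TCData.colOK_of_chk (U := (T.stepsMask 1 s1 (T.mask0 1))) (V := (T.stepsMask 1 s1 (T.mask0 1))) hb (TCData.cov_stepsMask hb (by decide) s1 _ (T.cov_mask0 1)) (TCData.cov_stepsMask hb (by decide) s1 _ (T.cov_mask0 1)) (by decide +kernel)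
theorem col2 : T.ColOK 2 := TCData.colOK_of_chk (U := (T.stepsMask 2 s2 (T.mask0 2))) (V := (T.stepsMask 2 s2 (T.mask0 2))) hb (TCData.cov_stepsMask hb (by decide) s2 _ (T.cov_mask0 2)) (TCData.cov_stepsMask hb (by decide) s2 _ (T.cov_mask0 2)) (by decide +kernel)
theorem col3 : T.ColOK 3 := TCData.colOK_of_chk (U := (T.stepsMask 3 s3 (T.mask0 3))) (V := (T.stepsMask 3 s3 (T.mask0 3))) hb (TCData.cov_stepsMask hb (by decide) s3 _ (T.cov_mask0 3)) (TCData.cov_stepsMask hb (by decide) s3 _ (T.cov_mask0 3)) (by decide +kernel)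
theorem col4 : T.ColOK 4 := TCData.colOK_of_chk (U := (T.stepsMask 4 s4 (T.mask0 4))) (V := (T.stepsMask 4 s4 (T.mask0 4))) hb (TCData.cov_stepsMask hb (by decide) s4 _ (T.cov_mask0 4)) (TCData.cov_stepsMask hb (by decide) s4 _ (T.cov_mask0 4)) (by decide +kernel)
theorem ok : T.OK := ⟨hb, TCData.treeOK_of_chk hn (by decide +kernel), (List.forall_mem_cons.2 ⟨col0, (List.forall_mem_cons.2 ⟨col1, (List.forall_mem_cons.2 ⟨col2, (List.forall_mem_cons.2 ⟨col3, (List.forall_mem_cons.2 ⟨col4, (fun _ h => absurd h List.not_mem_nil)⟩)⟩)⟩)⟩)⟩), der _ _ hiv hR0⟩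
theorem bd {G : Type} [Group G] {e : ℕ → G} (h1 : IvOK e (ivOf ivl)) (h2 : ∀ r ∈ R0, ev e r = 1)
    {m : ℕ} (h : Bd (gen e hcols) m) : Bd (gen e cols) (77 * m) := ok.bd h1 (der G e h1 h2) h
theorem cm {G : Type} [Group G] {e : ℕ → G} (h1 : IvOK e (ivOf ivl)) (h2 : ∀ r ∈ R0, ev e r = 1)
    (h3 : gen e cols = ⊤) {ρ : G →* Equiv.Perm ℕ} (h4 : ∀ c, ρ (e c) = sg (nth Net.nil nl) c) :
    CosetModel ρ (gen e hcols) 77 := ok.cosetModel h1 (der G e h1 h2) h3 fun c _ => h4 c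

end H19.McT2
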