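import Mathlib
import Cfsg.Agent.H29.Ext

set_option autoImplicit false
set_option maxRecDepth 100000
set_option Elab.async false
set_option linter.all false

namespace H19.McT3
open H29

noncomputable def n0 : Net := ben 7 [(nat_lit 0xd43c1704ccf350c5553dd41c),
 (nat_lit 0xf070f5027ab3525c5375202),
 (nat_lit 0x88458803453b007700820100),
 (nat_lit 0x40c40080034360640c0a0080),
 (nat_lit 0x4004c002001230100006e00),
 (nat_lit 0x400000024014000),
 (nat_lit 0x4000000)]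
noncomputable def t0 : List ℕ := [(nat_lit 0x8c280390860601801302a508),
 (nat_lit 0xb0103c000008600001030840),
 (nat_lit 0xbc383e1086006801e0000000),
 (nat_lit 0xbc3801b20000080000000000),
 (nat_lit 0x3c283fa2860e000070002000),
 (nat_lit 0x0)]
noncomputable def d0 : ℕ := (nat_lit 0x430500485170805a08d04024)
noncomputable def n1 : Net := ben 7 [(nat_lit 0xc550534dfff0109773156954),
 (nat_lit 0x230001501d02876d5b005c30),
 (nat_lit 0x5500aa0466238c128a004200),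
 (nat_lit 0x50020080a102800800060),
 (nat_lit 0x800080000030213800000000),
 (nat_lit 0x80000000c0700000),
 (nat_lit 0x80000000)]
noncomputable def t1 : List ℕ := [(nat_lit 0x700900dc0340a0dee0032402),
 (nat_lit 0x10c9c0c0b03120060000240c),
 (nat_lit 0x990d00df1075008800000000),
 (nat_lit 0xf907c01c0040000000000000),
 (nat_lit 0xf90f00c0b0310000c6000000),
 (nat_lit 0x0)]
noncomputable def d1 : ℕ := (nat_lit 0x4202d000c88582011089980)
noncomputable def n2 : Net := ben 7 [(nat_lit 0x3fcff3c30c15349559195f0),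
 (nat_lit 0xb11f504610700106f0ff6650),
 (nat_lit 0x6b776e72110422443015190e),
 (nat_lit 0x383d616100104868e8c50000),
 (nat_lit 0x4f005fe2080008000000ed10),
 (nat_lit 0x670008006f004800),
 (nat_lit 0x67000800)]
noncomputable def t2 : List ℕ := [(nat_lit 0xc02d88465060c01a38114024),
 (nat_lit 0x81010b06001cc01038498000),
 (nat_lit 0x4029aa068400c00000000000),
 (nat_lit 0xc12001000180080000000000),
 (nat_lit 0xc129ab06041c080030000000),
 (nat_lit 0x28000000000000000000000)]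
noncomputable def d2 : ℕ := (nat_lit 0x3052502100022585c6240450)
noncomputable def n4 : Net := ben 7 [(nat_lit 0xfc00000334033f3f30055cc5),
 (nat_lit 0x66333f0f0a555a505a0f0100),
 (nat_lit 0x4100aa14c4f637274e44aa00),
 (nat_lit 0x540409a060074485c00a0),
 (nat_lit 0x210121011000021100004800),
 (nat_lit 0x2101c09eb179c09e),
 (nat_lit 0x2101c09e)]
noncomputable def t4 : List ℕ := [(nat_lit 0x565050214c184924030c0910),
 (nat_lit 0x56000d401d2255091d8c04c0),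
 (nat_lit 0x560001684030511800000000),
 (nat_lit 0x7601512800000010000c0000),
 (nat_lit 0x70010840503851081a000000),
 (nat_lit 0x0)]
noncomputable def d4 : ℕ := (nat_lit 0x88888296a20502002003220a)
def ivl : List ℕ := [0, 1, 2, 3, 4, 5]
def cols : List ℕ := [0, 1, 2, 4]
def hcols : List ℕ := [0, 1, 2]
def G0 : List (List ℕ) := [[0, 1, 0, 1, 0, 1],
 [0, 2, 0, 2],
 [0, 4, 0, 4, 0, 4, 0, 4],
 [1, 2, 1, 2, 1, 2, 1, 2, 1, 2],
 [1, 4, 1, 4],
 [2, 4, 2, 4, 2, 4],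
 [4, 0, 1, 4, 0, 1, 4, 0, 1],
 [1, 2, 4, 1, 2, 4, 1, 2, 4, 1, 2, 4, 1, 2, 4],
 [0, 1, 2, 0, 1, 2, 0, 1, 2, 0, 1, 2, 0, 1, 2],
 [0, 1, 0, 2, 4, 0, 1, 0, 2, 4, 0, 1, 0, 2, 4, 0, 1, 0, 2, 4]]
def R0 : List (List ℕ) := G0
theorem hii : ∀ c, ivOf ivl (ivOf ivl c) = c := ivOf_ivOf (by decide +kernel)
theorem der : Derives (ivOf ivl) R0 R0 := Derives.refl _ _
noncomputable def nl : List Net := [n0, n1, n2, Net.nil, n4]
noncomputable def T : TCData := ⟨96, 96, 7, 6, nth Net.nil nl, ivOf ivl, cols, hcols, R0,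
  nth [] [t0, t1, t2, [], t4], nth 0 [d0, d1, d2, 0, d4]⟩
theorem hn : NetsOK 96 (nth Net.nil nl) := netsOK_of_all (by decide +kernel)
theorem hiv : IvOK (sg (nth Net.nil nl)) (ivOf ivl) :=
  ivOK_of_chk (k := 7) hn (by decide) (n := 6) (by decide) (by decide) (allN_true.1 (by decide +kernel))
theorem hb : T.Basic := TCData.basic_of_chk hn hiv (by decide +kernel)
theorem hG0 : ∀ r ∈ G0, ev (sg (nth Net.nil nl)) r = 1 :=
  rels_of_chk (k := 7) hn (by decide) hiv (allN_true.1 (by decide +kernel))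
noncomputable def s0 : List TCData.Step := [.all 0 0 0,
 .all 1 0 0,
 .pts 2 0 0 1 [3],
 .pts 2 0 0 13 [68],
 .pts 2 0 0 15 [95],
 .pts 2 0 0 18 [51],
 .pts 2 0 0 22 [74],
 .pts 6 1 0 2 [11],
 .pts 6 1 0 12 [43],
 .pts 6 1 0 17 [49],
 .pts 6 1 0 21 [73],
 .pts 6 1 0 29 [83]]
noncomputable def s1 : List TCData.Step := [.pts 0 1 0 1 [36, 47],
 .pts 0 1 0 3 [33],
 .pts 0 1 0 13 [54],
 .pts 0 1 0 31 [80],
 .pts 3 0 0 3 [34],
 .pts 3 0 0 17 [30],
 .pts 3 0 0 23 [83],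
 .all 4 0 0,
 .pts 6 2 0 2 [2],
 .pts 6 2 0 13 [66],
 .pts 6 2 0 22 [53],
 .pts 6 2 0 25 [94],
 .pts 7 0 0 28 [91, 95],
 .pts 8 1 0 5 [35],
 .pts 9 1 0 16 [25]]
noncomputable def s2 : List TCData.Step := [.all 1 1 0,
 .pts 3 1 0 2 [19],
 .pts 3 1 0 8 [55],
 .pts 3 1 0 20 [58],
 .pts 3 1 0 29 [85],
 .all 5 0 0]
noncomputable def s4 : List TCData.Step := [.pts 2 1 0 2 [23],
 .pts 2 1 0 12 [36],
 .pts 2 1 0 21 [52],
 .pts 2 1 0 31 [92],
 .all 4 1 0,
 .all 5 1 0,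
 .pts 6 0 0 15 [90],
 .pts 6 0 0 18 [27, 75],
 .pts 6 0 0 22 [44],
 .pts 6 0 0 23 [40],
 .pts 7 2 0 11 [18]]
theorem hR0 : ∀ r ∈ R0, ev (sg (nth Net.nil nl)) r = 1 := hG0
theorem col0 : T.ColOK 0 := TCData.colOK_of_chk (U := (T.stepsMask 0 s0 (T.mask0 0))) (V := (T.stepsMask 0 s0 (T.mask0 0))) hb (TCData.cov_stepsMask hb (by decide) s0 _ (T.cov_mask0 0)) (TCData.cov_stepsMask hb (by decide) s0 _ (T.cov_mask0 0)) (by decide +kernel)
theorem col1 : T.ColOK 1 := TCData.colOK_of_chk (U := (T.stepsMask 1 s1 (T.mask0 1))) (V := (T.stepsMask 1 s1 (T.mask0 1))) hb (TCData.cov_stepsMask hb (by decide) s1 _ (T.cov_mask0 1)) (TCData.cov_stepsMask hb (by decide) s1 _ (T.cov_mask0 1)) (by decide +kernel)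
theorem col2 : T.ColOK 2 := TCData.colOK_of_chk (U := (T.stepsMask 2 s2 (T.mask0 2))) (V := (T.stepsMask 2 s2 (T.mask0 2))) hb (TCData.cov_stepsMask hb (by decide) s2 _ (T.cov_mask0 2)) (TCData.cov_stepsMask hb (by decide) s2 _ (T.cov_mask0 2)) (by decide +kernel)
theorem col4 : T.ColOK 4 := TCData.colOK_of_chk (U := (T.stepsMask 4 s4 (T.mask0 4))) (V := (T.stepsMask 4 s4 (T.mask0 4))) hb (TCData.cov_stepsMask hb (by decide) s4 _ (T.cov_mask0 4)) (TCData.cov_stepsMask hb (by decide) s4 _ (T.cov_mask0 4)) (by decide +kernel)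
theorem ok : T.OK := ⟨hb, TCData.treeOK_of_chk hn (by decide +kernel), (List.forall_mem_cons.2 ⟨col0, (List.forall_mem_cons.2 ⟨col1, (List.forall_mem_cons.2 ⟨col2, (List.forall_mem_cons.2 ⟨col4, (fun _ h => absurd h List.not_mem_nil)⟩)⟩)⟩)⟩), der _ _ hiv hR0⟩
theorem bd {G : Type} [Group G] {e : ℕ → G} (h1 : IvOK e (ivOf ivl)) (h2 : ∀ r ∈ R0, ev e r = 1)
    {m : ℕ} (h : Bd (gen e hcols) m) : Bd (gen e cols) (96 * m) := ok.bd h1 (der G e h1 h2) h
theorem cm {G : Type} [Group G] {e : ℕ → G} (h1 : IvOK e (ivOf ivl)) (h2 : ∀ r ∈ R0, ev e r = 1)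
    (h3 : gen e cols = ⊤) {ρ : G →* Equiv.Perm ℕ} (h4 : ∀ c, ρ (e c) = sg (nth Net.nil nl) c) :
    CosetModel ρ (gen e hcols) 96 := ok.cosetModel h1 (der G e h1 h2) h3 fun c _ => h4 c

end H19.McT3
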