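import Mathlib
import Cfsg.Agent.H29.Cover
import Cfsg.Agent.H19.McX
import Cfsg.Agent.H19.McT2
import Cfsg.Agent.H19.McT3
import Cfsg.Agent.H19.McT4
import Cfsg.Agent.H9.CG

set_option autoImplicit false
set_option maxRecDepth 100000
set_option Elab.async false
set_option linter.all false

namespace H19.McL
open H29

open H9.MX

theorem ub : UB (ivOf McT1.ivl) McT1.R0 McT1.cols 898128000 := fun _ _ _ hi hR =>
  McT1.bd hi hR (McT2.bd hi (rels_sub hR (by decide +kernel)) (McT3.bd hi (rels_sub hR (by decide +kernel))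
    (McT4.bd hi (rels_sub hR (by decide +kernel)) (bd_nil _))))
/-- The permutation group. -/
abbrev S : Type := PG McP.nl
theorem hiv : IvOK (pe McP.nl) (ivOf McT1.ivl) := ivOK_sub _ McP.hiv
theorem hR : ∀ r ∈ McT1.R0, ev (pe McP.nl) r = 1 := rels_subE _ McP.hR
theorem top : gen (pe McP.nl) McT1.cols = ⊤ := pe_top (by decide +kernel)
theorem card : Nat.card S = 898128000 ∧ ∀ g : S, (∀ i < 275, (PG McP.nl).subtype g i = i) → g = 1 :=
  card_eq_of_chain McX.hn ((ub _ _ hiv hR).of_top top) (fun c _ => McX.map (pe_rho _) c) McX.ch (by decide +kernel)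
theorem trans : Trans (PG McP.nl).subtype 275 :=
  trans_of_reach (by decide) (PG_lt McP.hn) (fun c _ => pe_rho _ c)
    (reach_of_chk (L := McT1.cols) (r := 4) McP.hn (by decide +kernel))
theorem simple : IsSimpleGroup S :=
  simple_of_cert (q := 11) (m := 81648000) McX.hn McX.prim trans (McX.map (pe_rho _)) card.2 card.1
    McX.wit (ivOK_extE hiv McX.hext) (rels_extE hR (by decide +kernel))
    ((gen_extE _ _ (by decide)).trans top) (l := [(0, 0), (5, 0), (9, 0), (10, 0), (13, 0)]) (by decide +kernel) (by norm_num)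
/-- Letters satisfying the relators generate a copy of the group. -/
theorem sub {G : Type} [Group G] {e : ℕ → G} (h1 : IvOK e (ivOf McT1.ivl))
    (h2 : ∀ r ∈ McT1.R0, ev e r = 1) (h3 : ev e [0] ≠ 1) :
    IsSimpleGroup (gen e McT1.cols) ∧ Nat.card (gen e McT1.cols) = 898128000 := by
  have := simple
  obtain ⟨f⟩ := equiv_of_simple (ub.tr (by decide) hiv hR (by rw [top, Subgroup.card_top, card.1]) h1 h2)
    hiv h1 (by decide) top ⟨[0], by decide, h3⟩
  exact ⟨f.symm.isSimpleGroup, by rw [← Nat.card_congr f.toEquiv, card.1]⟩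

end H19.McL
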