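import Mathlib
import Cfsg.Agent.H19.DCE5
import Cfsg.Agent.H19.McL
import Cfsg.Agent.H24.AltMult

/-!
# Covers of the McLaughlin group and of the alternating group of degree eleven, given by letters
-/

set_option autoImplicit false

namespace H19
open H29 Subgroup

/-- Delete a letter from a word. -/
noncomputable def strip (zl : ℕ) (w : List ℕ) : List ℕ :=
  List.rec (motive := fun _ => List ℕ) [] (fun c _ ih => Bool.rec (c :: ih) ih (Nat.beq c zl)) w

theorem ev_strip {Q : Type*} [Group Q] {e : ℕ → Q} {zl : ℕ} (h : e zl = 1) :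
    ∀ w, ev e (strip zl w) = ev e w
  | [] => rfl
  | c :: w => by
    rw [show strip zl (c :: w) = Bool.rec (c :: strip zl w) (strip zl w) (Nat.beq c zl) from rfl]
    cases h1 : Nat.beq c zl with
    | true => rw [ev_cons, H29.beq_true.1 h1, h, one_mul]; exact ev_strip h w
    | false => change ev e (c :: _) = _; rw [ev_cons, ev_cons, ev_strip h w]

theorem rels_of_eqs {Q : Type*} [Group Q] {e : ℕ → Q} {iv : ℕ → ℕ} (hiv : IvOK e iv) {zl : ℕ}
    (h : e zl = 1) {E : List (List ℕ × List ℕ)} (hE : ∀ p ∈ E, ev e p.1 = ev e p.2)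
    {R : List (List ℕ)}
    (hc : (allL R fun r => memLL r (E.map fun p => strip zl p.1 ++ invW iv (strip zl p.2))) = true) :
    ∀ r ∈ R, ev e r = 1 := by
  refine rels_sub (fun r hr => ?_) hc
  obtain ⟨p, hp, rfl⟩ := List.mem_map.1 hr
  rw [ev_append, ev_invW hiv, ev_strip h, ev_strip h, hE p hp, mul_inv_cancel]

theorem eqs_map {G Q : Type*} [Group G] [Group Q] (π : G →* Q) {e : ℕ → G}
    {E : List (List ℕ × List ℕ)} (hE : ∀ p ∈ E, ev e p.1 = ev e p.2) :
    ∀ p ∈ E, ev (fun c => π (e c)) p.1 = ev (fun c => π (e c)) p.2 := fun p hp => by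
  rw [← map_ev, ← map_ev, hE p hp]

theorem eqs_subL {G : Type*} [Group G] {e : ℕ → G} {Γ : Subgroup G} (h : ∀ c, e c ∈ Γ)
    {E : List (List ℕ × List ℕ)} (hE : ∀ p ∈ E, ev e p.1 = ev e p.2) :
    ∀ p ∈ E, ev (subL h) p.1 = ev (subL h) p.2 :=
  eqs_of_injective Γ.subtype_injective (fun _ => rfl) hE

theorem mem_center_of_gen {C : Type*} [Group C] {f : ℕ → C} {L : List ℕ} (htop : gen f L = ⊤)
    {z : C} (h : ∀ c ∈ L, f c * z = z * f c) : z ∈ center C := by
  rw [mem_center_iff]
  intro g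
  have : gen f L ≤ centralizer {z} := gen_le.2 fun c hc => mem_centralizer_singleton_iff.2 (h c hc)
  exact mem_centralizer_singleton_iff.1 (this (htop ▸ mem_top g))

theorem normal_zpowers {C : Type*} [Group C] {z : C} (h : z ∈ center C) : (zpowers z).Normal :=
  ⟨fun n hn g => by
    rw [← mem_center_iff.1 (zpowers_le.2 h hn) g |>.symm, mul_inv_cancel_right]; exact hn⟩

theorem center_eq_zpowers {C : Type*} [Group C] {z : C} (h : z ∈ center C) [(zpowers z).Normal]
    (h1 : center (C ⧸ zpowers z) = ⊥) : center C = zpowers z := by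
  refine le_antisymm (fun x hx => ?_) (zpowers_le.2 h)
  have : (x : C ⧸ zpowers z) ∈ center (C ⧸ zpowers z) := by
    rw [mem_center_iff]
    intro g
    obtain ⟨g, rfl⟩ := QuotientGroup.mk_surjective g
    rw [← QuotientGroup.mk_mul, ← QuotientGroup.mk_mul, mem_center_iff.1 hx g]
  rwa [h1, mem_bot, QuotientGroup.eq_one_iff] at this

theorem gen_quot_top {C Q : Type*} [Group C] [Group Q] {π : C →* Q} (hπ : Function.Surjective π)
    {f : ℕ → C} {L : List ℕ} {zl : ℕ} (htop : gen f (zl :: L) = ⊤) (h : π (f zl) = 1) :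
    gen (fun c => π (f c)) L = ⊤ := by
  rw [eq_top_iff, ← map_top_of_surjective π hπ, ← htop, map_gen, gen_le]
  intro c hc
  rcases List.mem_cons.1 hc with rfl | hc
  · rw [h]; exact one_mem _
  · exact mem_gen hc

/-- Letters `0, …, 5` satisfy the relators of the McLaughlin group modulo the central letter `6`. -/
theorem mcl_cover {C : Type} [Group C] {f : ℕ → C} {E : List (List ℕ × List ℕ)}
    (hE : ∀ p ∈ E, ev f p.1 = ev f p.2)
    (hc : (∀ c ∈ McT1.cols, ([c, c], []) ∈ E ∧ ([c, 6], [6, c]) ∈ E) ∧ ([6, 6, 6], []) ∈ E ∧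
      (allL McT1.R0 fun r => memLL r
        (E.map fun p => strip 6 p.1 ++ invW (ivOf McT1.ivl) (strip 6 p.2))) = true)
    (h7 : ∀ c, 7 ≤ c → f c = 1) (htop : gen f (6 :: McT1.cols) = ⊤) (hx : f 6 ≠ 1) (ha : f 0 ≠ 1) :
    orderOf (f 6) = 3 ∧ Nat.card (center C) = 3 ∧ Cfsg.IsMcL (C ⧸ center C) ∧
      Nat.card C = 3 * 898128000 := by
  have hz : f 6 ∈ center C := mem_center_of_gen htop fun c h => by
    rcases List.mem_cons.1 h with rfl | h
    · rfl
    · simpa using hE _ (hc.1 c h).2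
  have := normal_zpowers hz
  have h3 : orderOf (f 6) = 3 :=
    orderOf_eq_prime (by simpa [pow_succ, mul_assoc] using hE _ hc.2.1) hx
  let π := QuotientGroup.mk' (zpowers (f 6))
  have h6 : π (f 6) = 1 := (QuotientGroup.eq_one_iff _).2 (mem_zpowers _)
  have hiv : IvOK (fun c => π (f c)) (ivOf McT1.ivl) := fun c => by
    have e : ivOf McT1.ivl c = c := by
      by_cases h : c < 6
      · exact (by decide +kernel : ∀ c < 6, ivOf McT1.ivl c = c) c h
      · exact nth_default _ (by change 6 ≤ c; omega)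
    rw [e]
    change π (f c) = (π (f c))⁻¹
    rcases lt_trichotomy c 6 with h | rfl | h
    · rw [eq_inv_iff_mul_eq_one, ← map_mul, show f c * f c = 1 by
        simpa using hE _ (hc.1 c ((by decide +kernel : ∀ c < 6, c ∈ McT1.cols) c h)).1, map_one]
    · rw [h6, inv_one]
    · rw [h7 c h, map_one, inv_one]
  obtain ⟨s1, s2⟩ := McL.sub hiv (rels_of_eqs hiv h6 (eqs_map π hE) hc.2.2) (by
    intro h
    have h1 : f 0 ∈ zpowers (f 6) := (QuotientGroup.eq_one_iff _).1 (by rw [ev_cons, ev_nil, mul_one] at h; exact h)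
    have h2 : f 0 ^ 2 = 1 := by simpa [pow_two] using hE _ (hc.1 0 (by decide)).1
    have h4 : f 0 ^ 3 = 1 := by
      rw [← h3, ← Nat.card_zpowers]
      exact congrArg Subtype.val (pow_card_eq_one' (x := (⟨f 0, h1⟩ : zpowers (f 6))))
    exact ha (by rwa [pow_succ, h2, one_mul] at h4))
  rw [gen_quot_top (QuotientGroup.mk'_surjective _) htop h6] at s1 s2
  rw [card_top] at s2
  have s3 : IsSimpleGroup (C ⧸ zpowers (f 6)) := topEquiv.symm.isSimpleGroup
  have e := center_eq_zpowers hz (center_eq_bot_of_simple (by rw [s2]; norm_num))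
  have g := QuotientGroup.quotientMulEquivOfEq e
  refine ⟨h3, by rw [e, Nat.card_zpowers, h3], ⟨g.isSimpleGroup, by rw [Nat.card_congr g.toEquiv, s2]⟩, ?_⟩
  rw [card_eq_card_quotient_mul_card_subgroup (zpowers (f 6)), s2, Nat.card_zpowers, h3]

/-- The three-cycles of the Carmichael presentation. -/
def cyc (i : Fin 9) : alternatingGroup (Fin 11) :=
  ⟨H24.AltMult.c 0 1 (i.addNat 2), by
    rw [Equiv.Perm.mem_alternatingGroup]; revert i; decide⟩

theorem closure_cyc : closure (Set.range cyc) = ⊤ := by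
  apply map_injective (alternatingGroup (Fin 11)).subtype_injective
  rw [← MonoidHom.range_eq_map, range_subtype]
  refine le_antisymm (map_subtype_le _) fun σ hσ => ?_
  rw [MonoidHom.map_closure]
  refine closure_mono ?_ (H24.AltMult.closure_c (a := 0) (b := 1) (by decide) σ hσ)
  rintro _ ⟨i, hi, rfl⟩
  obtain ⟨j, rfl⟩ : ∃ j : Fin 9, j.addNat 2 = i := by
    have : ∀ i : Fin 11, i ≠ 0 ∧ i ≠ 1 → ∃ j : Fin 9, j.addNat 2 = i := by decide
    exact this i (by simpa using hi)
  exact ⟨_, ⟨j, rfl⟩, rfl⟩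

theorem exists_hom_alt {Q : Type*} [Group Q] [Finite Q] (x : Fin 9 → Q) (h3 : ∀ i, x i ^ 3 = 1)
    (h2 : ∀ i j, i ≠ j → (x i * x j) ^ 2 = 1) :
    ∃ ψ : alternatingGroup (Fin 11) →* Q, ∀ i, ψ (cyc i) = x i := by
  let y : Fin 9 → alternatingGroup (Fin 11) × Q := fun i => (cyc i, x i)
  have h := H24.carmichael y Finset.univ
    (fun i _ => Prod.ext ((by decide : ∀ i, cyc i ^ 3 = 1) i) (h3 i))
    (fun i _ j _ hij => Prod.ext ((by decide +kernel : ∀ i j, i ≠ j → (cyc i * cyc j) ^ 2 = 1) i j hij)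
      (h2 i j hij))
  rw [Finset.coe_univ, Set.image_univ] at h
  let p : closure (Set.range y) →* alternatingGroup (Fin 11) := (MonoidHom.fst _ _).comp (Subgroup.subtype _)
  have hp : Function.Surjective p := by
    rw [← MonoidHom.range_eq_top, MonoidHom.range_comp, range_subtype, MonoidHom.map_closure,
      ← Set.range_comp]
    exact closure_cyc
  have hb := hp.bijective_of_nat_card_le (by
    have := two_mul_nat_card_alternatingGroup (α := Fin 11)
    rw [Nat.card_perm, Nat.card_fin] at this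
    rw [Finset.card_univ, Fintype.card_fin, show Nat.factorial (9 + 2) = Nat.factorial 11 from rfl] at h
    omega)
  refine ⟨((MonoidHom.snd _ _).comp (Subgroup.subtype _)).comp
    (MulEquiv.ofBijective p hb).symm.toMonoidHom, fun i => ?_⟩
  have : (MulEquiv.ofBijective p hb).symm (cyc i) = ⟨y i, subset_closure ⟨i, rfl⟩⟩ := by
    rw [MulEquiv.symm_apply_eq]; rfl
  change ((MulEquiv.ofBijective p hb).symm (cyc i) : alternatingGroup (Fin 11) × Q).2 = _
  rw [this]

/-- Letters `0, …, 8` satisfy the Carmichael relators modulo the central involution `9`. -/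
theorem a11_cover {C : Type} [Group C] [Finite C] {f : ℕ → C} {E : List (List ℕ × List ℕ)}
    (hE : ∀ p ∈ E, ev f p.1 = ev f p.2)
    (hc : (∀ i < 9, ([i, i, i], []) ∈ E ∧ ([i, 9], [9, i]) ∈ E ∧ ∀ j < i, ([j, i, j, i], [9]) ∈ E) ∧
      ([9, 9], []) ∈ E)
    (htop : gen f (9 :: List.range 9) = ⊤) (ht : f 9 ≠ 1) (ha : f 0 ≠ 1) :
    orderOf (f 9) = 2 ∧ Cfsg.IsNonsplitDoubleCover C (alternatingGroup (Fin 11)) ∧
      Nat.card C = 39916800 := by
  have hz : f 9 ∈ center C := mem_center_of_gen htop fun c h => by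
    rcases List.mem_cons.1 h with rfl | h
    · rfl
    · simpa using hE _ (hc.1 c (List.mem_range.1 h)).2.1
  have := normal_zpowers hz
  have h2 : orderOf (f 9) = 2 := orderOf_eq_prime (by simpa [pow_succ] using hE _ hc.2) ht
  have h3 : ∀ i < 9, f i ^ 3 = 1 := fun i hi => by
    simpa [pow_succ, mul_assoc] using hE _ (hc.1 i hi).1
  let π := QuotientGroup.mk' (zpowers (f 9))
  have h9 : π (f 9) = 1 := (QuotientGroup.eq_one_iff _).2 (mem_zpowers _)
  have h4 : ∀ i < 9, ∀ j < i, (π (f j) * π (f i)) ^ 2 = 1 := fun i hi j hj => by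
    rw [← map_mul, ← map_pow, ← h9]
    congr 1
    simpa [pow_succ, mul_assoc] using hE _ ((hc.1 i hi).2.2 j hj)
  obtain ⟨ψ, hψ⟩ := exists_hom_alt (fun i => π (f i)) (fun i => by rw [← map_pow, h3 i i.2, map_one])
    fun i j hij => by
      rcases lt_or_gt_of_ne hij with h | h
      · exact h4 j j.2 i h
      · have := h4 i i.2 j h
        rw [pow_two, mul_assoc, mul_eq_one_comm] at this
        rw [pow_two, ← this]; group
  have hs : Function.Surjective ψ := by
    rw [← MonoidHom.range_eq_top, eq_top_iff, ← gen_quot_top (QuotientGroup.mk'_surjective _) htop h9,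
      gen_le]
    exact fun c h => ⟨_, hψ ⟨c, List.mem_range.1 h⟩⟩
  have simp11 : IsSimpleGroup (alternatingGroup (Fin 11)) := alternatingGroup.isSimpleGroup (by simp)
  have hi : Function.Injective ψ := by
    rw [← MonoidHom.ker_eq_bot_iff]
    refine (Normal.eq_bot_or_eq_top inferInstance).resolve_right fun h => ?_
    have h5 : cyc 0 ∈ ψ.ker := h ▸ mem_top _
    rw [MonoidHom.mem_ker, hψ] at h5
    have h1 : f 0 ∈ zpowers (f 9) := (QuotientGroup.eq_one_iff _).1 h5
    have h6 : f 0 ^ 2 = 1 := by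
      rw [← h2, ← Nat.card_zpowers]
      exact congrArg Subtype.val (pow_card_eq_one' (x := (⟨f 0, h1⟩ : zpowers (f 9))))
    have h7 := h3 0 (by norm_num)
    exact ha (by rwa [pow_succ, h6, one_mul] at h7)
  let g := MulEquiv.ofBijective ψ ⟨hi, hs⟩
  have c1 : Nat.card (alternatingGroup (Fin 11)) = 19958400 := by
    have := two_mul_nat_card_alternatingGroup (α := Fin 11)
    rw [Nat.card_perm, Nat.card_fin, show Nat.factorial 11 = 39916800 from rfl] at this
    omega
  have c2 : Nat.card C = 39916800 := by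
    rw [card_eq_card_quotient_mul_card_subgroup (zpowers (f 9)), ← Nat.card_congr g.toEquiv, c1,
      Nat.card_zpowers, h2]
  refine ⟨h2, nonsplit_of_surj (g.symm.toMonoidHom.comp π)
    (g.symm.surjective.comp (QuotientGroup.mk'_surjective _))
    (center_eq_bot_of_simple (by rw [c1]; norm_num)) (by rw [c1, c2]) fun M hM => ?_, c2⟩
  have hM' : ∀ i < 9, f i ∈ M := fun i hi => by
    have := M.sq_mem_of_index_two hM (f i)⁻¹
    rwa [show (f i)⁻¹ ^ 2 = f i * (f i ^ 3)⁻¹ by group, h3 i hi, inv_one, mul_one] at this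
  have : M = ⊤ := by
    rw [eq_top_iff, ← htop, gen_le]
    intro c h
    rcases List.mem_cons.1 h with rfl | h
    · have := hE _ ((hc.1 1 (by norm_num)).2.2 0 (by norm_num))
      simp only [ev_cons, ev_nil, mul_one] at this
      rw [← this]
      exact mul_mem (hM' 0 (by norm_num)) (mul_mem (hM' 1 (by norm_num))
        (mul_mem (hM' 0 (by norm_num)) (hM' 1 (by norm_num))))
    · exact hM' c (List.mem_range.1 h)
  rw [this, index_top] at hM
  exact absurd hM (by norm_num)

theorem wE_eq_one {G : Type*} [Group G] (σ : ℕ → G) {ws : List (List ℕ)} {c : ℕ}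
    (h : ws.length ≤ c) : wE σ ws c = 1 := by rw [wE, nth_default _ h, ev_nil]

theorem wE_mem_gen {G : Type*} [Group G] (σ : ℕ → G) {ws : List (List ℕ)} {L : List ℕ}
    (h : ∀ c < ws.length, c ∈ L) (c : ℕ) : wE σ ws c ∈ gen (wE σ ws) L := by
  by_cases hc : c < ws.length
  · exact mem_gen (h c hc)
  · rw [wE_eq_one σ (by omega)]; exact one_mem _

theorem mcl_sub {G : Type} [Group G] {σ : ℕ → G} {ws : List (List ℕ)} (hl : ws.length = 7)
    {E : List (List ℕ × List ℕ)} (hE : ∀ p ∈ E, ev (wE σ ws) p.1 = ev (wE σ ws) p.2)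
    (hc : (∀ c ∈ McT1.cols, ([c, c], []) ∈ E ∧ ([c, 6], [6, c]) ∈ E) ∧ ([6, 6, 6], []) ∈ E ∧
      (allL McT1.R0 fun r => memLL r
        (E.map fun p => strip 6 p.1 ++ invW (ivOf McT1.ivl) (strip 6 p.2))) = true)
    (hx : wE σ ws 6 ≠ 1) (ha : wE σ ws 0 ≠ 1) {X : Subgroup G} (hX : X = gen (wE σ ws) (6 :: McT1.cols)) :
    orderOf (wE σ ws 6) = 3 ∧ Nat.card (center X) = 3 ∧ Cfsg.IsMcL (X ⧸ center X) ∧
      Nat.card X = 3 * 898128000 ∧ X ≤ centralizer {wE σ ws 6} := by
  subst hX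
  have hm := wE_mem_gen σ (ws := ws) (L := 6 :: McT1.cols) (by rw [hl]; decide)
  obtain ⟨a1, a2, a3, a4⟩ := mcl_cover (eqs_subL hm hE) hc
    (fun c hc => Subtype.ext (wE_eq_one _ (hl ▸ hc))) (gen_subL hm le_rfl)
    (fun h => hx (congrArg Subtype.val h)) fun h => ha (congrArg Subtype.val h)
  refine ⟨by rw [← a1, ← orderOf_coe]; rfl, a2, a3, a4, gen_le.2 fun c h => ?_⟩
  rw [mem_centralizer_singleton_iff]
  rcases List.mem_cons.1 h with rfl | h
  · rfl
  · simpa using hE _ (hc.1 c h).2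

theorem a11_sub {G : Type} [Group G] {σ : ℕ → G} {ws : List (List ℕ)} (hl : ws.length = 10)
    {E : List (List ℕ × List ℕ)} (hE : ∀ p ∈ E, ev (wE σ ws) p.1 = ev (wE σ ws) p.2)
    (hc : (∀ i < 9, ([i, i, i], []) ∈ E ∧ ([i, 9], [9, i]) ∈ E ∧ ∀ j < i, ([j, i, j, i], [9]) ∈ E) ∧
      ([9, 9], []) ∈ E)
    (ht : wE σ ws 9 ≠ 1) (ha : wE σ ws 0 ≠ 1) {X : Subgroup G} [Finite X]
    (hX : X = gen (wE σ ws) (9 :: List.range 9)) :
    orderOf (wE σ ws 9) = 2 ∧ Cfsg.IsNonsplitDoubleCover X (alternatingGroup (Fin 11)) ∧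
      Nat.card X = 39916800 ∧ X ≤ centralizer {wE σ ws 9} := by
  subst hX
  have hm := wE_mem_gen σ (ws := ws) (L := 9 :: List.range 9) (by rw [hl]; decide)
  obtain ⟨a1, a2, a3⟩ := a11_cover (eqs_subL hm hE) hc (gen_subL hm le_rfl)
    (fun h => ht (congrArg Subtype.val h)) fun h => ha (congrArg Subtype.val h)
  refine ⟨by rw [← a1, ← orderOf_coe]; rfl, a2, a3, gen_le.2 fun c h => ?_⟩
  rw [mem_centralizer_singleton_iff]
  rcases List.mem_cons.1 h with rfl | h
  · rfl
  · simpa using hE _ (hc.1 c (List.mem_range.1 h)).2.1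

end H19
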