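import Mathlib
import Cfsg.Agent.H29.Ext

set_option autoImplicit false
set_option maxRecDepth 100000
set_option Elab.async false
set_option linter.all false

namespace H19.ThT5
open H29

noncomputable def n0 : Net := ben 7 [(nat_lit 0x0),
 (nat_lit 0x0),
 (nat_lit 0x0),
 (nat_lit 0x0),
 (nat_lit 0x0),
 (nat_lit 0x0),
 (nat_lit 0x0)]
noncomputable def t0 : List ℕ := [(nat_lit 0x3c3969629b46f8445db2654cd9c3e2),
 (nat_lit 0x3ff9ff7d67a8cd7ba1dc8a9301c3fc),
 (nat_lit 0x3ff9ff7fffff917f69fffffffe3c00),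
 (nat_lit 0xc006008000006e8096000000000000),
 (nat_lit 0x0),
 (nat_lit 0x0)]
noncomputable def d0 : ℕ := (nat_lit 0x0)
noncomputable def n2 : Net := ben 7 [(nat_lit 0x0),
 (nat_lit 0x0),
 (nat_lit 0x0),
 (nat_lit 0x0),
 (nat_lit 0x0),
 (nat_lit 0x0),
 (nat_lit 0x0)]
noncomputable def t2 : List ℕ := [(nat_lit 0xaf5e333f2868699937f199b69515e6),
 (nat_lit 0x2040311e284779993ffd99f90ae1f8),
 (nat_lit 0x23b9ae04a87f79993ffd99fffffe04),
 (nat_lit 0x23f9bf1ea87f79993ffd99fffffe04),
 (nat_lit 0x23f9bf1ea87f79993ffd99fffffe04),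
 (nat_lit 0xdc0640e157808666c0026600000000)]
noncomputable def d2 : ℕ := (nat_lit 0x0)
noncomputable def n3 : Net := ben 7 [(nat_lit 0x55555f1cf5056a6559544a4001199c),
 (nat_lit 0x33300a02533399900000000000a212),
 (nat_lit 0x88150000b77b0033000000a704),
 (nat_lit 0xf7f701110e0e0c0f0033000000f4),
 (nat_lit 0xf08e008f0e0000030f07000700),
 (nat_lit 0x701000087010e000000ce000000),
 (nat_lit 0x10ee00700)]
noncomputable def t3 : List ℕ := [(nat_lit 0xf0d8022a40e2cc40d1996475868),
 (nat_lit 0xfc1b00aa5df40fc0d1628189a70),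
 (nat_lit 0xa95cfe0002a41000080c003f1c0000),
 (nat_lit 0x1000f80cc0381c0000),
 (nat_lit 0x4f0305200000000000),
 (nat_lit 0xe000000807c00000fc7000000)]
noncomputable def d3 : ℕ := (nat_lit 0x540000455540200002820000002404)
noncomputable def n4 : Net := ben 7 [(nat_lit 0xaa60a25986596559075545417df000),
 (nat_lit 0x617a90730bb23a539c553001baa000),
 (nat_lit 0x6ae20fe6910b3a22781e44a8fd4600),
 (nat_lit 0x3ae4019f6f6fa0840090684f0004),
 (nat_lit 0x8400ac4f00cf610148887c0000fa00),
 (nat_lit 0xa9156e4b0000004b480000),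
 (nat_lit 0x4b000000)]
noncomputable def t4 : List ℕ := [(nat_lit 0xf80fde9e7205000aad9260100020ea),
 (nat_lit 0x23b0208483fff33400400482400000),
 (nat_lit 0x23bfee84f3ff8108280024900825f8),
 (nat_lit 0xdc40117b0c000000001200000001f8),
 (nat_lit 0xfc4031ff0e07723485c00000000000),
 (nat_lit 0x3bfce00f1f8000000000000000000)]
noncomputable def d4 : ℕ := (nat_lit 0x88150240a2d168000)
noncomputable def n5 : Net := ben 7 [(nat_lit 0x59a335fc19a9ce11aaa56190001d54),
 (nat_lit 0x407c9b2022a158e351152b3a20e482),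
 (nat_lit 0xc8cac4d27501840200fdec66022e02),
 (nat_lit 0xc0040aa9113142a096b408680024),
 (nat_lit 0x8000c6352535058810087601000100),
 (nat_lit 0x4a018000c00484200000008c340200),
 (nat_lit 0x8070ef0100)]
noncomputable def t5 : List ℕ := [(nat_lit 0x696490365c102d70110a0751082822),
 (nat_lit 0xb4c8574028549e3210224fa6084870),
 (nat_lit 0xcd0cc2000114010110274007083080),
 (nat_lit 0x4010000000080000),
 (nat_lit 0x3e8085980000000000),
 (nat_lit 0x880400000000803200000fe7000000)]
noncomputable def d5 : ℕ := (nat_lit 0x211000882ab400c0840b000000308)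
noncomputable def n6 : Net := n5.rev
noncomputable def t6 : List ℕ := mapPull n6 t5
noncomputable def d6 : ℕ := (nat_lit 0x8100e2220810105024090000005000)
noncomputable def n7 : Net := ben 7 [(nat_lit 0x60d5184dd46128d14e621751b4dbd0),
 (nat_lit 0xfd2cf22527a1b7af305a11a1b02b10),
 (nat_lit 0x9ff88454408558f048c2208088808),
 (nat_lit 0x73f4a4a38384a8e20a000000080),
 (nat_lit 0x800460140414020002a0000000000),
 (nat_lit 0x403800004e39400000000020000000),
 (nat_lit 0x40380000000000)]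
noncomputable def t7 : List ℕ := [(nat_lit 0x450523234cdc92908623452151a2ca),
 (nat_lit 0x572180202b50fab220610e9609a344),
 (nat_lit 0xc6a1a0446fd6908220236fb3c25400),
 (nat_lit 0x20103808108000000000),
 (nat_lit 0x6a0186480000000000),
 (nat_lit 0x0)]
noncomputable def d7 : ℕ := (nat_lit 0x28481c900000050001000000000820)
noncomputable def n8 : Net := n7.rev
noncomputable def t8 : List ℕ := mapPull n8 t7
noncomputable def d8 : ℕ := (nat_lit 0xa601002004822280104090480080)
noncomputable def n9 : Net := ben 7 [(nat_lit 0x9686a5595958955745445a666a6555),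
 (nat_lit 0xa4901d1c03f703f7c04120669f0660),
 (nat_lit 0xe70e352418938909c2c399f08b0f0c),
 (nat_lit 0x4485e0d0936219301e56f08b0084),
 (nat_lit 0x47001f900e6067ff80fff91000eb04),
 (nat_lit 0x32248100c21d5e8000000096800000),
 (nat_lit 0x3ffff180000000)]
noncomputable def t9 : List ℕ := [(nat_lit 0x54723260bcd591835926288d5ae3c2),
 (nat_lit 0x8234439883c59e03d7d982080073c8),
 (nat_lit 0xfdcffce77fc21ffc2ffff2891cfc04),
 (nat_lit 0x180011880281000000000081cfe04),
 (nat_lit 0x1800118f0001000000000081cfe04),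
 (nat_lit 0xfe3feee50fc7effffffff030000000)]
noncomputable def d9 : ℕ := (nat_lit 0x542a10010)
noncomputable def n10 : Net := n9.rev
noncomputable def t10 : List ℕ := mapPull n10 t9
noncomputable def d10 : ℕ := (nat_lit 0x42)
def ivl : List ℕ := [0, 1, 2, 3, 4, 6, 5, 8, 7, 10, 9]
def cols : List ℕ := [0, 2, 3, 4, 5, 6, 7, 8, 9, 10]
def hcols : List ℕ := [0, 2, 3, 4, 5, 6, 7, 8]
def G0 : List (List ℕ) := [[0, 4, 0, 4],
 [0, 3, 2, 3, 2, 3, 2, 3, 2],
 [2, 4, 2, 4],
 [3, 4, 3, 4, 3, 4],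
 [5, 5, 5, 5, 5, 5, 5],
 [6, 0, 5, 0],
 [6, 2, 5, 2],
 [5, 3, 5, 3],
 [4, 6, 4, 6, 6, 4, 5, 5, 5],
 [7, 7, 7],
 [8, 0, 7, 0],
 [8, 2, 7, 2],
 [8, 3, 7, 3],
 [8, 4, 7, 4],
 [8, 5, 7, 6, 6],
 [9, 9, 2, 0],
 [10, 0, 9, 0],
 [10, 2, 9, 2],
 [10, 4, 9, 4],
 [3, 4, 10, 3, 9, 3, 4, 10, 3, 9],
 [10, 7, 9, 7],
 [4, 6, 6, 10, 5, 5, 4, 6, 6, 9, 5, 5],
 [0, 2, 6, 10, 6, 10, 6, 10],
 [0, 2, 6, 10, 5, 9, 6, 10, 5, 9, 6, 10, 5, 9, 6, 10, 5, 9],
 [3, 6, 6, 9, 5, 5, 3, 6, 6, 9, 5, 5, 3, 6, 6, 9, 5, 5, 3, 6, 6, 9, 4, 3, 2, 3, 4, 5, 5, 5, 4, 3, 2, 3, 4, 6, 3, 2, 3, 2, 0]]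
def R0 : List (List ℕ) := G0
def w0 : List ℕ := [0, 3, 0, 3]
def R1 : List (List ℕ) := R0 ++ [w0]
def w1 : List ℕ := [10, 6, 10, 6, 9, 6]
def R2 : List (List ℕ) := R1 ++ [w1]
def w2 : List ℕ := [10, 3, 8, 4, 6, 8, 4, 8, 0, 5, 5, 4, 6, 6, 0, 9, 5, 5, 8, 6, 6, 6, 8, 10, 6, 6, 6, 8, 5, 10, 0, 5, 5, 0, 9, 8, 10, 0, 6, 0, 9, 6, 8, 5, 8, 5, 10, 0, 5, 7, 6, 10, 0, 9, 5, 5, 10, 0, 5, 0, 9, 7, 7, 10, 5, 5, 3, 6, 6, 10, 5, 5, 3, 0, 2, 3, 2, 3, 5, 4, 3, 2, 3, 4, 6, 6, 6, 4, 3, 2, 3, 4, 10, 5, 5, 3, 6, 6, 8, 3, 4, 10, 3, 9, 3, 5, 3, 5, 10, 0, 5, 5, 0, 9, 8, 10, 0, 6, 0, 9, 6, 8, 5, 8, 5, 10, 0, 5, 7, 6, 10, 0, 9, 5, 5, 10, 0, 5, 0, 9, 7, 7, 10, 5, 5, 3, 6, 6, 10, 5, 5, 3, 0, 2, 3, 2, 3, 5, 4, 3, 2, 3, 4, 6, 6, 6, 4, 3, 2, 3, 4, 10, 5, 5, 3, 6, 6, 8, 3, 4, 10, 3, 9, 4, 10, 3, 9, 4, 3]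
def R3 : List (List ℕ) := R2 ++ [w2]
theorem hii : ∀ c, ivOf ivl (ivOf ivl c) = c := ivOf_ivOf (by decide +kernel)
noncomputable def pr0 : List (ℕ × ℕ) := [(21, (nat_lit 0x700000400000100000700000200000700001800000100000700001000001800000100000900000700001800001000000100000000001800000700000d))]
theorem p0 : chkProg 4 (ivOf ivl) R0 pr0 [(0, w0)] = true := by decide +kernel
noncomputable def pr1 : List (ℕ × ℕ) := [(33, (nat_lit 0x700000400000100000700002800004800002800000a0000010000090000110000220000280000070000b500000700005000000700000000000100000700008500000700000100001100000700004800000200000000000700007d00000700008d))]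
theorem p1 : chkProg 4 (ivOf ivl) R1 pr1 [(0, w1)] = true := by decide +kernel
noncomputable def pr2 : List (ℕ × ℕ) := [(200, (nat_lit 0x3900001200000900001100000700002d00000700000000011100000700000200003000002200012100002100000700000100000900000700004800012a00000000000700008d00000700005500000700001000000700000100003800000700005d0000070000300000020000e10000010000070000100000070000480000ea00000000000700002800000700000200002200003000006a00008a00006900000700000100000a00004a0000810000490000520000070000480000ca0000000000070000300000020000a900000100000700001000000700000200004000003a0000070000020000c200003800000700003000000100000a00005200000900001100002200000700004800009a00000000000700001000000700003000000200007100000100000700001000000700004800007a00000000000700007500000700004800000700001a00000100001900000900000700003d00000700000a00000100000900001200003200004a0000280000070000d500000700005000000700002a00003a00002900000200000700002200000100002100000a00000000000900000700008500000700004800002200000000000700003000000a00000100000900000700003500000700001000000700004800000200000000000700007d00000700000100001a0000110000190000070000020000380000070000a500000700006500000700001800000100000700005000000700001800004800001800005000002000001800001a00000700001800002000000100000700001d00000700004800001800005000002000001800000200000700009d)),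
 (200, (nat_lit 0x2a900029100000200021a0000090002190000110000210000290000310000070002910000280000070000ad00000700002000000100000700001500000700027100002800000700026900002800000700000000027900000700002100003800000700000a00000100000900002000000700009500000700004800000700004000000a00000100000900000700006d00000700002000000700004500000700000200024900000100004000000700004800000700000200000700000100026900000700001800000100025100000700016100000100024200000700001100000100020900000700000100001900019200000700000200000a00017900000900000700014200004000020100000700003000000700000200000700000200017100000100000a0000190000070000480000070000480000300000300000180000280000280000480000300000300000180000020000000000100000180000100000180000300000200000180000100000180000200000280000280000280000200000180000100000180000200000480000300000300000180000280000280001690000070000c500000700000100001a00013a0000190000220000d20000070000020000c200000a0000c100000700004000012a00000700004d0000070000400000a90000070000010000120000d10000a20001110000a100000700003800000200019a00000100000700004800000700000200012100000100000a00007200008200002800000700005000000700006a00016200006900000200000700004a00000100004200003900004100004900000700003a000001)),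
 (111, (nat_lit 0x700000400000100000700000200000700000200000700000100000700001800000100014a00000700000200000700000100000700002800000100002900000700000100001a0000070000020000070001390000010000070003720000d10000070000c900028900000700000100000a0002b20000090000120000f10000070000400000020000d100000100000700002000000700000100000a0000d20000280000280000280000070000da0000a10000d900002000000700000200000a0002b20000090000120000300000070000910000480000070000200000070000020000120000a20002710000a10000920000070000020002f900000100004000000700004800000700003000003000003000009100000200006100000700000200000a0002520000090000120000510000070000020002d9000001000040000007000048000007000028000028))]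
theorem p2 : chkProg 4 (ivOf ivl) R2 pr2 [(0, w2)] = true := by decide +kernel
theorem der : Derives (ivOf ivl) R0 R3 := (((Derives.refl _ _).prog hii p0).prog hii p1).prog hii p2
noncomputable def nl : List Net := [n0, Net.nil, n2, n3, n4, n5, n6, n7, n8, n9, n10]
noncomputable def T : TCData := ⟨120, 120, 7, 6, nth Net.nil nl, ivOf ivl, cols, hcols, R3,
  nth [] [t0, [], t2, t3, t4, t5, t6, t7, t8, t9, t10], nth 0 [d0, 0, d2, d3, d4, d5, d6, d7, d8, d9, d10]⟩
theorem hn : NetsOK 120 (nth Net.nil nl) := netsOK_of_all (by decide +kernel)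
theorem hiv : IvOK (sg (nth Net.nil nl)) (ivOf ivl) :=
  ivOK_of_chk (k := 7) hn (by decide) (n := 11) (by decide) (by decide) (allN_true.1 (by decide +kernel))
theorem hb : T.Basic := TCData.basic_of_chk hn hiv (by decide +kernel)
theorem hG0 : ∀ r ∈ G0, ev (sg (nth Net.nil nl)) r = 1 :=
  rels_of_chk (k := 7) hn (by decide) hiv (allN_true.1 (by decide +kernel))
noncomputable def s0 : List TCData.Step := [.all 0 0 0,
 .all 5 1 0,
 .all 5 3 0,
 .all 10 1 0,
 .all 10 3 0,
 .pts 16 1 0 1 [1],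
 .pts 16 1 0 5 [87],
 .pts 16 3 0 3 [16],
 .pts 16 3 0 4 [21],
 .pts 16 3 0 5 [30, 32, 34],
 .pts 16 3 0 6 [31],
 .all 25 0 0]
noncomputable def s2 : List TCData.Step := [.all 2 0 0,
 .all 6 1 0,
 .all 6 3 0,
 .all 11 1 0,
 .pts 11 3 0 29 [23, 107],
 .pts 11 3 0 31 [45, 48, 64, 70],
 .pts 11 3 0 32 [37, 41, 57, 71, 79, 82],
 .pts 11 3 0 33 [93, 119],
 .pts 15 2 0 27 [89, 91, 92, 96, 100, 110],
 .pts 15 2 0 28 [9, 76, 87],
 .pts 15 2 0 29 [2, 16, 18, 75],
 .pts 15 2 0 30 [15, 17],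
 .pts 17 1 0 1 [1],
 .pts 17 3 0 29 [77],
 .pts 17 3 0 30 [30],
 .pts 17 3 0 31 [31, 32, 85],
 .pts 17 3 0 32 [33],
 .pts 22 1 0 28 [11]]
noncomputable def s3 : List TCData.Step := [.all 3 0 0,
 .all 7 1 0,
 .all 12 1 0,
 .all 12 3 0,
 .pts 19 0 0 1 [16],
 .pts 19 0 0 32 [30],
 .pts 19 0 0 36 [97],
 .pts 19 0 0 37 [98]]
noncomputable def s4 : List TCData.Step := [.pts 3 1 0 17 [48],
 .pts 3 1 0 24 [96],
 .pts 3 1 0 25 [89, 92],
 .pts 8 0 0 5 [59],
 .pts 8 0 0 23 [81],
 .pts 8 0 0 38 [87, 109, 112],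
 .pts 8 2 0 5 [53],
 .pts 8 2 0 6 [71],
 .pts 8 2 0 24 [83],
 .pts 8 2 0 38 [79, 108],
 .all 8 5 0,
 .all 13 1 0,
 .pts 13 3 0 9 [41],
 .pts 13 3 0 13 [5],
 .pts 13 3 0 23 [74],
 .pts 13 3 0 25 [115],
 .pts 18 1 0 1 [1],
 .pts 18 3 0 2 [22],
 .pts 18 3 0 6 [31],
 .pts 18 3 0 13 [3],
 .pts 19 1 0 37 [84, 85, 86, 102, 105, 106],
 .pts 21 0 0 12 [4, 8],
 .pts 21 0 0 22 [73]]
noncomputable def s5 : List TCData.Step := [.pts 8 1 0 4 [42],
 .pts 8 1 0 16 [44],
 .pts 8 3 0 4 [56],
 .pts 8 3 0 6 [45],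
 .pts 8 3 0 34 [71],
 .pts 8 4 0 18 [68],
 .all 14 3 0,
 .all 14 4 0,
 .pts 26 1 0 1 [1],
 .pts 26 5 0 37 [115]]
noncomputable def s6 : List TCData.Step := [.pts 4 0 0 2 [108],
 .pts 4 0 0 4 [81],
 .pts 4 0 0 7 [38, 77],
 .all 7 0 0,
 .pts 8 6 0 17 [63],
 .pts 8 7 0 16 [51],
 .pts 8 8 0 34 [59],
 .pts 8 8 0 38 [90, 95],
 .all 14 1 0]
noncomputable def s7 : List TCData.Step := [.all 12 0 0,
 .all 13 0 0,
 .all 14 0 0]
noncomputable def s8 : List TCData.Step := [.all 9 0 0,
 .all 14 2 0,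
 .pts 20 1 0 1 [1, 6],
 .all 20 3 0]
noncomputable def s9 : List TCData.Step := [.all 18 0 0,
 .pts 19 2 0 29 [15],
 .pts 19 2 0 36 [88, 115],
 .pts 19 2 0 37 [42, 51, 64, 82, 83, 116],
 .pts 19 2 0 38 [44, 49, 81, 102, 106],
 .pts 19 2 0 39 [79],
 .all 20 0 0,
 .pts 22 3 0 35 [54],
 .pts 22 3 0 36 [58],
 .pts 22 3 0 37 [105],
 .pts 22 3 0 38 [47],
 .pts 22 5 0 38 [66],
 .pts 22 7 0 36 [53],
 .all 26 0 0,
 .all 26 2 0,
 .pts 27 0 0 20 [86]]
noncomputable def s10 : List TCData.Step := [.pts 15 0 0 1 [0],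
 .pts 15 0 0 37 [88, 115],
 .pts 15 0 0 38 [42, 116],
 .pts 15 1 0 30 [30],
 .pts 15 1 0 31 [31, 32, 85],
 .pts 15 1 0 32 [33],
 .all 20 2 0,
 .all 26 4 0]
theorem hR0 : ∀ r ∈ R0, ev (sg (nth Net.nil nl)) r = 1 := hG0
theorem col0 : T.ColOK 0 := TCData.colOK_of_chk (U := (T.stepsMask 0 s0 (T.mask0 0))) (V := (T.stepsMask 0 s0 (T.mask0 0))) hb (TCData.cov_stepsMask hb (by decide) s0 _ (T.cov_mask0 0)) (TCData.cov_stepsMask hb (by decide) s0 _ (T.cov_mask0 0)) (by decide +kernel)
theorem col2 : T.ColOK 2 := TCData.colOK_of_chk (U := (T.stepsMask 2 s2 (T.mask0 2))) (V := (T.stepsMask 2 s2 (T.mask0 2))) hb (TCData.cov_stepsMask hb (by decide) s2 _ (T.cov_mask0 2)) (TCData.cov_stepsMask hb (by decide) s2 _ (T.cov_mask0 2)) (by decide +kernel)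
theorem col3 : T.ColOK 3 := TCData.colOK_of_chk (U := (T.stepsMask 3 s3 (T.mask0 3))) (V := (T.stepsMask 3 s3 (T.mask0 3))) hb (TCData.cov_stepsMask hb (by decide) s3 _ (T.cov_mask0 3)) (TCData.cov_stepsMask hb (by decide) s3 _ (T.cov_mask0 3)) (by decide +kernel)
theorem col4 : T.ColOK 4 := TCData.colOK_of_chk (U := (T.stepsMask 4 s4 (T.mask0 4))) (V := (T.stepsMask 4 s4 (T.mask0 4))) hb (TCData.cov_stepsMask hb (by decide) s4 _ (T.cov_mask0 4)) (TCData.cov_stepsMask hb (by decide) s4 _ (T.cov_mask0 4)) (by decide +kernel)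
theorem col5 : T.ColOK 5 := TCData.colOK_of_chk (U := (T.stepsMask 5 s5 (T.mask0 5))) (V := (T.stepsMask 6 s6 (T.mask0 6))) hb (TCData.cov_stepsMask hb (by decide) s5 _ (T.cov_mask0 5)) (TCData.cov_stepsMask hb (by decide) s6 _ (T.cov_mask0 6)) (by decide +kernel)
theorem col6 : T.ColOK 6 := TCData.colOK_of_chk (U := (T.stepsMask 6 s6 (T.mask0 6))) (V := (T.stepsMask 5 s5 (T.mask0 5))) hb (TCData.cov_stepsMask hb (by decide) s6 _ (T.cov_mask0 6)) (TCData.cov_stepsMask hb (by decide) s5 _ (T.cov_mask0 5)) (by decide +kernel)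
theorem col7 : T.ColOK 7 := TCData.colOK_of_chk (U := (T.stepsMask 7 s7 (T.mask0 7))) (V := (T.stepsMask 8 s8 (T.mask0 8))) hb (TCData.cov_stepsMask hb (by decide) s7 _ (T.cov_mask0 7)) (TCData.cov_stepsMask hb (by decide) s8 _ (T.cov_mask0 8)) (by decide +kernel)
theorem col8 : T.ColOK 8 := TCData.colOK_of_chk (U := (T.stepsMask 8 s8 (T.mask0 8))) (V := (T.stepsMask 7 s7 (T.mask0 7))) hb (TCData.cov_stepsMask hb (by decide) s8 _ (T.cov_mask0 8)) (TCData.cov_stepsMask hb (by decide) s7 _ (T.cov_mask0 7)) (by decide +kernel)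
theorem col9 : T.ColOK 9 := TCData.colOK_of_chk (U := (T.stepsMask 9 s9 (T.mask0 9))) (V := (T.stepsMask 10 s10 (T.mask0 10))) hb (TCData.cov_stepsMask hb (by decide) s9 _ (T.cov_mask0 9)) (TCData.cov_stepsMask hb (by decide) s10 _ (T.cov_mask0 10)) (by decide +kernel)
theorem col10 : T.ColOK 10 := TCData.colOK_of_chk (U := (T.stepsMask 10 s10 (T.mask0 10))) (V := (T.stepsMask 9 s9 (T.mask0 9))) hb (TCData.cov_stepsMask hb (by decide) s10 _ (T.cov_mask0 10)) (TCData.cov_stepsMask hb (by decide) s9 _ (T.cov_mask0 9)) (by decide +kernel)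
theorem ok : T.OK := ⟨hb, TCData.treeOK_of_chk hn (by decide +kernel), (List.forall_mem_cons.2 ⟨col0, (List.forall_mem_cons.2 ⟨col2, (List.forall_mem_cons.2 ⟨col3, (List.forall_mem_cons.2 ⟨col4, (List.forall_mem_cons.2 ⟨col5, (List.forall_mem_cons.2 ⟨col6, (List.forall_mem_cons.2 ⟨col7, (List.forall_mem_cons.2 ⟨col8, (List.forall_mem_cons.2 ⟨col9, (List.forall_mem_cons.2 ⟨col10, (fun _ h => absurd h List.not_mem_nil)⟩)⟩)⟩)⟩)⟩)⟩)⟩)⟩)⟩)⟩), der _ _ hiv hR0⟩
theorem bd {G : Type} [Group G] {e : ℕ → G} (h1 : IvOK e (ivOf ivl)) (h2 : ∀ r ∈ R0, ev e r = 1)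
    {m : ℕ} (h : Bd (gen e hcols) m) : Bd (gen e cols) (120 * m) := ok.bd h1 (der G e h1 h2) h
theorem cm {G : Type} [Group G] {e : ℕ → G} (h1 : IvOK e (ivOf ivl)) (h2 : ∀ r ∈ R0, ev e r = 1)
    (h3 : gen e cols = ⊤) {ρ : G →* Equiv.Perm ℕ} (h4 : ∀ c, ρ (e c) = sg (nth Net.nil nl) c) :
    CosetModel ρ (gen e hcols) 120 := ok.cosetModel h1 (der G e h1 h2) h3 fun c _ => h4 c

end H19.ThT5
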