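import Mathlib
import Cfsg.Agent.H19.DCE6

/-!
# Codes of matrices in general, and bit planes over the field with three elements
-/

set_option autoImplicit false

namespace H19
open H29 Finset MulAction

/-- A system of codes for square matrices. -/
structure MC (I R : Type) [Fintype I] [DecidableEq I] [CommRing R] where
  mul : ℕ → ℕ → ℕ
  one : ℕ
  chk : ℕ → Bool
  Red : ℕ → Prop
  dec : ℕ → Matrix I I R
  red_mul : ∀ {a b}, Red a → Red b → Red (mul a b)
  dec_mul : ∀ {a b}, Red a → Red b → dec (mul a b) = dec a * dec b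
  red_one : Red one
  dec_one : dec one = 1
  dec_inj : ∀ {a b}, Red a → Red b → dec a = dec b → a = b
  red_of_chk : ∀ {a}, chk a = true → Red a

namespace MC
variable {I R : Type} [Fintype I] [DecidableEq I] [CommRing R] (M : MC I R)

/-- The codes of invertible matrices. -/
def codes : Codes (GL I R) :=
  ⟨M.mul, M.one, fun g c => M.Red c ∧ (g : Matrix I I R) = M.dec c,
    fun h1 h2 => ⟨M.red_mul h1.1 h2.1, by rw [M.dec_mul h1.1 h2.1, Units.val_mul, h1.2, h2.2]⟩,
    ⟨M.red_one, by rw [M.dec_one]; rfl⟩, fun h1 h2 => Units.ext (h1.2.trans h2.2.symm),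
    fun h1 h2 => M.dec_inj h1.1 h2.1 (h1.2.symm.trans h2.2), M.chk,
    fun {g g' a c} h1 h2 h3 => ⟨M.red_of_chk h1, by
      rw [Units.val_mul, h3.2, M.dec_mul (M.red_of_chk h1) h2.1, ← h2.2, mul_assoc, Units.mul_inv,
        mul_one]⟩⟩

open Classical in
/-- The invertible matrix of a code. -/
noncomputable def gl (c : ℕ) : GL I R := if h : IsUnit (M.dec c) then h.unit else 1

/-- Test of the letter `c`: its code is reduced, and the code of `iv c` is inverse to it. -/
noncomputable def _root_.H19.chkLetG (mul : ℕ → ℕ → ℕ) (one : ℕ) (chk : ℕ → Bool) (l ivl : List ℕ)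
    (c : ℕ) : Bool :=
  and2 (chk (nth one l c)) (Bool.rec true
    (Nat.beq (mul (nth one l c) (nth one l (ivOf ivl c))) one) (Nat.ble c (ivOf ivl c)))

theorem letters {l ivl : List ℕ} (hii : ∀ c, ivOf ivl (ivOf ivl c) = c)
    (hl : ivl.length ≤ l.length) (hc : ∀ c < l.length, chkLetG M.mul M.one M.chk l ivl c = true) :
    (∀ c, M.codes.Rep (M.gl (nth M.one l c)) (nth M.one l c)) ∧
      IvOK (fun c => M.gl (nth M.one l c)) (ivOf ivl) := by
  have h1 : ∀ c, M.Red (nth M.one l c) := fun c => by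
    by_cases hc' : c < l.length
    · have := hc c hc'
      rw [chkLetG, and2_true] at this
      exact M.red_of_chk this.1
    · rw [nth_default _ (by omega)]; exact M.red_one
  have h2 : ∀ c, c ≤ ivOf ivl c → M.mul (nth M.one l c) (nth M.one l (ivOf ivl c)) = M.one := by
    intro c hle
    by_cases hc' : c < l.length
    · have := hc c hc'
      rw [chkLetG, and2_true, ble_true.2 hle] at this
      exact H29.beq_true.1 this.2
    · rw [nth_default _ (by omega), nth_default _ (by omega)]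
      exact M.dec_inj (M.red_mul M.red_one M.red_one) M.red_one
        (by rw [M.dec_mul M.red_one M.red_one, M.dec_one, mul_one])
  have h3 : ∀ c, M.dec (nth M.one l c) * M.dec (nth M.one l (ivOf ivl c)) = 1 := fun c => by
    rcases le_total c (ivOf ivl c) with hle | hle
    · rw [← M.dec_mul (h1 _) (h1 _), h2 c hle, M.dec_one]
    · have := h2 (ivOf ivl c) (by rwa [hii])
      rw [hii] at this
      rw [mul_eq_one_comm, ← M.dec_mul (h1 _) (h1 _), this, M.dec_one]
  have h4 : ∀ c, M.codes.Rep (M.gl (nth M.one l c)) (nth M.one l c) := fun c => by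
    have h5 : IsUnit (M.dec (nth M.one l c)) :=
      (Matrix.isUnit_iff_isUnit_det _).2 (Matrix.isUnit_det_of_right_inverse (h3 c))
    exact ⟨h1 c, by rw [gl, dif_pos h5]; rfl⟩
  refine ⟨h4, fun c => eq_inv_of_mul_eq_one_right (Units.ext ?_)⟩
  rw [Units.val_mul, (h4 _).2, (h4 _).2, h3]; rfl

/-- One level of a chain of orbits of vectors. -/
noncomputable def _root_.H19.chkOrb (mul : ℕ → ℕ → ℕ) (chk : ℕ → Bool) (lc : ℕ → ℕ) (v : ℕ)
    (st : List (ℕ × ℕ)) (L L' : List ℕ) : Bool :=
  and2 (and2 (chk v) (grow mul lc L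
      (fun O => allL O fun x => allL L fun c => seqN (mul x (lc c)) fun y => memL y O) st [v]))
    (allL L' fun c => and2 (memL c L) (Nat.beq (mul v (lc c)) v))

theorem dvd_of_chkOrb {σ : ℕ → GL I R} {lc : ℕ → ℕ} (hl : ∀ c, M.codes.Rep (σ c) (lc c)) {v : ℕ}
    {st : List (ℕ × ℕ)} {L L' : List ℕ} [Finite (gen σ L)]
    (hc : chkOrb M.mul M.chk lc v st L L' = true) {n : ℕ} (ih : n ∣ Nat.card (gen σ L')) :
    (st.length + 1) * n ∣ Nat.card (gen σ L) := by
  simp only [chkOrb, and2_true, allL_true, memL_true, H29.beq_true] at hc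
  obtain ⟨⟨h1, h2⟩, h3⟩ := hc
  have hle : gen σ L' ≤ gen σ L := gen_mono fun c hc => (h3 c hc).1
  have r1 := M.red_of_chk h1
  let f : ℕ → RV I R := fun x => ⟨M.dec x⟩
  have hf : ∀ x, M.Red x → ∀ c, (σ c)⁻¹ • f x = f (M.mul x (lc c)) := fun x hx c => by
    change RV.mk (M.dec x * ((σ c)⁻¹⁻¹ : GL I R).val) = ⟨_⟩
    rw [inv_inv, M.dec_mul hx (hl c).1, (hl c).2]
  obtain ⟨O, b1, b2, b3, b4, b5⟩ := grow_spec
    (p := fun x => M.Red x ∧ f x ∈ orbit (gen σ L) (f v)) (by
      rintro x ⟨x1, g, x2⟩ c hc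
      refine ⟨M.red_mul x1 (hl c).1, ⟨(σ c)⁻¹, inv_mem (mem_gen hc)⟩ * g, ?_⟩
      rw [← hf x x1, ← x2]
      exact mul_smul _ g _) _ _ (List.nodup_singleton _)
    (fun x hx => by rw [List.mem_singleton.1 hx]; exact ⟨r1, mem_orbit_self _⟩) h2
  simp only [allL_true, seqN_eq, memL_true] at b5
  have := dvd_step (σ := σ) (L := L) (L' := L') (v := f v) (O := f '' {x | x ∈ O})
    ⟨v, b3 _ (by simp), rfl⟩ (by rintro _ ⟨x, hx, rfl⟩; exact (b2 x hx).2)
    (by rintro _ ⟨x, hx, rfl⟩ c hc; exact ⟨_, b5 x hx c hc, (hf x (b2 x hx).1 c).symm⟩) hle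
    (fun c hc => by rw [hf _ r1, (h3 c hc).2])
  have hinj : Set.InjOn f {x | x ∈ O} := fun x hx y hy e =>
    M.dec_inj (b2 x hx).1 (b2 y hy).1 (congrArg RV.x e)
  rw [hinj.ncard_image, show {x | x ∈ O} = (O.toFinset : Set ℕ) by simp,
    Set.ncard_coe_finset, List.toFinset_card_of_nodup b1, b4, add_comm] at this
  exact (Nat.mul_dvd_mul_left _ ih).trans this

end MC

/-- Parameters of bit planes: dimension, its square, and masks. -/
structure T3 where
  n : ℕ
  N : ℕ
  CM : ℕ
  RM : ℕ
  NM : ℕ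
  one : ℕ

namespace T3

/-- The value of a pair of bits. -/
def val (a b : Bool) : ZMod 3 := cond a 1 0 - cond b 1 0

variable (P : T3)

/-- The test of the parameters. -/
noncomputable def ok : Bool :=
  and2 (and2 (Nat.ble 1 P.n) (Nat.beq P.N (P.n * P.n)))
    (and2 (and2 (Nat.beq P.CM (geo 1 P.n P.n)) (Nat.beq P.RM (ones P.n)))
      (and2 (Nat.beq P.NM (ones P.N)) (Nat.beq P.one (geo 1 (P.n + 1) P.n))))

structure OK : Prop where
  n_pos : 0 < P.n
  N : P.N = P.n * P.n
  CM : P.CM = pack 1 (P.n * P.n) fun t => if t % P.n = 0 then 1 else 0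
  RM : P.RM = ones P.n
  NM : P.NM = ones P.N
  one : P.one = pack 1 (P.n * P.n) fun t => if t / P.n = t % P.n then 1 else 0

/-- Add an outer product to the planes `x`, `y`. -/
noncomputable def step (a0 a1 r0 r1 x y : ℕ) (k : ℕ → ℕ → ℕ) : ℕ :=
  seqN (Nat.lor (Nat.mul a0 r0) (Nat.mul a1 r1)) fun u =>
  seqN (Nat.lor (Nat.mul a0 r1) (Nat.mul a1 r0)) fun v =>
  seqN (Nat.xor (Nat.lor x v) (Nat.lor y u)) fun t =>
  seqN (Nat.xor t (Nat.lor y v)) fun x' => seqN (Nat.xor t (Nat.lor x u)) fun y' => k x' y'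

/-- Column `k`, spread out. -/
def col (A k : ℕ) : ℕ := Nat.land (Nat.shiftRight A k) P.CM

/-- Row `k`. -/
def row (B k : ℕ) : ℕ := Nat.land (Nat.shiftRight B (Nat.mul P.n k)) P.RM

/-- The sum of the outer products. -/
noncomputable def aux (A0 A1 B0 B1 m : ℕ) : ℕ → ℕ → ℕ :=
  Nat.rec (motive := fun _ => ℕ → ℕ → ℕ) (fun x y => Nat.lor x (Nat.shiftLeft y P.N))
    (fun k ih x y => step (P.col A0 k) (P.col A1 k) (P.row B0 k) (P.row B1 k) x y ih) m

/-- The product. -/
noncomputable def mul (A B : ℕ) : ℕ :=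
  P.aux (Nat.land A P.NM) (Nat.shiftRight A P.N) (Nat.land B P.NM) (Nat.shiftRight B P.N) P.n 0 0

/-- The test of a code. -/
noncomputable def chk (c : ℕ) : Bool :=
  and2 (Nat.beq (Nat.shiftRight (Nat.shiftRight c P.N) P.N) 0)
    (Nat.beq (Nat.land (Nat.land c P.NM) (Nat.shiftRight c P.N)) 0)

/-- A reduced code. -/
def Red (c : ℕ) : Prop :=
  (∀ t, c.testBit (P.N + P.N + t) = false) ∧ ∀ t < P.N, (c.testBit t && c.testBit (P.N + t)) = false

/-- Entry number `t`. -/
def en (c t : ℕ) : ZMod 3 := val (c.testBit t) (c.testBit (P.N + t))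

variable {P}

theorem ok_of_chk (h : P.ok = true) : P.OK := by
  simp only [ok, and2_true, ble_true, H29.beq_true] at h
  obtain ⟨⟨h1, h2⟩, ⟨h3, h4⟩, h5, h6⟩ := h
  refine ⟨h1, h2, ?_, h4, h5, ?_⟩
  · rw [h3, geo_eq, ← pack_stride h1, one_mul]
  · rw [h6, geo_eq, ← PM.pack_diag h1 _ le_rfl, one_mul]

theorem testBit_pack {k : ℕ} {f : ℕ → Bool} (t : ℕ) :
    (pack 1 k fun t => (f t).toNat).testBit t = (decide (t < k) && f t) := by
  have := testBit_ent 1 (pack 1 k fun t => (f t).toNat) t 0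
  rw [ent_pack (fun t _ => by cases f t <;> simp)] at this
  simp only [Nat.lt_one_iff, decide_true, one_mul, add_zero, Bool.true_and] at this
  rw [← this]
  split_ifs with h <;> cases f t <;> simp [h]

theorem eq_pack {k x : ℕ} {f : ℕ → Bool} (h : ∀ t, x.testBit t = (decide (t < k) && f t)) :
    x = pack 1 k fun t => (f t).toNat := Nat.eq_of_testBit_eq fun t => by rw [h, testBit_pack]

theorem OK.term (h : P.OK) (A B k t : ℕ) : (Nat.mul (P.col A k) (P.row B k)).testBit t =
    (decide (t < P.N) && (A.testBit (t / P.n * P.n + k) && B.testBit (k * P.n + t % P.n))) := by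
  have e1 : P.col A k = pack 1 (P.n * P.n) fun t =>
      if t % P.n = 0 then (A.testBit (t / P.n * P.n + k)).toNat else 0 := by
    rw [eq_pack (x := P.col A k) (k := P.n * P.n)
      (f := fun t => decide (t % P.n = 0) && A.testBit (t / P.n * P.n + k)) fun t => ?_]
    · exact pack_congr fun t _ => by split_ifs with h1 <;> simp [h1]
    · rw [col, land_eq, Nat.testBit_and, shr_eq, Nat.testBit_shiftRight, h.CM,
        pack_congr (g := fun t => (decide (t % P.n = 0)).toNat) fun t _ => by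
          split_ifs with h1 <;> simp [h1], testBit_pack]
      by_cases h1 : t % P.n = 0
      · rw [Nat.div_mul_cancel (Nat.dvd_of_mod_eq_zero h1), add_comm t]
        simp [h1, Bool.and_comm]
      · simp [h1]
  have e2 : P.row B k = pack 1 P.n fun t => (B.testBit (k * P.n + t)).toNat :=
    eq_pack fun t => by
      rw [row, land_eq, Nat.testBit_and, shr_eq, Nat.testBit_shiftRight, h.RM, testBit_ones,
        Bool.and_comm, Nat.mul_eq, mul_comm]
  rw [Nat.mul_eq, e1, e2, pack_outer h.n_pos (fun i => (A.testBit (i * P.n + k)).toNat), h.N,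
    ← testBit_pack (f := fun t => A.testBit (t / P.n * P.n + k) && B.testBit (k * P.n + t % P.n))]
  congr 1
  exact pack_congr fun t _ => by
    cases A.testBit (t / P.n * P.n + k) <;> cases B.testBit (k * P.n + t % P.n) <;> rfl

theorem step_bits : ∀ d a0 a1 r0 r1 x y : Bool, (d = true → (a0 && a1) = false ∧ (r0 && r1) = false) →
    (x && y) = false →
    let u := (d && (a0 && r0)) || (d && (a1 && r1))
    let v := (d && (a0 && r1)) || (d && (a1 && r0))
    let t := (x || v) ^^ (y || u)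
    ((t ^^ (y || v)) && (t ^^ (x || u))) = false ∧
      val (t ^^ (y || v)) (t ^^ (x || u)) = val x y + cond d (val a0 a1 * val r0 r1) 0 := by
  decide

theorem OK.aux_spec (h : P.OK) {A0 A1 B0 B1 : ℕ}
    (hA : ∀ t < P.N, (A0.testBit t && A1.testBit t) = false)
    (hB : ∀ t < P.N, (B0.testBit t && B1.testBit t) = false) : ∀ m ≤ P.n, ∀ x y : ℕ,
    (∀ t, (x.testBit t && y.testBit t) = false) → ∃ X Y : ℕ,
      P.aux A0 A1 B0 B1 m x y = X ||| Y <<< P.N ∧ ∀ t, (X.testBit t && Y.testBit t) = false ∧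
        val (X.testBit t) (Y.testBit t) = val (x.testBit t) (y.testBit t) + ∑ k ∈ range m,
          cond (decide (t < P.N)) (val (A0.testBit (t / P.n * P.n + k)) (A1.testBit (t / P.n * P.n + k)) *
            val (B0.testBit (k * P.n + t % P.n)) (B1.testBit (k * P.n + t % P.n))) 0
  | 0, _, x, y, hx => ⟨x, y, rfl, fun t => ⟨hx t, by simp⟩⟩
  | m + 1, hm, x, y, hx => by
    have key := fun t => step_bits (decide (t < P.N)) (A0.testBit (t / P.n * P.n + m))
      (A1.testBit (t / P.n * P.n + m)) (B0.testBit (m * P.n + t % P.n))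
      (B1.testBit (m * P.n + t % P.n)) (x.testBit t) (y.testBit t) (fun ht => by
        have h1 : t / P.n < P.n := Nat.div_lt_of_lt_mul (by simpa [h.N] using ht)
        have h2 := Nat.mod_lt t h.n_pos
        exact ⟨hA _ (by rw [h.N]; nlinarith), hB _ (by rw [h.N]; nlinarith)⟩) (hx t)
    simp only [← h.term, ← Nat.testBit_or, ← Nat.testBit_xor] at key
    obtain ⟨X, Y, e, hX⟩ := OK.aux_spec h hA hB m (by omega) _ _ fun t => (key t).1
    refine ⟨X, Y, ?_, fun t => ⟨(hX t).1, ?_⟩⟩
    · rw [← e]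
      change step _ _ _ _ _ _ (P.aux A0 A1 B0 B1 m) = _
      rw [step, seqN_eq, seqN_eq, seqN_eq, seqN_eq, seqN_eq]
      rfl
    · rw [(hX t).2, (key t).2, sum_range_succ]; ring

theorem val_inj : ∀ a b c d : Bool, (a && b) = false → (c && d) = false → val a b = val c d →
    a = c ∧ b = d := by decide

theorem OK.mul_spec (h : P.OK) {A B : ℕ} (hA : P.Red A) (hB : P.Red B) :
    P.Red (P.mul A B) ∧ ∀ t < P.N, P.en (P.mul A B) t =
      ∑ k ∈ range P.n, P.en A (t / P.n * P.n + k) * P.en B (k * P.n + t % P.n) := by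
  have lo : ∀ (c : ℕ), ∀ t < P.N, (Nat.land c P.NM).testBit t = c.testBit t := fun c t ht => by
    rw [land_eq, Nat.testBit_and, h.NM, testBit_ones]; simp [ht]
  have hi : ∀ (c t : ℕ), (Nat.shiftRight c P.N).testBit t = c.testBit (P.N + t) := fun c t =>
    Nat.testBit_shiftRight c
  obtain ⟨X, Y, e, hX⟩ := h.aux_spec (A0 := Nat.land A P.NM) (A1 := Nat.shiftRight A P.N)
    (B0 := Nat.land B P.NM) (B1 := Nat.shiftRight B P.N)
    (fun t ht => by rw [lo A t ht, hi, hA.2 t ht]) (fun t ht => by rw [lo B t ht, hi, hB.2 t ht])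
    P.n le_rfl 0 0 (by simp)
  have z : ∀ t, X.testBit (P.N + t) = false ∧ Y.testBit (P.N + t) = false := fun t =>
    val_inj _ _ false false (hX _).1 rfl (by rw [(hX _).2]; simp)
  have b1 : ∀ t < P.N, (P.mul A B).testBit t = X.testBit t := fun t ht => by
    rw [mul, e, Nat.testBit_or, Nat.testBit_shiftLeft]; simp [not_le.2 ht]
  have b2 : ∀ t, (P.mul A B).testBit (P.N + t) = Y.testBit t := fun t => by
    rw [mul, e, Nat.testBit_or, Nat.testBit_shiftLeft, (z t).1]; simp
  refine ⟨⟨fun t => by rw [add_assoc, b2, (z t).2], fun t ht => by rw [b1 t ht, b2, (hX t).1]⟩,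
    fun t ht => ?_⟩
  have h1 : t / P.n < P.n := Nat.div_lt_of_lt_mul (by simpa [h.N] using ht)
  have h2 := Nat.mod_lt t h.n_pos
  rw [en, b1 t ht, b2, (hX t).2, Nat.zero_testBit, show val false false = 0 from rfl, zero_add]
  refine sum_congr rfl fun k hk => ?_
  have hk := mem_range.1 hk
  rw [decide_eq_true ht, cond_true, lo A _ (by rw [h.N]; nlinarith), lo B _ (by rw [h.N]; nlinarith),
    hi, hi, en, en]

theorem OK.one_bit (h : P.OK) (t : ℕ) :
    P.one.testBit t = (decide (t < P.N) && decide (t / P.n = t % P.n)) := by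
  rw [h.one, h.N, ← testBit_pack (f := fun t => decide (t / P.n = t % P.n))]
  congr 1
  exact pack_congr fun t _ => by split_ifs with h1 <;> simp [h1]

/-- The codes of matrices over the field with three elements. -/
noncomputable def OK.mc (h : P.OK) : MC (Fin P.n) (ZMod 3) where
  mul := P.mul
  one := P.one
  chk := P.chk
  Red := P.Red
  dec c := Matrix.of fun i j => P.en c (i * P.n + j)
  red_mul hA hB := (h.mul_spec hA hB).1
  dec_mul hA hB := by
    ext i j
    have hi := i.2
    have hj := j.2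
    rw [Matrix.mul_apply, Matrix.of_apply, (h.mul_spec hA hB).2 _ (by rw [h.N]; nlinarith),
      mul_comm (i : ℕ), Nat.mul_add_div h.n_pos, Nat.mul_add_mod, Nat.div_eq_of_lt hj,
      Nat.mod_eq_of_lt hj, add_zero, Finset.sum_range]
    rfl
  red_one := ⟨fun t => by rw [h.one_bit]; simp [add_assoc], fun t _ => by
    rw [h.one_bit (P.N + t)]; simp⟩
  dec_one := by
    ext i j
    have hi := i.2
    have hj := j.2
    rw [Matrix.of_apply, en, h.one_bit, h.one_bit, decide_eq_true (by rw [h.N]; nlinarith),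
      decide_eq_false (p := P.N + _ < _) (by omega), mul_comm (i : ℕ), Nat.mul_add_div h.n_pos,
      Nat.mul_add_mod, Nat.div_eq_of_lt hj, Nat.mod_eq_of_lt hj, add_zero, Matrix.one_apply]
    by_cases e : i = j <;> simp [e, val, Fin.val_inj]
  dec_inj {a b} hA hB e := by
    have key : ∀ t < P.N, a.testBit t = b.testBit t ∧ a.testBit (P.N + t) = b.testBit (P.N + t) :=
      fun t ht => val_inj _ _ _ _ (hA.2 t ht) (hB.2 t ht) (by
        have := congrFun (congrFun e ⟨t / P.n, Nat.div_lt_of_lt_mul (h.N ▸ ht)⟩)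
          ⟨t % P.n, Nat.mod_lt t h.n_pos⟩
        simpa only [Matrix.of_apply, Nat.div_add_mod', en] using this)
    refine Nat.eq_of_testBit_eq fun t => ?_
    by_cases h1 : t < P.N
    · exact (key t h1).1
    by_cases h2 : t < P.N + P.N
    · have := (key (t - P.N) (by omega)).2
      rwa [Nat.add_sub_cancel' (by omega)] at this
    · rw [show t = P.N + P.N + (t - (P.N + P.N)) by omega, hA.1, hB.1]
  red_of_chk {a} hc := by
    simp only [chk, and2_true, H29.beq_true] at hc
    refine ⟨fun t => ?_, fun t ht => ?_⟩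
    · have := congrArg (fun x => Nat.testBit x t) hc.1
      simpa [shr_eq, Nat.testBit_shiftRight, add_assoc] using this
    · have := congrArg (fun x => Nat.testBit x t) hc.2
      simpa [shr_eq, land_eq, Nat.testBit_shiftRight, h.NM, testBit_ones, ht] using this

end T3

end H19
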