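import Mathlib
import Cfsg.Agent.H19.MC

/-!
# Double coset enumeration: big certificates cut in pieces, straight-line programs on codes, and
a bound for centralisers when classes fuse
-/

set_option autoImplicit false

namespace H19
open H29 MulAction Subgroup

theorem mem_of_fix {T : TCData} {G : Type*} [Group G] {e : ℕ → G} (hT : T.OK) (hiv : IvOK e T.iv)
    (hR : ∀ r ∈ T.R, ev e r = 1) {H : Subgroup G} (hH : ∀ c ∈ T.hcols, e c ∈ H) {K : ℕ}
    (hn : NetsOK K T.nets) {w : List ℕ}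
    (hc : and2 (allL w fun c => memL c T.cols) (sub 1 (pullW T.nets w 1)) = true) : ev e w ∈ H := by
  simp only [and2_true, allL_true, memL_true] at hc
  have h0 := sub_true hc.2 (i := 0) rfl
  rw [testBit_pullW hn, Nat.testBit_one_eq_true_iff_self_eq_zero] at h0
  have := hT.ev_smul hiv hR hH hc.1 hT.tree.pos
  rw [h0, TCData.coset_zero, MulAction.Quotient.smul_coe, QuotientGroup.eq] at this
  simpa using this

theorem ev_rot {G : Type*} [Group G] {e : ℕ → G} {w : List ℕ} (h : ev e w = 1) (s : ℕ) :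
    ev e (w.drop s ++ w.take s) = 1 := by
  rw [← List.take_append_drop s w, ev_append] at h
  rw [ev_append, mul_eq_one_comm.1 h]

theorem al_of_word {G : Type*} [Group G] {e : ℕ → G} {iv : ℕ → ℕ} (hiv : IvOK e iv) {zl : ℕ}
    {u v : List ℕ} (h : ev e (iv zl :: u ++ zl :: invW iv v) = 1) :
    ev e u * e zl = e zl * ev e v := by
  rw [List.cons_append, ev_cons, ev_append, ev_cons, ev_invW hiv, hiv] at h
  calc _ = e zl * ((e zl)⁻¹ * (ev e u * (e zl * (ev e v)⁻¹))) * ev e v := by group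
    _ = _ := by rw [h, mul_one]

section SLP
variable {K : Type*} [Group K]

/-- `x` is the code of an element of `H`. -/
def Gd (C : Codes K) (H : Subgroup K) (x : ℕ) : Prop := ∃ g ∈ H, C.Rep g x

/-- Test of line `k` of a straight-line program: the code number `n + k` is the value of a word in
the earlier codes, or its inverse. -/
noncomputable def chkS (mul : ℕ → ℕ → ℕ) (one : ℕ) (chk : ℕ → Bool) (xs : List ℕ) (n : ℕ)
    (defs : List (Bool × List ℕ)) (k : ℕ) : Bool :=
  and2 (allL (nth (false, []) defs k).2 fun y => Nat.ble (Nat.succ y) (Nat.add n k))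
    (seqN (evC mul one (nth one xs) (nth (false, []) defs k).2) fun y =>
      Bool.rec (Nat.beq y (nth one xs (Nat.add n k)))
        (and2 (chk (nth one xs (Nat.add n k))) (Nat.beq (mul (nth one xs (Nat.add n k)) y) one))
        (nth (false, []) defs k).1)

theorem Gd.evA {C : Codes K} {H : Subgroup K} {lc : ℕ → ℕ} : ∀ (w : List ℕ) {x : ℕ}, Gd C H x →
    (∀ c ∈ w, Gd C H (lc c)) → Gd C H (evA C.mul lc w x)
  | [], _, hx, _ => hx
  | c :: w, x, ⟨g, g1, g2⟩, h => by
    rw [show H19.evA C.mul lc (c :: w) x = seqN (C.mul x (lc c)) (H19.evA C.mul lc w) from rfl,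
      seqN_eq]
    obtain ⟨k, k1, k2⟩ := h c (by simp)
    exact Gd.evA w ⟨_, mul_mem g1 k1, C.rep_mul g2 k2⟩ fun d hd => h d (by simp [hd])

theorem Gd.evC {C : Codes K} {H : Subgroup K} {lc : ℕ → ℕ} : ∀ (w : List ℕ),
    (∀ c ∈ w, Gd C H (lc c)) → Gd C H (evC C.mul C.one lc w)
  | [], _ => ⟨1, one_mem _, C.rep_one⟩
  | c :: w, h => Gd.evA w (h c (by simp)) fun d hd => h d (by simp [hd])

theorem exists_of_slp (C : Codes K) {H : Subgroup K} {xs : List ℕ} {n m : ℕ}
    {defs : List (Bool × List ℕ)} (h0 : ∀ c < n, Gd C H (nth C.one xs c))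
    (h : ∀ k < m, chkS C.mul C.one C.chk xs n defs k = true) (hl : xs.length ≤ n + m) :
    ∃ τ : ℕ → K, (∀ c, τ c ∈ H) ∧ ∀ c, C.Rep (τ c) (nth C.one xs c) := by
  have key : ∀ c, Gd C H (nth C.one xs c) := by
    intro c
    induction c using Nat.strong_induction_on with
    | _ c ih =>
      by_cases h1 : c < n
      · exact h0 c h1
      by_cases h2 : c < n + m
      · obtain ⟨k, rfl⟩ : ∃ k, c = n + k := ⟨c - n, by omega⟩
        have h3 := h k (by omega)
        simp only [chkS, and2_true, allL_true, ble_true, seqN_eq, Nat.add_eq] at h3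
        obtain ⟨g, g1, g2⟩ := Gd.evC (C := C) (H := H) _ fun c hc => ih c (h3.1 c hc)
        have h4 := h3.2
        cases hb : (nth (false, []) defs k).1 with
        | false =>
          rw [hb] at h4
          exact ⟨g, g1, H29.beq_true.1 h4 ▸ g2⟩
        | true =>
          rw [hb] at h4
          change and2 _ _ = true at h4
          rw [and2_true, H29.beq_true] at h4
          exact ⟨_, mul_mem (one_mem _) (inv_mem g1), C.cancel h4.1 g2 (by rw [h4.2]; exact C.rep_one)⟩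
      · rw [nth_default _ (by omega)]
        exact ⟨1, one_mem _, C.rep_one⟩
  choose τ h1 h2 using key
  exact ⟨τ, h1, h2⟩

end SLP

theorem all2_append {α β : Type} {f : α → β → Bool} : ∀ {l : List α} {l' : List β} {m : List α}
    {m' : List β}, all2 f l l' = true → all2 f m m' = true → all2 f (l ++ m) (l' ++ m') = true
  | [], [], _, _, _, h => h
  | [], _ :: _, _, _, h, _ => absurd h (by simp [all2])
  | _ :: _, [], _, _, h, _ => absurd h (by simp [all2])
  | a :: l, b :: l', m, m', h, h' => by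
    change and2 (f a b) (all2 f l l') = true at h
    change and2 (f a b) (all2 f (l ++ m) (l' ++ m')) = true
    rw [and2_true] at h ⊢
    exact ⟨h.1, all2_append h.2 h'⟩

namespace DD
variable (D : DD)

/-- The test of a generator of a stabiliser. -/
noncomputable def genChk (i j f : ℕ) (w : List ℕ) : Bool :=
  and2 (and2 (Nat.ble (Nat.succ f) i) (beqB (D.FT f).s false))
    (and2 (and2 (Nat.beq (D.FT f).j j) (Nat.beq (D.FT f).k j))
      (Nat.beq (evC D.mul D.one D.lc w) (D.FT f).q))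

/-- The test of an entry of a row. -/
noncomputable def rowChk (i : ℕ) (js : List ℕ) (j f : ℕ) (w : List ℕ) : Bool :=
  and2 (and2 (Nat.ble (Nat.succ f) i) (D.FT f).s)
    (and2 (and2 (Nat.beq (D.FT f).j j) (memL (D.FT f).k js))
      (Nat.beq (evC D.mul D.one D.lc w) (D.FT f).p))

variable {D}

theorem chkLive_of {i : ℕ} {js : List ℕ} {a : DLive} (h1 : all2 (D.genChk i a.j) a.gf a.gw = true)
    (h2 : all2 (D.rowChk i js a.j) a.pf a.pw = true) : D.chkLive i js a = true :=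
  and2_true.2 ⟨h1, h2⟩

end DD

section Starts
variable {K : Type*} [Group K] {σ : ℕ → K} {ρ : K →* Equiv.Perm ℕ} {nets : ℕ → Net}

/-- The points of `S` are images of `0` under the words `pw`, whose letters lie in `cols`. -/
def Starts (nets : ℕ → Net) (cols : List ℕ) (pw : List (List ℕ)) (S : ℕ) : Prop :=
  ∀ s, S.testBit s = true → ∃ w ∈ pw, (∀ c ∈ w, c ∈ cols) ∧ ev (sg nets) w 0 = s

theorem starts_of_chk {N : ℕ} (hn : NetsOK N nets) {iv : ℕ → ℕ} (hiv : IvOK (sg nets) iv)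
    {cols : List ℕ} {pw : List (List ℕ)} {S : ℕ}
    (h : and2 (chkIn cols pw) (sub S (startSet nets iv pw)) = true) : Starts nets cols pw S := by
  simp only [and2_true, chkIn, allL_true, memL_true] at h
  intro s hs
  obtain ⟨w, hw, e⟩ := testBit_startSet hn hiv (sub_true h.2 hs)
  exact ⟨w, hw, h.1 w hw, e⟩

theorem Starts.append {cols : List ℕ} {pw pw' : List (List ℕ)} {S S' : ℕ}
    (h : Starts nets cols pw S) (h' : Starts nets cols pw' S') :
    Starts nets cols (pw ++ pw') (Nat.lor S S') := fun s hs => by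
  rw [lor_eq, Nat.testBit_or, Bool.or_eq_true] at hs
  rcases hs with hs | hs
  · obtain ⟨w, hw, e⟩ := h s hs
    exact ⟨w, List.mem_append_left _ hw, e⟩
  · obtain ⟨w, hw, e⟩ := h' s hs
    exact ⟨w, List.mem_append_right _ hw, e⟩

theorem cover_of_starts {N : ℕ} {D : Subgroup K} (cm : CosetModel ρ D N) {cols : List ℕ}
    (hρ : ∀ c ∈ cols, ρ (σ c) = sg nets c) {gw pw : List (List ℕ)} (h1 : chkIn cols gw = true)
    {L : List ℕ} {S : ℕ} (h2 : Starts nets cols pw S) (h3 : Reach (wNets nets gw) L S (ones N))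
    (x : K) : ∃ s ∈ genW σ gw, ∃ w ∈ pw, ∃ d ∈ D, x = s * ev σ w * d := by
  obtain ⟨s, hs, b, hb, e⟩ := h3.exists_mem (fun c _ => map_wE' hρ h1 c) (i := ρ x 0)
    (by rw [testBit_ones]; simpa using cm.lt x 0 cm.pos)
  obtain ⟨w, hw, h4, e'⟩ := h2 b hb
  rw [← map_ev_sg fun c hc => hρ c (h4 c hc)] at e'
  refine ⟨s, gen_wE_le _ _ _ hs, w, hw, (s * ev σ w)⁻¹ * x, (cm.mem _).1 ?_, by group⟩
  rw [map_mul, map_inv, Equiv.Perm.mul_apply, Equiv.Perm.inv_eq_iff_eq, map_mul,
    Equiv.Perm.mul_apply, e', e]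

end Starts

theorem le_card_of_en {K : Type*} [Group K] [Finite K] (C : Codes K) {σ : ℕ → K} {lc : ℕ → ℕ}
    (hl : ∀ c, C.Rep (σ c) (lc c)) {S : Subgroup K} (hS : ∀ c, σ c ∈ S) {test : ℕ → Bool}
    {l : List ℕ} {a b c d : ℕ} (h : En (fun n => evC C.mul C.one lc (decW d n)) test l a b c) :
    l.length ≤ Nat.card S := by
  have := (h.ncard C (T := S) fun _ => ⟨_, ev_mem fun c _ => hS c, C.rep_evC hl _⟩).1
  rwa [← Nat.card_coe_set_eq] at this

theorem ncard_fix_conj {G X : Type*} [Group G] [MulAction G X] {a b : G} (h : IsConj a b) :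
    {q : X | b • q = q}.ncard = {q : X | a • q = q}.ncard := by
  obtain ⟨c, rfl⟩ := isConj_iff.1 h
  rw [← Set.ncard_image_of_injective {q : X | a • q = q} (MulAction.injective c)]
  congr 1
  ext q
  constructor
  · intro hq
    refine ⟨c⁻¹ • q, ?_, smul_inv_smul _ _⟩
    have : (c * a * c⁻¹) • q = q := hq
    change a • c⁻¹ • q = c⁻¹ • q
    rwa [mul_smul, mul_smul, ← eq_inv_smul_iff] at this
  · rintro ⟨p, hp, rfl⟩
    have : a • p = p := hp
    change (c * a * c⁻¹) • c • p = c • p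
    rw [mul_smul, mul_smul, inv_smul_smul, this]

/-- The centraliser of `φ t` when the classes in the set `T` fuse. -/
theorem DCS.cent_sq {G K : Type*} [Group G] [Group K] {φ : K →* G} {m : ℕ} {r : Fin m → G}
    {S : Fin m → Subgroup K} {n : Fin m → ℕ} (h : DCS φ r S n)
    (hx : (∑ i, n i) * Nat.card K ≤ Nat.card G) (t : G) {T : Set K}
    (h1 : ∀ x ∈ T, IsConj t (φ x)) (h2 : ∀ x ∈ T, ∀ g, g * x * g⁻¹ ∈ T) {I : Fin m → ℕ}
    (hI : ∀ i, {s | s ∈ S i ∧ s ∈ T}.ncard ≤ I i) :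
    Nat.card (centralizer ({t} : Set G)) * T.ncard * T.ncard ≤ (∑ i, n i * I i) * Nat.card K := by
  have := h.fin
  have := h.finite
  have hi := h.injective hx
  set F := {q : G ⧸ φ.range | t • q = q}.ncard with hF
  have e1 : Nat.card (centralizer ({t} : Set G)) * T.ncard ≤ F * Nat.card K := by
    have a := card_cent_mul t ((1 : G) : G ⧸ φ.range)
    rw [stabilizer_quotient, (h.index_eq_and hx).2,
      show {p | p ∈ orbit G ((1 : G) : G ⧸ φ.range) ∧ t • p = p} = {q | t • q = q} from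
        Set.ext fun q => and_iff_right (by rw [orbit_eq_univ]; trivial)] at a
    rw [hF, ← a, ← Set.ncard_image_of_injective T hi]
    refine Nat.mul_le_mul_left _ (Set.ncard_le_ncard ?_)
    rintro _ ⟨x, hx, rfl⟩
    exact ⟨⟨x, rfl⟩, h1 x hx⟩
  let A : Set (K × (G ⧸ φ.range)) := {p | p.1 ∈ T ∧ φ p.1 • p.2 = p.2}
  have e2 : A.ncard = T.ncard * F := by
    refine ncard_of_fibers Prod.fst (Set.toFinite _) (fun a ha => ha.1) fun x hx => ?_
    rw [hF, ← ncard_fix_conj (h1 x hx), ← Set.ncard_image_of_injective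
      {q : G ⧸ φ.range | φ x • q = q} (Prod.mk_right_injective x)]
    congr 1
    ext ⟨y, q⟩
    constructor
    · rintro ⟨⟨-, a⟩, rfl⟩
      exact ⟨q, a, rfl⟩
    · rintro ⟨p, a, e⟩
      obtain ⟨rfl, rfl⟩ := Prod.mk.inj e
      exact ⟨⟨hx, a⟩, rfl⟩
  have e3 : ∀ i, {p | p ∈ A ∧ p.2 ∈ dco φ.range (r i)}.ncard ≤ n i * I i := by
    intro i
    rw [ncard_of_fibers (B := dco φ.range (r i)) (k := {s | s ∈ S i ∧ s ∈ T}.ncard) Prod.snd
      (Set.toFinite _) (fun a ha => ha.2) ?_]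
    · exact Nat.mul_le_mul (h.ncard_le i) (hI i)
    rintro _ ⟨⟨_, g, rfl⟩, rfl⟩
    have hj : Function.Injective fun s : K =>
        (g * s * g⁻¹, φ g • (((r i)⁻¹ : G) : G ⧸ φ.range)) := fun a b e => by
      simpa using (Prod.mk.inj e).1
    rw [← Set.ncard_image_of_injective _ hj, ← h.nst_eq hx]
    congr 1
    ext ⟨y, q⟩
    constructor
    · rintro ⟨⟨⟨a1, a2⟩, -⟩, a3⟩
      obtain rfl : q = φ g • (((r i)⁻¹ : G) : G ⧸ φ.range) := a3
      refine ⟨g⁻¹ * y * g, ⟨?_, by simpa using h2 y a1 g⁻¹⟩, by simp [mul_assoc]⟩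
      change φ (g⁻¹ * y * g) • (((r i)⁻¹ : G) : G ⧸ φ.range) = _
      rw [map_mul, map_mul, map_inv, mul_smul, mul_smul, inv_smul_eq_iff]
      exact a2
    · rintro ⟨s, ⟨a1, a2⟩, e⟩
      obtain ⟨rfl, rfl⟩ := Prod.mk.inj e
      have a3 : φ s • (((r i)⁻¹ : G) : G ⧸ φ.range) = _ := a1
      refine ⟨⟨⟨h2 s a2 g, ?_⟩, ⟨φ g, g, rfl⟩, rfl⟩, rfl⟩
      change φ (g * s * g⁻¹) • φ g • (((r i)⁻¹ : G) : G ⧸ φ.range) = _
      rw [map_mul, map_mul, map_inv, mul_smul, mul_smul, inv_smul_smul, a3]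
  have e4 : A.ncard ≤ ∑ i, n i * I i := by
    refine le_trans (le_of_eq ?_) ((Set.ncard_iUnion_le_of_fintype _).trans
      (Finset.sum_le_sum fun i _ => e3 i))
    congr 1
    ext p
    simpa [Set.mem_iUnion] using fun _ => h.exists_mem p.2
  calc _ ≤ F * Nat.card K * T.ncard := Nat.mul_le_mul_right _ e1
    _ = A.ncard * Nat.card K := by rw [e2]; ring
    _ ≤ _ := Nat.mul_le_mul_right _ e4

/-- The conjugate named by a number: the low four bits choose the start. -/
noncomputable def cjW4 (iv : ℕ → ℕ) (st : List (List ℕ)) (dl : List ℕ) (d n : ℕ) : List ℕ :=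
  invW iv ((decW d (Nat.shiftRight n 4)).map (nth (nth 0 dl 0) dl)) ++
    nth (nth [] st 0) st (Nat.land n 15) ++ (decW d (Nat.shiftRight n 4)).map (nth (nth 0 dl 0) dl)

theorem le_ncard_conj4 {K : Type*} [Group K] [Finite K] (C : Codes K) {σ : ℕ → K} {lc iv : ℕ → ℕ}
    (hl : ∀ c, C.Rep (σ c) (lc c)) (hiv : IvOK σ iv) {c0 : ℕ} {dl : List ℕ} {t : K} {s0 : List ℕ}
    {st : List (List ℕ)} (h1 : ∀ s ∈ s0 :: st, (∀ c ∈ s, c ∈ c0 :: dl) ∧ IsConj t (ev σ s))
    {test : ℕ → Bool} {l : List ℕ} {a b c d : ℕ}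
    (h : En (fun n => evC C.mul C.one lc (cjW4 iv (s0 :: st) (c0 :: dl) d n)) test l a b c) :
    l.length ≤ {s | s ∈ gen σ (c0 :: dl) ∧ IsConj t s}.ncard := by
  refine (h.ncard C fun n => ⟨_, ?_, C.rep_evC hl _⟩).1
  have h2 := nth_forall (p := fun s => (∀ c ∈ s, c ∈ c0 :: dl) ∧ IsConj t (ev σ s)) (d := s0)
    (h1 s0 (by simp)) h1 (Nat.land n 15)
  have h3 : ev σ ((decW d (Nat.shiftRight n 4)).map (nth c0 (c0 :: dl))) ∈ gen σ (c0 :: dl) :=
    ev_mem_gen fun c hc => by
      obtain ⟨k, -, rfl⟩ := List.mem_map.1 hc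
      exact nth_forall (p := fun c => c ∈ c0 :: dl) (by simp) (fun _ h => h) k
  change ev σ (invW iv ((decW d (Nat.shiftRight n 4)).map (nth c0 (c0 :: dl))) ++
    nth s0 (s0 :: st) (Nat.land n 15) ++ (decW d (Nat.shiftRight n 4)).map (nth c0 (c0 :: dl))) ∈ _
  rw [ev_append, ev_append, ev_invW hiv]
  exact ⟨mul_mem (mul_mem (inv_mem h3) (ev_mem_gen h2.1)) h3,
    h2.2.trans (isConj_iff.2 ⟨_, by rw [inv_inv]⟩)⟩

end H19
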