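import Mathlib
import Cfsg.Agent.H18.K3Ch
import Cfsg.Agent.H25.Sympl

/-!
# Groups of characteristic `{2,3}`: commuting elementary abelian subgroups
-/

set_option autoImplicit false
set_option linter.unusedSectionVars false

open Cfsg H24 H26 Subgroup H18.K3

namespace H19.K3

universe u

variable {G : Type u} [Group G] [Finite G] {p a b : ℕ}

theorem ea_closure {q : ℕ} {S : Set G} (hc : ∀ x ∈ S, ∀ y ∈ S, x * y = y * x)
    (hq : ∀ x ∈ S, x ^ q = 1) : IsElementaryAbelian q (closure S) := by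
  have h1 : Abl (closure S) := by
    rw [abl_iff, closure_le]
    intro x hx
    rw [SetLike.mem_coe, mem_C_iff_le_C1, closure_le]
    intro y hy
    exact mem_C1.2 (hc y hy x hx)
  refine ⟨h1, fun x hx => ?_⟩
  induction hx using closure_induction with
  | mem x hx => exact hq x hx
  | one => exact one_pow _
  | mul x y hx hy h1' h2 => rw [Commute.mul_pow (h1.comm hx hy), h1', h2, one_mul]
  | inv x _ h => rw [inv_pow, h, inv_one]

theorem ea_pi {q : ℕ} (hq : q.Prime) {B : Subgroup G} (h : IsElementaryAbelian q B) :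
    IsPi {q} B :=
  isPi_iff_piElt.2 fun x hx => piElt_of_pow_eq_one (fun _ hr hd =>
    (Nat.prime_dvd_prime_iff_eq hr hq).1 hd) (h.2 x hx)

theorem ord3 {x : G} (h : x ^ 3 = 1) (h1 : x ≠ 1) : orderOf x = 3 := orderOf_eq_prime h h1

theorem cube {x : G} (h : orderOf x = 3) : x ^ 3 = 1 := by rw [← h, pow_orderOf_eq_one]

theorem ne_one3 {x : G} (h : orderOf x = 3) : x ≠ 1 :=
  ne_one_of_orderOf_prime (h ▸ Nat.prime_three)

theorem ne_inv3 {x : G} (h : orderOf x = 3) : x ≠ x⁻¹ := fun e => by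
  have h2 : x ^ 2 = 1 := by rw [pow_two]; exact mul_eq_one_iff_eq_inv.2 e
  have := orderOf_dvd_of_pow_eq_one h2
  rw [h] at this
  omega

/-- adjoining an element of order three -/
theorem ext3 {B : Subgroup G} (hB : IsElementaryAbelian 3 B) {y : G} (hy : orderOf y = 3)
    (hc : y ∈ C[B]) (hn : y ∉ B) :
    IsElementaryAbelian 3 (B ⊔ zpowers y) ∧ ♯(B ⊔ zpowers y) = 3 * ♯B := by
  have h1 : zpowers y ≤ C[B] := zpowers_le.2 hc
  have h3 : ♯(zpowers y) = 3 := by rw [Nat.card_zpowers, hy]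
  refine ⟨⟨Abl.sup hB.1 (abl_zpowers y) (cents_symm h1), fun g hg => ?_⟩, ?_⟩
  · obtain ⟨u, hu, v, hv, rfl⟩ := (mem_sup_of_norm (norm_of_cent h1)).1 hg
    obtain ⟨k, rfl⟩ := hv
    have hcm : Commute u (y ^ k) := (Commute.zpow_right (mem_C.1 hc u hu) k)
    simp only
    rw [hcm.mul_pow, hB.2 u hu, one_mul, ← zpow_natCast, ← zpow_mul, mul_comm, zpow_mul,
      zpow_natCast, cube hy, one_zpow]
  · rw [card_sup_of_inf (norm_of_cent h1), h3, mul_comm]
    rcases prime_le_or_inf (h3 ▸ Nat.prime_three) B with h | h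
    · exact absurd (h (mem_zpowers y)) hn
    · rw [inf_comm, h]

/-- an involution acting non-trivially on a `3`-group inverts an element of order three -/
theorem inv3 {R : Subgroup G} (hR : IsPi {3} R) {f : G} (hf : f * f = 1) (hn : f ∈ N[R])
    (h : ¬ R ≤ C{f}) : ∃ y ∈ R, orderOf y = 3 ∧ f * y * f⁻¹ = y⁻¹ := by
  obtain ⟨r, hr, hrf⟩ := SetLike.not_le_iff_exists.1 h
  have hfi : f⁻¹ = f := inv_eq_of_mul_eq_one_right hf
  set w := r⁻¹ * (f * r * f⁻¹) with hw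
  have hwR : w ∈ R := mul_mem (inv_mem hr) (conj_mem hn hr)
  have hw1 : w ≠ 1 := fun e => hrf (mem_C1_comm.1 (mem_C1_iff_conj.2
    (inv_mul_eq_one.1 e).symm))
  have hinv : f * w * f⁻¹ = w⁻¹ := by
    have e : f * w * f⁻¹ = f * r⁻¹ * f⁻¹ * ((f * f) * r * (f * f)⁻¹) := by rw [hw]; group
    rw [e, hf, hw]; group
  have hd := (hR.piElt hwR).dvd_orderOf hw1
  obtain ⟨k, hk⟩ := hd
  have ho : 0 < orderOf w := orderOf_pos w
  have hk0 : k ≠ 0 := by rintro rfl; omega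
  refine ⟨w ^ k, pow_mem hwR k, ?_, ?_⟩
  · rw [orderOf_pow_of_dvd hk0 ⟨3, by rw [hk, mul_comm]⟩, hk,
      Nat.mul_div_cancel _ (Nat.pos_of_ne_zero hk0)]
  · rw [← conj_pow, hinv, inv_pow]

theorem mini {E R : Subgroup G} (hE : IsElementaryAbelian 2 E) (hR : IsPi {3} R)
    (hn : E ≤ N[R]) {f : G} (hf : f ∈ E) (h : ¬ R ≤ C{f}) :
    ∃ y ∈ R, orderOf y = 3 ∧ f * y * f⁻¹ = y⁻¹ ∧
      ∀ e ∈ E, e * y * e⁻¹ = y ∨ e * y * e⁻¹ = y⁻¹ := by
  have hsq : ∀ e ∈ E, e * e = 1 := fun e he => by rw [← pow_two]; exact hE.2 e he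
  have hcop : (♯R).Coprime ♯E := hR.coprime_of_ne (ea_pi Nat.prime_two hE) (by norm_num)
  by_contra hcon
  refine h (coprime_abelian_gen_cent hE.1 hn hcop fun F hF ⟨c, hc, hFc⟩ => ?_)
  by_contra h2
  have hEF : E ≤ C[F] := Abl.cents hE.1 le_rfl hF
  obtain ⟨y, hy, ho, hi⟩ := inv3 (hR.inf_left C[F]) (hsq f hf)
    (norm_inf hn (norm_of_le hEF) hf) h2
  have hdec : ∀ e ∈ E, e * y * e⁻¹ = y ∨ e * y * e⁻¹ = c * y * c⁻¹ := by
    intro e he
    obtain ⟨u, hu, v, hv, rfl⟩ := (mem_sup_of_norm' (norm_zpowers_of_cent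
      (hF.trans (mem_C_iff_le_C1.1 (Abl.le_C hE.1 hc))))).1 (hFc he)
    have huy : u * y * u⁻¹ = y := by rw [mem_C.1 hy.2 u hu]; group
    rcases (H25.Sym.mem_zp (hsq c hc)).1 hv with rfl | rfl
    · left; simpa using huy
    · right
      have e : u * v = v * u := Abl.comm hE.1 (hF hu) hc
      rw [e]
      calc v * u * y * (v * u)⁻¹ = v * (u * y * u⁻¹) * v⁻¹ := by group
        _ = _ := by rw [huy]
  have hcy : c * y * c⁻¹ = y⁻¹ := by
    rcases hdec f hf with e | e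
    · exact absurd (e.symm.trans hi) (ne_inv3 ho)
    · rw [← e, hi]
  exact hcon ⟨y, hy.1, ho, hi, fun e he => by rw [← hcy]; exact hdec e he⟩

theorem step (h : KT G p a b) {E B : Subgroup G} (hE : IsElementaryAbelian 2 E)
    (hB : IsElementaryAbelian 3 B) (h1 : B ≠ ⊥) (hc : E ≤ C[B]) {f : G} (hf : f ∈ E)
    (f1 : f ≠ 1) : ∃ y ∈ C[B], y ∉ B ∧ orderOf y = 3 ∧ f * y * f⁻¹ = y⁻¹ ∧
      ∀ e ∈ E, e * y * e⁻¹ = y ∨ e * y * e⁻¹ = y⁻¹ := by
  obtain ⟨⟨x, hx⟩, x1⟩ := ne_bot_iff_exists_ne_one.1 h1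
  have x1' : x ≠ 1 := fun e => x1 (Subtype.ext e)
  have hox := ord3 (hB.2 x hx) x1'
  have hp5 := h.five
  have hs : Sol C{x} := h.solC x1' (by
    rw [hox]; intro hd; have := Nat.le_of_dvd (by norm_num) hd; omega)
  have hO := h.core3 ⟨1, by rw [hox, pow_one]⟩ x1'
  have hR := pcore_nml {3} C{x}
  have hEx : E ≤ C{x} := hc.trans (C_le_C1 hx)
  have hBx : B ≤ C{x} := (Abl.le_C hB.1).trans (C_le_C1 hx)
  have hf2 : IsPi {2} (zpowers f) := (ea_pi Nat.prime_two hE).of_le (zpowers_le.2 hf)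
  have key : ¬ O[{3}, C{x}] ⊓ C[B] ≤ C{f} := by
    intro hle
    have h2 : zpowers f ≤ C[O[{3}, C{x}]] :=
      Thompson_PxQ Nat.prime_three (ea_pi Nat.prime_three hB) (hf2.compl_of_ne (by norm_num))
        (pcore_pi _ _) (cents_symm ((zpowers_le.2 hf).trans hc)) (hBx.trans hR.norm)
        (((zpowers_le.2 hf).trans hEx).trans hR.norm) (by rwa [C_zpowers])
    have h3 : zpowers f ≤ O[{3}, C{x}] :=
      (le_inf ((zpowers_le.2 hf).trans hEx) h2).trans (cent_sub_pcore Nat.prime_three hs hO)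
    have h4 := ((pcore_pi {3} C{x}).of_le h3).eq_bot (hf2.compl_of_ne (by norm_num))
    exact f1 (zpowers_eq_bot.1 h4)
  obtain ⟨y, hy, ho, hi, hall⟩ := mini hE ((pcore_pi {3} C{x}).inf_left _)
    (norm_inf (hEx.trans hR.norm) (norm_of_le hc)) hf key
  refine ⟨y, hy.2, fun hyB => ne_inv3 ho ?_, ho, hi, hall⟩
  rw [← hi, conj_eq_of_mem_C (hc hf) hyB]

theorem fixor {f e y : G} (hf : f * y * f⁻¹ = y⁻¹) (he : e * y * e⁻¹ = y ∨ e * y * e⁻¹ = y⁻¹) :
    ∃ e', (e' = e ∨ e' = f * e) ∧ e' * y = y * e' := by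
  rcases he with he | he
  · exact ⟨e, Or.inl rfl, mul_inv_eq_iff_eq_mul.1 he⟩
  · refine ⟨f * e, Or.inr rfl, mul_inv_eq_iff_eq_mul.1 ?_⟩
    calc f * e * y * (f * e)⁻¹ = f * (e * y * e⁻¹) * f⁻¹ := by group
      _ = (f * y * f⁻¹)⁻¹ := by rw [he]; group
      _ = y := by rw [hf, inv_inv]

/-- a four-group centralising `B` -/
theorem k2 (h : KT G p a b) {B : Subgroup G} (hB : IsElementaryAbelian 3 B) (h1 : B ≠ ⊥)
    {u v : G} (hu : u * u = 1) (hv : v * v = 1) (huv : u * v = v * u) (u1 : u ≠ 1) (v1 : v ≠ 1)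
    (hne : v ≠ u) (huB : u ∈ C[B]) (hvB : v ∈ C[B]) :
    ∃ c, (c = v ∨ c = u * v) ∧ orderOf c = 2 ∧ ∃ B' : Subgroup G, IsElementaryAbelian 3 B' ∧
      B ≤ B' ∧ ♯B' = 3 * ♯B ∧ B' ≤ C{c} := by
  have hE : IsElementaryAbelian 2 (closure {u, v}) := ea_closure (by
    rintro x (rfl | rfl) y (rfl | rfl) <;> simp [huv]) (by
    rintro x (rfl | rfl) <;> rwa [pow_two])
  obtain ⟨y, hy, hyB, ho, hi, hall⟩ := step h hE hB h1 ((closure_le _).2 (by
    rintro x (rfl | rfl) <;> assumption)) (f := u) (subset_closure (by simp)) u1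
  obtain ⟨c, hc, hcy⟩ := fixor hi (hall v (subset_closure (by simp)))
  obtain ⟨h2, h3⟩ := ext3 hB ho hy hyB
  have hcB : c ∈ C[B] := by
    rcases hc with rfl | rfl
    · exact hvB
    · exact mul_mem huB hvB
  refine ⟨c, hc, ?_, B ⊔ zpowers y, h2, le_sup_left, h3,
    sup_le (mem_C_iff_le_C1.1 hcB) (zpowers_le.2 (mem_C1.2 hcy.symm))⟩
  rcases hc with rfl | rfl
  · exact H25.Sym.ord2 hv v1
  · refine H25.Sym.ord2 ?_ fun e => hne ?_
    · calc u * v * (u * v) = u * (v * u) * v := by group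
        _ = (u * u) * (v * v) := by rw [← huv]; group
        _ = 1 := by rw [hu, hv, one_mul]
    · rw [← mul_one v, ← hu, ← mul_assoc, ← huv, e, one_mul]

/-- three independent commuting involutions -/
structure Ind (z u v : G) : Prop where
  zz : z * z = 1
  uu : u * u = 1
  vv : v * v = 1
  zu : z * u = u * z
  zv : z * v = v * z
  uv : u * v = v * u
  z1 : z ≠ 1
  u1 : u ≠ 1
  uz : u ≠ z
  v1 : v ≠ 1
  vz : v ≠ z
  vu : v ≠ u
  vzu : v ≠ z * u

theorem k3 (h : KT G p a b) {B : Subgroup G} (hB : IsElementaryAbelian 3 B) (h1 : B ≠ ⊥)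
    {z u v : G} (hI : Ind z u v) (hz : z ∈ C[B]) (hu : u ∈ C[B]) (hv : v ∈ C[B]) :
    ∃ c ∈ closure ({z, u, v} : Set G), orderOf c = 2 ∧ ∃ B' : Subgroup G,
      IsElementaryAbelian 3 B' ∧ ♯B' = 9 * ♯B ∧ B' ≤ C{c} ∧
        ∃ y ∈ C{c}, orderOf y = 3 ∧ z * y * z⁻¹ = y⁻¹ := by
  have hE : IsElementaryAbelian 2 (closure {z, u, v}) := ea_closure (by
    rintro x (rfl | rfl | rfl) y (rfl | rfl | rfl) <;> simp [hI.zu, hI.zv, hI.uv]) (by
    rintro x (rfl | rfl | rfl) <;> rw [pow_two]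
    exacts [hI.zz, hI.uu, hI.vv])
  have mz : z ∈ closure ({z, u, v} : Set G) := subset_closure (by simp)
  have mu : u ∈ closure ({z, u, v} : Set G) := subset_closure (by simp)
  have mv : v ∈ closure ({z, u, v} : Set G) := subset_closure (by simp)
  have hEB : closure ({z, u, v} : Set G) ≤ C[B] := (closure_le _).2 (by
    rintro x (rfl | rfl | rfl) <;> assumption)
  obtain ⟨y, hy, hyB, ho, hi, hall⟩ := step h hE hB h1 hEB mz hI.z1
  obtain ⟨u', hu', huy⟩ := fixor hi (hall u mu)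
  obtain ⟨v', hv', hvy⟩ := fixor hi (hall v mv)
  obtain ⟨h2, h3⟩ := ext3 hB ho hy hyB
  have mu' : u' ∈ closure ({z, u, v} : Set G) := by
    rcases hu' with rfl | rfl
    · exact mu
    · exact mul_mem mz mu
  have mv' : v' ∈ closure ({z, u, v} : Set G) := by
    rcases hv' with rfl | rfl
    · exact mv
    · exact mul_mem mz mv
  have hsq : ∀ e ∈ closure ({z, u, v} : Set G), e * e = 1 := fun e he => by
    rw [← pow_two]; exact hE.2 e he
  have cz : ∀ s t : G, z * s = t → s = z * t := fun s t e => by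
    rw [← e, ← mul_assoc, hI.zz, one_mul]
  have hC : ∀ e ∈ closure ({z, u, v} : Set G), e * y = y * e → e ∈ C[B ⊔ zpowers y] := by
    intro e he hey
    rw [C_sup, C_zpowers]
    exact ⟨hEB he, mem_C1.2 hey⟩
  obtain ⟨c, hc, hoc, B', hB', hle, hcard, hBc⟩ := k2 h h2
    (fun e => h1 (eq_bot_iff.2 (le_sup_left.trans e.le))) (hsq _ mu') (hsq _ mv')
    (Abl.comm hE.1 mu' mv') (by
      rcases hu' with rfl | rfl
      · exact hI.u1
      · exact fun e => hI.uz (by simpa using cz _ _ e)) (by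
      rcases hv' with rfl | rfl
      · exact hI.v1
      · exact fun e => hI.vz (by simpa using cz _ _ e)) (by
      rcases hu' with rfl | rfl <;> rcases hv' with rfl | rfl
      · exact hI.vu
      · exact fun e => hI.vzu (cz _ _ e)
      · exact hI.vzu
      · exact fun e => hI.vu (mul_left_cancel e)) (hC _ mu' huy) (hC _ mv' hvy)
  refine ⟨c, ?_, hoc, B', hB', by rw [hcard, h3]; ring, hBc, y,
    hBc (hle (mem_sup_right (mem_zpowers y))), ho, hi⟩
  rcases hc with rfl | rfl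
  · exact mv'
  · exact mul_mem mu' mv'

/-- `B` has the largest order among the elementary abelian `3`-groups centralising an
involution. -/
def Mx (n : ℕ) (G : Type u) [Group G] : Prop :=
  ∀ (t : G) (B : Subgroup G), orderOf t = 2 → IsElementaryAbelian 3 B → B ≤ C{t} → ♯B ≤ n

theorem no4 (h : KT G p a b) {n : ℕ} (hn : Mx n G) {B : Subgroup G}
    (hB : IsElementaryAbelian 3 B) (h1 : B ≠ ⊥) (hc : n < 3 * ♯B)
    {u v : G} (hu : u * u = 1) (hv : v * v = 1) (huv : u * v = v * u) (u1 : u ≠ 1)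
    (huB : u ∈ C[B]) (hvB : v ∈ C[B]) : v = 1 ∨ v = u := by
  by_contra hcon
  push Not at hcon
  obtain ⟨c, -, ho, B', hB', -, hcard, hle⟩ := k2 h hB h1 hu hv huv u1 hcon.1 hcon.2 huB hvB
  have := hn c B' ho hB' hle
  omega

theorem no8 (h : KT G p a b) {n : ℕ} (hn : Mx n G) {B : Subgroup G}
    (hB : IsElementaryAbelian 3 B) (h1 : B ≠ ⊥) (hc : n < 9 * ♯B)
    {z u v : G} (hI : Ind z u v) (hz : z ∈ C[B]) (hu : u ∈ C[B]) (hv : v ∈ C[B]) : False := by
  obtain ⟨c, -, ho, B', hB', hcard, hle, -⟩ := k3 h hB h1 hI hz hu hv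
  have := hn c B' ho hB' hle
  omega

end H19.K3
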