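import Mathlib
import Cfsg.Agent.H0.BSM
import Cfsg.Agent.H4.LR2

/-!
# The centraliser of two short elements: definitions
-/

set_option autoImplicit false
set_option linter.all false

namespace H10.Mon.MG

/-- `c` and `c + c0` are short. -/
def AA (c : C) : Prop := IsS c ∧ IsS (c + c0.1)

/-- Perpendicular to `c0` and `w`. -/
def V0 (w c : C) : Prop := pl c c0.1 = 0 ∧ pl c w = 0

/-- Equal modulo `c0`. -/
def Ec (a b : C) : Prop := a = b ∨ a = b + c0.1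

/-- The span of `c0` and `w`. -/
def Sp2 (w c : C) : Prop := c = 0 ∨ c = c0.1 ∨ c = w ∨ c = c0.1 + w

/-- The `891` pairs of neighbours of `w`. -/
def An (w a : C) : Prop := AA a ∧ pl a w = 0 ∧ ¬ Ec a w

/-- The `891` root vectors of type 4. -/
def Rt (w r : C) : Prop := r ≠ 0 ∧ ¬ IsS r ∧ IsS (r + c0.1) ∧ AA (r + w)

/-- `h` fixes `c0` and `w`. -/
def Fx2 (w : C) (h : G0) : Prop := h • c0.1 = c0.1 ∧ h • w = w

/-- The standard second class. -/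
noncomputable def w0 : C := H4.LR.D (some 1) none + Om

theorem add_cc (a : C) : a + c0.1 + c0.1 = a := by rw [add_assoc, cc2, add_zero]
theorem Ec.rf {a : C} : Ec a a := .inl rfl
theorem Ec.symm {a b : C} : Ec a b → Ec b a := by
  rintro (rfl | rfl)
  exacts [.inl rfl, .inr (add_cc _).symm]
theorem Ec.trans {a b c : C} : Ec a b → Ec b c → Ec a c := by
  rintro (rfl | rfl) (rfl | rfl)
  exacts [.inl rfl, .inr rfl, .inr rfl, .inl (add_cc _)]
theorem Ec.add {a b c d : C} : Ec a b → Ec c d → Ec (a + c) (b + d) := by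
  rintro (rfl | rfl) (rfl | rfl)
  exacts [.inl rfl, .inr (add_assoc _ _ _).symm, .inr (add_right_comm _ _ _),
    .inl (by rw [add_add_add_comm, cc2, add_zero])]
theorem Ec.smul {h : G0} (e : h • c0.1 = c0.1) {a b : C} : Ec a b → Ec (h • a) (h • b) := by
  rintro (rfl | rfl)
  exacts [.inl rfl, .inr (by rw [smul_add, e])]
theorem Ec.pl {a b d : C} (h : Ec a b) (hd : pl d c0.1 = 0) : pl a d = pl b d := by
  rcases h with rfl | rfl
  · rfl
  · rw [pl_add', pl_comm c0.1, hd, add_zero]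
theorem AA.ec {a b : C} (h : AA a) (e : Ec a b) : AA b := by
  rcases e with rfl | rfl
  exacts [h, ⟨add_cc b ▸ h.2, h.1⟩]
theorem pl_of_isS {a b : C} (ha : IsS a) (hb : IsS b) (h : IsS (a + b)) : pl a b = 0 := by
  have := bb_add_self a b
  rwa [bb_isS ha, bb_isS hb, bb_isS h, add_zero, zero_add, eq_comm] at this
theorem isS_c0 : IsS c0.1 := sh0_c0.1
theorem AA.pl {a : C} (h : AA a) : pl a c0.1 = 0 := pl_of_isS h.1 isS_c0 h.2
theorem AA.smul {a : C} (h : AA a) {g : G0} (e : g • c0.1 = c0.1) : AA (g • a) :=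
  ⟨h.1.smul g, by rw [← e, ← smul_add]; exact h.2.smul g⟩
theorem V0.add {w a b : C} (ha : V0 w a) (hb : V0 w b) : V0 w (a + b) :=
  ⟨by rw [pl_add', ha.1, hb.1, add_zero], by rw [pl_add', ha.2, hb.2, add_zero]⟩
theorem V0.zero (w : C) : V0 w 0 := ⟨pl_zero' _, pl_zero' _⟩
theorem AA.v0c {w : C} (h : AA w) : V0 w c0.1 := ⟨pl_self _, pl_comm _ _ ▸ h.pl⟩
theorem AA.v0w {w : C} (h : AA w) : V0 w w := ⟨h.pl, pl_self _⟩
theorem An.v0 {w a : C} (h : An w a) : V0 w a := ⟨h.1.pl, h.2.1⟩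
theorem V0.smul {w a : C} (h : V0 w a) {g : G0} (e : g • c0.1 = c0.1) : V0 (g • w) (g • a) :=
  ⟨by rw [pl_fix e, h.1], by rw [pl_smul, h.2]⟩
theorem V0.ec {w w' a : C} (h : V0 w a) (e : Ec w w') : V0 w' a :=
  ⟨h.1, by rw [pl_comm, ← e.pl h.1, pl_comm, h.2]⟩
theorem An.smul {w a : C} (h : An w a) {g : G0} (e : g • c0.1 = c0.1) : An (g • w) (g • a) :=
  ⟨h.1.smul e, by rw [pl_smul, h.2.1], fun k => h.2.2 (by
    simpa only [inv_smul_smul] using k.smul (inv_smul_eq_iff.2 e.symm))⟩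
theorem An.ec {w a b : C} (hw : AA w) (h : An w a) (e : Ec a b) : An w b :=
  ⟨h.1.ec e, by rw [← e.pl hw.pl, h.2.1], fun k => h.2.2 (e.trans k)⟩
theorem An.ecw {w w' a : C} (h : An w a) (e : Ec w w') : An w' a :=
  ⟨h.1, (h.v0.ec e).2, fun k => h.2.2 (k.trans e.symm)⟩
theorem Rt.smul {w r : C} (h : Rt w r) {g : G0} (e : g • c0.1 = c0.1) : Rt (g • w) (g • r) :=
  ⟨fun k => h.1 ((smul_eq_zero_iff_eq g).1 k), fun k => h.2.1 (by
    simpa only [inv_smul_smul] using k.smul g⁻¹), by rw [← e, ← smul_add]; exact h.2.2.1.smul g,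
    by rw [← smul_add]; exact h.2.2.2.smul e⟩
theorem Rt.ecw {w w' r : C} (h : Rt w r) (e : Ec w w') : Rt w' r :=
  ⟨h.1, h.2.1, h.2.2.1, h.2.2.2.ec (Ec.rf.add e)⟩
theorem Rt.v0 {w r : C} (hw : AA w) (h : Rt w r) : V0 w r := by
  have a := h.2.2.2.pl
  have b := pl_of_isS h.2.2.1 hw.1 (add_right_comm r w _ ▸ h.2.2.2.2)
  rw [pl_add', hw.pl, add_zero] at a
  rw [pl_add', hw.v0c.2, add_zero] at b
  exact ⟨a, b⟩
theorem Rt.an {w r : C} (hw : AA w) (h : Rt w r) : An w (r + w) :=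
  ⟨h.2.2.2, ((h.v0 hw).add hw.v0w).2, by
    rintro (e | e)
    · exact h.1 (add_eq_right.1 e)
    · exact h.2.1 ((add_right_cancel (e.trans (add_comm _ _))).symm ▸ isS_c0)⟩
theorem Fx2.one (w : C) : Fx2 w 1 := ⟨one_smul _ _, one_smul _ _⟩
theorem Fx2.mul {w : C} {g h : G0} (a : Fx2 w g) (b : Fx2 w h) : Fx2 w (g * h) :=
  ⟨by rw [mul_smul, b.1, a.1], by rw [mul_smul, b.2, a.2]⟩
theorem Fx2.inv {w : C} {g : G0} (a : Fx2 w g) : Fx2 w g⁻¹ :=
  ⟨inv_smul_eq_iff.2 a.1.symm, inv_smul_eq_iff.2 a.2.symm⟩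

variable {M G : Type*} [Group M] [Group G]

/-- Commutes with `x` and `u`. -/
def K2 (x u a : M) : Prop := a * x = x * a ∧ a * u = u * a

/-- Commutes with `x`, `y` and `u`. -/
def P3 (x y u a : M) : Prop := a * x = x * a ∧ a * y = y * a ∧ a * u = u * a

/-- Equal modulo `x`. -/
def Ex (x a b : M) : Prop := a = b ∨ a = b * x

theorem K2.one {x u : M} : K2 x u 1 := ⟨cm_one, cm_one⟩
theorem K2.mul {x u a b : M} (ha : K2 x u a) (hb : K2 x u b) : K2 x u (a * b) :=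
  ⟨cm_mul ha.1 hb.1, cm_mul ha.2 hb.2⟩
theorem K2.inv {x u a : M} (ha : K2 x u a) : K2 x u a⁻¹ := ⟨cm_inv ha.1, cm_inv ha.2⟩
theorem K2.conj {x u a b : M} (ha : K2 x u a) (hb : K2 x u b) : K2 x u (a * b * a⁻¹) :=
  (ha.mul hb).mul ha.inv
theorem P3.one {x y u : M} : P3 x y u 1 := ⟨cm_one, cm_one, cm_one⟩
theorem P3.mul {x y u a b : M} (ha : P3 x y u a) (hb : P3 x y u b) : P3 x y u (a * b) :=
  ⟨cm_mul ha.1 hb.1, cm_mul ha.2.1 hb.2.1, cm_mul ha.2.2 hb.2.2⟩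
theorem P3.inv {x y u a : M} (ha : P3 x y u a) : P3 x y u a⁻¹ :=
  ⟨cm_inv ha.1, cm_inv ha.2.1, cm_inv ha.2.2⟩
theorem P3.conj {x y u a b : M} (ha : P3 x y u a) (hb : P3 x y u b) : P3 x y u (a * b * a⁻¹) :=
  (ha.mul hb).mul ha.inv
theorem P3.k2 {x y u a : M} (ha : P3 x y u a) : K2 x u a := ⟨ha.1, ha.2.2⟩

/-- A homomorphism on `C(x, y, u)` with kernel `⟨x⟩`. -/
structure HP (x y u : M) (ι : M → G) : Prop where
  mul : ∀ {a b}, P3 x y u a → P3 x y u b → ι (a * b) = ι a * ι b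
  ker : ∀ {a}, P3 x y u a → (ι a = 1 ↔ a = 1 ∨ a = x)

/-- The image of `C(x, u)`. -/
def Im2 (x u : M) (ι : M → G) (g : G) : Prop := ∃ a, K2 x u a ∧ ι a = g

/-- A homomorphism on `C(x, u)` with kernel `⟨x⟩` whose image has index 2 in `C(t)`. -/
structure Em2 (x u : M) (t : G) (ι : M → G) : Prop where
  mul : ∀ {a b}, K2 x u a → K2 x u b → ι (a * b) = ι a * ι b
  ker : ∀ {a}, K2 x u a → (ι a = 1 ↔ a = 1 ∨ a = x)
  hu : ι u = t
  idx : ∀ g h, g * t = t * g → h * t = t * h → Im2 x u ι g ∨ Im2 x u ι h ∨ Im2 x u ι (g * h)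
  out : ∀ g, g * t = t * g → (∀ a, K2 x u a → g * ι a = ι a * g) → Im2 x u ι g

theorem Em2.hp {x u : M} {t : G} {ι : M → G} (E : Em2 x u t ι) (y : M) : HP x y u ι :=
  ⟨fun a b => E.mul a.k2 b.k2, fun a => E.ker a.k2⟩

end H10.Mon.MG
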