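import Mathlib
import Cfsg.Agent.H19.B0

/-! The classes perpendicular to two adjacent short classes. -/

set_option autoImplicit false
set_option linter.all false
set_option maxRecDepth 100000

open Cfsg H9 H10 H10.Mon H4.LR H4.TL H10.Mon.LFt
open scoped symmDiff Pointwise

namespace H10.Mon.MG

variable {w a r r' c : C}

theorem D_c0 (k : P) : D k none + c0.1 = D k (some 0) := by
  rw [c0_D, D_comm (some 0), ← add_assoc, D_add, add_assoc, cc2, add_zero]

theorem aa_D {k : P} (h1 : k ≠ none) (h2 : k ≠ some 0) : AA (D k none) :=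
  ⟨(sh0_D h1).1, by rw [D_c0]; exact (sh0_D h2).1⟩

theorem aa_DO {k : P} (h1 : k ≠ none) (h2 : k ≠ some 0) : AA (D k none + Om) :=
  ⟨(sh0_Om (sh0_D h1)).1, by rw [add_right_comm, D_c0]; exact (sh0_Om (sh0_D h2)).1⟩

theorem aa_w0 : AA w0 := aa_DO (by simp) (by decide)

theorem w0_fst : w0.1 = 0 := by rw [w0, Prod.fst_add, D_fst, Om_fst, add_zero]

theorem pr_c0 : pr c0.1 = pr (D (some 0) none) := by rw [c0_D, map_add, pr_Om, add_zero]

theorem an_of {k : P} (h1 : k ≠ none) (h2 : k ≠ some 0) (h3 : k ≠ some 1) (h : AA a)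
    (e : a = D k none ∨ a = D k none + Om) : An w0 a := by
  have f : a.1 = 0 := by rcases e with rfl | rfl <;> simp [D_fst, Om_fst]
  refine ⟨h, pl_fst f w0_fst, fun k => ?_⟩
  have e := pr_or e
  rcases k with k | k <;> rw [k, w0] at e
  · rw [map_add, pr_Om, add_zero] at e
    rcases pair_inj (by simp) h1 e with l | l
    exacts [h3 l.1.symm, by simpa using l.1]
  · rw [add_right_comm, D_c0, map_add, pr_Om, add_zero] at e
    rcases pair_inj (by decide) h1 e with l | l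
    exacts [by simpa using l.2, by simpa using l.1]

theorem an_D {k : P} (h1 : k ≠ none) (h2 : k ≠ some 0) (h3 : k ≠ some 1) : An w0 (D k none) :=
  an_of h1 h2 h3 (aa_D h1 h2) (.inl rfl)

theorem an_DO {k : P} (h1 : k ≠ none) (h2 : k ≠ some 0) (h3 : k ≠ some 1) : An w0 (D k none + Om) :=
  an_of h1 h2 h3 (aa_DO h1 h2) (.inr rfl)

theorem Om_w0 : Om + w0 = D (some 1) none := by rw [w0, add_comm, add_assoc, cc2, add_zero]

theorem rt_Om : Rt w0 Om :=
  ⟨Om_ne_zero, not_isS_Om, add_comm c0.1 Om ▸ (sh0_Om sh0_c0).1, Om_w0 ▸ aa_D (by simp) (by decide)⟩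

theorem aa_dot {x : L} (hx : H4.TL.Mv x) (h : AA (kap x)) :
    ∃ x' : L, H4.TL.Mv x' ∧ kap x' = kap x ∧ dt x' vU' = -16 := by
  rcases (LS.isS_add hx norm_vU').1 h.2 with e | e
  · exact ⟨-x, hx.neg, kap_neg _, by rw [dt_neg_l]; exact congrArg _ e⟩
  · exact ⟨x, hx, rfl, e⟩

theorem An.one (hw : AA w) (h : An w a) : IsS (a + w) ∨ IsS (a + c0.1 + w) := by
  obtain ⟨x, hx, rfl⟩ := h.1.1
  obtain ⟨y, hy, rfl⟩ := hw.1
  obtain ⟨x, hx, e1, d1⟩ := aa_dot hx h.1
  obtain ⟨y, hy, e2, d2⟩ := aa_dot hy hw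
  rw [← e1, ← e2] at h ⊢
  by_contra n
  rw [not_or, LS.isS_add hx hy] at n
  have m : H4.TL.Mv (x + vU') := mv_of (by
    rw [dt_add_l, dt_add_r, dt_add_r, dt_self hx, dt_self mv_U', dt_comm vU' x, d1]; rfl)
  have k := h.2.1
  rw [pl_kap, ZMod.intCast_zmod_eq_zero_iff_dvd] at k
  push_cast at k
  have n2 := n.2
  rw [c0_val, ← map_add, LS.isS_add m hy] at n2
  change ¬ (dt _ _ = 16 ∨ dt _ _ = -16) at n2
  rw [dt_add_l, dt_comm vU', d2] at n2
  have a1 := min_norm (x - y).2 fun e => h.2.2 (.inl (by rw [sub_eq_zero.1 (Subtype.ext e : x - y = 0)]))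
  have a2 := min_norm (x + y).2 fun e => h.2.2 (.inl (by
    rw [add_eq_zero_iff_eq_neg.1 (Subtype.ext e : x + y = 0), kap_neg]))
  rw [AddSubgroup.coe_sub, sqNorm_sub, show sqNorm (x : V) = 32 from hx,
    show sqNorm (y : V) = 32 from hy] at a1
  rw [AddSubgroup.coe_add, sqNorm_add, show sqNorm (x : V) = 32 from hx,
    show sqNorm (y : V) = 32 from hy] at a2
  have := dots hx hy n.1
  unfold dt at *
  omega

theorem An.rt (hw : AA w) (h : An w a) : ∃ r, Rt w r ∧ Ec (r + w) a := by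
  have k : ∀ {a}, An w a → ¬ IsS (a + w) → IsS (a + c0.1 + w) → Rt w (a + w) := fun {a} h h1 h2 =>
    ⟨fun e => h.2.2 (.inl (add_eq_zero_C.1 e)), h1, add_right_comm a w _ ▸ h2, by
      rw [add_assoc, cc2, add_zero]; exact h.1⟩
  by_cases e : IsS (a + w)
  · refine ⟨_, k (h.ec hw (Ec.symm (.inr rfl))) (fun l => no_tri h.1.1 h.1.2 hw.1 hw.2 e
      (add_right_comm a w _ ▸ l)) (by rwa [add_cc]), .inr (by rw [add_assoc, cc2, add_zero])⟩
  · exact ⟨_, k h e ((h.one hw).resolve_left e), .inl (by rw [add_assoc, cc2, add_zero])⟩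

theorem sh0_of (h : IsS c) (h' : IsS (c + Om)) : Sh0 c := by
  refine ⟨h, by_contra fun n => ?_⟩
  rcases z2 (c.1 11) with k | k
  · exact sh2_Om h n k h'
  · have := bb_isS h'
    rw [bb_add_self, bb_isS h, bb_fst Om_fst, pl_Om, k] at this
    exact absurd this (by decide)

/-- Two duads with a short sum meet in one point. -/
theorem meet {p q s t : P} (h1 : p ≠ q) (h2 : s ≠ t) (h : Sh0 c) (e : pr c = pr (D p q + D s t)) :
    ∃ o a b, a ≠ o ∧ b ≠ o ∧ a ≠ b ∧ D p q = D a o ∧ D s t = D b o := by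
  have n : D p q ≠ D s t := fun k => by
    rw [k, cc2, map_zero] at e
    rcases pr_zero e with l | l
    exacts [isS_ne h.1 l, not_isS_Om (l ▸ h.1)]
  by_cases a1 : p = s
  · subst a1; exact ⟨p, q, t, h1.symm, h2.symm, fun k => n (k ▸ rfl), D_comm _ _, D_comm _ _⟩
  by_cases a2 : p = t
  · subst a2; exact ⟨p, q, s, h1.symm, h2, fun k => n (k ▸ D_comm _ _), D_comm _ _, rfl⟩
  by_cases a3 : q = s
  · subst a3; exact ⟨q, p, t, h1, h2.symm, a2, rfl, D_comm _ _⟩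
  by_cases a4 : q = t
  · subst a4; exact ⟨q, p, s, h1, h2, a1, rfl, rfl⟩
  obtain ⟨u, v, n1, k⟩ := H4.LR.sh0_ex h
  rw [pr_or k, map_add, ← SM_pair n1, ← SM_pair h1, ← SM_pair h2, ← SM_symmDiff] at e
  have c4 := card_symmDiff_add ({p, q} : Finset P) {s, t}
  have c5 : ({p, q} : Finset P) ∩ {s, t} = ∅ := Finset.eq_empty_of_forall_notMem fun i hi => by
    simp only [Finset.mem_inter, Finset.mem_insert, Finset.mem_singleton] at hi
    obtain ⟨rfl | rfl, l | l⟩ := hi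
    exacts [a1 l, a2 l, a3 l, a4 l]
  rw [Finset.card_pair h1, Finset.card_pair h2, c5, Finset.card_empty] at c4
  have c2 := Finset.card_pair n1
  rw [SM_inj (by omega) (by omega) e] at c2
  omega

theorem ex_sign (i j : ZMod 2) : ∃ o : GC, ind2 o.1 (some 0) + ind2 o.1 none = i ∧
    ind2 o.1 (some 1) + ind2 o.1 none = j := by
  rcases z2 i with rfl | rfl <;> rcases z2 j with rfl | rfl
  exacts [⟨⟨ofMask 0, mem_GC_of_isCw (by decide +kernel)⟩, by decide +kernel⟩,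
    ⟨⟨ofMask 4845570, mem_GC_of_isCw (by decide +kernel)⟩, by decide +kernel⟩,
    ⟨⟨ofMask 1302533, mem_GC_of_isCw (by decide +kernel)⟩, by decide +kernel⟩,
    ⟨⟨ofMask 5902343, mem_GC_of_isCw (by decide +kernel)⟩, by decide +kernel⟩]

theorem ex_Om {d : C} (h : c = d ∨ c = d + Om) : ∃ i : ZMod 2, c = d + i • Om :=
  h.elim (fun e => ⟨0, by rw [zero_smul, add_zero, e]⟩) fun e => ⟨1, by rw [one_smul, e]⟩

theorem std0 {d : C} (hc : Sh0 c) (hd : Sh0 d) (h : IsS (c + d)) :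
    ∃ g ∈ N0, g • c = c0.1 ∧ g • d = w0 := by
  obtain ⟨p, q, n1, k1⟩ := H4.LR.sh0_ex hc
  obtain ⟨s, t, n2, k2⟩ := H4.LR.sh0_ex hd
  obtain ⟨o, a, b, m1, m2, m3, e1, e2⟩ := meet n1 n2 ⟨h, by rw [Prod.fst_add, hc.2, hd.2, add_zero]⟩
    (by rw [map_add, map_add, pr_or k1, pr_or k2])
  obtain ⟨i, rfl⟩ := ex_Om (e1 ▸ k1)
  obtain ⟨j, rfl⟩ := ex_Om (e2 ▸ k2)
  obtain ⟨σ, hσ, s1, s2, s3⟩ := M24_trans3 (p' := none) (q' := some 0) (r' := some 1) m1.symm m2.symm m3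
    (by simp) (by simp) (by decide)
  obtain ⟨u, u1, u2⟩ := ex_sign (i + 1) (j + 1)
  have hm := mul_mem (mono_mem_N0 1 u) (perm_mem ⟨σ, hσ⟩)
  have k : ∀ i : ZMod 2, (mono 1 u * permHom ⟨σ, hσ⟩) • i • Om = i • Om := fun i => by
    rcases z2 i with rfl | rfl
    exacts [by rw [zero_smul, smul_zero], by rw [one_smul, fix_Om.2 hm]]
  refine ⟨_, hm, ?_, ?_⟩
  · rw [smul_add, k, mul_smul, perm_D, sign_D, s1, s2, u1, c0_D, add_assoc, ← add_smul, add_right_comm i,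
      zz2, zero_add, one_smul]
  · rw [smul_add, k, mul_smul, perm_D, sign_D, s1, s3, u2, w0, add_assoc, ← add_smul, add_right_comm j,
      zz2, zero_add, one_smul]

theorem Rt.bb (hw : AA w) (hr : Rt w r) : bb r r = 0 := by
  have := bb_add_self (r + c0.1) c0.1
  rwa [add_cc, bb_isS hr.2.2.1, bb_isS isS_c0, pl_add', pl_self, (hr.v0 hw).1, add_zero, add_zero] at this

theorem Rt.std (hw : AA w) (hr : Rt w r) :
    ∃ g : G0, g • c0.1 = c0.1 ∧ g • w = w0 ∧ g • r = Om := by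
  obtain ⟨h, rfl⟩ := typ4 hr.1 (hr.bb hw) hr.2.1
  have k : ∀ {c}, IsS c → IsS (h • Om + c) → Sh0 (h⁻¹ • c) := fun {c} h1 h2 => sh0_of (h1.smul _) (by
    have := h2.smul h⁻¹
    rwa [smul_add, inv_smul_smul, add_comm] at this)
  obtain ⟨g, g0, g1, g2⟩ := std0 (k isS_c0 hr.2.2.1) (k hw.1 hr.2.2.2.1) (by
    rw [← smul_add, add_comm]; exact hw.2.smul _)
  exact ⟨g * h⁻¹, by rw [mul_smul, g1], by rw [mul_smul, g2], by
    rw [mul_smul, inv_smul_smul, fix_Om.2 g0]⟩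

theorem AA.to0 (hw : AA w) : ∃ g : G0, g • c0.1 = c0.1 ∧ g • w0 = w :=
  trAA aa_w0.1 aa_w0.2 hw.1 hw.2

theorem AA.ex_rt (hw : AA w) : ∃ r, Rt w r := by
  obtain ⟨g, g1, rfl⟩ := hw.to0
  exact ⟨_, rt_Om.smul g1⟩

theorem Rt.tr (hw : AA w) (hr : Rt w r) (hr' : Rt w r') : ∃ g, Fx2 w g ∧ g • r = r' := by
  obtain ⟨g, g1, g2, g3⟩ := hr.std hw
  obtain ⟨h, h1, h2, h3⟩ := hr'.std hw
  exact ⟨h⁻¹ * g, ⟨by rw [mul_smul, g1, inv_smul_eq_iff, h1], by rw [mul_smul, g2, inv_smul_eq_iff, h2]⟩,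
    by rw [mul_smul, g3, inv_smul_eq_iff, h3]⟩

theorem An.tr (hw : AA w) {a' : C} (h : An w a) (h' : An w a') :
    ∃ g, Fx2 w g ∧ Ec (g • a) a' := by
  obtain ⟨r, r1, r2⟩ := h.rt hw
  obtain ⟨s, s1, s2⟩ := h'.rt hw
  obtain ⟨g, g1, rfl⟩ := r1.tr hw s1
  refine ⟨g, g1, (r2.symm.smul g1.1).trans ?_⟩
  rwa [smul_add, g1.2]

theorem AA.tri (hw : AA w) : ∃ a b, An w a ∧ An w b ∧ An w (a + b + w) := by
  obtain ⟨g, g1, rfl⟩ := hw.to0
  refine ⟨_, _, (an_D (k := some 2) (by simp) (by decide) (by decide)).smul g1,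
    (an_DO (k := some 2) (by simp) (by decide) (by decide)).smul g1, ?_⟩
  rw [← smul_add, ← smul_add, ← add_assoc, cc2, zero_add]
  exact (rt_Om.an aa_w0).smul g1

/-- Every odd coset contains a neighbour. -/
theorem odd_an (h1 : c.1 11 = 1) (h0 : V0 w0 c) :
    ∃ y : L, Od y none ∧ An w0 (kap y) ∧ (c + kap y).1 = 0 := by
  obtain ⟨x, rfl⟩ := kap_surj c
  obtain ⟨w, hw | hw⟩ := (mem_L_iff01 _).1 x.2
  · exfalso
    rw [← pl_Om, ← kap_e8 none, pl_kap, dt, e8_coe, dot_single_right] at h1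
    have := hw.2.1 none
    obtain ⟨k, hk⟩ : ∃ k : ℤ, (x : V) none = 2 * k := ⟨(x : V) none / 2, by
      rw [res] at this; split_ifs at this <;> omega⟩
    rw [hk, show 8 * (2 * k) / 8 = 2 * k by omega] at h1
    push_cast at h1
    rw [show (2 : ZMod 2) = 0 from rfl, zero_mul] at h1
    exact zero_ne_one h1
  let y : L := mono 1 ⟨w, hw.1⟩ • (⟨odd3 none, (odd3_LD none).mem⟩ : L)
  have e : ∀ i, (y : V) i = if i ∈ w then -odd3 none i else odd3 none i := fun i =>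
    mono_apply 1 ⟨w, hw.1⟩ _ i
  have od : Od y none :=
    ⟨by rw [e, odd3, if_pos rfl]; split_ifs <;> simp, fun i hi => by
      rw [e, odd3, if_neg hi]; split_ifs <;> simp⟩
  have mv : H4.TL.Mv y := (co_norm _ _).trans (sqNorm_odd3 none)
  have f0 : (kap x + kap y).1 = 0 := by
    rw [← kap_sub]
    refine kap_fst_zero fun i => ?_
    have := hw.2.1 i
    rw [AddSubgroup.coe_sub, Pi.sub_apply, e, odd3]
    rw [res] at this
    split_ifs at this ⊢ <;> omega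
  have k := pl_fst f0 LS.c0_fst
  have k' := pl_fst f0 w0_fst
  rw [pl_add', h0.2, zero_add] at k'
  rw [pl_add', h0.1, zero_add, c0_val, pl_kap, ZMod.intCast_zmod_eq_zero_iff_dvd] at k
  refine ⟨y, od, ⟨⟨⟨y, mv, rfl⟩, (LS.isS_add mv norm_vU').2 ?_⟩, k', fun l => ?_⟩, f0⟩
  · change dt _ _ = 16 ∨ dt _ _ = -16
    have a1 := od.1
    have a2 := od.2 (some 0) (by simp)
    rw [dt_U'] at k ⊢
    push_cast at k
    omega
  · rw [← fst_of f0] at h1
    rcases l with l | l <;> rw [l] at h1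
    · rw [w0_fst] at h1; exact zero_ne_one h1
    · rw [Prod.fst_add, w0_fst, LS.c0_fst, add_zero] at h1; exact zero_ne_one h1

theorem w0_dec : w0 = dec 0x7a0 := by
  rw [w0, D, kap_code (n := 0x001400100010001000100010001000100010001000100010001000100010001000100010001000100010001000140010)
    (funext fun i => by rw [du_apply]; revert i; decide +kernel), Om_eq]
  decide +kernel

theorem ex_oddV : ∃ v : C, v.1 11 = 1 ∧ V0 w0 v :=
  ⟨dec 8724511, by decide +kernel, by rw [c0_dec]; decide +kernel, by rw [w0_dec]; decide +kernel⟩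

theorem span0 (W : AddSubgroup C) (h0 : c0.1 ∈ W) (h : ∀ a, An w0 a → a ∈ W) (hc : V0 w0 c) :
    c ∈ W := by
  have hO : Om ∈ W := by
    have := add_mem (h _ (an_D (k := some 2) (by simp) (by decide) (by decide)))
      (h _ (an_DO (k := some 2) (by simp) (by decide) (by decide)))
    rwa [← add_assoc, cc2, zero_add] at this
  have hD : ∀ k, D k none ∈ W := fun k => by
    by_cases h1 : k = none
    · rw [h1, D_self]; exact hO
    by_cases h2 : k = some 0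
    · rw [h2, show D (some 0) none = c0.1 + Om by rw [c0_D, add_assoc, cc2, add_zero]]
      exact add_mem h0 hO
    by_cases h3 : k = some 1
    · rw [h3, ← Om_w0]; exact h _ (rt_Om.an aa_w0)
    exact h _ (an_D h1 h2 h3)
  have hE : ∀ {c : C}, c.1 = 0 → c ∈ W := span_sh0 W fun c hc => by
    obtain ⟨p, q, -, rfl | rfl⟩ := H4.LR.sh0_ex hc <;> rw [D_eq]
    exacts [add_mem (add_mem (hD p) (hD q)) hO, add_mem (add_mem (add_mem (hD p) (hD q)) hO) hO]
  have odd : ∀ {c : C}, c.1 11 = 1 → V0 w0 c → c ∈ W := fun {c} h1 h2 => by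
    obtain ⟨y, -, y1, y2⟩ := odd_an h1 h2
    have := add_mem (hE y2) (h _ y1)
    rwa [add_assoc, cc2, add_zero] at this
  rcases z2 (c.1 11) with k | k
  · obtain ⟨v, v1, v2⟩ := ex_oddV
    have := add_mem (odd (c := c + v) (by rw [Prod.fst_add, Pi.add_apply, k, v1, zero_add]) (hc.add v2))
      (odd v1 v2)
    rwa [add_assoc, cc2, add_zero] at this
  · exact odd k hc

theorem spanA (hw : AA w) (W : AddSubgroup C) (h0 : c0.1 ∈ W) (h : ∀ a, An w a → a ∈ W)
    (hc : V0 w c) : c ∈ W := by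
  obtain ⟨g, g1, rfl⟩ := hw.to0
  have := span0 (c := g⁻¹ • c) (W.comap (DistribSMul.toAddMonoidHom C g)) (show g • c0.1 ∈ W from g1.symm ▸ h0)
    (fun a ha => h _ (ha.smul g1)) (by
      simpa only [inv_smul_smul] using hc.smul (inv_smul_eq_iff.2 g1.symm))
  rwa [AddSubgroup.mem_comap, DistribSMul.toAddMonoidHom_apply, smul_inv_smul] at this

/-- No invariant subgroup of index 2. -/
theorem spanA2 (hw : AA w) (W : AddSubgroup C) (h0 : c0.1 ∈ W)
    (h : ∀ a b, An w a → An w b → a + b ∈ W) (hc : V0 w c) : c ∈ W := by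
  obtain ⟨g, g1, rfl⟩ := hw.to0
  have a0 := rt_Om.an aa_w0
  have hO : g • Om ∈ W := by
    have := h _ _ ((an_D (k := some 2) (by simp) (by decide) (by decide)).smul g1)
      ((an_DO (k := some 2) (by simp) (by decide) (by decide)).smul g1)
    rwa [← smul_add, ← add_assoc, cc2, zero_add] at this
  have hS : ofMask 13938692 ∈ GC := mem_GC_of_isCw (by decide +kernel)
  have hn : (none : P) ∈ ofMask 13938692 := by decide +kernel
  have e := sum_D hS
  rw [← Finset.add_sum_erase _ _ hn, D_self] at e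
  have k : ∑ p ∈ (ofMask 13938692).erase none, (g • D p none + g • (Om + w0)) ∈ W :=
    W.sum_mem fun p hp => h _ _ ((an_D (Finset.ne_of_mem_erase hp)
      (by rintro rfl; revert hp; decide +kernel) (by rintro rfl; revert hp; decide +kernel)).smul g1)
      (a0.smul g1)
  rw [Finset.sum_add_distrib, ← Finset.smul_sum, ← add_eq_zero_C.1 e, Finset.sum_const,
    show ((ofMask 13938692).erase none).card = 2 * 3 + 1 by decide +kernel, succ_nsmul, mul_nsmul,
    two_nsmul, cc2, nsmul_zero, zero_add] at k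
  have k2 := add_mem hO k
  rw [← add_assoc, cc2, zero_add] at k2
  refine spanA hw W h0 (fun a ha => ?_) hc
  have := add_mem (h _ _ ha (a0.smul g1)) k2
  rwa [add_assoc, cc2, add_zero] at this

def fvD : List (ℕ × List ℕ × List ℕ) := [(7221256, [1, 2, 2052, 8, 2064, 2080, 64, 2176, 256, 512, 1024, 2048, 6192, 11120, 20080, 34096, 67279, 133263, 262678, 524336, 1052170, 2097494, 4194588, 9126183],
    [9371803, 15380543, 13193216, 10879755, 5550124, 49181, 6271902, 0, 0, 6255133, 6271488, 414, 0, 0, 0, 0, 0, 0, 0, 0, 0, 0, 0, 0]),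
  (5210132, [1, 2050, 4, 8, 2064, 32, 64, 128, 256, 512, 1024, 2048, 5534, 8205, 17947, 35191, 65549, 134344, 263336, 526177, 1049737, 2098308, 4197349, 8463400],
    [5542152, 6279612, 0, 0, 0, 766906, 0, 0, 766119, 0, 797, 797, 0, 0, 0, 0, 0, 0, 0, 0, 0, 0, 0, 0]),
  (6475812, [2049, 2, 2052, 8, 16, 2080, 64, 2176, 256, 512, 1024, 2048, 6558, 12109, 16491, 33863, 67425, 134804, 265630, 526177, 1049299, 2100658, 4197114, 9066083],
    [0, 0, 0, 0, 0, 30, 0, 0, 0, 0, 30, 30, 0, 0, 0, 0, 0, 0, 0, 0, 0, 0, 0, 0]),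
  (3698756, [2049, 2050, 4, 8, 2064, 2080, 2112, 128, 256, 512, 3072, 2048, 5230, 11325, 18651, 33863, 66086, 132755, 263309, 524900, 1048576, 2097328, 4196459, 13054982],
    [0, 0, 0, 0, 0, 667, 0, 0, 0, 0, 667, 667, 0, 0, 0, 0, 0, 0, 0, 0, 0, 0, 0, 0]),
  (2019456, [2049, 2050, 2052, 8, 16, 2080, 2112, 128, 256, 512, 3072, 2048, 6640, 8192, 19184, 34096, 65549, 131853, 265093, 528197, 1049833, 2098404, 4197256, 13006021],
    [0, 0, 0, 0, 0, 827, 0, 0, 0, 0, 827, 827, 0, 0, 0, 0, 0, 0, 0, 0, 0, 0, 0, 0]),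
  (4038912, [1, 2050, 2052, 8, 16, 32, 64, 2176, 2304, 512, 1024, 2048, 4096, 11344, 20080, 35856, 68014, 133844, 262694, 525872, 1049616, 2098404, 4197262, 9987134],
    [0, 0, 0, 0, 0, 695, 0, 0, 0, 0, 695, 695, 0, 0, 0, 0, 0, 0, 0, 0, 0, 0, 0, 0]),
  (8077824, [1, 2050, 2052, 2056, 2064, 32, 2112, 128, 256, 2560, 3072, 2048, 6640, 12064, 20080, 32768, 68485, 133127, 265093, 526673, 1049299, 2097494, 4194310, 15065335],
    [0, 0, 0, 0, 0, 959, 0, 0, 0, 0, 959, 959, 0, 0, 0, 0, 0, 0, 0, 0, 0, 0, 0, 0]),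
  (6644740, [2049, 2, 4, 8, 16, 32, 2112, 128, 256, 2560, 3072, 2048, 5230, 8989, 16491, 35191, 68938, 132941, 263229, 524288, 1052218, 2097442, 4194673, 14946584],
    [0, 0, 0, 0, 0, 447, 0, 0, 0, 0, 447, 447, 0, 0, 0, 0, 0, 0, 0, 0, 0, 0, 0, 0]),
  (3610628, [1, 2050, 2052, 2056, 2064, 32, 64, 2176, 2304, 512, 1024, 2048, 5534, 10349, 16491, 33111, 66793, 132374, 265630, 526673, 1049833, 2097152, 4194673, 10084546],
    [0, 0, 0, 0, 0, 951, 0, 0, 0, 0, 951, 951, 0, 0, 0, 0, 0, 0, 0, 0, 0, 0, 0, 0])]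

theorem fvD_ok : H29.allL fvD (fun d => H29.and2 (H29.and2 (chkM idP d.1 d.2.1) (Nat.beq d.2.2.length 24))
    (H29.and2 (H29.and2 (eqD (apC d.2.1 0xbe0) 0xbe0) (eqD (apC d.2.1 0x7a0) 0x7a0))
      (H29.and2 (eqD (apC d.2.2 0xbe0) 0) (eqD (apC d.2.2 0x7a0) 0)))) = true := by decide +kernel

theorem fvD_key : ∀ j < 24, dec (2 ^ j) + dec (irN fvD (2 ^ j)) =
    pl (dec (2 ^ j)) (dec 262144) • dec 0xbe0 + pl (dec (2 ^ j)) (dec 4194304) • dec 0x7a0 +
      pl (dec (2 ^ j)) (dec 8650752) • dec 2048 + pl (dec (2 ^ j)) (dec 0xbe0) • dec 2593281 +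
        pl (dec (2 ^ j)) (dec 0x7a0) • dec 3109291 := by decide +kernel

theorem sp2_smul (i j : ZMod 2) : Sp2 w (i • c0.1 + j • w) := by
  rcases z2 i with rfl | rfl <;> rcases z2 j with rfl | rfl <;>
    simp only [zero_smul, one_smul, zero_add, add_zero, Sp2, true_or, or_true]

theorem fixV (hc : V0 w0 c) (h : ∀ o : GC, Fx2 w0 (mono 1 o) → Sp2 w0 (mono 1 o • c + c)) :
    Sp2 w0 c ∨ Sp2 w0 (c + Om) := by
  have ok := H29.allL_true.1 fvD_ok
  simp only [H29.and2_true, H29.beq_true, eqD_iff] at ok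
  have key : ∀ c : C, c + irT (mn idP) fvD c = pl c (dec 262144) • c0.1 + pl c (dec 4194304) • w0 +
      pl c (dec 8650752) • Om + pl c c0.1 • dec 2593281 + pl c w0 • dec 3109291 := by
    refine dec_induction (by simp only [map_zero, add_zero, pl_zero', zero_smul]) (fun j hj => ?_)
      fun c d hc hd => ?_
    · rw [irT_dec _ _ _ fun d hd => ⟨cols_mn (ok d hd).1.1, (ok d hd).1.2⟩, c0_dec, w0_dec, ← dec_Om]
      exact fvD_key j hj
    · rw [map_add, add_add_add_comm, hc, hd]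
      simp only [pl_add', add_smul]
      abel
  have z : ∀ l : List (ℕ × List ℕ × List ℕ), (∀ d ∈ l, d ∈ fvD) → irT (mn idP) l c = 0 := fun l => by
    induction l with
    | nil => exact fun _ => rfl
    | cons d l ih =>
      intro hl
      obtain ⟨⟨k1, k2⟩, ⟨k3, k4⟩, k5, k6⟩ := ok d (hl d (.head _))
      have cl := cols_mn k1
      have k1' := k1
      simp only [chkM, H29.and2_true] at k1'
      have e := mn_eq k1'.1 k1'.2.1 (σ := 1) (o := ⟨_, mem_GC_of_isCw k1'.2.1⟩) pm_idP.symm rfl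
      have l0 : lm d.2.2 c0.1 = 0 := by rw [c0_dec, lm_dec k2, k5, dec_zero]
      have l1 : lm d.2.2 w0 = 0 := by rw [w0_dec, lm_dec k2, k6, dec_zero]
      rw [irT_cons, ih fun d hd => hl d (.tail _ hd), add_zero, add_comm, e]
      rcases h _ ⟨by rw [← e, c0_dec, ← cl.ap, k3], by rw [← e, w0_dec, ← cl.ap, k4]⟩ with l | l | l | l <;>
        rw [l]
      exacts [map_zero _, l0, l1, by rw [map_add, l0, l1, add_zero]]
  have e := key c
  rw [z _ fun _ h => h, hc.1, hc.2, zero_smul, zero_smul, add_zero, add_zero, add_zero] at e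
  rcases z2 (pl c (dec 8650752)) with k | k <;> rw [k] at e
  · exact .inl (by rw [e, zero_smul, add_zero]; exact sp2_smul _ _)
  · exact .inr (by rw [e, one_smul, add_assoc, cc2, add_zero]; exact sp2_smul _ _)

theorem mono1_mul (o o' : GC) : mono 1 o * mono 1 o' = mono 1 ⟨o.1 ∆ o'.1, symmDiff_mem_GC o.2 o'.2⟩ := by
  rw [mono_mul, one_mul]
  exact congrArg _ (Subtype.ext (congrArg (o.1 ∆ ·) (one_smul (Equiv.Perm P) o'.1)))

theorem mono1_sq (o : GC) : mono 1 o * mono 1 o = 1 := by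
  rw [mono1_mul, ← mono_one]
  exact congrArg _ (Subtype.ext (by simp [gc0]))

theorem mono1_comm (o o' : GC) : mono 1 o * mono 1 o' = mono 1 o' * mono 1 o := by
  rw [mono1_mul, mono1_mul]
  exact congrArg _ (Subtype.ext (symmDiff_comm _ _))

theorem Sp2.cases (hw : AA w) (h : Sp2 w c) : c = 0 ∨ IsS c := by
  rcases h with rfl | rfl | rfl | rfl
  exacts [.inl rfl, .inr isS_c0, .inr hw.1, .inr (add_comm w c0.1 ▸ hw.2)]

/-- The action on the root vectors. -/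
@[reducible] noncomputable def actRt {X : Subgroup G0} (h : ∀ g ∈ X, g • c0.1 = c0.1 ∧ Ec (g • w) w) :
    MulAction X {r // Rt w r} where
  smul g r := ⟨g.1 • r.1, (r.2.smul (h _ g.2).1).ecw (h _ g.2).2⟩
  one_smul r := Subtype.ext (one_smul _ _)
  mul_smul g k r := Subtype.ext (mul_smul _ _ _)

theorem odd0 : ¬ 2 ∣ Nat.card {r // Rt w0 r} := by
  let E : Subgroup G0 :=
    { carrier := {g | Fx2 w0 g ∧ ∃ o, g = mono 1 o}
      one_mem' := ⟨Fx2.one _, gc0, mono_one.symm⟩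
      mul_mem' := by
        rintro _ _ ⟨a, o, rfl⟩ ⟨b, o', rfl⟩
        exact ⟨a.mul b, _, mono1_mul _ _⟩
      inv_mem' := by
        rintro _ ⟨a, o, rfl⟩
        exact ⟨a.inv, o, inv_eq_of_mul_eq_one_right (mono1_sq o)⟩ }
  have hE : IsPGroup 2 E := pg_of 1 (by
    rintro _ ⟨-, o, rfl⟩
    rw [pow_one, sq, mono1_sq])
  letI := actRt (w := w0) (X := E) fun g hg => ⟨hg.1.1, .inl hg.1.2⟩
  have := hE.card_modEq_card_fixedPoints {r // Rt w0 r}
  suffices e : MulAction.fixedPoints E {r // Rt w0 r} = {⟨Om, rt_Om⟩} by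
    rw [e, Nat.card_coe_set_eq, Set.ncard_singleton] at this
    exact fun k => absurd ((this.dvd_iff dvd_rfl).1 k) (by norm_num)
  refine Set.ext fun r => ⟨fun hr => ?_, ?_⟩
  · have k := fixV (r.2.v0 aa_w0) fun o ho => .inl (by
      rw [show mono 1 o • r.1 = r.1 from congrArg Subtype.val (hr ⟨_, ho, o, rfl⟩), cc2])
    refine Subtype.ext ?_
    rcases k with k | k
    · exact ((k.cases aa_w0).elim r.2.1 r.2.2.1).elim
    · have l : r.1 = r.1 + Om + Om := by rw [add_assoc, cc2, add_zero]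
      refine add_eq_zero_C.1 (by_contra fun n => r.2.2.1 ?_)
      rw [l]
      refine (sh0_Om ⟨(k.cases aa_w0).resolve_left n, ?_⟩).1
      rcases k with k | k | k | k <;> rw [k]
      exacts [rfl, c0_fst, w0_fst, by rw [Prod.fst_add, c0_fst, w0_fst, add_zero]]
  · rintro rfl ⟨_, -, o, rfl⟩
    exact Subtype.ext (fix_Om.2 (mono_mem_N0 _ _))

/-- A 2-group fixes a root vector. -/
theorem oddRt (hw : AA w) {X : Subgroup G0} (hX : IsPGroup 2 X)
    (h : ∀ g ∈ X, g • c0.1 = c0.1 ∧ Ec (g • w) w) : ∃ r, Rt w r ∧ ∀ g ∈ X, g • r = r := by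
  letI := actRt h
  obtain ⟨r, hr⟩ := hX.nonempty_fixed_point_of_prime_not_dvd_card {r // Rt w r} (by
    obtain ⟨g, g1, rfl⟩ := hw.to0
    rw [← Nat.card_congr ((MulAction.toPerm g).subtypeEquiv (p := Rt w0) fun r => ⟨fun k => k.smul g1,
      fun k => by simpa using k.smul (inv_smul_eq_iff.2 g1.symm)⟩)]
    exact odd0)
  exact ⟨r.1, r.2, fun g hg => congrArg Subtype.val (hr ⟨g, hg⟩)⟩

theorem Sp2.fix {g : G0} (hg : Fx2 w g) (h : Sp2 w c) : g • c = c := by
  rcases h with rfl | rfl | rfl | rfl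
  exacts [smul_zero _, hg.1, hg.2, by rw [smul_add, hg.1, hg.2]]

theorem Sp2.mem {W : AddSubgroup C} (h0 : c0.1 ∈ W) (h1 : w ∈ W) (h : Sp2 w c) : c ∈ W := by
  rcases h with rfl | rfl | rfl | rfl
  exacts [zero_mem _, h0, h1, add_mem h0 h1]

theorem Sp2.smul {g : G0} (hg : g • c0.1 = c0.1) (h : Sp2 w c) : Sp2 (g • w) (g • c) := by
  rcases h with rfl | rfl | rfl | rfl
  exacts [.inl (smul_zero _), .inr (.inl hg), .inr (.inr (.inl rfl)),
    .inr (.inr (.inr (by rw [smul_add, hg])))]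

theorem desc2 (W : AddSubgroup C) (inv : ∀ g, Fx2 w0 g → ∀ c ∈ W, g • c ∈ W) (hc : c ∈ W)
    (n : ¬ Sp2 w0 c) : ∀ l : List GC, ∃ c ∈ W, ¬ Sp2 w0 c ∧
      ∀ o ∈ l, Fx2 w0 (mono 1 o) → Sp2 w0 (mono 1 o • c + c)
  | [] => ⟨c, hc, n, by simp⟩
  | s :: l => by
    obtain ⟨c, c1, c2, c3⟩ := desc2 W inv hc n l
    by_cases e : Fx2 w0 (mono 1 s) → Sp2 w0 (mono 1 s • c + c)
    · exact ⟨c, c1, c2, List.forall_mem_cons.2 ⟨e, c3⟩⟩
    rw [_root_.not_imp] at e
    refine ⟨_, add_mem (inv _ e.1 c c1) c1, e.2, List.forall_mem_cons.2 ⟨fun _ => .inl ?_,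
      fun o ho k => .inl ?_⟩⟩
    · rw [smul_add, ← mul_smul, mono1_sq, one_smul, add_comm c, cc2]
    · rw [smul_add, ← mul_smul, mono1_comm, mul_smul, add_add_add_comm, ← smul_add,
        (c3 o ho k).fix e.1, cc2]

theorem irrV (hw : AA w) (W : AddSubgroup C) (h0 : c0.1 ∈ W) (h1 : w ∈ W) (sub : ∀ c ∈ W, V0 w c)
    (inv : ∀ g, Fx2 w g → ∀ c ∈ W, g • c ∈ W) (hc : c ∈ W) (n : ¬ Sp2 w c) {d : C} (hd : V0 w d) :
    d ∈ W := by
  obtain ⟨g, g1, rfl⟩ := hw.to0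
  have g2 := inv_smul_eq_iff.2 g1.symm
  have := Fintype.ofFinite GC
  obtain ⟨e, e1, e2, e3⟩ := desc2 (c := g⁻¹ • c) (W.comap (DistribSMul.toAddMonoidHom C g))
    (fun k hk c hc => by
      have := inv (g * k * g⁻¹) ⟨by rw [mul_smul, mul_smul, g2, hk.1, g1],
        by rw [mul_smul, mul_smul, inv_smul_smul, hk.2]⟩ _ hc
      rwa [DistribSMul.toAddMonoidHom_apply, mul_smul, mul_smul, inv_smul_smul] at this)
    (show g • g⁻¹ • c ∈ W by rwa [smul_inv_smul]) (fun k => n (by simpa using k.smul g1))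
    Finset.univ.toList
  have k := ((fixV (by simpa using (sub _ e1).smul g2) fun o =>
    e3 o (Finset.mem_toList.2 (Finset.mem_univ o))).resolve_left e2).smul g1
  have hO := add_mem (show g • e ∈ W from e1) (k.mem h0 h1)
  rw [smul_add, ← add_assoc, cc2, zero_add] at hO
  refine spanA hw W h0 (fun a ha => ?_) hd
  obtain ⟨r, r1, r2⟩ := ha.rt hw
  obtain ⟨k, k1, rfl⟩ := (rt_Om.smul g1).tr hw r1
  have := add_mem (inv k k1 _ hO) h1
  rcases r2.symm with l | l <;> rw [l]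
  exacts [this, add_mem this h0]

end H10.Mon.MG
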