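import Mathlib
import Cfsg.Agent.H19.B1

set_option autoImplicit false
set_option linter.all false
set_option maxRecDepth 100000

open Cfsg H9 H10 H10.Mon H4.TL H4.LR
open scoped symmDiff Pointwise

namespace H10.Mon.MG

namespace B2x

/-- the hypotheses, with source `w` and target `w'` -/
structure G2 (w w' : C) (f : C → C) : Prop where
  hw : AA w
  hw' : AA w'
  add : ∀ c d, V0 w c → V0 w d → Ec (f (c + d)) (f c + f d)
  mem : ∀ c, V0 w c → V0 w' (f c)
  inj : ∀ c, V0 w c → Ec (f c) 0 → Ec c 0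
  f0 : Ec (f c0.1) 0
  fw : Ec (f w) w'
  ip : ∀ c d, V0 w c → V0 w d → pl (f c) (f d) = pl c d
  hA : ∀ a, An w a → An w' (f a)

variable {w w' : C} {f : C → C}

theorem G2.post (H : G2 w w' f) {g : G0} (e : g • c0.1 = c0.1) :
    G2 w (g • w') fun c => g • f c where
  hw := H.hw
  hw' := H.hw'.smul e
  add c d hc hd := by rw [← smul_add]; exact (H.add c d hc hd).smul e
  mem c hc := (H.mem c hc).smul e
  inj c hc k := H.inj c hc (by
    simpa only [inv_smul_smul, smul_zero] using k.smul (inv_smul_eq_iff.2 e.symm))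
  f0 := by simpa only [smul_zero] using H.f0.smul e
  fw := H.fw.smul e
  ip c d hc hd := (pl_smul g _ _).trans (H.ip c d hc hd)
  hA a ha := (H.hA a ha).smul e

theorem G2.pre (H : G2 w w' f) {g : G0} (e : g • c0.1 = c0.1) :
    G2 (g • w) w' fun c => f (g⁻¹ • c) := by
  have e' : g⁻¹ • c0.1 = c0.1 := inv_smul_eq_iff.2 e.symm
  have v : ∀ {c}, V0 (g • w) c → V0 w (g⁻¹ • c) := fun h => by
    simpa only [inv_smul_smul] using h.smul e'
  exact
    { hw := H.hw.smul e
      hw' := H.hw'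
      add := fun c d hc hd => by rw [smul_add]; exact H.add _ _ (v hc) (v hd)
      mem := fun c hc => H.mem _ (v hc)
      inj := fun c hc k => by
        simpa only [smul_inv_smul, smul_zero] using (H.inj _ (v hc) k).smul e
      f0 := by rw [e']; exact H.f0
      fw := by rw [inv_smul_smul]; exact H.fw
      ip := fun c d hc hd => (H.ip _ _ (v hc) (v hd)).trans (pl_smul _ _ _)
      hA := fun a ha => H.hA _ (by simpa only [inv_smul_smul] using ha.smul e') }

theorem G2.tg (H : G2 w w' f) {w'' : C} (e : Ec w' w'') : G2 w w'' f :=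
  { H with
    hw' := H.hw'.ec e
    mem := fun c hc => (H.mem c hc).ec e
    fw := H.fw.trans e
    hA := fun a ha => (H.hA a ha).ecw e }

theorem G2.zero (H : G2 w w' f) : Ec (f 0) 0 := by
  have := H.add 0 0 (V0.zero w) (V0.zero w)
  rwa [add_zero, cc2] at this

theorem G2.ec (H : G2 w w' f) {a b : C} (hb : V0 w b) (e : Ec a b) : Ec (f a) (f b) := by
  rcases e with rfl | rfl
  · exact Ec.rf
  · simpa only [add_zero] using (H.add _ _ hb H.hw.v0c).trans (Ec.rf.add H.f0)

theorem G2.aa (H : G2 w w' f) {a : C} (ha : AA a) (hv : V0 w a) : AA (f a) := by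
  by_cases e : Ec a w
  · exact H.hw'.ec ((H.ec H.hw.v0w e).trans H.fw).symm
  · exact (H.hA a ⟨ha, hv.2, e⟩).1

theorem w0_fst : w0.1 = 0 := by rw [w0, Prod.fst_add, D_fst, Om_fst, add_zero]

theorem v0 {c : C} (h : c.1 = 0) : V0 w0 c := ⟨pl_fst h c0_fst, pl_fst h w0_fst⟩

theorem fst_add {a b : C} (ha : a.1 = 0) (hb : b.1 = 0) : (a + b).1 = 0 := by
  rw [Prod.fst_add, ha, hb, add_zero]

theorem fst_of_Om {c : C} (h : IsS c) (h' : IsS (c + Om)) : c.1 = 0 := by
  by_contra n
  rcases z2 (c.1 11) with k | k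
  · exact sh2_Om h n k h'
  · have := bb_isS h'
    rw [bb_add_self, bb_isS h, bb_fst Om_fst, pl_Om, k] at this
    exact absurd this (by decide)

theorem pr_c0 : pr c0.1 = pr (D (some 0) none) := by rw [c0_D, map_add, pr_Om, add_zero]

theorem D_c0 (p : P) : D p none + c0.1 = D p (some 0) := by
  rw [c0_D, D_eq p (some 0), add_assoc]

theorem ec_D (p : P) : Ec (D p (some 0)) (D p none) := .inr (D_c0 p).symm

theorem dl_none : dl none = 0 := by rw [dl, D_self, pr_Om]

theorem duad {c : C} (h : Sh0 c) (h' : IsS (c + c0.1)) :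
    ∃ (π : P) (s : ZMod 2), π ≠ none ∧ π ≠ some 0 ∧ Ec c (D π none + s • Om) := by
  obtain ⟨p, q, n, k⟩ := sh0_ex h
  obtain ⟨r, t, n', k'⟩ := sh0_ex (c := c + c0.1) ⟨h', fst_add h.2 c0_fst⟩
  have n0 : (some 0 : P) ≠ none := by simp
  have e : SM (({p, q} : Finset P) ∆ {some 0, none}) = SM {r, t} := by
    rw [SM_symmDiff, SM_pair n, SM_pair n0, SM_pair n', ← pr_or k, ← pr_or k', map_add, pr_c0]
  have a := card_symmDiff_add ({p, q} : Finset P) {some 0, none}
  rw [Finset.card_pair n, Finset.card_pair n0] at a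
  have b := Finset.card_pair n'
  rw [SM_inj (by omega) (by omega) e, b] at a
  obtain ⟨s, hs⟩ : ∃ s : ZMod 2, c = D p q + s • Om :=
    k.elim (fun k => ⟨0, by simpa using k⟩) fun k => ⟨1, by simpa using k⟩
  have two : ¬ (p ∈ ({some 0, none} : Finset P) ∧ q ∈ ({some 0, none} : Finset P)) := fun m => by
    rw [Finset.inter_eq_left.2 (by
      intro x hx
      rcases Finset.mem_insert.1 hx with rfl | hx
      exacts [m.1, Finset.mem_singleton.1 hx ▸ m.2]), Finset.card_pair n] at a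
    omega
  obtain ⟨x, hx⟩ := Finset.card_pos.1
    (show 0 < (({p, q} : Finset P) ∩ {some 0, none}).card by omega)
  simp only [Finset.mem_inter, Finset.mem_insert, Finset.mem_singleton, not_and, not_or] at hx two
  have fin : ∀ {p q : P}, (q = some 0 ∨ q = none) → Ec (D p q + s • Om) (D p none + s • Om) := by
    rintro p q (rfl | rfl)
    exacts [(ec_D p).add Ec.rf, Ec.rf]
  rcases hx with ⟨rfl | rfl, h2⟩
  · exact ⟨q, s, (two h2).2, (two h2).1, by rw [hs, D_comm]; exact fin h2⟩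
  · refine ⟨p, s, fun e => ?_, fun e => ?_, hs ▸ fin h2⟩
    · exact h2.elim (two (.inr e)).1 (two (.inr e)).2
    · exact h2.elim (two (.inl e)).1 (two (.inl e)).2

theorem sm_fst (s : ZMod 2) : (s • Om).1 = 0 := by
  rcases z2 s with rfl | rfl
  · rw [zero_smul]; rfl
  · rw [one_smul, Om_fst]

theorem pr_sm (s : ZMod 2) : pr (s • Om) = 0 := by
  rcases z2 s with rfl | rfl
  · rw [zero_smul, map_zero]
  · rw [one_smul, pr_Om]

theorem G2.sm (H : G2 w0 w' f) (hO : Ec (f Om) Om) (s : ZMod 2) : Ec (f (s • Om)) (s • Om) := by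
  rcases z2 s with rfl | rfl
  · simpa only [zero_smul] using H.zero
  · simpa only [one_smul] using hO

theorem G2.sum (H : G2 w0 w' f) {a b : P → C} (h0 : ∀ p, (a p).1 = 0)
    (h : ∀ p, Ec (f (a p)) (b p)) (S : Finset P) :
    (∑ p ∈ S, a p).1 = 0 ∧ Ec (f (∑ p ∈ S, a p)) (∑ p ∈ S, b p) := by
  induction S using Finset.induction_on with
  | empty => exact ⟨rfl, H.zero⟩
  | insert p S n ih =>
    rw [Finset.sum_insert n, Finset.sum_insert n]
    exact ⟨fst_add (h0 p) ih.1, (H.add _ _ (v0 (h0 p)) (v0 ih.1)).trans ((h p).add ih.2)⟩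

theorem G2.pi (H : G2 w0 w' f) (hO : Ec (f Om) Om) : ∃ (π : Equiv.Perm P) (s : P → ZMod 2),
    π none = none ∧ π (some 0) = some 0 ∧ s none = 0 ∧ s (some 0) = 0 ∧
      ∀ k, Ec (f (D k none)) (D (π k) none + s k • Om) := by
  have ex : ∀ k : P, ∃ (π : P) (s : ZMod 2), (k = none → π = none ∧ s = 0) ∧
      (k = some 0 → π = some 0 ∧ s = 0) ∧ (k ≠ none → k ≠ some 0 → π ≠ none ∧ π ≠ some 0) ∧
      Ec (f (D k none)) (D π none + s • Om) := fun k => by
    by_cases h1 : k = none
    · subst h1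
      exact ⟨none, 0, fun _ => ⟨rfl, rfl⟩, by simp, by simp, by
        rwa [D_self, zero_smul, add_zero]⟩
    by_cases h2 : k = some 0
    · subst h2
      refine ⟨some 0, 0, by simp, fun _ => ⟨rfl, rfl⟩, by simp, ?_⟩
      have e : Ec (D (some 0) none) Om := (D_self (some 0) ▸ ec_D (some 0)).symm
      rw [zero_smul, add_zero]
      exact ((H.ec (v0 Om_fst) e).trans hO).trans e.symm
    have a1 : AA (D k none) := ⟨(sh0_D h1).1, D_c0 k ▸ (sh0_D h2).1⟩
    have a2 : AA (D k none + Om) := ⟨(sh0_Om (sh0_D h1)).1, by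
      rw [add_right_comm, D_c0]; exact (sh0_Om (sh0_D h2)).1⟩
    have b1 := H.aa a1 (v0 (D_fst _ _))
    have b2 := (H.aa a2 (v0 (fst_add (D_fst _ _) Om_fst))).ec
      ((H.add _ _ (v0 (D_fst _ _)) (v0 Om_fst)).trans (Ec.rf.add hO))
    obtain ⟨π, s, n1, n2, e⟩ := duad ⟨b1.1, fst_of_Om b1.1 b2.1⟩ b1.2
    exact ⟨π, s, fun e => absurd e h1, fun e => absurd e h2, fun _ _ => ⟨n1, n2⟩, e⟩
  choose π s p1 p2 p3 p4 using ex
  have inj : Function.Injective π := fun k l e => by_contra fun n => by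
    have nn : ∀ {k l : P}, π k = π l → k ≠ l → k ≠ none ∧ k ≠ some 0 := fun {k l} e n => by
      by_cases l1 : l = none
      · refine ⟨l1 ▸ n, fun t => ?_⟩
        rw [(p2 k t).1, (p1 l l1).1] at e; simp at e
      by_cases l2 : l = some 0
      · refine ⟨fun t => ?_, l2 ▸ n⟩
        rw [(p1 k t).1, (p2 l l2).1] at e; simp at e
      exact ⟨fun t => (p3 l l1 l2).1 (e ▸ (p1 k t).1), fun t => (p3 l l1 l2).2 (e ▸ (p2 k t).1)⟩
    have f1 := fst_add (D_fst k none) (D_fst l none)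
    have := (H.add _ _ (v0 f1) (v0 (sm_fst (s k + s l)))).trans
      (((H.add _ _ (v0 (D_fst k none)) (v0 (D_fst l none))).trans ((p4 k).add (p4 l))).add
        (H.sm hO _))
    rw [e, add_add_add_comm, cc2, zero_add, ← add_smul, cc2] at this
    have m : pr (D k none + D l none + (s k + s l) • Om) = pr (D k l) := by
      rw [map_add, map_add, pr_sm, add_zero, pr_D k l]; rfl
    rcases H.inj _ (v0 (fst_add f1 (sm_fst _))) this with t | t <;> rw [t] at m
    · rcases pr_zero (m.symm.trans (map_zero _)) with u | u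
      exacts [isS_ne (sh0_D n).1 u, not_isS_Om (u ▸ (sh0_D n).1)]
    · rw [zero_add, pr_c0] at m
      rcases pair_inj n (by simp) m.symm with u | u
      exacts [(nn e n).2 u.1, (nn e n).1 u.1]
  exact ⟨Equiv.ofBijective π (Finite.injective_iff_bijective.1 inj), s, (p1 _ rfl).1, (p2 _ rfl).1,
    (p1 _ rfl).2, (p2 _ rfl).2, p4⟩

theorem swap_smul {T : Finset P} (h : (T ∩ {some 0, none}).card = 1) :
    Equiv.swap (some 0 : P) none • T = T ∆ {some 0, none} := by
  obtain ⟨⟨y, y1, y2⟩, u⟩ := H4.LR.one h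
  have k : ¬ (some 0 ∈ T ∧ none ∈ T) := fun m => by
    simpa using u _ m.1 (by simp) _ m.2 (by simp)
  have k' : some 0 ∈ T ∨ none ∈ T := by
    simp only [Finset.mem_insert, Finset.mem_singleton] at y2
    rcases y2 with rfl | rfl
    exacts [.inl y1, .inr y1]
  ext x
  rw [← Finset.inv_smul_mem_iff, Equiv.swap_inv, Equiv.Perm.smul_def, Finset.mem_symmDiff]
  by_cases h1 : x = some 0
  · subst h1; simp; tauto
  by_cases h2 : x = none
  · subst h2; simp; tauto
  rw [Equiv.swap_apply_of_ne_of_ne h1 h2]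
  simp [h1, h2]

theorem smul_sd (π : Equiv.Perm P) (A B : Finset P) : π • (A ∆ B) = (π • A) ∆ (π • B) := by
  ext x
  simp only [← Finset.inv_smul_mem_iff, Finset.mem_symmDiff]

theorem G2.e0 (H : G2 w0 w' f) (hO : Ec (f Om) Om) :
    ∃ h : G0, h • c0.1 = c0.1 ∧ ∀ c : C, c.1 = 0 → Ec (f c) (h • c) := by
  classical
  obtain ⟨π, s, π1, π2, s1, s2, hπ⟩ := H.pi hO
  have n0 : (some 0 : P) ≠ none := by simp
  have sm : ∀ S ∈ GC, Ec (0 : C) (∑ p ∈ S, (D (π p) none + s p • Om)) := fun S hS => by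
    have := (H.sum (fun p => D_fst p none) hπ S).2
    rw [sum_D hS] at this
    exact H.zero.symm.trans this
  have or : ∀ S ∈ GC, π • S ∈ GC ∨ (Equiv.swap (some 0 : P) none * π) • S ∈ GC := fun S hS => by
    have hc : (π • S).card % 4 = 0 := by
      rw [Finset.card_smul_finset]; have := card_of_mem_GC hS; omega
    have e : pr (∑ p ∈ S, (D (π p) none + s p • Om)) = SM (π • S) := by
      simp only [map_sum, map_add, pr_sm, add_zero]
      exact (Finset.sum_image (f := dl) fun a _ b _ e => π.injective e).symm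
    rcases (sm S hS).symm with t | t <;> rw [t] at e
    · exact .inl (mem_GC_of (by omega) (e.symm.trans (map_zero _)))
    · have a := card_symmDiff_add (π • S) {some 0, none}
      rw [Finset.card_pair n0] at a
      have m := mem_GC_of (S := (π • S) ∆ {some 0, none}) (by omega) (by
        rw [SM_symmDiff, SM_pair n0, ← e, zero_add, pr_c0, cc2])
      have b := card_of_mem_GC m
      have b' : ((π • S) ∩ {some 0, none}).card ≤ 2 :=
        (Finset.card_le_card Finset.inter_subset_right).trans (Finset.card_pair n0).le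
      right
      rwa [mul_smul, swap_smul (by omega)]
  obtain ⟨σ, σ0, hσ⟩ : ∃ σ : M24, permHom σ • c0.1 = c0.1 ∧
      ∀ k, Ec (D (π k) none) (permHom σ • D k none) := by
    have cl : ∀ (g : Equiv.Perm P) {A B : Finset P}, g • (A ∆ B) ∈ GC → g • B ∈ GC → g • A ∈ GC :=
      fun g A B h1 h2 => by
        simpa only [smul_sd, symmDiff_symmDiff_cancel_right] using symmDiff_mem_GC h1 h2
    have hs : ∀ σ : M24, permHom σ • Om = Om := fun σ => fix_Om.2 (LFt.perm_mem σ)
    by_cases h1 : ∀ S ∈ GC, π • S ∈ GC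
    · refine ⟨⟨π, mem_M24_iff.2 h1⟩, ?_, fun k => ?_⟩
      · rw [c0_D, smul_add, hs, perm_D, π1, π2]
      · rw [perm_D, π1]; exact Ec.rf
    push Not at h1
    obtain ⟨A, hA, nA⟩ := h1
    refine ⟨⟨Equiv.swap (some 0 : P) none * π, mem_M24_iff.2 fun B hB => by_contra fun nB => ?_⟩,
      ?_, fun k => ?_⟩
    · rcases or _ (symmDiff_mem_GC hA hB) with t | t
      · exact nA (cl _ t ((or B hB).resolve_right nB))
      · exact nB (cl _ (symmDiff_comm A B ▸ t) ((or A hA).resolve_left nA))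
    · rw [c0_D, smul_add, hs, perm_D]
      simp only [Equiv.Perm.mul_apply, π1, π2, Equiv.swap_apply_left, Equiv.swap_apply_right]
      rw [D_comm]
    · rw [perm_D]
      simp only [Equiv.Perm.mul_apply, π1, Equiv.swap_apply_right]
      by_cases h1 : π k = some 0
      · rw [h1, Equiv.swap_apply_left, D_comm]; exact Ec.rf
      by_cases h2 : π k = none
      · rw [h2, Equiv.swap_apply_right, D_self, D_self]; exact Ec.rf
      rw [Equiv.swap_apply_of_ne_of_ne h1 h2]
      exact (ec_D _).symm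
  have hs : permHom σ • Om = Om := fix_Om.2 (LFt.perm_mem σ)
  have hs' : ∀ t : ZMod 2, permHom σ • t • Om = t • Om := fun t => by
    rcases z2 t with rfl | rfl <;> simp only [zero_smul, one_smul, smul_zero, hs]
  let o : Finset P := Finset.univ.filter fun p => s p = 1
  have so : ∀ p, ind2 o p = s p := fun p => by
    rcases z2 (s p) with l | l <;> simp [ind2, o, l]
  have k : ∀ p, Ec (f (D p none)) (permHom σ • D p none + s p • Om) :=
    fun p => (hπ p).trans ((hσ p).add Ec.rf)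
  have oG : o ∈ GC := mem_GC_of_even o fun S hS => by
    have e := (H.sum (fun p => D_fst p none) k S).2
    rw [sum_D hS.1, Finset.sum_add_distrib, ← Finset.smul_sum, sum_D hS.1, smul_zero, zero_add,
      ← Finset.sum_smul] at e
    have e2 : ∑ p ∈ S, s p = ((S ∩ o).card : ZMod 2) := by
      simp only [← so, ind2, Finset.sum_ite_mem, Finset.sum_const, nsmul_one]
    rw [e2] at e
    rcases z2 ((S ∩ o).card : ZMod 2) with l | l
    · exact Nat.mod_eq_zero_of_dvd ((ZMod.natCast_eq_zero_iff _ _).1 l)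
    · rw [l, one_smul] at e
      rcases (H.zero.symm.trans e).symm with t | t
      · exact absurd t Om_ne_zero
      · rw [zero_add] at t
        exact absurd (t ▸ isS_c0) not_isS_Om
  have hm : (permHom σ * mono 1 ⟨o, oG⟩) • Om = Om :=
    fix_Om.2 (mul_mem (LFt.perm_mem σ) (mono_mem_N0 _ _))
  have k1 : ∀ p, (permHom σ * mono 1 ⟨o, oG⟩) • D p none = permHom σ • D p none + s p • Om :=
    fun p => by rw [mul_smul, sign_D, so, so, s1, add_zero, smul_add, hs']
  have h0 : (permHom σ * mono 1 ⟨o, oG⟩) • c0.1 = c0.1 := by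
    rw [c0_D, smul_add, k1, s2, zero_smul, add_zero, hm, ← hs, ← smul_add, hs, ← c0_D, σ0]
  refine ⟨_, h0, fun c hc => ?_⟩
  generalize permHom σ * mono 1 ⟨o, oG⟩ = h at hm k1 h0
  let W : AddSubgroup C :=
    { carrier := {c | c.1 = 0 ∧ Ec (f c) (h • c)}
      zero_mem' := ⟨rfl, by rw [smul_zero]; exact H.zero⟩
      add_mem' := fun ha hb => ⟨fst_add ha.1 hb.1, by
        rw [smul_add]; exact (H.add _ _ (v0 ha.1) (v0 hb.1)).trans (ha.2.add hb.2)⟩
      neg_mem' := fun {a} ha => by rwa [neg_eq_of_add_eq_zero_left (cc2 a)] }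
  have wO : Om ∈ W := ⟨Om_fst, by rwa [hm]⟩
  have wD : ∀ p, D p none ∈ W := fun p => ⟨D_fst _ _, k1 p ▸ k p⟩
  have wD' : ∀ p q, D p q ∈ W := fun p q => D_eq p q ▸ W.add_mem (W.add_mem (wD p) (wD q)) wO
  refine (span_sh0 W (fun c hc => ?_) hc).2
  obtain ⟨p, q, -, rfl | rfl⟩ := sh0_ex hc
  exacts [wD' p q, W.add_mem (wD' p q) wO]

/-- every odd coset in `c0^⊥` contains a class `AA` with position `none` -/
theorem oddy {c : C} (h1 : c.1 11 = 1) (h0 : pl c c0.1 = 0) :
    ∃ y : L, Od y none ∧ (c + kap y).1 = 0 ∧ AA (kap y) := by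
  obtain ⟨x, rfl⟩ := kap_surj c
  obtain ⟨w, hw | hw⟩ := (mem_L_iff01 _).1 x.2
  · exfalso
    rw [← pl_Om, ← LFt.kap_e8 none, pl_kap, dt, e8_coe, dot_single_right] at h1
    have := hw.2.1 none
    obtain ⟨k, hk⟩ : ∃ k : ℤ, (x : V) none = 2 * k := ⟨(x : V) none / 2, by
      rw [res] at this; split_ifs at this <;> omega⟩
    rw [hk, show 8 * (2 * k) / 8 = 2 * k by omega] at h1
    push_cast at h1
    rw [show (2 : ZMod 2) = 0 from rfl, zero_mul] at h1
    exact zero_ne_one h1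
  let y : L := mono 1 ⟨w, hw.1⟩ • (⟨odd3 none, (odd3_LD none).mem⟩ : L)
  have e : ∀ i, (y : V) i = if i ∈ w then -odd3 none i else odd3 none i := fun i =>
    mono_apply 1 ⟨w, hw.1⟩ _ i
  have od : Od y none :=
    ⟨by rw [e, odd3, if_pos rfl]; split_ifs <;> simp, fun i hi => by
      rw [e, odd3, if_neg hi]; split_ifs <;> simp⟩
  have mv : H4.TL.Mv y := (co_norm _ _).trans (sqNorm_odd3 none)
  have f0 : (kap x + kap y).1 = 0 := by
    rw [← kap_sub]
    refine kap_fst_zero fun i => ?_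
    have := hw.2.1 i
    rw [AddSubgroup.coe_sub, Pi.sub_apply, e, odd3]
    rw [res] at this
    split_ifs at this ⊢ <;> omega
  refine ⟨y, od, f0, ⟨y, mv, rfl⟩, ?_⟩
  have k := pl_fst f0 c0_fst
  rw [pl_add', h0, zero_add, c0_val, pl_kap, ZMod.intCast_zmod_eq_zero_iff_dvd] at k
  have a1 := od.1
  have a2 := od.2 (some 0) (by simp)
  rw [c0_val, LS.isS_add mv norm_vU']
  change dt y vU' = 16 ∨ dt y vU' = -16
  rw [dt_U'] at k ⊢
  push_cast at k
  omega

theorem ex_odd : ∃ v : C, v.1 11 = 1 ∧ V0 w0 v := by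
  let y : L := ⟨odd3 (some 2), (odd3_LD _).mem⟩
  have a : ∀ i, i ≠ some 2 → (y : V) i = 1 := fun i h => if_neg h
  have o : pl (kap y) Om = 1 := by
    rw [← LFt.kap_e8 none, pl_kap, dt, e8_coe, dot_single_right, a _ (by simp)]; rfl
  refine ⟨kap y, pl_Om _ ▸ o, ?_, ?_⟩
  · rw [c0_val, pl_kap, dt_U', a _ (by simp), a _ (by decide)]; rfl
  · rw [w0, pl_add, o, D, pl_kap, dt]
    change ((dotInt (y : V) (Pi.single (some 1) 4 + Pi.single none 4) / 8 : ℤ) : ZMod 2) + 1 = 0
    rw [dot_add_right, dot_single_right, dot_single_right, a _ (by decide), a _ (by simp)]; rfl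

theorem G2.id (H : G2 w0 w0 f) (h : ∀ c : C, c.1 = 0 → Ec (f c) c) {c : C} (hc : V0 w0 c) :
    Ec (f c) c := by
  have odd : ∀ c : C, c.1 11 = 1 → V0 w0 c → Ec (f c) c := fun c h1 h0 => by
    obtain ⟨y, y1, y2, y3⟩ := oddy h1 h0.1
    have ey : c = kap y + (c + kap y) := by rw [add_comm c, ← add_assoc, cc2, zero_add]
    have vy : V0 w0 (kap y) := by
      have := h0.add (v0 y2)
      rwa [← add_assoc, cc2, zero_add] at this
    have m0 : (f (kap y) + kap y).1 = 0 := funext fun j => by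
      have k : ∀ d : C, pl d (0, Pi.single j 1) = d.1 j := fun d => by
        rw [pl, bb_fst (c := (0, Pi.single j 1)) rfl, add_zero, bb, dotProduct_single, mul_one]
      have := H.ip (kap y) (0, Pi.single j 1) vy (v0 rfl)
      rw [pl_comm, (h (0, Pi.single j 1) rfl).pl (H.mem _ vy).1, pl_comm, k, k] at this
      rw [Prod.fst_add, Pi.add_apply, this, zz2]; rfl
    have a := H.aa y3 vy
    have o1 : (f (kap y)).1 11 = 1 := by rw [← fst_of m0, fst_of y2, h1]
    obtain ⟨x, p, x1, x2⟩ := od_ex a.1 o1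
    obtain ⟨x', p', x1', x2'⟩ := od_ex a.2 (by rw [Prod.fst_add, c0_fst, add_zero, o1])
    have s : kap x + kap x' = c0.1 := by rw [x2, x2', ← add_assoc, cc2, zero_add]
    have cm := od_cmp x1 x1' (s ▸ c0_fst)
    have n : p ≠ p' := fun e => isS_ne isS_c0 (by rw [← s, cm.1 e, cc2])
    have fy : Ec (f (kap y)) (kap y) := by
      rcases pair_inj n (by simp) ((cm.2 n).symm.trans (s ▸ pr_c0)) with u | u
      · have := (od_cmp x1' y1 (by
          rw [x2', add_right_comm]; exact fst_add m0 c0_fst)).1 u.2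
        rw [x2'] at this
        exact Ec.symm (.inr this.symm)
      · exact .inl (x2 ▸ (od_cmp x1 y1 (x2 ▸ m0)).1 u.1)
    have := (H.add _ _ vy (v0 y2)).trans (fy.add (h _ y2))
    rwa [← ey] at this
  rcases z2 (c.1 11) with k | k
  · obtain ⟨v, v1, v2⟩ := ex_odd
    have := (H.add _ _ (hc.add v2) v2).trans ((odd (c + v) (by
      rw [Prod.fst_add, Pi.add_apply, k, v1, zero_add]) (hc.add v2)).add (odd v v1 v2))
    rwa [add_assoc, cc2, add_zero] at this
  · exact odd c k hc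

end B2x

open B2x in
/-- Linear rigidity of `⟨c0, w⟩^⊥ / c0`. -/
theorem LRB {w : C} (hw : AA w) (f : C → C)
    (add : ∀ c d, V0 w c → V0 w d → Ec (f (c + d)) (f c + f d))
    (mem : ∀ c, V0 w c → V0 w (f c)) (inj : ∀ c, V0 w c → Ec (f c) 0 → Ec c 0)
    (f0 : Ec (f c0.1) 0) (fw : Ec (f w) w)
    (ip : ∀ c d, V0 w c → V0 w d → pl (f c) (f d) = pl c d) (hA : ∀ a, An w a → An w (f a)) :
    ∃ h : G0, h • c0.1 = c0.1 ∧ ∀ c, V0 w c → Ec (f c) (h • c) := by
  have H : G2 w w f := ⟨hw, hw, add, mem, inj, f0, fw, ip, hA⟩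
  obtain ⟨r, hr⟩ := hw.ex_rt
  obtain ⟨g, g0, g1, g2⟩ := Rt.std hw hr
  obtain ⟨r', hr', e'⟩ := An.rt hw (hA _ (hr.an hw))
  obtain ⟨g', g0', g1', g2'⟩ := Rt.std hw hr'
  have H1 := (H.pre g0).post g0'
  rw [g1, g1'] at H1
  obtain ⟨h, h0, hh⟩ := H1.e0 (by
    have := (add _ _ (hr.an hw).v0 hw.v0w).trans (e'.symm.add fw)
    rw [add_assoc, add_assoc, cc2, add_zero, add_zero] at this
    show Ec (g' • f (g⁻¹ • Om)) Om
    conv_lhs => rw [← g2, inv_smul_smul]
    exact g2' ▸ this.smul g0')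
  have h0' : h⁻¹ • c0.1 = c0.1 := inv_smul_eq_iff.2 h0.symm
  have H2 := (H1.post h0').tg (w'' := w0) (by
    simpa only [inv_smul_smul] using (H1.fw.symm.trans (hh _ w0_fst)).smul h0')
  refine ⟨g'⁻¹ * h * g, by rw [mul_smul, mul_smul, g0, h0, inv_smul_eq_iff, g0'], fun c hc => ?_⟩
  have := H2.id (fun c hc => by simpa only [inv_smul_smul] using (hh c hc).smul h0')
    (g1 ▸ hc.smul g0)
  simpa only [inv_smul_smul, smul_inv_smul, mul_smul] using
    (this.smul h0).smul (inv_smul_eq_iff.2 g0'.symm)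

end H10.Mon.MG
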