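import Mathlib
import Cfsg.Agent.H19.B2
import Cfsg.Agent.H19.B3

/-! The centraliser of `x`, `y` and a second short element. -/

set_option autoImplicit false
set_option linter.all false

namespace H10.Mon.MG

variable {M G : Type*} [Group M] [Group G] {x y : M} {p : ZMod 2 → C → M} {eO eD s0 : G0} {w : C}
  {s : ZMod 2}

theorem c0_ne : c0.1 ≠ 0 := isS_ne isS_c0

theorem AA.ne (hw : AA w) : w ≠ c0.1 := fun e => isS_ne hw.2 (by rw [e, cc2])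

theorem dual2 (hw : AA w) (i j : ZMod 2) : ∃ e, pl e c0.1 = i ∧ pl e w = j := by
  obtain ⟨d, d1, d2⟩ := exists_perp_one (isS_ne hw.1) hw.ne
  obtain ⟨b, hb⟩ := exists_polar_one c0_ne
  replace d1 : pl d c0.1 = 0 := d1
  replace d2 : pl d w = 1 := (pl_comm _ _).trans d2
  replace hb : pl b c0.1 = 1 := (pl_comm _ _).trans hb
  have k : ∀ (i : ZMod 2) (a c : C), pl (i • a) c = i * pl a c := fun i a c => by
    rcases z2 i with rfl | rfl
    exacts [by rw [zero_smul, pl_zero', zero_mul], by rw [one_smul, one_mul]]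
  exact ⟨i • b + (j + i * pl b w) • d, by rw [pl_add', k, k, hb, d1, mul_one, mul_zero, add_zero], by
    rw [pl_add', k, k, d2, mul_one, add_comm, add_assoc, zz2, add_zero]⟩

theorem dualV {v : C} (h : ¬ Sp2 w v) : ∃ e, V0 w e ∧ pl e v = 1 := by
  by_contra! k
  exact h (perp2 fun a a1 a2 => (z2 _).resolve_right (k a ⟨a1, a2⟩))

theorem Rt.nsp (hw : AA w) {r : C} (h : Rt w r) : ¬ Sp2 w r := fun k => (k.cases hw).elim h.1 h.2.1

theorem Sp2.v0 (hw : AA w) {c : C} (h : Sp2 w c) : V0 w c := by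
  rcases h with rfl | rfl | rfl | rfl
  exacts [V0.zero _, hw.v0c, hw.v0w, hw.v0c.add hw.v0w]

theorem Sp2.of_ec {c d : C} (h : Ec c d) : Sp2 w (c + d) := by
  rcases h with rfl | rfl
  exacts [.inl (cc2 _), .inr (.inl (by rw [add_right_comm, cc2, zero_add]))]

theorem Sp2.ec {c : C} (h : Sp2 w c) : Ec c 0 ∨ Ec c w := by
  rcases h with rfl | rfl | rfl | rfl
  exacts [.inl Ec.rf, .inl (.inr (zero_add _).symm), .inr Ec.rf, .inr (.inr (add_comm _ _))]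

theorem ext_fun2 (hw : AA w) (e : C → ZMod 2) (h : ∀ c d, V0 w c → V0 w d → e (c + d) = e c + e d) :
    ∃ d, ∀ c, V0 w c → e c = pl d c := by
  obtain ⟨b, b1, b2⟩ := dual2 hw 0 1
  have k : ∀ c, pl c c0.1 = 0 → V0 w (c + pl c w • b) := fun c hc => by
    rcases z2 (pl c w) with k | k <;> rw [k]
    · rw [zero_smul, add_zero]; exact ⟨hc, k⟩
    · rw [one_smul]; exact ⟨by rw [pl_add', hc, b1, add_zero], by rw [pl_add', k, b2]; rfl⟩
  obtain ⟨d, hd⟩ := ext_fun (fun c => e (c + pl c w • b)) fun c d hc hd => by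
    rw [← h _ _ (k c hc) (k d hd), pl_add', add_smul, add_add_add_comm]
  exact ⟨d, fun c hc => by simpa [hc.2] using hd c hc.1⟩

theorem triv_of (L : LF eO eD s0) (hw : AA w) {h : G0} (h0 : h • c0.1 = c0.1)
    (e : ∀ c, V0 w c → Ec (h • c) c) : Ac h 1 := by
  refine fix8 L (n := 1) ?_ c0.1 w fun a b a1 a2 b1 b2 => ?_
  · refine fixU L hw.v0c.2 fun c c1 c2 => ?_
    rw [pow_one, sq, mul_smul]
    rcases e c ⟨c1, c2⟩ with k | k
    · rw [k, k]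
    · rw [k, smul_add, k, h0, add_cc]
  · rcases e a ⟨a1, a2⟩ with k | k
    · exact .inl k
    rcases e b ⟨b1, b2⟩ with l | l
    · exact .inr (.inl l)
    · exact .inr (.inr (by rw [smul_add, k, l, add_add_add_comm, cc2, add_zero]))

theorem exE (hw : AA w) : ∃ X : Subgroup G0, (∀ h ∈ X, Fx2 w h ∧ h * h = 1) ∧ ∃ r, Rt w r ∧
    ∀ c, V0 w c → (∀ h ∈ X, Sp2 w (h • c + c)) → Sp2 w c ∨ Sp2 w (c + r) := by
  obtain ⟨g, g1, rfl⟩ := hw.to0
  have g2 := inv_smul_eq_iff.2 g1.symm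
  refine ⟨{ carrier := {h | Fx2 (g • w0) h ∧ ∃ o, h = g * mono 1 o * g⁻¹}
            one_mem' := ⟨Fx2.one _, gc0, by rw [mono_one, mul_one, mul_inv_cancel]⟩
            mul_mem' := ?_
            inv_mem' := ?_ }, ?_, _, rt_Om.smul g1, fun c hc h => ?_⟩
  · rintro _ _ ⟨a, o, rfl⟩ ⟨b, o', rfl⟩
    exact ⟨a.mul b, _, by rw [conj_mul, mono1_mul]⟩
  · rintro _ ⟨a, o, rfl⟩
    exact ⟨a.inv, o, by rw [conj_inv, inv_eq_of_mul_eq_one_right (mono1_sq o)]⟩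
  · rintro _ ⟨a, o, rfl⟩
    exact ⟨a, by rw [conj_mul, mono1_sq, mul_one, mul_inv_cancel]⟩
  · simpa using (fixV (c := g⁻¹ • c) (by simpa using hc.smul g2) fun o ho => by
      simpa [mul_smul] using (h _ ⟨⟨by rw [mul_smul, mul_smul, g2, ho.1, g1],
        by rw [mul_smul, mul_smul, inv_smul_smul, ho.2]⟩, o, rfl⟩).smul g2).imp (·.smul g1) (·.smul g1)

theorem Rel.pow {g : M} {k : GT} (h : Rel p g k) : ∀ n : ℕ, Rel p (g ^ n) (k ^ n)
  | 0 => by simpa using Rel.one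
  | n + 1 => by rw [pow_succ, pow_succ]; exact (h.pow n).mul h

/-- The image in `Co0`. -/
def img (p : ZMod 2 → C → M) (N : Subgroup M) : Subgroup G0 where
  carrier := {h | ∃ g ∈ N, ∃ k, Rel p g k ∧ Ac (co k) h}
  one_mem' := ⟨1, one_mem _, 1, Rel.one, fun c => by rw [map_one]⟩
  mul_mem' := by
    rintro a b ⟨g, g1, k, g2, g3⟩ ⟨g', g1', k', g2', g3'⟩
    exact ⟨_, mul_mem g1 g1', _, g2.mul g2', fun c => by rw [map_mul, mul_smul, mul_smul, g3', g3]⟩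
  inv_mem' := by
    rintro a ⟨g, g1, k, g2, g3⟩
    exact ⟨_, inv_mem g1, _, g2.inv, fun c => by rw [map_inv, inv_smul_eq_iff, g3, smul_inv_smul]⟩

theorem Ac.pow {a b : G0} (h : Ac a b) : ∀ n : ℕ, Ac (a ^ n) (b ^ n)
  | 0 => fun c => by rw [pow_zero, pow_zero]
  | n + 1 => fun c => by rw [pow_succ, pow_succ, mul_smul, mul_smul, h, h.pow n]

theorem Sit.pg_img (H : Sit y p) {N : Subgroup M} (hN : IsPGroup 2 N) : IsPGroup 2 (img p N) := by
  rintro ⟨h, g, g1, k, g2, g3⟩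
  obtain ⟨n, hn⟩ := hN ⟨g, g1⟩
  have e := g2.pow (2 ^ n)
  rw [show g ^ 2 ^ n = 1 from congrArg Subtype.val hn] at e
  refine ⟨n + 1, Subtype.ext ?_⟩
  change h ^ 2 ^ (n + 1) = 1
  rw [pow_succ, pow_mul, pow_two]
  rcases mem_center_G0.1 (center_of_fix (h := h ^ 2 ^ n) fun c => by
    rw [← g3.pow, ← map_pow, (H.rel_uniq e Rel.one c).2, map_one, one_smul]) with l | l <;> rw [l]
  exacts [mul_one _, neg1_mul_self]

/-- The subgroup `C(x, y, u)`. -/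
def P3S (x y u : M) : Subgroup M where
  carrier := {a | P3 x y u a}
  one_mem' := P3.one
  mul_mem' := P3.mul
  inv_mem' := P3.inv

namespace HP
variable {u : M} {ι : M → G} (h : HP x y u ι)
include h

def hom : P3S x y u →* G := MonoidHom.mk' (fun a => ι a) fun a b => h.mul a.2 b.2

theorem one : ι 1 = 1 := map_one h.hom
theorem inv {a : M} (ha : P3 x y u a) : ι a⁻¹ = (ι a)⁻¹ := map_inv h.hom ⟨a, ha⟩
theorem pow {a : M} (ha : P3 x y u a) (n : ℕ) : ι (a ^ n) = ι a ^ n := map_pow h.hom ⟨a, ha⟩ n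
theorem conj {a b : M} (ha : P3 x y u a) (hb : P3 x y u b) : ι (a * b * a⁻¹) = ι a * ι b * (ι a)⁻¹ := by
  rw [h.mul (ha.mul hb) ha.inv, h.mul ha hb, h.inv ha]
theorem ex {a b : M} (ha : P3 x y u a) (hb : P3 x y u b) (e : ι a = ι b) : Ex x a b := by
  have := (h.ker (hb.inv.mul ha)).1 (by rw [h.mul hb.inv ha, h.inv hb, e, inv_mul_cancel])
  exact this.imp (fun k => (inv_mul_eq_one.1 k).symm) inv_mul_eq_iff_eq_mul.1

theorem sur [Finite M] {κ : M → G} (h2 : HP x y u κ)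
    (sub : ∀ a, P3 x y u a → ∃ b, P3 x y u b ∧ κ a = ι b) {b : M} (hb : P3 x y u b) :
    ∃ a, P3 x y u a ∧ κ a = ι b := by
  have : Finite h.hom.range := Finite.of_surjective _ h.hom.rangeRestrict_surjective
  have e : h2.hom.range = h.hom.range := Subgroup.eq_of_le_of_card_ge (by
    rintro _ ⟨a, rfl⟩
    obtain ⟨b, b1, b2⟩ := sub a a.2
    exact ⟨⟨b, b1⟩, b2.symm⟩) (by
    rw [← Subgroup.index_ker, ← Subgroup.index_ker, show h.hom.ker = h2.hom.ker from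
      Subgroup.ext fun a => (h.ker a.2).trans (h2.ker a.2).symm])
  obtain ⟨a, ha⟩ : h.hom ⟨b, hb⟩ ∈ h2.hom.range := e ▸ ⟨_, rfl⟩
  exact ⟨a, a.2, ha⟩

end HP

namespace One
variable (H : One x y p) (hw : AA w)
include H hw

theorem p3_q {t : ZMod 2} {c : C} : P3 x y (p s w) (p t c) ↔ V0 w c :=
  ⟨fun h => ⟨H.cm_x.1 h.1, H.s.cm_iff.1 h.2.2⟩, fun h => ⟨H.cm_x.2 h.1, H.s.cm _ _, H.s.cm_iff.2 h.2⟩⟩

theorem p3_x : P3 x y (p s w) x := H.hx ▸ (H.p3_q hw).2 hw.v0c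

theorem p3_y : P3 x y (p s w) y := H.s.one ▸ (H.p3_q hw).2 (V0.zero _)

theorem fx2 {a : M} {k : GT} (ha : P3 x y (p s w) a) (hk : Rel p a k) : Fx2 w (co k) :=
  ⟨(H.rel_fix hk ha.1).1, (H.s.cm_q hk ha.2.2).1⟩

theorem liftP {h : G0} (e : Fx2 w h) : ∃ a k, Rel p a k ∧ co k = h ∧ P3 x y (p s w) a := by
  obtain ⟨a, k, a1, rfl, a3⟩ := H.liftX e.1
  obtain ⟨d, d1, d2⟩ := dual2 hw 0 (ep k w)
  refine ⟨a * p 0 d, _, a1.mul (H.s.rel_q 0 d), by rw [map_mul, co_qe, mul_one],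
    cm_mul a3 (H.cm_x.2 d1), cm_mul (H.s.rel_cm a1) (H.s.cm _ _), mul_inv_eq_iff_eq_mul.1 ?_⟩
  rw [show a * p 0 d * p s w * (a * p 0 d)⁻¹ = a * (p 0 d * p s w * (p 0 d)⁻¹) * a⁻¹ by group, H.s.cj, a1,
    e.2, d2, add_assoc, zz2, add_zero]

theorem conj3 {a : M} (ha : P3 x y (p s w) a) (t : ZMod 2) {c : C} (hc : V0 w c) :
    ∃ t' d, V0 w d ∧ a * p t c * a⁻¹ = p t' d := by
  obtain ⟨k, hk⟩ := H.s.up a ha.2.1
  exact ⟨_, _, (H.p3_q hw).1 (hk t c ▸ ha.conj ((H.p3_q hw).2 hc)), hk t c⟩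

omit hw in
theorem ex_q {t t' : ZMod 2} {c c' : C} (h : Ex x (p t c) (p t' c')) : Ec c c' ∧ (c = c' → t = t') := by
  rcases h with e | e
  · exact ⟨.inl (H.s.inj e).2, fun _ => (H.s.inj e).1⟩
  · rw [H.mul_x] at e
    exact ⟨.inr (H.s.inj e).2, fun k => (c0_ne (left_eq_add.1 (k.symm.trans (H.s.inj e).2))).elim⟩

/-- The centraliser of `R` modulo `x`. -/
theorem cen3 (L : LF eO eD s0) {a : M} (hx : a * x = x * a)
    (h : ∀ t c, V0 w c → Ex x (a * p t c * a⁻¹) (p t c)) : ∃ t c, a = p t c ∧ Sp2 w c := by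
  have hy := h 1 0 (V0.zero _)
  rw [H.s.one] at hy
  obtain ⟨k, hk⟩ := H.s.up a (mul_inv_eq_iff_eq_mul.1 (H.eq_y (cj_of rfl) (.inr (hy.imp_right
    fun e => .inr e))))
  obtain ⟨t, c, rfl⟩ := H.s.inQ hk (triv_of L hw (H.rel_fix hk hx).1 fun c hc =>
    (H.ex_q (hk 0 c ▸ h 0 c hc)).1)
  refine ⟨t, c, rfl, perp2 fun a a1 a2 => ?_⟩
  have := (H.ex_q (H.s.cj t 0 a c ▸ h 0 a ⟨a1, a2⟩)).2 rfl
  rwa [zero_add, pl_comm] at this

theorem cm_sp {a : M} (ha : P3 x y (p s w) a) (t : ZMod 2) {c : C} (hc : Sp2 w c) :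
    a * p t c = p t c * a := by
  have k : ∀ {c t'}, Commute a (p t' c) → Commute a (p t c) := fun {c t'} h => by
    rcases H.s.or_y t t' c with e | e <;> rw [e]
    exacts [h, h.mul_right ha.2.1]
  rcases hc with rfl | rfl | rfl | rfl
  exacts [k (H.s.one ▸ ha.2.1), k (H.hx ▸ ha.1), k ha.2.2,
    k (H.s.mul 0 _ s _ ▸ Commute.mul_right (H.hx ▸ ha.1) ha.2.2)]

/-- `R` is the largest normal 2-subgroup of `C(x, y, u)`. -/
theorem nrm3 (L : LF eO eD s0) {N : Subgroup M} (hN : IsPGroup 2 N)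
    (h2 : ∀ g ∈ N, P3 x y (p s w) g) (h3 : ∀ a, P3 x y (p s w) a → ∀ g ∈ N, a * g * a⁻¹ ∈ N) {g : M}
    (hg : g ∈ N) : ∃ t c, g = p t c := by
  have fx : ∀ h ∈ img p N, Fx2 w h := fun h ⟨g, g1, k, g2, g3⟩ =>
    ⟨g3 _ ▸ (H.fx2 hw (h2 g g1) g2).1, g3 _ ▸ (H.fx2 hw (h2 g g1) g2).2⟩
  obtain ⟨r, r1, r2⟩ := oddRt hw (H.s.pg_img hN) fun h hh => ⟨(fx h hh).1, .inl (fx h hh).2⟩
  let W : AddSubgroup C :=
    { carrier := {c | V0 w c ∧ ∀ h ∈ img p N, h • c = c}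
      zero_mem' := ⟨V0.zero _, fun _ _ => smul_zero _⟩
      add_mem' := fun a b => ⟨a.1.add b.1, fun h hh => by rw [smul_add, a.2 h hh, b.2 h hh]⟩
      neg_mem' := fun {a} ha => by rwa [neg_eq_iff_add_eq_zero.2 (cc2 a)] }
  obtain ⟨k, hk⟩ := H.s.up g (h2 g hg).2.1
  refine H.s.inQ hk (fixU L hw.v0c.2 fun c c1 c2 => (irrV hw W ⟨hw.v0c, fun h hh => (fx h hh).1⟩
    ⟨hw.v0w, fun h hh => (fx h hh).2⟩ (fun c hc => hc.1) (fun h hh c hc => ⟨hh.2 ▸ hc.1.smul hh.1, ?_⟩)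
    ⟨r1.v0 hw, r2⟩ (r1.nsp hw) ⟨c1, c2⟩).2 _ ⟨g, hg, k, hk, fun _ => rfl⟩)
  rintro l ⟨g, g1, k, g2, g3⟩
  obtain ⟨a, m, a1, rfl, a3⟩ := H.liftP hw (s := s) hh
  have := hc.2 _ ⟨_, h3 _ a3.inv g g1, _, a1.inv.conj g2, fun _ => rfl⟩
  rwa [map_mul, map_mul, inv_inv, map_inv, mul_smul, mul_smul, inv_smul_eq_iff, g3] at this

/-- `C(x, y, u)` has no subgroup of index 2 that contains `x`. -/
theorem perf3 (K : Subgroup M) (h1 : x ∈ K) (h2 : ∀ a, P3 x y (p s w) a → a * a ∈ K) {a : M}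
    (ha : P3 x y (p s w) a) : a ∈ K := by
  have cm : ∀ {a b}, P3 x y (p s w) a → P3 x y (p s w) b → a * b * a⁻¹ * b⁻¹ ∈ K := fun {a b} ha hb => by
    have := mul_mem (mul_mem (h2 a ha) (h2 _ (ha.inv.mul hb))) (h2 _ hb.inv)
    rwa [show a * a * (a⁻¹ * b * (a⁻¹ * b)) * (b⁻¹ * b⁻¹) = a * b * a⁻¹ * b⁻¹ by group] at this
  have hy : y ∈ K := by
    obtain ⟨r, hr⟩ := hw.ex_rt
    obtain ⟨e, e1, e2⟩ := dualV (hr.nsp hw)
    have := cm ((H.p3_q hw (t := 0)).2 e1) ((H.p3_q hw (t := 0)).2 (hr.v0 hw))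
    rwa [H.s.cj, e2, ← H.s.y_mul, mul_inv_cancel_right] at this
  have sg : ∀ {t c} (t'), p t c ∈ K → p t' c ∈ K := fun {t c} t' h => by
    rcases H.s.or_y t' t c with e | e <;> rw [e]
    exacts [h, mul_mem h hy]
  let W : AddSubgroup C :=
    { carrier := {c | p 0 c ∈ K}
      zero_mem' := show p 0 0 ∈ K from H.s.zero.symm ▸ one_mem K
      add_mem' := fun a b => sg 0 (H.s.mul _ _ _ _ ▸ mul_mem a b)
      neg_mem' := fun {a} ha => by rwa [neg_eq_iff_add_eq_zero.2 (cc2 a)] }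
  have h0 : c0.1 ∈ W := show p 0 c0.1 ∈ K from H.hx.symm ▸ h1
  have hR : ∀ t {c}, V0 w c → p t c ∈ K := fun t c hc => sg t (spanA2 hw W h0 (fun a b ha hb => by
    obtain ⟨g, g1, g2⟩ := hb.tr hw ha
    obtain ⟨n, k, n1, rfl, n3⟩ := H.liftP hw (s := s) g1
    have := cm n3 ((H.p3_q hw (t := 0)).2 hb.v0)
    rw [n1, H.s.q_inv, H.s.mul] at this
    replace this : co k • b + b ∈ W := sg 0 this
    rcases g2.symm with e | e <;> rw [e]
    exacts [this, add_right_comm _ b _ ▸ add_mem this h0]) hc)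
  obtain ⟨k, hk⟩ := H.s.up a ha.2.1
  obtain ⟨g, ⟨g1, g0⟩, l, g2, g3⟩ := perfS hw (img p (K ⊓ P3S x y (p s w)))
    ⟨1, one_mem _, 1, Rel.one, fun c => by rw [map_one, one_smul, neg1_smul_C]⟩ (fun h hh => by
      obtain ⟨n, k, n1, rfl, n3⟩ := H.liftP hw (s := s) hh
      exact ⟨_, ⟨h2 n n3, n3.mul n3⟩, _, n1.mul n1, fun _ => by rw [map_mul]⟩) (H.fx2 hw ha hk)
  obtain ⟨t, c, e⟩ := H.s.same g2 hk g3
  exact e ▸ mul_mem g1 (hR t ((H.p3_q hw).1 (by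
    rw [show p t c = g⁻¹ * a by rw [e, inv_mul_cancel_left]]; exact (P3.inv g0).mul ha)))

variable [Finite M] (L : LF eO eD s0) {ι κ : M → G} (h1 : HP x y (p s w) ι) (h2 : HP x y (p s w) κ)
  (sub : ∀ a, P3 x y (p s w) a → ∃ b, P3 x y (p s w) b ∧ κ a = ι b)
include L h1 h2 sub

theorem autY : κ y = ι y ∧ ∀ t c, V0 w c → ∃ t' c', V0 w c' ∧ κ (p t c) = ι (p t' c') := by
  have q := fun t {c} (h : V0 w c) => (H.p3_q hw (s := s) (t := t)).2 h
  let N : Subgroup M :=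
    { carrier := {g | P3 x y (p s w) g ∧ ∃ t c, V0 w c ∧ κ (p t c) = ι g}
      one_mem' := ⟨P3.one, 0, 0, V0.zero _, by rw [H.s.zero, h1.one, h2.one]⟩
      mul_mem' := fun ⟨a, t, c, a1, a2⟩ ⟨b, t', c', b1, b2⟩ => ⟨a.mul b, _, _, a1.add b1, by
        rw [← H.s.mul, h2.mul (q _ a1) (q _ b1), a2, b2, h1.mul a b]⟩
      inv_mem' := fun ⟨a, t, c, a1, a2⟩ => ⟨a.inv, _, _, a1, by
        rw [← H.s.q_inv, h2.inv (q _ a1), a2, h1.inv a]⟩ }
  have h3 : ∀ t c, V0 w c → ∃ t' c', V0 w c' ∧ κ (p t c) = ι (p t' c') := fun t c hc => by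
    obtain ⟨b, b1, b2⟩ := sub _ (q t hc)
    obtain ⟨t', c', rfl⟩ := H.nrm3 hw L (N := N) (pg_of 3 fun g ⟨a, t, c, a1, a2⟩ => by
        rw [pow_succ, pow_mul, sq]
        rcases (h1.ker ((P3S ..).pow_mem a (2 ^ 2))).1 (by
          rw [h1.pow a, ← a2, ← h2.pow (q _ a1), H.s.q4, h2.one]) with e | e <;> rw [e]
        exacts [mul_one _, H.xx]) (fun g hg => hg.1) (fun a ha g ⟨g1, t, c, c1, c2⟩ => by
        obtain ⟨b, b1, b2⟩ := h1.sur h2 sub ha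
        obtain ⟨t', d, d1, d2⟩ := H.conj3 hw b1 t c1
        exact ⟨ha.conj g1, t', d, d1, by rw [← d2, h2.conj b1 (q _ c1), h1.conj ha g1, b2, c2]⟩)
      ⟨b1, t, c, hc, b2⟩
    exact ⟨t', c', (H.p3_q hw).1 b1, b2⟩
  refine ⟨?_, h3⟩
  obtain ⟨r, hr⟩ := hw.ex_rt
  obtain ⟨e, e1, e2⟩ := dualV (hr.nsp hw)
  obtain ⟨t, u, u1, u2⟩ := h3 0 e e1
  obtain ⟨t', v, v1, v2⟩ := h3 0 r (hr.v0 hw)
  have k := h2.conj (q 0 e1) (q 0 (hr.v0 hw))
  rw [H.s.cj, e2, ← H.s.mul_y, h2.mul (q 0 (hr.v0 hw)) (H.p3_y hw), u2, v2, ← h1.conj (q _ u1) (q _ v1),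
    H.s.cj] at k
  rcases z2 (pl u v) with l | l <;> rw [l] at k
  · rw [add_zero, mul_eq_left] at k
    exact (((h2.ker (H.p3_y hw)).1 k).elim H.s.y_ne H.y_ne_x).elim
  · rw [← H.s.mul_y, h1.mul (q _ v1) (H.p3_y hw)] at k
    exact mul_left_cancel k

theorem autL (hu : κ (p s w) = ι (p s w)) : ∃ h : G0, h • c0.1 = c0.1 ∧ Ec (h • w) w ∧
    ∀ c, V0 w c → ∃ t, κ (p 0 c) = ι (p t (h • c)) := by
  have q := fun t {c} (h : V0 w c) => (H.p3_q hw (s := s) (t := t)).2 h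
  obtain ⟨hy, h3⟩ := H.autY hw L h1 h2 sub
  choose! e f hf he using h3 0
  have hs : ∀ t c, V0 w c → κ (p t c) = ι (p (e c + t) (f c)) := fun t c hc => by
    rcases z2 t with rfl | rfl
    · rw [add_zero, he c hc]
    · rw [← zero_add 1, ← H.s.mul_y, h2.mul (q _ hc) (H.p3_y hw), he c hc, hy,
        ← h1.mul (q _ (hf c hc)) (H.p3_y hw), H.s.mul_y, zero_add]
  have ex := fun {t t' c c'} (a : V0 w c) (b : V0 w c') (e : ι (p t c) = ι (p t' c')) =>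
    H.ex_q (h1.ex (q t a) (q t' b) e)
  have add : ∀ c d, V0 w c → V0 w d → Ec (f (c + d)) (f c + f d) := fun c d hc hd => by
    have := h2.mul (q 0 hc) (q 0 hd)
    rw [H.s.mul, hs _ _ (hc.add hd), he c hc, he d hd, ← h1.mul (q _ (hf c hc)) (q _ (hf d hd)),
      H.s.mul] at this
    exact (ex (hf _ (hc.add hd)) ((hf c hc).add (hf d hd)) this).1
  have inj : ∀ c, V0 w c → Ec (f c) 0 → Ec c 0 := fun c hc k => by
    obtain ⟨t, ht⟩ : ∃ t, ι (p t (f c)) = 1 := by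
      rcases k with k | k <;> rw [k]
      exacts [⟨0, by rw [H.s.zero, h1.one]⟩, ⟨0, by
        rw [zero_add, H.hx]; exact (h1.ker (H.p3_x hw)).2 (.inr rfl)⟩]
    have := hs (e c + t) c hc
    rw [← add_assoc, zz2, zero_add, ht, ← h2.one, ← H.s.zero] at this
    exact (H.ex_q (h2.ex (q _ hc) (q _ (V0.zero _)) this)).1
  have f0 : Ec (f c0.1) 0 := by
    have := he _ hw.v0c
    rw [H.hx, (h2.ker (H.p3_x hw)).2 (.inr rfl), ← h1.one, ← H.s.zero] at this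
    exact (ex (V0.zero _) (hf _ hw.v0c) this).1.symm
  have fw : Ec (f w) w := (ex (hf _ hw.v0w) hw.v0w ((hs s w hw.v0w).symm.trans hu)).1
  have fe : ∀ {c d}, V0 w d → Ec c d → Ec (f c) (f d) := by
    rintro c d hd (rfl | rfl)
    exacts [Ec.rf, (add _ _ hd hw.v0c).trans (by simpa using Ec.rf.add f0)]
  have eqv : ∀ {a b k l c}, P3 x y (p s w) a → P3 x y (p s w) b → κ a = ι b → Rel p a k → Rel p b l →
      V0 w c → Ec (f (co k • c)) (co l • f c) := fun {a b k l c} ha hb e ka lb hc => by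
    have := h2.conj ha (q 0 hc)
    have v : V0 w (co k • c) := (H.fx2 hw ha ka).2 ▸ hc.smul (H.fx2 hw ha ka).1
    rw [ka, hs _ _ v, e, he c hc, ← h1.conj hb (q _ (hf c hc)), lb] at this
    exact (ex (hf _ v) ((H.fx2 hw hb lb).2 ▸ (hf c hc).smul (H.fx2 hw hb lb).1) this).1
  have eqv' : ∀ {g}, Fx2 w g → ∃ g', Fx2 w g' ∧ ∀ {c}, V0 w c → Ec (f (g • c)) (g' • f c) :=
    fun {g} hg => by
      obtain ⟨a, k, a1, rfl, a3⟩ := H.liftP hw (s := s) hg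
      obtain ⟨b, b1, b2⟩ := sub a a3
      obtain ⟨l, hl⟩ := H.s.up b b1.2.1
      exact ⟨_, H.fx2 hw b1 hl, eqv a3 b1 b2 a1 hl⟩
  obtain ⟨a0, a1, a2⟩ : ∃ a, An w a ∧ (An w (f a) ∨ An w (f a + w)) := by
    obtain ⟨X, X1, r0, r1, X2⟩ := exE hw
    let N : Subgroup M :=
      { carrier := {a | P3 x y (p s w) a ∧ ∃ b, P3 x y (p s w) b ∧ κ a = ι b ∧
          ∃ l, Rel p b l ∧ co l ∈ X}
        one_mem' := ⟨P3.one, 1, P3.one, h2.one.trans h1.one.symm, 1, Rel.one, map_one co ▸ one_mem X⟩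
        mul_mem' := fun ⟨a, b, b1, b2, l, l1, l2⟩ ⟨a', b', b1', b2', l', l1', l2'⟩ =>
          ⟨a.mul a', _, b1.mul b1', by rw [h2.mul a a', h1.mul b1 b1', b2, b2'], _, l1.mul l1',
            map_mul co _ _ ▸ mul_mem l2 l2'⟩
        inv_mem' := fun ⟨a, b, b1, b2, l, l1, l2⟩ =>
          ⟨a.inv, _, b1.inv, by rw [h2.inv a, h1.inv b1, b2], _, l1.inv, map_inv co _ ▸ inv_mem l2⟩ }
    obtain ⟨r, r2, r3⟩ := oddRt hw (H.s.pg_img (N := N) (pg_of 4 fun g ⟨a, b, b1, b2, l, l1, l2⟩ => by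
        obtain ⟨t, c, e⟩ := H.s.inQ (l1.mul l1) fun c => by rw [map_mul, (X1 _ l2).2]
        rw [pow_succ, pow_mul, sq]
        rcases (h2.ker ((P3S ..).pow_mem a (2 ^ 3))).1 (by
          rw [h2.pow a, b2, ← h1.pow b1, pow_succ', pow_mul, sq b, e, H.s.q4, h1.one]) with e | e <;>
          rw [e]
        exacts [mul_one _, H.xx]))
      fun h ⟨g, g1, k, g2, g3⟩ => ⟨g3 _ ▸ (H.fx2 hw g1.1 g2).1, .inl (g3 _ ▸ (H.fx2 hw g1.1 g2).2)⟩
    have v := r2.v0 hw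
    have k := (X2 _ (hf r v) fun h hh => by
      obtain ⟨b, l, b1, rfl, b3⟩ := H.liftP hw (s := s) (X1 h hh).1
      obtain ⟨a, a1, a2⟩ := h1.sur h2 sub b3
      obtain ⟨k, hk⟩ := H.s.up a a1.2.1
      have := eqv a1 b3 a2 hk b1 v
      rw [r3 _ ⟨a, ⟨a1, b, b3, a2, l, b1, hh⟩, k, hk, fun _ => rfl⟩] at this
      exact Sp2.of_ec this.symm).resolve_left fun k => r2.nsp hw (by
        rcases k.ec with k | k
        · simpa using Sp2.of_ec (w := w) (inj r v k)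
        · rcases inj _ (v.add hw.v0w) ((add _ _ v hw.v0w).trans (cc2 w ▸ k.add fw)) with l | l
          · exact .inr (.inr (.inl (add_eq_zero_C.1 l)))
          · exact .inr (.inr (.inr (by rw [← zero_add c0.1, ← l, add_assoc, cc2, add_zero]))))
    have e1 := (add _ _ v hw.v0w).trans (Ec.rf.add fw)
    refine ⟨_, r2.an hw, k.ec.imp (fun l => (r1.an hw).ec hw (Ec.symm (e1.trans ?_)))
      fun l => (r1.an hw).ec hw (Ec.symm ((e1.add Ec.rf).trans ?_))⟩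
    · have := l.add (Ec.rf (a := r0 + w))
      rwa [zero_add, add_assoc, ← add_assoc r0, cc2, zero_add] at this
    · have := l.add (Ec.rf (a := r0))
      rw [add_assoc, cc2, add_zero, add_comm w] at this
      rwa [add_assoc, cc2, add_zero]
  have all : ∀ {d : C}, (∀ g, Fx2 w g → g • d = d) → An w (f a0 + d) → ∀ a, An w a → An w (f a + d) :=
    fun {d} hd h a ha => by
      obtain ⟨g, g1, g2⟩ := a1.tr hw ha
      obtain ⟨g', k1, k2⟩ := eqv' g1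
      have := h.smul k1.1
      rw [k1.2, smul_add, hd _ k1] at this
      exact this.ec hw (((fe ha.v0 g2).symm.trans (k2 a1.v0)).symm.add Ec.rf)
  obtain ⟨h, k1, k2⟩ := LRB hw f add hf inj f0 fw (fun c d hc hd => by
      have := h2.conj (q 0 hc) (q 0 hd)
      rw [H.s.cj, hs _ _ hd, he c hc, he d hd, ← h1.conj (q _ (hf c hc)) (q _ (hf d hd)), H.s.cj,
        zero_add] at this
      exact (add_left_cancel ((ex (hf d hd) (hf d hd) this).2 rfl)).symm) (by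
      rcases a2 with k | k
      · simpa using all (d := 0) (fun _ _ => smul_zero _) (by simpa using k)
      · obtain ⟨a, b, t1, t2, t3⟩ := hw.tri
        have m := all (fun _ hg => hg.2) k
        have m3 := (m _ t3).1.ec (b := f a + w + (f b + w)) (by
          have := (((add _ _ (t1.v0.add t2.v0) hw.v0w).trans ((add _ _ t1.v0 t2.v0).add fw)).add
            (Ec.rf (a := w)))
          rwa [add_assoc (f a + f b), ← add_add_add_comm] at this)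
        exact (no_tri (m _ t1).1.1 (m _ t1).1.2 (m _ t2).1.1 (m _ t2).1.2 m3.1 m3.2).elim)
  refine ⟨h, k1, (k2 w hw.v0w).symm.trans fw, fun c hc => ?_⟩
  rcases (k2 c hc).symm with l | l <;> rw [he c hc, l]
  · exact ⟨_, rfl⟩
  · exact ⟨_, by rw [← H.mul_x, h1.mul (q _ (hf c hc)) (H.p3_x hw), (h1.ker (H.p3_x hw)).2 (.inr rfl),
      mul_one]⟩

/-- Rigidity of `C(x, y, u) / x`. -/
theorem autP (hu : κ (p s w) = ι (p s w)) : ∃ n, n * x = x * n ∧ n * y = y * n ∧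
    Ex x (n * p s w * n⁻¹) (p s w) ∧ ∀ a, P3 x y (p s w) a → κ a = ι (n * a * n⁻¹) := by
  have q := fun t {c} (h : V0 w c) => (H.p3_q hw (s := s) (t := t)).2 h
  obtain ⟨hy, -⟩ := H.autY hw L h1 h2 sub
  obtain ⟨h, k1, k2, k3⟩ := H.autL hw L h1 h2 sub hu
  choose! e he using k3
  have v : ∀ {c}, V0 w c → V0 w (h • c) := fun hc => (hc.smul k1).ec k2
  have hs : ∀ t c, V0 w c → κ (p t c) = ι (p (e c + t) (h • c)) := fun t c hc => by
    rcases z2 t with rfl | rfl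
    · rw [add_zero, he c hc]
    · rw [← zero_add 1, ← H.s.mul_y, h2.mul (q _ hc) (H.p3_y hw), he c hc, hy,
        ← h1.mul (q _ (v hc)) (H.p3_y hw), H.s.mul_y, zero_add]
  obtain ⟨a, k, a1, rfl, a3⟩ := H.liftX k1
  have a2 := H.s.rel_cm a1
  obtain ⟨d, hd⟩ := ext_fun2 hw (fun c => e c + ep k c) fun c d hc hd => by
    have := h2.mul (q 0 hc) (q 0 hd)
    rw [H.s.mul, hs _ _ (hc.add hd), he c hc, he d hd, ← h1.mul (q _ (v hc)) (q _ (v hd)), H.s.mul,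
      ← smul_add] at this
    have := (H.ex_q (h1.ex (q _ (v (hc.add hd))) (q _ (v (hc.add hd))) this)).2 rfl
    rw [ep_add]
    linear_combination this + zz2 (bb (co k • c) (co k • d))
  have d0 : pl d c0.1 = 0 := by
    have := he _ hw.v0c
    rw [H.hx, (h2.ker (H.p3_x hw)).2 (.inr rfl), k1, ← (h1.ker (H.p3_x hw)).2 (.inr rfl), ← H.hx] at this
    rw [← hd _ hw.v0c, (H.rel_fix a1 a3).2, add_zero,
      ← (H.ex_q (h1.ex (q _ hw.v0c) (q _ hw.v0c) this)).2 rfl]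
  set n := a * p 0 d with hn
  have nx : n * x = x * n := cm_mul a3 (H.cm_x.2 d0)
  have ny : n * y = y * n := cm_mul a2 (H.s.cm _ _)
  have nq : ∀ t c, n * p t c * n⁻¹ = p (t + pl d c + ep k c) (co k • c) := fun t c => by
    rw [show n * p t c * n⁻¹ = a * (p 0 d * p t c * (p 0 d)⁻¹) * a⁻¹ by rw [hn]; group, H.s.cj, a1]
  have hR : ∀ t c, V0 w c → κ (p t c) = ι (n * p t c * n⁻¹) := fun t c hc => by
    rw [hs t c hc, nq, ← hd c hc, add_assoc, add_assoc, zz2, add_zero, add_comm]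
  have nu : Ex x (n * p s w * n⁻¹) (p s w) :=
    h1.ex (nq s w ▸ q _ (v hw.v0w)) (q _ hw.v0w) ((hR s w hw.v0w).symm.trans hu)
  have nP : ∀ {g}, P3 x y (p s w) g → P3 x y (p s w) (n * g * n⁻¹) := fun {g} hg => by
    refine ⟨cm_conj nx hg.1, cm_conj ny hg.2.1, ?_⟩
    have c1 : Commute (n * g * n⁻¹) (n * p s w * n⁻¹) := by
      rw [Commute, SemiconjBy, conj_mul, conj_mul, hg.2.2]
    rcases nu with e | e <;> rw [e] at c1
    · exact c1
    · have := c1.mul_right (cm_conj nx hg.1)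
      rwa [mul_assoc (p s w), H.xx, mul_one] at this
  let K : Subgroup M :=
    { carrier := {g | P3 x y (p s w) g ∧ κ g = ι (n * g * n⁻¹)}
      one_mem' := ⟨P3.one, by rw [mul_one, mul_inv_cancel, h1.one, h2.one]⟩
      mul_mem' := fun ⟨a1, a2⟩ ⟨b1, b2⟩ => ⟨a1.mul b1, by
        rw [h2.mul a1 b1, a2, b2, ← h1.mul (nP a1) (nP b1), conj_mul]⟩
      inv_mem' := fun ⟨a1, a2⟩ => ⟨a1.inv, by rw [h2.inv a1, a2, ← h1.inv (nP a1), conj_inv]⟩ }
  refine ⟨n, nx, ny, nu, fun g hg => (H.perf3 hw K ⟨H.p3_x hw, ?_⟩ (fun g hg => ⟨hg.mul hg, ?_⟩) hg).2⟩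
  · rw [nx, mul_inv_cancel_right, (h1.ker (H.p3_x hw)).2 (.inr rfl), (h2.ker (H.p3_x hw)).2 (.inr rfl)]
  obtain ⟨b, b1, b2⟩ := sub g hg
  have dP := (nP hg).inv.mul b1
  obtain ⟨t, c, e1, e2⟩ := H.cen3 hw L dP.1 fun t c hc => by
    obtain ⟨t', c', hc', e⟩ : ∃ t' c', V0 w c' ∧ n * p t' c' * n⁻¹ = p t c :=
      ⟨t + pl d ((co k)⁻¹ • c) + ep k ((co k)⁻¹ • c), (co k)⁻¹ • c, by
        have g2 := inv_smul_eq_iff.2 k1.symm
        exact (hc.smul g2).ec (by simpa using (k2.smul g2).symm), by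
        rw [nq, smul_inv_smul]
        congr 1
        linear_combination zz2 (pl d ((co k)⁻¹ • c)) + zz2 (ep k ((co k)⁻¹ • c))⟩
    obtain ⟨t2, c2, u1, u2⟩ := H.conj3 hw hg t' hc'
    have e1 := hR t2 c2 u1
    rw [← u2, h2.conj hg (q _ hc'), hR _ _ hc', e, b2, show n * (g * p t' c' * g⁻¹) * n⁻¹ =
      n * g * n⁻¹ * p t c * (n * g * n⁻¹)⁻¹ by rw [← e]; group, h1.conj (nP hg) (q _ hc)] at e1
    refine h1.ex (dP.conj (q _ hc)) (q _ hc) ?_
    rw [h1.conj dP (q _ hc), h1.mul (nP hg).inv b1, h1.inv (nP hg),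
      show ∀ A B T : G, A⁻¹ * B * T * (A⁻¹ * B)⁻¹ = A⁻¹ * (B * T * B⁻¹) * A from fun _ _ _ => by group, e1]
    group
  rw [h2.mul hg hg, b2, ← h1.mul b1 b1, inv_mul_eq_iff_eq_mul.1 e1, ← conj_mul, mul_assoc _ (p t c),
    ← mul_assoc (p t c), ← H.cm_sp hw (nP hg) t e2, mul_assoc _ (p t c), H.s.sq0 t
      ((e2.cases hw).elim (fun e => e ▸ bb_zero_left _) bb_isS), mul_one]

end One

end H10.Mon.MG
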