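import Mathlib
import Cfsg.Agent.H19.MG12

/-!
# Uniqueness of the Monster: definitions
-/

set_option autoImplicit false
set_option linter.all false

namespace H10.Mon.MG

/-- Equal modulo `Om`. -/
def Eo (a b : C) : Prop := a = b ∨ a = b + Om

theorem Eo.rfl {a : C} : Eo a a := .inl (Eq.refl _)

theorem add_OO (a : C) : a + Om + Om = a := by rw [add_assoc, cc2, add_zero]

theorem Eo.symm {a b : C} : Eo a b → Eo b a := by
  rintro (rfl | rfl)
  exacts [.inl (Eq.refl _), .inr (add_OO _).symm]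

theorem Eo.trans {a b c : C} : Eo a b → Eo b c → Eo a c := by
  rintro (rfl | rfl) (rfl | rfl)
  exacts [.inl (Eq.refl _), .inr (Eq.refl _), .inr (Eq.refl _), .inl (add_OO _)]

theorem Eo.add {a b c d : C} : Eo a b → Eo c d → Eo (a + c) (b + d) := by
  rintro (rfl | rfl) (rfl | rfl)
  exacts [.inl (Eq.refl _), .inr (add_assoc _ _ _).symm, .inr (add_right_comm _ _ _),
    .inl (by rw [add_add_add_comm, cc2, add_zero])]

theorem Eo.smul {h : G0} (hh : h ∈ N0) {a b : C} : Eo a b → Eo (h • a) (h • b) := by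
  rintro (rfl | rfl)
  exacts [.inl (Eq.refl _), .inr (by rw [smul_add, fix_Om.2 hh])]

variable {G G' : Type*} [Group G] [Group G']

/-- The coordinates seen from the conjugate. -/
abbrev vw (q : ZMod 2 → C → G) (γ : G) : ZMod 2 → C → G := fun t c => γ * q t c * γ⁻¹

/-- The same action on both extraspecial groups. -/
def Th (q : ZMod 2 → C → G) (γ : G) (q' : ZMod 2 → C → G') (γ' : G') (g : G) (g' : G') : Prop :=
  ∃ k l, Rel q g k ∧ Rel q' g' k ∧ Rel (vw q γ) g l ∧ Rel (vw q' γ') g' l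

/-- The centralisers of the four-groups correspond. -/
structure Amg (x y : G) (q : ZMod 2 → C → G) (γ : G) (x' y' : G') (q' : ZMod 2 → C → G') (γ' : G') :
    Prop where
  two : Two x y q γ
  two' : Two x' y' q' γ'
  tot : ∀ g', g' * y' = y' * g' → g' * q' 0 Om = q' 0 Om * g' → ∃ g, Th q γ q' γ' g g'
  q0 : ∀ t c, c.1 11 = 0 → Th q γ q' γ' (q t c) (q' t c)
  q1 : ∀ t c, c.1 11 = 0 → Th q γ q' γ' (vw q γ t c) (vw q' γ' t c)

/-- An isomorphism `C(y') → C(y)` that respects the coordinates. -/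
structure Ph (q : ZMod 2 → C → G) (y' : G') (q' : ZMod 2 → C → G') (φ : G' → G) : Prop where
  mul : ∀ {a b}, a * y' = y' * a → b * y' = y' * b → φ (a * b) = φ a * φ b
  rel : ∀ {a k}, Rel q' a k → Rel q (φ a) k
  hq : ∀ t c, φ (q' t c) = q t c

/-- A neighbour of `y`. -/
def Nb (y : G) (q : ZMod 2 → C → G) (b : G) : Prop := ∃ h, h * y = y * h ∧ h * q 0 Om * h⁻¹ = b

/-- `b'` lies in the extraspecial groups of `y` and of the neighbour `b`. -/
def Ad (y : G) (q : ZMod 2 → C → G) (b b' : G) : Prop :=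
  ∃ h t d, h * y = y * h ∧ h * q 0 Om * h⁻¹ = b ∧ d.1 = 0 ∧ h * q t d * h⁻¹ = b'

/-- Compatible homomorphisms on the centralisers of `y'` and of its neighbours. -/
structure Fam (q : ZMod 2 → C → G) (y' : G') (q' : ZMod 2 → C → G') (Φ : G' → G' → G) : Prop where
  mul : ∀ {b a a'}, b = y' ∨ Nb y' q' b → a * b = b * a → a' * b = b * a' →
    Φ b (a * a') = Φ b a * Φ b a'
  hq : ∀ t c, Φ y' (q' t c) = q t c
  ad0 : ∀ {b a}, Nb y' q' b → a * b = b * a → a * y' = y' * a → Φ b a = Φ y' a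
  ad : ∀ {b b' a}, Ad y' q' b b' → Nb y' q' b' → a * b = b * a → a * b' = b' * a → Φ b a = Φ b' a

variable {x y : G} {q : ZMod 2 → C → G} {γ : G} {x' y' : G'} {q' : ZMod 2 → C → G'} {γ' : G'}

theorem Th.mul {a b : G} {a' b' : G'} :
    Th q γ q' γ' a a' → Th q γ q' γ' b b' → Th q γ q' γ' (a * b) (a' * b') :=
  fun ⟨_, _, a1, a2, a3, a4⟩ ⟨_, _, b1, b2, b3, b4⟩ =>
    ⟨_, _, a1.mul b1, a2.mul b2, a3.mul b3, a4.mul b4⟩

theorem Th.inv {a : G} {a' : G'} : Th q γ q' γ' a a' → Th q γ q' γ' a⁻¹ a'⁻¹ :=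
  fun ⟨_, _, a1, a2, a3, a4⟩ => ⟨_, _, a1.inv, a2.inv, a3.inv, a4.inv⟩

theorem Th.one : Th q γ q' γ' 1 1 := ⟨1, 1, Rel.one, Rel.one, Rel.one, Rel.one⟩

theorem Rel.congr {g : G} {k l : GT} (h : Rel q g k)
    (e : ∀ c, ep k c = ep l c ∧ co k • c = co l • c) : Rel q g l := fun t c => by
  rw [h, (e c).1, (e c).2]

/-- Elements with the same action differ by `1` or `y`. -/
theorem Sit.eq_or (H : Sit y q) {a b : G} {k : GT} (ha : Rel q a k) (hb : Rel q b k) :
    b = a ∨ b = a * y := by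
  have := H.cent (a⁻¹ * b) fun t c => by
    have := (ha.inv.mul hb) t c
    rwa [inv_mul_cancel, ep_one, map_one, one_smul, add_zero, mul_inv_eq_iff_eq_mul] at this
  exact this.imp (fun h => (inv_mul_eq_one.1 h).symm) fun h => inv_mul_eq_iff_eq_mul.1 h

theorem Sit.rel_y (H : Sit y q) {a : G} {k : GT} (ha : Rel q a k) : Rel q (a * y) k := fun t c => by
  rw [← ha, mul_inv_rev, mul_assoc a, ← H.cm, H.y_inv]
  simp only [mul_assoc]
  rw [← mul_assoc y, H.yy, one_mul]

/-- `y` does not act trivially on the second extraspecial group. -/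
theorem Two.not_rel (H : Two x y q γ) {l : GT} (h : Rel (vw q γ) y l) (h' : Rel (vw q' γ') 1 l)
    (H' : Two x' y' q' γ') : False := by
  obtain ⟨c, hc⟩ := exists_polar_one Om_ne_zero
  have a := (H'.view.s.rel_uniq h' Rel.one c).1
  have r := H.view.s.rel_q 0 Om
  rw [H.gO] at r
  have b := (H.view.s.rel_uniq h r c).1
  rw [a, ep_one, ep_qe] at b
  exact zero_ne_one (b.trans hc)

/-- `Th` is the graph of a function. -/
theorem Th.uniq (H : Two x y q γ) (H' : Two x' y' q' γ') {a b : G} {a' : G'}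
    (ha : Th q γ q' γ' a a') (hb : Th q γ q' γ' b a') : a = b := by
  obtain ⟨k, l, h1, h2, h3, h4⟩ := ha.inv.mul hb
  rw [inv_mul_cancel] at h2 h4
  rcases H.s.eq_or Rel.one (h1.congr (H'.s.rel_uniq h2 Rel.one)) with e | e
  · exact inv_mul_eq_one.1 e
  · rw [one_mul] at e
    exact (H.not_rel (e ▸ h3) h4 H').elim

end H10.Mon.MG
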