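import Mathlib
import Cfsg.Agent.H19.Z0
import Cfsg.Agent.H19.MG3

/-!
# Uniqueness of the Monster: three facts on the monomial group
-/

set_option autoImplicit false
set_option linter.all false
set_option maxRecDepth 100000

namespace H10.Mon.MG

open Cfsg H9 H29 H10.Mon.LFt H11.M24I
open scoped symmDiff Pointwise

namespace Z1

theorem perf24 : commutator M24 = ⊤ := by
  haveI := simple_M24
  refine (Subgroup.Normal.eq_bot_or_eq_top inferInstance).resolve_left fun h => ?_
  haveI : IsMulCommutative M24 := ⟨⟨fun a b => commutatorElement_eq_one_iff_mul_comm.1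
    (Subgroup.mem_bot.1 (h ▸ Subgroup.commutator_mem_commutator (Subgroup.mem_top a)
      (Subgroup.mem_top b)))⟩⟩
  have := Group.is_simple_iff_prime_card.1 simple_M24
  rw [card_M24] at this
  norm_num at this

theorem oct {m : ℕ} (h : isCw m = true ∧ H9.pc m = 8) : ofMask m ∈ octads := by
  refine ⟨mem_GC_of_isCw h.1, ?_⟩
  rw [card_ofMask, h.2]

noncomputable def it (k : ℕ) : ℕ → Bool :=
  Nat.rec (fun _ => false)
    (fun _ ih n => ou (SH.testBit n) (lit (Nat.xor n (apC (lt 0).C n)) ih)) k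

theorem chk0 : treeAll (fun n => ou (Nat.beq n 0) (ou (Nat.beq n 2048) (it 20 n))) 12 0 = true := by
  decide +kernel

theorem chk1 : treeAll (fun v => ou (Nat.beq v 0) (H9.anyL [17, 26] fun j =>
    lit (Nat.shiftLeft v 12) fun n => it 20 (Nat.xor n (apC (lt j).C n)))) 11 0 = true := by
  decide +kernel

theorem chk2 : ∀ j ∈ [0, 17, 26], dec (apC (lt j).C 2048) = dec 2048 := by decide +kernel

theorem chk3 : ∀ j ∈ [17, 26], ∀ i : Fin 12, fmN (lt j).C (2 ^ (i : ℕ)) = true := by decide +kernel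

theorem memN {j : ℕ} (h : j ∈ [0, 17, 26]) : co (gl j) ∈ N0 :=
  fix_Om.1 (by rw [← dec_Om, ← (gl_cols j).ap, chk2 j h])

end Z1

open Z1

/-- `N0` is perfect. -/
theorem perfN0 (K : Subgroup G0) (h : ∀ a ∈ N0, ∀ b ∈ N0, a * b * a⁻¹ * b⁻¹ ∈ K) : N0 ≤ K := by
  have k : ∀ {a b : ℕ} (ha : isCw a = true ∧ H9.pc a = 8) (hb : isCw b = true ∧ H9.pc b = 8),
      mono 1 ⟨_, symmDiff_mem_GC (oct ha).1 (oct hb).1⟩ ∈ K := fun {a b} ha hb => by
    obtain ⟨σ, hσ, e⟩ := M24_trans_octads (oct ha) (oct hb)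
    have := h _ (mono_mem_N0 1 ⟨_, (oct ha).1⟩) _ (perm_mem ⟨σ, hσ⟩)
    rw [mono_one_inv, mul_assoc (mono _ _), perm_mul_mono, mul_assoc, mul_inv_cancel_right,
      mono_one_mul] at this
    simpa only [e] using this
  have k1 := k (a := 13062145) (b := 4845570) (by decide +kernel) (by decide +kernel)
  have k2 := k (a := 5329044) (b := 2101096) (by decide +kernel) (by decide +kernel)
  refine N0_le ?_ (fun c hc => ?_) ⟨_, .inl ?_, k1⟩
  · have := mul_mem k1 k2
    rw [mono_one_mul] at this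
    rw [neg1_eq]
    convert this using 3
    simp only [← ofMask_xor]
    exact (Finset.eq_univ_of_card _ (by rw [card_ofMask, card_P]; decide +kernel)).symm
  · have hc' : H9.pm c ∈ M24 := cl_g24 ▸ Subgroup.subset_closure ⟨c, hc, rfl⟩
    refine ⟨⟨_, hc'⟩, rfl, ?_⟩
    have : commutator M24 ≤ K.comap permHom := Subgroup.commutator_le.2 fun a _ b _ => by
      rw [Subgroup.mem_comap, map_commutatorElement]
      exact h _ (perm_mem a) _ (perm_mem b)
    exact this (perf24 ▸ Subgroup.mem_top _)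
  · simp only [← ofMask_xor]
    rw [card_ofMask]; decide +kernel

/-- Invariant subspaces of `Om^⊥`. -/
theorem invU (W : AddSubgroup C) (h0 : Om ∈ W) (h1 : ∀ h ∈ N0, ∀ c ∈ W, h • c ∈ W) {c : C}
    (hc : c ∈ W) (e : c.1 11 = 0) (n0 : c ≠ 0) (n1 : c ≠ Om) {d : C} (hd : d.1 = 0) : d ∈ W := by
  have st : ∀ j ∈ [0, 17, 26], ∀ c ∈ W, c + co (gl j) • c ∈ W := fun j hj c hc =>
    add_mem hc (h1 _ (memN hj) c hc)
  have k : ∀ m n, dec n ∈ W → it m n = true → d ∈ W := fun m => by
    induction m with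
    | zero => exact fun _ _ h => absurd h Bool.false_ne_true
    | succ m ih =>
      intro n hn h
      rcases ou_true.1 h with h | h
      · refine span_sh0 W (fun a ha => ?_) hd
        have s := sh0_of h
        obtain ⟨g, g1, g2⟩ := trans_N0 (c := toS _ s.1) (d := toS a ha.1) (by simp [s.2, ha.2])
          (by simp [s.2, ha.2])
        exact (show g • dec n = a from congrArg Subtype.val g2) ▸ h1 g g1 _ hn
      · exact ih _ (by
          rw [show Nat.xor n _ = n ^^^ _ from rfl, dec_xor, (gl_cols 0).ap]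
          exact st 0 (by simp) _ hn) h
  obtain ⟨n, hn, rfl⟩ := dec_surj c
  have b : (n >>> 12).testBit 11 = false := by
    rw [dec_fst] at e
    by_contra h
    exact absurd ((if_pos (by simpa using h)).symm.trans e) one_ne_zero
  have lt : n >>> 12 < 2 ^ 11 := Nat.lt_pow_two_of_testBit _ fun i hi => by
    rcases hi.eq_or_lt with rfl | hi
    · exact b
    · rw [Nat.testBit_shiftRight]
      exact Nat.testBit_lt_two_pow (hn.trans_le (Nat.pow_le_pow_right (by norm_num) (by omega)))
  rcases ou_true.1 ((treeAll_iff _ _).1 chk1 _ lt) with h | h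
  · have := (treeAll_iff _ _).1 chk0 n (by
      have := H29.beq_true.1 h
      rw [Nat.shiftRight_eq_div_pow] at this
      omega)
    simp only [ou_true, H29.beq_true] at this
    rcases this with rfl | rfl | h
    exacts [(n0 dec_zero).elim, (n1 dec_Om).elim, k _ _ hc h]
  · obtain ⟨j, hj, h⟩ := (anyL_iff _ _).1 h
    rw [lit_eq] at h
    refine k _ _ ?_ h
    generalize hm : Nat.shiftLeft (n >>> 12) 12 = m
    have a : (dec n + dec m).1 = 0 := by
      rw [← dec_xor]
      refine fst_zero (H29.beq_true.2 ?_)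
      change (n ^^^ m) >>> 12 = 0
      rw [Nat.shiftRight_xor_distrib, ← hm]
      change _ ^^^ (n >>> 12 <<< 12) >>> 12 = 0
      rw [Nat.shiftLeft_shiftRight, Nat.xor_self]
    let ψ : C →+ C := AddMonoidHom.id C + DistribSMul.toAddMonoidHom C (co (gl j))
    have e2 : ∀ i : Fin 12, ((0, Pi.single i 1) : C) = dec (2 ^ (i : ℕ)) := by decide +kernel
    have := C_basis ((W.comap ψ).comap ((AddMonoidHom.inr K K).comp (AddMonoidHom.snd K K)))
      (fun i => zero_mem (W.comap ψ)) (fun i => by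
        change ((0, Pi.single i 1) : C) + co (gl j) • ((0, Pi.single i 1) : C) ∈ W
        rw [e2]
        rcases (fmN_iff (gl_cols j)).1 (chk3 j hj i) with h | h <;> rw [h]
        · rw [cc2]; exact zero_mem _
        · rwa [← add_assoc, cc2, zero_add]) (dec n + dec m)
    change ψ (0, (dec n + dec m).2) ∈ W at this
    rw [← a, map_add] at this
    rw [show Nat.xor m _ = m ^^^ _ from rfl, dec_xor, (gl_cols j).ap]
    exact (W.add_mem_cancel_left (st j (List.mem_cons_of_mem _ hj) _ hc)).1 this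

theorem fixW {h : G0} (e : ∀ c : C, c.1 = 0 → h • c = c) : Ac h 1 := by
  obtain ⟨σ, o, rfl⟩ := mem_N0_iff.1 (fix_Om.1 (e _ Om_fst))
  obtain rfl := perm_one fun c hc => .inl (e c hc.2)
  have k : ∀ {s : G0} {S : List ℕ} (n : ℕ), Cols s S → Nat.beq (Nat.shiftRight n 12) 0 = true →
      dec (apC S n) ≠ dec n → ¬ ∃ u ∈ N0, Ac (u * mono 1 o * u⁻¹) s := fun n hs hn h ⟨u, hu, k⟩ => h (by
    rw [hs.ap, ← k, mul_smul, mul_smul, e _ (fst_smul_zero (inv_mem hu) (fst_zero hn)), smul_inv_smul])
  exact (red_one o).resolve_right fun h => h.elim (k 3 cO rfl (by decide +kernel))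
    (k 5 cD rfl (by decide +kernel))

end H10.Mon.MG
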