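import Mathlib
import Cfsg.Agent.H19.Z1

set_option autoImplicit false
set_option linter.all false

namespace H10.Mon.MG

open Subgroup

variable {G : Type*} [Group G] {y : G} {q : ZMod 2 → C → G}

theorem z3_perp {e c : C} (h : ∀ d, pl d c = 0 → pl e d = 0) : e = 0 ∨ e = c := by
  by_cases hc : c = 0
  · exact .inl (polar_nondeg fun d => h d (by rw [hc, pl_zero]))
  obtain ⟨b, hb⟩ := exists_polar_one hc
  have hb : pl b c = 1 := (pl_comm _ _).trans hb
  have k : ∀ d, pl d c = 1 → pl e d = pl e b := fun d hd => by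
    have := h (d + b) (by rw [pl_add', hd, hb]; rfl)
    rw [pl_add] at this
    linear_combination this - zz2 (pl e b)
  rcases z2 (pl e b) with a | a
  · refine .inl (polar_nondeg fun d => ?_)
    rcases z2 (pl d c) with a' | a'
    exacts [h d a', (k d a').trans a]
  · refine .inr (add_eq_zero_C.1 (polar_nondeg fun d => (pl_add' e c d).trans ?_))
    rw [pl_comm c]
    rcases z2 (pl d c) with a' | a'
    · rw [h d a', a', add_zero]
    · rw [k d a', a, a']; rfl

theorem z3_one {e c : C} (h0 : e ≠ 0) (h1 : e ≠ c) : ∃ d, pl d c = 0 ∧ pl e d = 1 := by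
  by_contra hc
  push Not at hc
  exact (z3_perp fun d hd => (z2 _).resolve_right (hc d hd)).elim h0 h1

theorem z3_card (c : C) : 2 ^ 23 ≤ Nat.card {d : C // pl d c = 0} := by
  let f : C →+ ZMod 2 := AddMonoidHom.mk' (fun d => pl d c) fun a b => pl_add' a b c
  have h1 := f.ker.index_mul_card
  have h2 := AddSubgroup.card_addSubgroup_dvd_card f.range
  rw [AddSubgroup.index_ker, card_C] at h1
  rw [Nat.card_zmod] at h2
  have h3 := Nat.le_of_dvd two_pos h2
  change _ ≤ Nat.card f.ker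
  nlinarith

theorem Sit.z3_cm (H : Sit y q) {s t : ZMod 2} {c d : C} :
    q s d * q t c = q t c * q s d ↔ pl d c = 0 := by
  rw [← mul_inv_eq_iff_eq_mul, H.cj]
  exact ⟨fun h => by simpa using (H.inj h).1, fun h => by rw [h, add_zero]⟩

/-- Two extraspecial groups, the centre of the second inside the first, meet in a large subgroup. -/
theorem Sit.z3_key [Finite G] (H : Sit y q) {z : G} {p : ZMod 2 → C → G} (H' : Sit z p) {t : ZMod 2}
    {c : C} (e : q t c = z) :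
    ∃ s1 c1 s2 c2, q s1 c1 = p s2 c2 ∧ c1 ≠ 0 ∧ c1 ≠ c ∧ pl c1 c = 0 := by
  by_contra hn
  push Not at hn
  let P : Subgroup G := H.Q ⊓ centralizer {z}
  obtain ⟨κ, hκ⟩ := H'.kappa P fun a ha => mem_centralizer_singleton_iff.1 ha.2
  have c0 : 2 ^ 24 ≤ Nat.card P := by
    have := Nat.card_le_card_of_injective
      (fun a : ZMod 2 × {d : C // pl d c = 0} => (⟨q a.1 a.2.1, ⟨_, _, rfl⟩,
        mem_centralizer_singleton_iff.2 (e ▸ H.z3_cm.2 a.2.2)⟩ : P)) fun a b h =>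
      Prod.ext (H.inj (Subtype.mk.inj h)).1 (Subtype.ext (H.inj (Subtype.mk.inj h)).2)
    rw [Nat.card_prod, Nat.card_zmod] at this
    have := z3_card c
    omega
  have c1 : Nat.card κ.ker ≤ 4 := by
    choose s d f using fun g : κ.ker => g.1.2.1
    have k : ∀ g, d g = 0 ∨ d g = c := fun g => by
      obtain ⟨s2, c2, h⟩ := hκ g.1 g.2
      by_contra hc
      push Not at hc
      exact hn _ _ _ _ ((f g).symm.trans h) hc.1 hc.2
        (H.z3_cm.1 (by rw [← f g, e]; exact mem_centralizer_singleton_iff.1 g.1.2.2))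
    have := Nat.card_le_card_of_injective (fun g => ((s g, d g = 0) : ZMod 2 × Prop)) fun a b h => by
      obtain ⟨h1, h2⟩ := Prod.mk.inj h
      refine Subtype.ext (Subtype.ext ?_)
      rw [f, f, h1]
      by_cases h0 : d a = 0
      · rw [h0, show d b = 0 from h2 ▸ h0]
      · rw [(k a).resolve_left h0, (k b).resolve_left (h2 ▸ h0)]
    rwa [Nat.card_prod, Nat.card_zmod, Nat.card_eq_fintype_card (α := Prop), Fintype.card_prop] at this
  obtain ⟨m, hm⟩ := IsPGroup.iff_card.1 ((H.pgQ.to_le (inf_le_left (b := centralizer {z}))).of_surjective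
    κ.rangeRestrict κ.rangeRestrict_surjective)
  have c2 := card_subgroup_dvd_card κ.range
  rw [card_Co1, hm] at c2
  have c3 : m ≤ 21 := not_lt.1 fun h => absurd ((pow_dvd_pow 2 h).trans c2) (by norm_num)
  have c4 := Nat.pow_le_pow_right two_pos c3
  rw [← κ.ker.index_mul_card, index_ker, hm] at c0
  nlinarith

/-- Symmetry of the relation `b ∈ Q`, for two coordinate systems. -/
theorem Sit.z3_sym [Finite G] (H : Sit y q) {z : G} {p : ZMod 2 → C → G} (H' : Sit z p) {t : ZMod 2}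
    {c : C} (e : q t c = z) : ∃ s d, y = p s d := by
  obtain ⟨s1, c1, s2, c2, h, h0, h1, -⟩ := H.z3_key H' e
  obtain ⟨d, d1, d2⟩ := z3_one h0 h1
  obtain ⟨k, hk⟩ := H'.up (q 0 d) (e ▸ H.z3_cm.2 d1)
  have := hk s2 c2
  rw [← h, H.cj, pl_comm, d2, ← H.y_mul, h, ← eq_mul_inv_iff_mul_eq, H'.q_inv, H'.mul] at this
  exact ⟨_, _, this⟩

theorem Sit.z3_liftX (H : Sit y q) {h : G0} (e : h • c0.1 = c0.1) :
    ∃ a k, Rel q a k ∧ co k = h ∧ a * q 0 c0.1 = q 0 c0.1 * a := by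
  obtain ⟨k, rfl, hk⟩ := exists_lift (τ := tau) e
  obtain ⟨a, ha⟩ := H.down k
  refine ⟨a, k, ha, rfl, mul_inv_eq_iff_eq_mul.1 ?_⟩
  rw [ha, (rho_mem_HH.1 hk).1, e, add_zero]

theorem Sit.z3_nrm (H : Sit y q) {x : G} (hx : q 0 c0.1 = x) {N : Subgroup G}
    (h1 : ∀ g ∈ N, g ^ 4 = 1) (h2 : ∀ g ∈ N, g * x = x * g ∧ g * y = y * g)
    (h3 : ∀ a, a * x = x * a → a * y = y * a → ∀ g ∈ N, a * g * a⁻¹ ∈ N) {g : G} (hg : g ∈ N) :
    ∃ t c, g = q t c := by
  let M : Subgroup (MulAction.stabilizer G0 vU') :=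
    { carrier := {h | ∃ g ∈ N, ∃ k, Rel q g k ∧ Ac (co k) h.1}
      one_mem' := ⟨1, one_mem _, 1, Rel.one, fun c => by rw [map_one]; rfl⟩
      mul_mem' := by
        rintro a b ⟨g, g1, k, g2, g3⟩ ⟨g', g1', k', g2', g3'⟩
        exact ⟨_, mul_mem g1 g1', _, g2.mul g2', fun c => by
          rw [map_mul, Subgroup.coe_mul, mul_smul, mul_smul, g3', g3]⟩
      inv_mem' := by
        rintro a ⟨g, g1, k, g2, g3⟩
        exact ⟨_, inv_mem g1, _, g2.inv, fun c => by
          rw [map_inv, Subgroup.coe_inv, inv_smul_eq_iff, g3, smul_inv_smul]⟩ }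
  have hM : M.Normal := ⟨by
    rintro h ⟨g, g1, k, g2, g3⟩ a
    obtain ⟨b, l, b1, b2, b3⟩ := H.z3_liftX (fix_c0.2 (.inl a.2))
    exact ⟨_, h3 b (hx ▸ b3) (H.rel_cm b1) g g1, _, b1.conj g2, by
      rw [map_mul, map_mul, map_inv, b2]; exact g3.conj _⟩⟩
  haveI := simple_C2'
  rcases hM.eq_bot_or_eq_top with e | e
  · obtain ⟨k, hk⟩ := H.up g (h2 g hg).2
    refine H.inQ hk ?_
    rcases fix_c0.1 (H.cm_q hk (hx ▸ (h2 g hg).1)).1 with h | h
    · have : (⟨co k, h⟩ : MulAction.stabilizer G0 vU') ∈ M := ⟨g, hg, k, hk, fun _ => rfl⟩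
      rw [e, Subgroup.mem_bot] at this
      rw [show co k = 1 from congrArg Subtype.val this]
      exact fun _ => rfl
    · have : (⟨neg1 * co k, by rw [MulAction.mem_stabilizer_iff, mul_smul, h, neg1_smul, neg_neg]⟩ :
          MulAction.stabilizer G0 vU') ∈ M :=
        ⟨g, hg, k, hk, fun _ => by rw [mul_smul, neg1_smul_C]⟩
      rw [e, Subgroup.mem_bot] at this
      intro c
      rw [← show neg1 * co k = 1 from congrArg Subtype.val this, mul_smul, neg1_smul_C]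
  · exfalso
    obtain ⟨g0, hg⟩ := std32 vU' norm_vU'
    haveI := Fact.mk Nat.prime_three
    obtain ⟨h, hh⟩ := exists_prime_orderOf_dvd_card' (G := MulAction.stabilizer G0 vU') 3 (by
      rw [(simple_card_transport g0 C2 (MulAction.stabilizer G0 vU') (fun a => by
        rw [MulAction.mem_stabilizer_iff, MulAction.mem_stabilizer_iff, ← hg, conj_fix_iff])
        simple_C2 card_C2).2]; norm_num)
    obtain ⟨g, g1, k, g2, g3⟩ : h ∈ M := e ▸ Subgroup.mem_top _
    have : ∀ m : ℕ, Rel q (g ^ m) (k ^ m) ∧ Ac (co (k ^ m)) (h ^ m).1 := fun m => by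
      induction m with
      | zero => exact ⟨by simpa using Rel.one, fun c => by simp⟩
      | succ m ih => exact ⟨by rw [pow_succ, pow_succ]; exact ih.1.mul g2, fun c => by
          rw [pow_succ, pow_succ, map_mul, Subgroup.coe_mul, mul_smul, mul_smul, g3, ih.2]⟩
    obtain ⟨a, b⟩ := this 4
    rw [h1 g g1] at a
    refine (show ¬ 3 ∣ 4 by norm_num) (hh ▸ orderOf_dvd_of_pow_eq_one ?_)
    rcases mem_center_G0.1 (center_of_fix fun d => by
      rw [← b, (H.rel_uniq a Rel.one d).2, map_one, one_smul]) with e | e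
    · exact Subtype.ext e
    · have := (h ^ 4).2
      rw [MulAction.mem_stabilizer_iff, e, neg1_smul] at this
      exact (leechEL.ne_neg (x := vU') (fun e => by
        have := norm_vU'; rw [e] at this; simp [Cfsg.sqNorm] at this) this.symm).elim

theorem Sit.z3_bb (H : Sit y q) {s : ZMod 2} {c : C} (h : q s c * q s c = 1) : bb c c = 0 := by
  rw [H.sq, ← H.zero] at h
  exact (H.inj h).1

theorem z3_orb {c : C} (h : IsS c) : (MulAction.orbit G0 c).ncard = 98280 := by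
  rw [show MulAction.orbit G0 c = {c | IsS c} from Set.ext fun d => ⟨fun ⟨g, e⟩ =>
    e ▸ h.smul g, fun hd => (trans_S (toS c h) (toS d hd)).imp fun g e => congrArg Subtype.val e⟩,
    ncard_isS]

/-- The centre of another extraspecial group is not a short element. -/
theorem Sit.z3_nc [Finite G] (H : Sit y q) {z : G} {p : ZMod 2 → C → G} (H' : Sit z p) {t : ZMod 2}
    {c : C} (e : q t c = z) : ¬ IsS c := fun hc => by
  obtain ⟨s, d, f⟩ := H.z3_sym H' e
  have zy : z ≠ y := fun h => isS_ne hc (H.inj (e.trans (h.trans H.one.symm))).2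
  have d0 : d ≠ 0 := by
    rintro rfl
    rcases H'.q0 s with h | h <;> rw [h] at f
    exacts [H.y_ne f, zy f.symm]
  have hd : IsS d := by
    by_contra hd
    obtain ⟨h, rfl⟩ := typ4 d0 (H'.z3_bb (f ▸ H.yy)) hd
    have a := H.cardK t (isS_ne hc)
    have b := H'.cardK s d0
    rw [e, z3_orb hc] at a
    rw [← f, MulAction.orbit_smul, ncard_orbit_Om, inf_comm] at b
    omega
  obtain ⟨a, a1, a2⟩ := H'.trS s 0 hd (isS_val c0)
  have V := H'.view a⁻¹
  rw [(show Commute a z from a1).inv_left.eq, mul_inv_cancel_right] at V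
  have k : ∀ b, pl b c = 0 → ∃ u w, q 0 b = a⁻¹ * p u w * a⁻¹⁻¹ := fun b hb =>
    V.z3_nrm (x := y) (by rw [← a2, f]; group) (N := H.Q ⊓ centralizer {z})
      (by rintro _ ⟨⟨u, w, rfl⟩, -⟩; exact H.q4 _ _)
      (by rintro _ ⟨⟨u, w, rfl⟩, h⟩; exact ⟨H.cm _ _, mem_centralizer_singleton_iff.1 h⟩)
      (by
        rintro g g1 g2 _ ⟨⟨u, w, rfl⟩, h⟩
        obtain ⟨k, hk⟩ := H.up g g1
        have g2 := mem_centralizer_singleton_iff.2 g2
        exact mem_inf.2 ⟨⟨_, _, hk u w⟩, mul_mem (mul_mem g2 h) (inv_mem g2)⟩)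
      ⟨⟨_, _, rfl⟩, mem_centralizer_singleton_iff.2 (e ▸ H.z3_cm.2 hb)⟩
  obtain ⟨-, c1, -, -, -, h0, h1, h2⟩ := H.z3_key H' e
  obtain ⟨b, b1, b2⟩ := z3_one h0 h1
  obtain ⟨u, w, r⟩ := k c1 h2
  obtain ⟨u', w', r'⟩ := k b b1
  have h3 := H.cj 0 0 b c1
  rw [b2, ← H.y_mul, r, r', V.cj] at h3
  rcases V.or_y (u' + pl w w') u' w' with h | h <;> beta_reduce at h <;> rw [h] at h3
  · exact H.y_ne (mul_right_cancel (h3.symm.trans (one_mul _).symm))
  · rw [V.cm] at h3
    exact zy (mul_right_cancel h3)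

/-- The intersection of the two extraspecial groups. -/
theorem Sit.z3_half [Finite G] (H : Sit y q) {z : G} {p : ZMod 2 → C → G} (H' : Sit z p)
    (e : q 0 Om = z) : (∀ c, c.1 = 0 → ∀ s, ∃ t d, q s c = p t d) ∧
      ∀ s c t d, q s c = p t d → c.1 = 0 := by
  obtain ⟨s0, d0, f⟩ := H.z3_sym H' e
  have zy : z ≠ y := fun h => Om_ne_zero (H.inj (e.trans (h.trans H.one.symm))).2
  have sg : ∀ {s c t d}, q s c = p t d → ∀ s, ∃ t d, q s c = p t d := fun {s c t d} h s' => by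
    rcases H.or_y s' s c with a | a
    exacts [⟨_, _, a.trans h⟩, ⟨_, _, by rw [a, h, f, H'.mul]⟩]
  have a : ∀ c, c.1 = 0 → ∀ s, ∃ t d, q s c = p t d := fun c hc => by
    obtain ⟨s1, c1, s2, c2, h, h0, h1, h2⟩ := H.z3_key H' e
    exact invU
      { carrier := {c | ∀ s, ∃ t d, q s c = p t d}
        zero_mem' := sg (H.zero.trans H'.zero.symm)
        add_mem' := fun {a b} ha hb => by
          obtain ⟨t, d, h1⟩ := ha 0
          obtain ⟨t', d', h2⟩ := hb 0
          exact sg (by rw [← H.mul, h1, h2, H'.mul])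
        neg_mem' := fun {a} ha => by rwa [neg_eq_iff_add_eq_zero.2 (cc2 a)] }
      (sg (e.trans H'.one.symm)) (fun h hh c hc => by
        obtain ⟨a, k, a1, rfl, a2⟩ := H.liftN hh
        obtain ⟨l, hl⟩ := H'.up a (e ▸ a2)
        obtain ⟨t, d, h1⟩ := hc 0
        exact sg (by rw [← a1, h1, hl])) (sg h) ((pl_Om _).symm.trans h2) h0 h1 hc
  refine ⟨a, fun s c t d h => funext fun j => ?_⟩
  obtain ⟨t', d', h'⟩ := a (0, Pi.single j 1) rfl 0
  have h3 := H.cj 0 s c (0, Pi.single j 1)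
  have h4 : pl (0, Pi.single j 1) c = c.1 j := by simp [pl, bb]
  rw [h4] at h3
  refine (z2 _).resolve_right fun h5 => ?_
  rw [h5, ← H.y_mul, h, h', H'.cj] at h3
  rcases H'.or_y (t + pl d' d) t d with h | h <;> rw [h] at h3
  · exact H.y_ne (mul_right_cancel (h3.symm.trans (one_mul _).symm))
  · rw [H'.cm] at h3
    exact zy (mul_right_cancel h3)

/-- Conjugacy in the centraliser of the four-group. -/
theorem Sit.z3_trN (H : Sit y q) (s t : ZMod 2) {c : C} (h0 : c ≠ 0) (h1 : c ≠ Om) {h : G0}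
    (hh : h ∈ N0) : ∃ a, a * y = y * a ∧ a * q 0 Om = q 0 Om * a ∧ a * q s c * a⁻¹ = q t (h • c) := by
  obtain ⟨a, k, ha, rfl, a2⟩ := H.liftN hh
  rcases z2_or t (s + ep k c) with rfl | rfl
  · exact ⟨a, H.rel_cm ha, a2, ha s c⟩
  · obtain ⟨d, d1, d2⟩ := z3_one h0 h1
    refine ⟨a * q 0 d, H.rel_cm (ha.mul (H.rel_q 0 d)), by
      rw [mul_assoc, H.z3_cm.2 d1, ← mul_assoc, a2, mul_assoc], ?_⟩
    calc _ = a * (q 0 d * q s c * (q 0 d)⁻¹) * a⁻¹ := by group
      _ = _ := by rw [H.cj, ha, pl_comm, d2, add_right_comm]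

/-- Symmetry of the relation `b ∈ Q`. -/
theorem Sit.symQ [Finite G] (H : Sit y q) {g : G} {t : ZMod 2} {c : C}
    (e : g * y * g⁻¹ = q t c) : ∃ s d, y = g * q s d * g⁻¹ :=
  H.z3_sym (H.view g) e.symm

theorem Sit.two_of [Finite G] (H : Sit y q) {g : G} {t : ZMod 2} {c : C} (hc : c ≠ 0)
    (e : g * y * g⁻¹ = q t c) : ∃ γ, Two (q 0 c0.1) y q γ := by
  have nc : ∀ {g t c}, g * y * g⁻¹ = q t c → ¬ IsS c := fun {g t c} e => H.z3_nc (H.view g) e.symm
  have k : ∀ {g t c}, c ≠ 0 → g * y * g⁻¹ = q t c → ∃ a, a * y = y * a ∧ a * q 0 Om * a⁻¹ = q t c :=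
    fun {g t c} hc e => by
      obtain ⟨h, rfl⟩ := typ4 hc (H.z3_bb (by rw [← e, conj_mul, H.yy]; group)) (nc e)
      exact H.tr 0 t Om_ne_zero h
  obtain ⟨a, a1, a2⟩ := k hc e
  have e1 : a⁻¹ * g * y * (a⁻¹ * g)⁻¹ = q 0 Om := by
    rw [← mul_left_cancel_iff (a := a), ← mul_right_cancel_iff (a := a⁻¹), a2, ← e]; group
  generalize a⁻¹ * g = g1 at e1
  obtain ⟨s, d, e2⟩ := H.symQ e1
  obtain ⟨b, b1, b2⟩ := k (g := g1⁻¹) (t := s) (c := d) (by
    rintro rfl
    rcases H.q0 s with h | h <;> rw [h] at e2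
    · exact H.y_ne (e2.trans (by group))
    · exact Om_ne_zero (H.inj (e1.symm.trans (e2.symm.trans H.one.symm))).2)
    (by conv_lhs => rw [e2]
        group)
  have gy : g1 * b * y * (g1 * b)⁻¹ = q 0 Om := by rw [← e1, mul_assoc g1, b1]; group
  have gO : g1 * b * q 0 Om * (g1 * b)⁻¹ = y := by
    conv_rhs => rw [e2, ← b2]
    group
  generalize g1 * b = γ at gy gO
  have V := H.view γ
  rw [gy] at V
  obtain ⟨u, w, e3⟩ := (H.z3_half V rfl).1 _ c0_fst 0
  have w0 := (V.z3_half H gO).2 _ _ _ _ e3.symm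
  have nx : ¬ IsConj (q 0 c0.1) y := fun h => by
    obtain ⟨n, hn⟩ := isConj_iff.1 h.symm
    exact nc hn (isS_val c0)
  have ws : IsS w := by
    by_contra hw
    have w1 : w ≠ 0 := by
      rintro rfl
      rcases H.q0 u with h | h <;> rw [h] at e3
      · exact isS_ne (isS_val c0) (H.inj (e3.trans (by rw [H.zero]; group))).2
      · exact nx (cj_of e3.symm).symm
    obtain ⟨h, rfl⟩ := typ4 w1 (V.z3_bb (s := u) (by
      beta_reduce; rw [← e3]; exact H.sq0 0 (bb_S c0))) hw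
    obtain ⟨n, -, hn⟩ := H.tr 0 u Om_ne_zero h
    exact nx (((cj_of gy).trans ((cj_of hn).trans (cj_of e3.symm))).symm)
  obtain ⟨h, hh, e4⟩ := trans_N0 (c := c0) (d := toS w ws) (by simp [c0_fst, w0]) (by simp [c0_fst, w0])
  obtain ⟨n, n1, n2, n3⟩ := H.z3_trN 0 u (isS_ne (isS_val c0)) (S_ne_Om c0) hh
  rw [show h • c0.1 = w from congrArg Subtype.val e4] at n3
  refine ⟨γ * n, H, rfl, nx, ?_, ?_, ?_⟩
  · conv_rhs => rw [e3, ← n3]
    group
  · rw [← gy, mul_assoc γ, n1]; group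
  · rw [mul_assoc γ, n2, ← gO]; group

end H10.Mon.MG
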