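import Mathlib
import Cfsg.Agent.H19.Asm

/-! The homomorphism `SL₂(K) → ⟨X_r, X_{-r}⟩`. -/

set_option autoImplicit false

namespace H19
open Cfsg Cfsg.Lie H20 Matrix
open scoped MatrixGroups

section sl2
variable {K : Type*} [Field K]

/-- the upper unitriangular matrix -/
def slU (t : K) : SL(2, K) := ⟨!![1, t; 0, 1], by simp [det_fin_two]⟩
/-- the lower unitriangular matrix -/
def slL (t : K) : SL(2, K) := ⟨!![1, 0; t, 1], by simp [det_fin_two]⟩
/-- the Weyl element -/
def slW : SL(2, K) := ⟨!![0, 1; -1, 0], by simp [det_fin_two]⟩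

theorem coe_slU (t : K) : (slU t).1 = !![1, t; 0, 1] := rfl
theorem coe_slL (t : K) : (slL t).1 = !![1, 0; t, 1] := rfl
theorem coe_slW : (slW : SL(2, K)).1 = !![0, 1; -1, 0] := rfl
theorem sl_mul (a b : SL(2, K)) : (a * b).1 = a.1 * b.1 := rfl
theorem sl_one : (1 : SL(2, K)).1 = 1 := rfl

theorem sl_det (g : SL(2, K)) : g 0 0 * g 1 1 - g 0 1 * g 1 0 = 1 := by
  have := g.det_coe; rwa [det_fin_two] at this

theorem slL_eq (t : K) : slL t = slW * slU (-t) * (slW * slW * slW) := by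
  apply Subtype.ext
  simp only [sl_mul, coe_slL, coe_slU, coe_slW]
  ext i j; fin_cases i <;> fin_cases j <;> simp

theorem sl2_induction {P : SL(2, K) → Prop} (hU : ∀ t, P (slU t)) (hW : P slW)
    (hmul : ∀ a b, P a → P b → P (a * b)) (g : SL(2, K)) : P g := by
  have hL : ∀ t, P (slL t) := fun t => by
    rw [slL_eq]; exact hmul _ _ (hmul _ _ hW (hU _)) (hmul _ _ (hmul _ _ hW hW) hW)
  have key : ∀ g : SL(2, K), g 1 0 ≠ 0 → P g := by
    intro g hc
    have hd := sl_det g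
    have : g = slU ((g 0 0 - 1) / g 1 0) * slL (g 1 0) * slU ((g 1 1 - 1) / g 1 0) := by
      apply Subtype.ext
      simp only [sl_mul, coe_slL, coe_slU]
      ext i j; fin_cases i <;> fin_cases j <;> simp <;> field_simp
      · ring
      · linear_combination -hd
      · ring
    rw [this]; exact hmul _ _ (hmul _ _ (hU _) (hL _)) (hU _)
  by_cases hc : g 1 0 = 0
  · have h1 : g = (slW * slW * slW) * (slW * g) := by
      have : (slW * slW * slW * slW : SL(2, K)) = 1 := by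
        apply Subtype.ext
        simp only [sl_mul, coe_slW, sl_one]
        ext i j; fin_cases i <;> fin_cases j <;> simp
      rw [← mul_assoc, this, one_mul]
    rw [h1]
    refine hmul _ _ (hmul _ _ (hmul _ _ hW hW) hW) (key _ ?_)
    have hd := sl_det g
    rw [hc] at hd
    have : g 0 0 ≠ 0 := fun h => by simp [h] at hd
    simpa [sl_mul, coe_slW, mul_apply, Fin.sum_univ_two] using this
  · exact key g hc

end sl2

section abstract
variable {ι Λ : Type} [LinearOrder ι] [Fintype Λ] [DecidableEq Λ] {R : RS ι Λ} {K : Type*} [Field K]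
    {G : Type*} [Group G]

open Classical in
/-- the map `SL₂(K) → G` given by the Bruhat normal form -/
noncomputable def sl2Fun (X : SRG R K G) (r : ι) (g : SL(2, K)) : G :=
  if g 1 0 = 0 then X.x r (g 0 0 * g 0 1) * X.h r (g 0 0)
  else X.x r (g 0 0 / g 1 0) * X.n r (-(g 1 0)⁻¹) * X.x r (g 1 1 / g 1 0)

variable (X : SRG R K G) (r : ι)

theorem h_mul_x {c : K} (hc : c ≠ 0) (u : K) : X.h r c * X.x r u = X.x r (c ^ 2 * u) * X.h r c := by
  have := X.h_conj_x r r hc u
  rw [R.A_self] at this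
  rw [← mul_inv_eq_iff_eq_mul, this]; norm_cast

theorem n_mul_h {t c : K} (ht : t ≠ 0) (hc : c ≠ 0) : X.n r t * X.h r c = X.n r (t / c) := by
  have := X.n_mul_n r (neg_ne_zero.2 ht) (div_ne_zero ht hc)
  rw [show -(-t * (t / c)⁻¹) = c by field_simp] at this
  rw [← this, ← X.n_inv, mul_inv_cancel_left]

theorem sl2Fun_U (t : K) (g : SL(2, K)) : sl2Fun X r (slU t * g) = X.x r t * sl2Fun X r g := by
  have hd := sl_det g
  unfold sl2Fun
  have e1 : (slU t * g) 1 0 = g 1 0 := by simp [sl_mul, coe_slU, mul_apply, Fin.sum_univ_two]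
  have e2 : (slU t * g) 1 1 = g 1 1 := by simp [sl_mul, coe_slU, mul_apply, Fin.sum_univ_two]
  have e3 : (slU t * g) 0 0 = g 0 0 + t * g 1 0 := by simp [sl_mul, coe_slU, mul_apply, Fin.sum_univ_two]
  have e4 : (slU t * g) 0 1 = g 0 1 + t * g 1 1 := by simp [sl_mul, coe_slU, mul_apply, Fin.sum_univ_two]
  rw [e1, e2, e3, e4]
  split_ifs with hc
  · rw [hc] at hd ⊢
    rw [← mul_assoc, X.x_mul_x, mul_zero, add_zero]
    congr 2
    linear_combination t * hd
  · rw [← mul_assoc, ← mul_assoc, X.x_mul_x]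
    congr 3
    field_simp
    ring

theorem sl2Fun_W (hη : X.η r r = -1) (g : SL(2, K)) : sl2Fun X r (slW * g) = X.n r 1 * sl2Fun X r g := by
  have hd := sl_det g
  unfold sl2Fun
  have e1 : (slW * g : SL(2, K)) 1 0 = -g 0 0 := by simp [sl_mul, coe_slW, mul_apply, Fin.sum_univ_two]
  have e2 : (slW * g : SL(2, K)) 1 1 = -g 0 1 := by simp [sl_mul, coe_slW, mul_apply, Fin.sum_univ_two]
  have e3 : (slW * g : SL(2, K)) 0 0 = g 1 0 := by simp [sl_mul, coe_slW, mul_apply, Fin.sum_univ_two]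
  have e4 : (slW * g : SL(2, K)) 0 1 = g 1 1 := by simp [sl_mul, coe_slW, mul_apply, Fin.sum_univ_two]
  rw [e1, e2, e3, e4]
  generalize g 0 0 = a at *
  generalize g 0 1 = b at *
  generalize g 1 0 = c at *
  generalize g 1 1 = d at *
  by_cases hc : c = 0
  · subst hc
    have ha : a ≠ 0 := fun h => by simp [h] at hd
    rw [if_neg (neg_ne_zero.2 ha), if_pos rfl, show a * b = a ^ 2 * (b / a) by field_simp, ← h_mul_x X r ha,
      ← mul_assoc, n_mul_h X r one_ne_zero ha]
    simp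
  · rw [if_neg hc]
    by_cases ha : a = 0
    · subst ha
      rw [if_pos neg_zero, zero_div, X.x_zero, one_mul, ← mul_assoc,
        X.n_mul_n r one_ne_zero (by simpa using hc), show -(1 * (-c⁻¹)⁻¹) = c by simp, h_mul_x X r hc]
      congr 2
      field_simp
    · rw [if_neg (neg_ne_zero.2 ha)]
      have h1 := X.conj_n r r 1 (a / c) one_ne_zero
      rw [hη, R.rf_self, _root_.one_zpow] at h1
      have h2 : X.x (R.neg r) (-1 * 1 * (a / c)) = X.x r (-(c / a)) * X.n r (c / a) * X.x r (-(c / a)) := by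
        rw [WRG.n, ← X.x_inv]
        simp [mul_assoc]
      have h3 : X.n r 1 * X.n r (-c⁻¹) = X.h r c := by
        rw [X.n_mul_n r one_ne_zero (by simpa using hc), show -(1 * (-c⁻¹)⁻¹) = c by simp]
      have h4 : X.x r (-(c / a)) * X.h r c = X.h r c * X.x r (-(c * a)⁻¹) := by
        rw [h_mul_x X r hc]; congr 2; field_simp
      calc X.x r (c / -a) * X.n r (-(-a)⁻¹) * X.x r (-b / -a)
          = X.x r (-(c / a)) * X.n r (c / a / c) * X.x r (-(c * a)⁻¹ + d / c) := by
            rw [show c / -a = -(c / a) by field_simp, show -(-a)⁻¹ = c / a / c by field_simp,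
              show -b / -a = -(c * a)⁻¹ + d / c by field_simp; linear_combination -hd]
        _ = X.x r (-(c / a)) * X.n r (c / a) * (X.x r (-(c / a)) * X.h r c) * X.x r (d / c) := by
            rw [h4, ← n_mul_h X r (div_ne_zero hc ha) hc, X.x_add]; group
        _ = _ := by rw [← h3, ← mul_assoc, ← h2, ← h1]; group

theorem sl2Fun_one : sl2Fun X r 1 = 1 := by simp [sl2Fun, X.h_one]

/-- the homomorphism `SL₂(K) → G` -/
noncomputable def sl2Hom (hη : X.η r r = -1) : SL(2, K) →* G :=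
  MonoidHom.mk' (sl2Fun X r) fun a => by
    refine sl2_induction (P := fun a => ∀ b, sl2Fun X r (a * b) = sl2Fun X r a * sl2Fun X r b) ?_ ?_ ?_ a
    · intro t b; rw [sl2Fun_U, ← mul_one (slU t), sl2Fun_U, sl2Fun_one, mul_one]
    · intro b; rw [sl2Fun_W X r hη, ← mul_one slW, sl2Fun_W X r hη, sl2Fun_one, mul_one]
    · intro a b ha hb c; rw [mul_assoc, ha, hb, ha, mul_assoc]

theorem sl2Hom_U (hη : X.η r r = -1) (t : K) : sl2Hom X r hη (slU t) = X.x r t := by
  change sl2Fun X r _ = _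
  rw [← mul_one (slU t), sl2Fun_U, sl2Fun_one, mul_one]

theorem sl2Hom_W (hη : X.η r r = -1) : sl2Hom X r hη slW = X.n r 1 := by
  change sl2Fun X r _ = _
  rw [← mul_one slW, sl2Fun_W X r hη, sl2Fun_one, mul_one]

theorem sl2Hom_L (hη : X.η r r = -1) (t : K) : sl2Hom X r hη (slL t) = X.x (R.neg r) t := by
  have h4 : (slW * slW * slW : SL(2, K)) = slW⁻¹ := by
    rw [eq_inv_iff_mul_eq_one]
    apply Subtype.ext
    simp only [sl_mul, coe_slW, sl_one]
    ext i j; fin_cases i <;> fin_cases j <;> simp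
  rw [slL_eq, h4, map_mul, map_mul, map_inv, sl2Hom_W, sl2Hom_U, X.conj_n r r 1 (-t) one_ne_zero, hη, R.rf_self]
  simp

theorem sl2Hom_range (hη : X.η r r = -1) : (sl2Hom X r hη).range = X.XS {r} ⊔ X.XS {R.neg r} := by
  apply le_antisymm
  · rintro _ ⟨g, rfl⟩
    rw [← X.XS_union]
    refine sl2_induction (P := fun g => sl2Hom X r hη g ∈ X.XS ({r} ∪ {R.neg r})) ?_ ?_ ?_ g
    · intro t; rw [sl2Hom_U]; exact X.x_mem_XS (by simp) t
    · rw [sl2Hom_W]; exact X.n_mem_XS (by simp) (by simp) 1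
    · intro a b ha hb; rw [map_mul]; exact mul_mem ha hb
  · refine sup_le ?_ ?_ <;> rw [X.XS_le_iff] <;> rintro s rfl t
    exacts [⟨_, sl2Hom_U X _ hη t⟩, ⟨_, sl2Hom_L X _ hη t⟩]

end abstract

theorem rg_eta_self {D : ChevalleyDatum} {η : ℕ → ℕ → ℤ} (h : Tab D η) (g : Good D) (F : Type*) [Field F]
    (r : Fin D.nroots) : (h.rg g F).η r r = -1 := by
  change ((h.exists_eps.choose r r : ℤ) : F) = -1
  rw [(h.exists_eps.choose_spec r r.2 F).self]; simp

theorem asm1030 {D : ChevalleyDatum} {η : ℕ → ℕ → ℤ} (h : Tab D η) (g : Good D) (F : Type*) [Field F]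
    (r : ℕ) (hr : r < D.nroots) :
    ∃ φ : SL(2, F) →* GL D.Idx F,
      φ.range = D.rootSubgroup F r ⊔ D.rootSubgroup F (D.neg r) ∧
      ∀ (a : SL(2, F)) (t : F),
        ((a : Matrix (Fin 2) (Fin 2) F) = !![1, t; 0, 1] →
          ((φ a : GL D.Idx F) : Matrix D.Idx D.Idx F) = D.x F r t) ∧
        ((a : Matrix (Fin 2) (Fin 2) F) = !![1, 0; t, 1] →
          ((φ a : GL D.Idx F) : Matrix D.Idx D.Idx F) = D.x F (D.neg r) t) := by
  have hX := (h.matRG g F).isMat
  refine ⟨sl2Hom (h.rg g F).toSRG ⟨r, hr⟩ (rg_eta_self h g F _), ?_, fun a t => ⟨fun ha => ?_, fun ha => ?_⟩⟩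
  · rw [sl2Hom_range]
    exact congrArg₂ _ (hX.rootSubgroup_eq ⟨r, hr⟩).symm (hX.rootSubgroup_eq (g.rs.neg ⟨r, hr⟩)).symm
  · rw [show a = slU t from Subtype.ext ha, sl2Hom_U]; rfl
  · rw [show a = slL t from Subtype.ext ha, sl2Hom_L]; rfl

end H19
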