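import Mathlib
import Cfsg.Prelude.Def_ChevB2
import Cfsg.Agent.H19.Fast

/-! Packed tables for the datum of type B2 (generated). -/

set_option autoImplicit false

namespace H19
open Cfsg Cfsg.Lie

def chTB2 : ℕ := 0x306000505000000000000000000000207000000507305000604000000504502000000000607000000307306000000000000000603303301000000000000000506000000000000000000000302000000000000000505000000000000000000000301000000000000304506000204000000000000300501000000000200000000503305000000000203500502000000000600000000000000000000000302000501000000000000000000000000000000

def fastB2 : Fast where
  n := 8
  l := 2
  cw := 24
  chT := chTB2
  carT := 0x897a6978a8a6a686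
  corT := 0x9a89786799988777
  coT := 0x99897877a9988776
  simT := 0x405
  wT := 0x7050603040102000406020700050103
  etaT := 0x5aff

theorem agreeB2 : Agree chevB2 fastB2 := by decide +kernel

end H19
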