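import Mathlib
import Cfsg.Agent.H19.Tab
import Cfsg.Agent.H19.FastB2

/-! Kernel checks of the table facts for type B2 (generated). -/

set_option autoImplicit false

namespace H19
open Cfsg Cfsg.Lie

theorem c1B2 : fastB2.toRec.chk1 = true := by decide +kernel
theorem cSB2 : fastB2.toRec.chkS = true := by decide +kernel
theorem cWB2 : fastB2.toRec.chkW fastB2.w fastB2.eta = true := by decide +kernel
theorem cIndB2 : fastB2.toRec.chkInd fastB2.w = true := by decide +kernel
theorem cNB2 : fastB2.toRec.chkN fastB2.w fastB2.eta = true := by decide +kernel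
theorem cAddB2 : fastB2.toRec.chkAdd = true := by decide +kernel
theorem cCommB2 : fastB2.toRec.chkComm = true := by decide +kernel
theorem c2B2_0 : allB 8 (fun k => fastB2.toRec.chk2 (Nat.add 0 k)) = true := by decide +kernel
theorem cCompatB2_0 : fastB2.toRec.chkCompat fastB2.w fastB2.eta 0 = true := by decide +kernel
theorem cCompatB2_1 : fastB2.toRec.chkCompat fastB2.w fastB2.eta 1 = true := by decide +kernel

theorem c2B2 : ∀ r < fastB2.toRec.n, fastB2.toRec.chk2 r = true := by
  intro r hr
  have hr' : r < 8 := hr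
  have := allB_iff.1 c2B2_0 (r - 0) (by omega)
  rwa [Nat.add_eq, show 0 + (r - 0) = r by omega] at this

theorem cCompatB2 : ∀ i < fastB2.toRec.l, fastB2.toRec.chkCompat fastB2.w fastB2.eta i = true := by
  intro i hi
  have hi' : i < 2 := hi
  interval_cases i
  · exact cCompatB2_0
  · exact cCompatB2_1

theorem tabB2 : Tab chevB2 fastB2.eta :=
  Tab.of_chk agreeB2 ⟨c1B2, cSB2, c2B2, cWB2, cIndB2, cCompatB2, cNB2, cAddB2, cCommB2⟩

end H19
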