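import Mathlib
import Cfsg.Prelude.Def_LieTypes
import Cfsg.Prelude.Def_ChevB2
import Cfsg.Agent.H19.Gen
import Cfsg.Agent.H19.TabG2
import Cfsg.Agent.H19.TabB2
import Cfsg.Agent.H19.TabD4
import Cfsg.Agent.H19.TabF4
import Cfsg.Agent.H19.TabE6
import Cfsg.Agent.H19.TabE7
import Cfsg.Agent.H19.TabE8

/-! The table facts for the seven listed data. -/

set_option autoImplicit false

namespace H19
open Cfsg Cfsg.Lie

theorem tab_of_mem {D : ChevalleyDatum} (hD : D ∈ [chevG2, chevB2, chevD4, chevF4, chevE6, chevE7, chevE8]) :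
    ∃ η, Tab D η := by
  simp only [List.mem_cons, List.not_mem_nil, or_false] at hD
  rcases hD with rfl | rfl | rfl | rfl | rfl | rfl | rfl
  exacts [⟨_, tabG2⟩, ⟨_, tabB2⟩, ⟨_, tabD4⟩, ⟨_, tabF4⟩, ⟨_, tabE6⟩, ⟨_, tabE7⟩, ⟨_, tabE8⟩]

end H19
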