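import Mathlib
import Cfsg.Agent.H19.All
import Cfsg.Agent.H19.MatRG
import Cfsg.Agent.H20.GoodAll

/-! The root group package for the seven listed data. -/

set_option autoImplicit false

namespace H19
open Cfsg Cfsg.Lie

theorem exists_matRG {D : ChevalleyDatum} (hD : D ∈ [chevG2, chevB2, chevD4, chevF4, chevE6, chevE7, chevE8])
    (g : H20.Good D) (F : Type*) [Field F] : Nonempty (H20.MatRG g F) := by
  obtain ⟨η, h⟩ := tab_of_mem hD
  exact ⟨h.matRG g F⟩

theorem exists_tab_good {D : ChevalleyDatum}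
    (hD : D ∈ [chevG2, chevB2, chevD4, chevF4, chevE6, chevE7, chevE8]) :
    ∃ (η : ℕ → ℕ → ℤ) (_ : H20.Good D), Tab D η := by
  obtain ⟨η, h⟩ := tab_of_mem hD
  obtain ⟨g⟩ := H20.good_of_mem hD
  exact ⟨η, g, h⟩

end H19
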