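import Mathlib
import Cfsg.Agent.H19.B4
import Cfsg.Agent.H9.BE1
import Cfsg.Agent.H9.MB1

/-! Comparison of embeddings of centralisers of two short elements. -/

set_option autoImplicit false
set_option linter.all false

namespace H10.Mon.MG

variable {M G : Type*} [Group M] [Group G] {x y γ u v v' : M} {p : ZMod 2 → C → M} {eO eD s0 : G0}
  {t : G} {ι κ : M → G}

/-- `u` and `v` are short elements in coordinates with centre `u v x`. -/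
def Pf (x u v : M) : Prop := ∃ y p γ w s, Two x y p γ ∧ AA w ∧ p s w = u ∧ v = u * y * x

theorem Two.pf [Finite M] (H : Two x y p γ) (L : LF eO eD s0) (ux : u * x = x * u)
    (vx : v * x = x * v) (uv : u * v = v * u) (h1 : IsConj x u) (h2 : IsConj x (u * x))
    (h3 : IsConj x (v * x)) (h4 : IsConj x (u * v)) (h5 : IsConj y (u * v * x)) : Pf x u v := by
  have xx := H.xx
  have uu := sq_of_cj h1 xx
  obtain ⟨a, ax, e⟩ := H.pAB L (s := u * v * x) (cm_mul (cm_mul ux vx) rfl)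
    ⟨h5, by rwa [mul_assoc, xx, mul_one]⟩
  have us : u * (u * v * x) = v * x := by rw [← mul_assoc, ← mul_assoc, uu, one_mul]
  obtain ⟨s, c, e1⟩ := H.inQ2 L (a := a * u * a⁻¹)
    (by rw [← e, conj_mul, conj_mul, ← cm_mul (cm_mul rfl uv.symm) ux.symm])
    (h1.trans (cj_of rfl)) (by rw [← e, conj_mul, us]; exact h3.trans (cj_of rfl))
  have := H.conj a⁻¹
  rw [cm_inv ax, inv_inv, mul_assoc x, inv_mul_cancel, mul_one] at this
  refine ⟨_, _, _, c, s, this, ⟨H.isS_of (e1 ▸ h1.trans (cj_of rfl)), H.isS_of (by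
    rw [← H.one.mul_x, ← e1, ← cj_mul ax]; exact h2.trans (cj_of rfl))⟩, by rw [← e1]; group, ?_⟩
  rw [← e, show a⁻¹ * (a * (u * v * x) * a⁻¹) * a = u * v * x by group, us, mul_assoc, xx, mul_one]

theorem p3_iff (e : v = u * y * x) {a : M} : P3 x v u a ↔ P3 x y u a :=
  and_congr_right fun h1 => and_congr_left fun h2 => ⟨fun h3 => by
    rw [show y = u⁻¹ * v * x⁻¹ by rw [e]; group]
    exact (cm_mul (cm_mul (cm_inv h2.symm) h3.symm) (cm_inv h1.symm)).symm,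
    fun h3 => e ▸ (cm_mul (cm_mul h2.symm h3.symm) h1.symm).symm⟩

theorem P3.sw {a : M} (h : P3 x v u a) : P3 x u v a := ⟨h.1, h.2.2, h.2.1⟩

theorem Ex.cm {n a : M} (h : Ex x (n * u * n⁻¹) v) (nx : n * x = x * n) (ax : a * x = x * a) :
    a * v = v * a ↔ n⁻¹ * a * n * u = u * (n⁻¹ * a * n) := by
  have k : n⁻¹ * a * n * u = u * (n⁻¹ * a * n) ↔ a * (n * u * n⁻¹) = n * u * n⁻¹ * a :=
    ⟨fun e => by
      calc _ = n * (n⁻¹ * a * n * u) * n⁻¹ := by group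
        _ = _ := by rw [e]; group, fun e => by
      calc _ = n⁻¹ * (a * (n * u * n⁻¹)) * n := by group
        _ = _ := by rw [e]; group⟩
  rw [k]
  rcases h with h | h <;> rw [h]
  exact ⟨fun e => (cm_mul e.symm ax.symm).symm, fun e => by
    rwa [mul_assoc v, ← ax, ← mul_assoc, ← mul_assoc, mul_left_inj] at e⟩

theorem Ex.k2 {n a : M} (h : Ex x (n * u * n⁻¹) v) (nx : n * x = x * n) :
    K2 x v a ↔ K2 x u (n⁻¹ * a * n) := by
  have k := fun {a} => Ex.cm (a := a) (u := x) (v := x) (.inl (mul_inv_eq_iff_eq_mul.2 nx)) nx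
  refine ⟨fun e => ⟨(k e.1).1 e.1, (h.cm nx e.1).1 e.2⟩, fun e => ?_⟩
  have : a * x = x * a := by
    have := cm_mul (cm_mul nx e.1) (cm_inv nx)
    rwa [show n * (n⁻¹ * a * n) * n⁻¹ = a by group] at this
  exact ⟨this, (h.cm nx this).2 e.2⟩

theorem Ex.inv {n : M} (h : Ex x (n * u * n⁻¹) v) (nx : n * x = x * n) (xx : x * x = 1) :
    Ex x (n⁻¹ * v * n⁻¹⁻¹) u := by
  rcases h with rfl | h
  · left; group
  · right
    rw [show v = n * u * n⁻¹ * x by rw [h, mul_assoc, xx, mul_one], ← cj_mul nx]; group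

namespace Em2
variable (E : Em2 x u t ι)
include E

theorem one : ι 1 = 1 := (E.hp 1).one
theorem inv {a : M} (ha : K2 x u a) : ι a⁻¹ = (ι a)⁻¹ := (E.hp 1).inv ⟨ha.1, by simp, ha.2⟩
theorem cj {a b : M} (ha : K2 x u a) (hb : K2 x u b) : ι (a * b * a⁻¹) = ι a * ι b * (ι a)⁻¹ := by
  rw [E.mul (ha.mul hb) ha.inv, E.mul ha hb, E.inv ha]
theorem ex {a b : M} (ha : K2 x u a) (hb : K2 x u b) (e : ι a = ι b) : Ex x a b :=
  (E.hp 1).ex ⟨ha.1, by simp, ha.2⟩ ⟨hb.1, by simp, hb.2⟩ e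
theorem cm {a b : M} (ha : K2 x u a) (hb : K2 x u b) (e : a * b = b * a) : ι a * ι b = ι b * ι a := by
  rw [← E.mul ha hb, e, E.mul hb ha]
theorem of_ex {a b : M} (ux : u * x = x * u) (hb : K2 x u b) (e : Ex x a b) : ι a = ι b := by
  rcases e with rfl | rfl
  · rfl
  · rw [E.mul hb ⟨rfl, ux.symm⟩, (E.ker ⟨rfl, ux.symm⟩).2 (.inr rfl), mul_one]
theorem cmt (ux : u * x = x * u) {a : M} (ha : K2 x u a) : ι a * t = t * ι a :=
  E.hu ▸ E.cm ha ⟨ux, rfl⟩ ha.2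

theorem conj (ux : u * x = x * u) (xx : x * x = 1) {n : M} (nx : n * x = x * n)
    (h : Ex x (n * u * n⁻¹) v) (b : G) :
    Em2 x v (b * t * b⁻¹) fun a => b * ι (n⁻¹ * a * n) * b⁻¹ := by
  have im : ∀ {g}, Im2 x u ι (b⁻¹ * g * b) → Im2 x v (fun a => b * ι (n⁻¹ * a * n) * b⁻¹) g := by
    rintro g ⟨a, a1, a2⟩
    have e : n⁻¹ * (n * a * n⁻¹) * n = a := by group
    exact ⟨n * a * n⁻¹, (h.k2 nx).2 (e.symm ▸ a1), by beta_reduce; rw [e, a2]; group⟩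
  have cm : ∀ {g}, g * (b * t * b⁻¹) = b * t * b⁻¹ * g → b⁻¹ * g * b * t = t * (b⁻¹ * g * b) :=
    fun {g} e => by
      calc _ = b⁻¹ * (g * (b * t * b⁻¹)) * b := by group
        _ = _ := by rw [e]; group
  refine ⟨fun {a c} ha hc => ?_, fun {a} ha => ?_, ?_, fun g k hg hk => ?_,
    fun g hg k => im (E.out _ (cm hg) fun a ha => ?_)⟩
  · rw [conj_mul, ← E.mul ((h.k2 nx).1 ha) ((h.k2 nx).1 hc)]
    congr 3; group
  · rw [conj_eq_one_iff, E.ker ((h.k2 nx).1 ha), mul_assoc, inv_mul_eq_one,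
      inv_mul_eq_iff_eq_mul, nx, mul_left_inj, right_eq_mul]
  · rw [← E.hu, ← E.of_ex ux ⟨ux, rfl⟩ (h.inv nx xx), inv_inv]
  · refine (E.idx _ _ (cm hg) (cm hk)).imp im (Or.imp im fun e => im ?_)
    rwa [show b⁻¹ * (g * k) * b = b⁻¹ * g * b * (b⁻¹ * k * b) by group]
  · have e : n⁻¹ * (n * a * n⁻¹) * n = a := by group
    have := k (n * a * n⁻¹) ((h.k2 nx).2 (e.symm ▸ ha))
    rw [e] at this
    calc _ = b⁻¹ * (g * (b * ι a * b⁻¹)) * b := by group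
      _ = _ := by rw [this]; group

end Em2

namespace Pf
variable (F : Pf x u v)
include F

theorem xx : x * x = 1 := by obtain ⟨_, _, _, _, _, H, -⟩ := F; exact H.xx
theorem ux : u * x = x * u := by
  obtain ⟨_, _, _, _, _, H, hw, rfl, -⟩ := F; exact H.one.cm_x.2 hw.pl
theorem uu : u * u = 1 := by
  obtain ⟨_, _, _, _, _, H, hw, rfl, -⟩ := F; exact H.s.sq0 _ (bb_isS hw.1)
theorem k2 : K2 x u v := by
  have := F.ux
  obtain ⟨_, _, _, _, _, H, hw, rfl, rfl⟩ := F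
  exact ⟨cm_mul (cm_mul this H.one.yx) rfl, cm_mul (cm_mul rfl (H.s.cm _ _).symm) this.symm⟩

theorem symm : Pf x v u := by
  have := F.xx
  obtain ⟨y, p, γ, w, s, H, hw, rfl, rfl⟩ := F
  refine ⟨y, p, γ, w + c0.1, _, H, hw.ec (Ec.symm (.inr rfl)), by rw [H.s.mul_y, H.one.mul_x], ?_⟩
  rw [mul_assoc _ x y, H.one.xy, ← mul_assoc, mul_assoc _ y y, H.s.yy, mul_one, mul_assoc, this, mul_one]

theorem nf {a : M} (ha : K2 x u a) (h : Ex x (a * v * a⁻¹) v) : a * v = v * a := by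
  refine mul_inv_eq_iff_eq_mul.1 (h.resolve_right fun e => ?_)
  obtain ⟨y, p, γ, w, s, H, hw, hu, rfl⟩ := F
  rw [cj_mul ha.1, ← conj_mul, ha.2, mul_inv_cancel_right, mul_left_inj, mul_assoc u y, mul_right_inj] at e
  exact H.nc (H.one.A_yx.trans (cj_of e).symm)

end Pf

/-- A homomorphism on `C(x, v, u)` into `C(t, ι v)` is induced by `ι` and a conjugation. -/
theorem Em2.cmp [Finite M] (E : Em2 x u t ι) (F : Pf x u v) (h : HP x v u κ) (hu : κ u = t)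
    (hv : κ v = ι v) : ∃ n, n * x = x * n ∧ Ex x (n * u * n⁻¹) u ∧ Ex x (n * v * n⁻¹) v ∧
      ∀ a, P3 x v u a → κ a = ι (n * a * n⁻¹) := by
  obtain ⟨_, _, _, L⟩ := exists_LF
  have kv := F.k2
  have ux := F.ux
  have xx := F.xx
  have pu : P3 x v u u := ⟨ux, kv.2.symm, rfl⟩
  have pv : P3 x v u v := ⟨kv.1, rfl, kv.2⟩
  have px : P3 x v u x := ⟨rfl, kv.1.symm, ux.symm⟩
  have cm : ∀ {a b}, P3 x v u a → P3 x v u b → a * b = b * a → κ a * κ b = κ b * κ a :=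
    fun ha hb e => by rw [← h.mul ha hb, e, h.mul hb ha]
  let K : Subgroup M :=
    { carrier := {a | P3 x v u a ∧ Im2 x u ι (κ a)}
      one_mem' := ⟨P3.one, 1, K2.one, E.one.trans h.one.symm⟩
      mul_mem' := by
        rintro a b ⟨a1, c, c1, c2⟩ ⟨b1, d, d1, d2⟩
        exact ⟨a1.mul b1, _, c1.mul d1, by rw [E.mul c1 d1, h.mul a1 b1, c2, d2]⟩
      inv_mem' := by
        rintro a ⟨a1, c, c1, c2⟩
        exact ⟨a1.inv, _, c1.inv, by rw [E.inv c1, h.inv a1, c2]⟩ }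
  have sq : ∀ a, P3 x v u a → a * a ∈ K := fun a ha => by
    by_cases k : Im2 x u ι (κ a)
    · exact mul_mem (show a ∈ K from ⟨ha, k⟩) ⟨ha, k⟩
    have c := hu ▸ cm ha pu ha.2.2
    exact ⟨ha.mul ha, h.mul ha ha ▸ ((E.idx _ _ c c).resolve_left k).resolve_left k⟩
  have sub : ∀ a, a ∈ K → ∃ b, P3 x v u b ∧ κ a = ι b := by
    rintro a ⟨ha, b, b1, b2⟩
    refine ⟨b, ⟨b1.1, F.nf b1 (E.ex (b1.conj kv) kv ?_), b1.2⟩, b2.symm⟩
    rw [E.cj b1 kv, b2, ← hv, cm ha pv ha.2.1, mul_inv_cancel_right]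
  obtain ⟨y, p, γ, w, s, H, hw, rfl, e⟩ := F
  have i := @p3_iff _ _ _ _ _ _ e
  obtain ⟨n, n1, n2, n3, n4⟩ := H.one.autP hw L (E.hp y) (κ := κ)
    ⟨fun a b => h.mul (i.2 a) (i.2 b), fun a => h.ker (i.2 a)⟩
    (fun a ha => (sub a (H.one.perf3 hw K ⟨px, 1, K2.one, E.one.trans ((h.ker px).2 (.inr rfl)).symm⟩
      (fun a ha => sq a (i.2 ha)) ha)).imp fun b hb => ⟨i.1 hb.1, hb.2⟩) (hu.trans E.hu.symm)
  refine ⟨n, n1, n3, ?_, fun a ha => n4 a (i.1 ha)⟩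
  rw [e, cj_mul n1, cj_mul n2]
  refine n3.imp (fun k => by rw [k]) fun k => ?_
  rw [k, mul_assoc _ x, H.one.xy, ← mul_assoc]

/-- An embedding of `C(x, v)` that agrees with `ι` on `C(x, v, u)`. -/
def Ag (x u v : M) (ι φ : M → G) : Prop := Em2 x v (ι v) φ ∧ ∀ a, P3 x v u a → φ a = ι a

theorem Em2.sw [Finite M] (E : Em2 x u t ι) (H : Two x y p γ) {w : C} (hw : AA w) {s : ZMod 2}
    (hu : p s w = u) (e : v = u * y * x) {b : G} (b1 : b * t * b⁻¹ = t * ι y)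
    (b2 : b * ι y * b⁻¹ = ι y) : ∃ φ, Ag x u v ι φ := by
  have F : Pf x u v := ⟨_, _, _, _, _, H, hw, hu, e⟩
  have ux := F.ux
  have xx := F.xx
  have ku : K2 x u u := ⟨ux, rfl⟩
  have ky : K2 x u y := ⟨H.one.yx, hu ▸ (H.s.cm _ _).symm⟩
  obtain ⟨d, d1, d2⟩ := dual2 hw 0 1
  have r1 := H.one.cm_x (t := 0).2 d1
  have r2 : p 0 d * u * (p 0 d)⁻¹ = u * y := by rw [← hu, H.s.cj, d2, H.s.mul_y]
  have r3 : (p 0 d)⁻¹ * u * p 0 d = u * y := by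
    rw [← r2, mul_assoc, inv_mul_eq_iff_eq_mul, ← mul_assoc, ← mul_assoc, eq_mul_inv_iff_mul_eq,
      mul_assoc, H.s.sq]
    rcases H.s.q0 (bb d d) with k | k <;> rw [k]
    exacts [cm_one.symm, ky.2.symm]
  have vx : u * y = v * x := by rw [e, mul_assoc _ x, xx, mul_one]
  have iv : ι v = t * ι y := by
    rw [← E.hu, ← E.mul ku ky, vx, E.of_ex ux F.k2 (.inr rfl)]
  have E' := E.conj ux xx r1 (.inr (r2.trans vx)) b
  rw [b1, ← iv] at E'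
  obtain ⟨n, n1, n2, -, n4⟩ := E'.cmp F.symm (κ := ι)
    ⟨fun a b => E.mul a.sw.k2 b.sw.k2, fun a => E.ker a.sw.k2⟩ rfl (by
      beta_reduce
      rw [r3, E.mul ku ky, ← conj_mul, E.hu, b1, b2, mul_assoc, ← E.mul ky ky, H.s.yy, E.one, mul_one])
  have := E'.conj F.k2.1 xx (cm_inv n1) (n2.inv n1 xx) 1
  rw [one_mul, inv_one, mul_one] at this
  exact ⟨_, this, fun a ha => by beta_reduce; rw [n4 a ha.sw, one_mul, mul_one, inv_inv]⟩

theorem Ag.tr (E : Em2 x u t ι) {φ : M → G} (A : Ag x u v ι φ) (xx : x * x = 1) (kv : K2 x u v)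
    {k : M} (hk : K2 x u k) : ∃ φ', Ag x u (k * v * k⁻¹) ι φ' := by
  have := A.1.conj kv.1 xx hk.1 (.inl rfl) (ι k)
  rw [← E.cj hk kv] at this
  refine ⟨_, this, fun a ha => ?_⟩
  have k2 : K2 x u (k⁻¹ * a * k) := (hk.inv.mul ha.k2).mul hk
  beta_reduce
  rw [A.2 _ ⟨k2.1, (Ex.cm (.inl rfl) hk.1 ha.1).1 ha.2.1, k2.2⟩, ← E.cj hk k2]
  congr 1; group

theorem Ag.cmp [Finite M] {φ φ' : M → G} (A : Ag x u v ι φ) (A' : Ag x u v' ι φ') (F : Pf x v v')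
    (kv : K2 x u v) (kv' : K2 x u v') : ∃ m, m * x = x * m ∧
      (∀ a, K2 x u a → a * v = v * a → a * v' = v' * a → Ex x (m * a * m⁻¹) a) ∧
      ∀ a, P3 x v' v a → φ' a = φ (m * a * m⁻¹) := by
  have c := F.k2.2
  obtain ⟨m, m1, m2, -, m4⟩ := A.1.cmp F (κ := φ')
    ⟨fun a b => A'.1.mul a.sw.k2 b.sw.k2, fun a => A'.1.ker a.sw.k2⟩ (A'.2 _ ⟨kv.1, c.symm, kv.2⟩)
    (A'.1.hu.trans (A.2 _ ⟨kv'.1, c, kv'.2⟩).symm)
  refine ⟨m, m1, fun a ha h1 h2 => A.1.ex ?_ ⟨ha.1, h1⟩ ?_, m4⟩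
  · have := ((m2.inv m1 F.xx).k2 (cm_inv m1)).1 ⟨ha.1, h1⟩
    rwa [inv_inv] at this
  · rw [← m4 a ⟨ha.1, h2, h1⟩, A'.2 a ⟨ha.1, h2, ha.2⟩, A.2 a ⟨ha.1, h1, ha.2⟩]

theorem Em2.f4 [Finite M] (E : Em2 x u t ι) (F : Pf x u v') (kv : v' * v = v * v') {g : G}
    (hg : g * t = t * g) (h : ∀ a, P3 x v u a → g * ι a = ι a * g) : ∃ n, n * x = x * n ∧
      (∀ a, K2 x u a → a * v = v * a → a * v' = v' * a → Ex x (n * a * n⁻¹) a) ∧
      ∀ a, P3 x v' u a → g * ι a * g⁻¹ = ι (n * a * n⁻¹) := by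
  obtain ⟨n, n1, n2, -, n4⟩ := E.cmp F (κ := fun a => g * ι a * g⁻¹)
    ⟨fun a b => by rw [conj_mul, E.mul a.k2 b.k2], fun a => by rw [conj_eq_one_iff, E.ker a.k2]⟩
    (by beta_reduce; rw [E.hu, hg, mul_inv_cancel_right])
    (by beta_reduce; rw [h _ ⟨F.k2.1, kv, F.k2.2⟩, mul_inv_cancel_right])
  refine ⟨n, n1, fun a ha h1 h2 => E.ex ?_ ha ?_, n4⟩
  · have := ((n2.inv n1 F.xx).k2 (cm_inv n1)).1 ha
    rwa [inv_inv] at this
  · rw [← n4 a ⟨ha.1, h2, ha.2⟩, h a ⟨ha.1, h1, ha.2⟩, mul_inv_cancel_right]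

end H10.Mon.MG
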