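import Mathlib
import Cfsg.Agent.H19.B5
import Cfsg.Agent.H11.BC1

/-! The nodes of `Y433` in a group with a centraliser of type `2.²E6(2).2`. -/

set_option autoImplicit false
set_option linter.all false
set_option maxRecDepth 100000

namespace H10.Mon.MG.MB

open Cfsg H9 H29 Cfsg.Spor H10.YW H10.Mon.T H29.YB
open H10.Mon.Y hiding Nd lb

/-- `g` has the code `c`. -/
def Pt (g : MM tau) (c : ℕ) : Prop := ∃ s, g = pL .a s (dec c)

theorem Pt.mul {g h : MM tau} {c d : ℕ} : Pt g c → Pt h d → Pt (g * h) (c ^^^ d) := by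
  rintro ⟨s, rfl⟩ ⟨r, rfl⟩
  exact ⟨_, by rw [dec_xor]; exact (sitM.view (nL .a)).mul _ _ _ _⟩

theorem Pt.a {g : MM tau} {c : ℕ} (h : Pt g c) (e : LFt.SH.testBit c = true) : IsConj (tM tau) g := by
  obtain ⟨s, rfl⟩ := h
  exact (twoM.choose_spec.qA s (LFt.sh0_of e).1).trans (cj_of rfl)

theorem Pt.b {g : MM tau} {c : ℕ} (h : Pt g c) (e : dec c ≠ 0 ∧ c < 4096 ∧ LFt.SH.testBit c = false) :
    IsConj (zM tau) g := by
  obtain ⟨s, rfl⟩ := h
  refine (twoM.choose_spec.qB s e.1 (bb_fst (fst0 e.2.1) _) fun k => ?_).trans (cj_of rfl)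
  have := LFt.sh0_bit e.2.1 ⟨k, fst0 e.2.1⟩
  rw [e.2.2] at this
  cases this

theorem pt0 : Pt (tM tau) 802 := xm_f2 ▸ point (n := .f2) (by decide +kernel)
theorem pt1 : Pt (xm .f1) 512 := point (n := .f1) (by decide +kernel)
theorem pt2 : Pt (xm .d2) 1026 := point (n := .d2) (by decide +kernel)
theorem pt3 : Pt (xm .d3) 160 := point (n := .d3) (by decide +kernel)

theorem pf {u v : MM tau} {c d : ℕ} (hu : Pt u c) (hv : Pt v d) (ux : u * tM tau = tM tau * u)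
    (k : K2 (tM tau) u v) (e : LFt.SH.testBit c = true ∧ LFt.SH.testBit (c ^^^ 802) = true ∧
      LFt.SH.testBit (d ^^^ 802) = true ∧ LFt.SH.testBit (c ^^^ d) = true ∧ dec (c ^^^ d ^^^ 802) ≠ 0 ∧
      c ^^^ d ^^^ 802 < 4096 ∧ LFt.SH.testBit (c ^^^ d ^^^ 802) = false) : Pf (tM tau) u v := by
  obtain ⟨_, _, _, L⟩ := exists_LF
  exact twoM.choose_spec.pf L ux k.1 k.2.symm (hu.a e.1) ((hu.mul pt0).a e.2.1)
    ((hv.mul pt0).a e.2.2.1) ((hu.mul hv).a e.2.2.2.1) (((hu.mul hv).mul pt0).b e.2.2.2.2)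

theorem c32 : xm .d3 * xm .d2 = xm .d2 * xm .d3 := xcm (by decide) (by decide) (.inl rfl)
theorem pf12 : Pf (tM tau) (xm .f1) (xm .d2) := pf pt1 pt2 f1x k2n (by decide +kernel)
theorem pf13 : Pf (tM tau) (xm .f1) (xm .d3) := pf pt1 pt3 f1x k2n (by decide +kernel)
theorem pf23 : Pf (tM tau) (xm .d2) (xm .d3) := pf pt2 pt3 pf12.k2.1 ⟨pf13.k2.1, c32⟩ (by decide +kernel)

variable {G : Type*} [Group G] {t : G} {ι : MM tau → G} (E : Em2 (tM tau) (xm .f1) t ι)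
include E

theorem F4 (hB : IsB BabyMonster) {g : G} (hg : g * t = t * g)
    (h : ∀ a, P3 (tM tau) (xm .d2) (xm .f1) a → g * ι a = ι a * g) : Im2 (tM tau) (xm .f1) ι g := by
  obtain ⟨n, n1, n2, n3⟩ := E.f4 pf13 c32 hg h
  obtain ⟨m, m1, m2, m3⟩ := CY2 n1 n2
  have nd : ∀ n ∈ N333, (ι m)⁻¹ * g * ι (xm n) = ι (xm n) * ((ι m)⁻¹ * g) := fun n hn => by
    have k := k2n hn
    have n3' : n ≠ .e3 := by rintro rfl; revert hn; decide
    rcases (show ∀ n ∈ N333, n = .c2 ∨ lb n .d2 = 2 ∨ n = .d2 by decide) n hn with rfl | e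
    · have c := xcm (n := .c2) (m := .d3) (by decide) (by decide) (.inl rfl)
      have := n3 _ ⟨k.1, c, k.2⟩
      rw [m3 _ c, E.cj m1 k, mul_inv_eq_iff_eq_mul] at this
      rw [mul_assoc, this]; group
    · have c := xcm n3' (by decide) e
      exact cm_mul (cm_inv (E.cm m1 k (m2 _ k c))) (h _ ⟨k.1, c, k.2⟩)
  obtain ⟨a, a1, a2⟩ := E.out ((ι m)⁻¹ * g) (cm_mul (cm_inv (E.cmt f1x m1)) hg) fun a ha => by
    obtain ⟨w, hw, rfl⟩ := k2_word hB ha
    clear ha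
    induction w with
    | nil => exact E.one ▸ cm_one.symm
    | cons c w ih =>
      rw [List.forall_mem_cons] at hw
      have k := (show ∀ c ∈ L3, bN (TB.gN c) ∈ N333 by decide) c hw.1
      rw [ev_cons, Subgroup.coe_mul, E.mul (a := (xc c).1) (k2n k) (k2_xc hw.2)]
      exact (cm_mul (nd _ k).symm (ih hw.2).symm).symm
  exact ⟨_, m1.mul a1, by rw [E.mul m1 a1, a2, mul_inv_cancel_left]⟩

theorem step {n m : Nd} (h : ∃ φ, Ag (tM tau) (xm .f1) (xm n) ι φ) (hn : n ∈ N333 := by decide)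
    (hm : m ∈ N333 := by decide) (e : lb n m = 3 := by rfl) : ∃ φ, Ag (tM tau) (xm .f1) (xm m) ι φ := by
  obtain ⟨φ, A⟩ := h
  have := A.tr E pf12.xx (k2n hn) ((k2n hn).mul (k2n hm))
  have m3 : m ≠ .e3 := by rintro rfl; revert hm; decide
  have c := cox (n := n) m3
  rw [e, pow_succ, pow_two, ← mul_assoc, mul_eq_one_iff_eq_inv, inv_eq_of_mul_eq_one_right (xsq m3)] at c
  rwa [mul_inv_rev, inv_eq_of_mul_eq_one_right (xsq m3),
    inv_eq_of_mul_eq_one_right (xsq (n := n) (by rintro rfl; revert hn; decide)),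
    show ∀ a b : MM tau, a * b * a * (b * a) = a * b * (a * b) * a from fun a b => by group, c] at this

omit E in
theorem ecox {v : MM tau} (E : Em2 (tM tau) v t ι) {n m : Nd} (hn : K2 (tM tau) v (xm n))
    (hm : K2 (tM tau) v (xm m)) (h : m ≠ .e3) : (ι (xm n) * ι (xm m)) ^ lb n m = 1 := by
  have k := hn.mul hm
  rw [← E.mul hn hm, ← (E.hp 1).pow ⟨k.1, by simp, k.2⟩, cox h, E.one]

theorem evl : ∀ l : List Nd, (∀ n ∈ l, n ∈ N333) →
    K2 (tM tau) (xm .f1) (vl xm l) ∧ ι (vl xm l) = vl (fun n => ι (xm n)) l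
  | [], _ => ⟨K2.one, E.one⟩
  | n :: l, h => by
    rw [List.forall_mem_cons] at h
    obtain ⟨a, b⟩ := evl l h.2
    exact ⟨(k2n h.1).mul a, by rw [vl_cons, vl_cons, E.mul (k2n h.1) a, b]⟩

theorem erel {l : List Nd} {k : ℕ} (e : vl xm l ^ k = 1 ∨ vl xm l ^ k = tM tau)
    (h : ∀ n ∈ l, n ∈ N333 := by decide) : vl (fun n => ι (xm n)) l ^ k = 1 := by
  obtain ⟨a, b⟩ := evl E l h
  have a' : P3 (tM tau) 1 (xm .f1) (vl xm l) := ⟨a.1, by simp, a.2⟩
  rw [← b, ← (E.hp 1).pow a']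
  rcases e with e | e <;> rw [e]
  exacts [E.one, (E.ker ⟨rfl, f1x.symm⟩).2 (.inr rfl)]

theorem node {φ : MM tau → G} (A : Ag (tM tau) (xm .f1) (xm .d2) ι φ) :
    φ (xm .e1) * ι (xm .c2) = ι (xm .c2) * φ (xm .e1) := by
  obtain ⟨φ', A'⟩ : ∃ φ, Ag (tM tau) (xm .f1) (xm .d3) ι φ := step E (n := .c3) (step E (n := .b3)
    (step E (n := .a) (step E (n := .b2) (step E (n := .c2) (step E (n := .d2) ⟨φ, A⟩)))))
  obtain ⟨m, m1, m2, m3⟩ := A.cmp A' pf23 k2n k2n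
  have e0 := xb_cm .t1
  have e2 : xm .e1 * xm .d2 = xm .d2 * xm .e1 := xcm (by decide) (by decide) (.inl rfl)
  have e3 : xm .e1 * xm .d3 = xm .d3 * xm .e1 := xcm (by decide) (by decide) (.inl rfl)
  have k : P3 (tM tau) (xm .d3) (xm .f1) (xm .c2) :=
    ⟨(k2n (n := .c2)).1, xcm (by decide) (by decide) (.inl rfl), (k2n (n := .c2)).2⟩
  have c := A'.1.cm ⟨e0, e3⟩ k.sw.k2 (xcm (by decide) (by decide) (.inl rfl))
  rw [A'.2 _ k, m3 _ ⟨e0, e3, e2⟩] at c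
  rcases CY1 m1 m2 e0 e2 e3 with e | e <;> rw [e] at c
  · exact c
  · have u := pf12.symm.k2
    rw [A.1.cj u ⟨e0, e2⟩, A.2 _ ⟨u.1, u.2, rfl⟩, E.hu] at c
    have := (E.cmt f1x k.k2).symm
    have := cm_mul (cm_mul (cm_inv this) c) this
    rwa [show ∀ a : G, t⁻¹ * (t * a * t⁻¹) * t = a from fun a => by group] at this

theorem nodes {φ : MM tau → G} (A : Ag (tM tau) (xm .f1) (xm .d2) ι φ) :
    ∃ f : BabyMonster →* G, ∀ n, n ≠ .t1 → f (PresentedGroup.of n) = ι (xm (bN n)) := by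
  let g : BabyMonster.Gen → G := fun n => if n = .t1 then φ (xm .e1) else ι (xm (bN n))
  have g1 : ∀ n, n ≠ .t1 → g n = ι (xm (bN n)) := fun n h => if_neg h
  have k1 : ∀ n, n ≠ .t1 → K2 (tM tau) (xm .f1) (xm (bN n)) := fun n h =>
    k2n (by revert h; cases n <;> decide)
  have k2 : ∀ n, n ≠ .t7 → K2 (tM tau) (xm .d2) (xm (bN n)) := fun n h =>
    ⟨xb_cm n, xcm (bne n) (by decide) (by revert h; cases n <;> decide)⟩
  have g2 : ∀ n, n ≠ .t7 → g n = φ (xm (bN n)) := fun n h => by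
    by_cases e : n = .t1
    · rw [e]; exact if_pos rfl
    · rw [g1 n e, A.2 _ ⟨xb_cm n, (k2 n h).2, (k1 n e).2⟩]
  refine ⟨PresentedGroup.toGroup (f := g) ?_, fun n h => (PresentedGroup.toGroup.of _).trans (g1 n h)⟩
  rintro r (⟨n, -, m, -, rfl⟩ | hr)
  · simp only [map_mul, map_pow, FreeGroup.lift_apply_of]
    rw [← show lb (bN n) (bN m) = coxLabel BabyMonster.edges n m by cases n <;> cases m <;> rfl]
    by_cases a : n ≠ .t1 ∧ m ≠ .t1
    · rw [g1 n a.1, g1 m a.2]; exact ecox E (k1 n a.1) (k1 m a.2) (bne m)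
    by_cases b : n ≠ .t7 ∧ m ≠ .t7
    · rw [g2 n b.1, g2 m b.2]; exact ecox A.1 (k2 n b.1) (k2 m b.2) (bne m)
    have c : g .t1 * g .t7 = g .t7 * g .t1 := node E A
    have s1 : g .t1 ^ 2 = 1 := by
      rw [g2 _ (by decide), pow_two, ← A.1.mul (k2 _ (by decide)) (k2 _ (by decide)), xsq (bne _), A.1.one]
    have s2 : g .t7 ^ 2 = 1 := by
      rw [g1 _ (by decide), pow_two, ← E.mul (k1 _ (by decide)) (k1 _ (by decide)), xsq (bne _), E.one]
    obtain ⟨rfl, rfl⟩ | ⟨rfl, rfl⟩ : n = .t1 ∧ m = .t7 ∨ n = .t7 ∧ m = .t1 := by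
      revert a b; cases n <;> cases m <;> decide
    · exact (Commute.mul_pow c 2).trans (by rw [s1, s2, one_mul])
    · exact (Commute.mul_pow c.symm 2).trans (by rw [s1, s2, one_mul])
  · simp only [BabyMonster.extra, Set.mem_setOf_eq, List.mem_cons, List.not_mem_nil, or_false] at hr
    rcases hr with rfl | rfl | rfl <;> simp only [map_mul, map_pow, FreeGroup.lift_apply_of]
    · simpa only [vl_cons, vl_nil, mul_one, ← mul_assoc] using! erel E (.inl (sys_sp sys_xm))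
    · simpa only [vl_cons, vl_nil, mul_one, ← mul_assoc] using!
        erel E (.inr ((sys_b2 sys_xm).trans xm_f2))
    · simpa only [vl_cons, vl_nil, mul_one, ← mul_assoc] using! erel E (.inl (sys_b3 sys_xm))

omit E in
/-- The coordinates for the fusion argument, and the passage from fusion to the nodes. -/
theorem frame (hB : IsB BabyMonster) : ∃ y p γ w s, Two (tM tau) y p γ ∧ AA w ∧ p s w = xm .f1 ∧
    xm .d2 = xm .f1 * y * tM tau ∧ ∀ {G : Type*} [Group G] {t : G} {ι : MM tau → G},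
      Em2 (tM tau) (xm .f1) t ι →
      (∀ g, g * t = t * g → (∀ a, P3 (tM tau) y (xm .f1) a → g * ι a = ι a * g) →
        Im2 (tM tau) (xm .f1) ι g) ∧
      ∀ b, b * t * b⁻¹ = t * ι y → b * ι y * b⁻¹ = ι y →
        ∃ f : BabyMonster →* G, ∀ n, n ≠ .t1 → f (PresentedGroup.of n) = ι (xm (bN n)) := by
  obtain ⟨y, p, γ, w, s, H, hw, hu, e⟩ := pf12
  refine ⟨y, p, γ, w, s, H, hw, hu, e, fun E => ⟨fun g hg h => F4 E hB hg fun a ha =>
    h a ((p3_iff e).1 ha), fun b b1 b2 => ?_⟩⟩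
  obtain ⟨φ, A⟩ := E.sw H hw hu e b1 b2
  exact nodes E A

end H10.Mon.MG.MB
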