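import Mathlib
import Cfsg.Agent.H20.St
import Cfsg.Agent.H20.Poincare

/-! Restriction of root systems and root groups to standard parabolic subsystems. -/

set_option autoImplicit false

namespace H19
open H20 Finset

variable {ι Λ : Type} [LinearOrder ι] [Fintype Λ] [DecidableEq Λ]

omit [DecidableEq Λ] in
theorem sum_sub (J : Set Λ) [DecidablePred (· ∈ J)] (f : Λ → ℤ) (h : ∀ i, i ∉ J → f i = 0) :
    ∑ i : J, f i = ∑ i, f i := by
  rw [← Finset.sum_subtype (Finset.univ.filter (· ∈ J)) (by simp) f]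
  exact Finset.sum_subset (Finset.filter_subset _ _) fun i _ hi => h i (by simpa using hi)

/-- the standard parabolic subsystem `Φ_J` -/
def subRS (R : RS ι Λ) (J : Set Λ) [DecidablePred (· ∈ J)] : RS (R.Phi J) J where
  rt r i := R.rt r i
  co r i := R.co r i
  ca i s := R.ca i s
  sim i := ⟨R.sim i, RS.sim_mem_Phi.2 i.2⟩
  neg r := ⟨R.neg r, RS.neg_mem_Phi.2 r.2⟩
  sr i s := ⟨R.sr i s, (RS.WJ_mem_Phi subset_rfl (R.s_mem_WJ i.2)).2 s.2⟩
  κ i := R.κ i
  d i := R.d i
  nrm r := R.nrm r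
  κ_pos i := R.κ_pos i
  key_mono r s h := by
    have := R.key_mono (show (r : ι) < s from h)
    simp only at this ⊢
    rwa [sum_sub J (fun i => R.κ i * R.rt r i) fun i hi => by rw [r.2 i hi, mul_zero],
      sum_sub J (fun i => R.κ i * R.rt s i) fun i hi => by rw [s.2 i hi, mul_zero]]
  d_pos i := R.d_pos i
  nrm_pos r := R.nrm_pos r
  co_nrm r i := R.co_nrm r i
  symm i j := R.symm i j
  rt_sim i := by
    ext j
    simp [R.rt_sim, Pi.single_apply, Subtype.ext_iff]
  rt_neg r := by ext j; simp [R.rt_neg]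
  ca_lin i s := by
    rw [R.ca_lin, ← sum_sub J (fun j => R.rt s j * R.ca i (R.sim j)) fun j hj => by rw [s.2 j hj, zero_mul]]
  rt_sr i s := by
    ext j
    simp [R.rt_sr, Pi.single_apply, Subtype.ext_iff]
  pos_or_neg r := (R.pos_or_neg r).imp (fun h i => h i) fun h i => h i
  A_self' r := by
    rw [← R.A_self' r, ← sum_sub J (fun j => R.co r j * R.ca j r) fun j hj => by
      rw [(R.co_eq_zero_iff r j).2 (r.2 j hj), zero_mul]]

section sub
variable {R : RS ι Λ} {J : Set Λ} [DecidablePred (· ∈ J)]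

theorem sub_rt_ext {v w : Λ → ℤ} (hv : ∀ i, i ∉ J → v i = 0) (hw : ∀ i, i ∉ J → w i = 0)
    (h : (fun i : J => v i) = fun i : J => w i) : v = w := by
  ext i
  by_cases hi : i ∈ J
  · exact congrFun h ⟨i, hi⟩
  · rw [hv i hi, hw i hi]

theorem sub_A (r s : R.Phi J) : (subRS R J).A r s = R.A r s := by
  unfold RS.A
  exact sum_sub J (fun j => R.co r j * R.ca j s) fun j hj => by
    rw [(R.co_eq_zero_iff r j).2 (r.2 j hj), zero_mul]

theorem sub_neg (r : R.Phi J) : ((subRS R J).neg r : ι) = R.neg r := rfl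

theorem sub_sim (i : J) : ((subRS R J).sim i : ι) = R.sim i := rfl

theorem sub_pos (r : R.Phi J) : (subRS R J).Pos r ↔ R.Pos r := by
  refine ⟨fun h i => ?_, fun h i => h i⟩
  by_cases hi : i ∈ J
  · exact h ⟨i, hi⟩
  · exact (r.2 i hi).ge

theorem sub_cone {r s k : R.Phi J} : (subRS R J).Cone r s k ↔ R.Cone r s k := by
  refine ⟨fun ⟨i, j, hi, hj, h⟩ => ⟨i, j, hi, hj, sub_rt_ext k.2 (fun m hm => ?_) h⟩,
    fun ⟨i, j, hi, hj, h⟩ => ⟨i, j, hi, hj, funext fun m => congrFun h m⟩⟩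
  simp [r.2 m hm, s.2 m hm]

theorem sub_rf (r s : R.Phi J) : ((subRS R J).rf r s : ι) = R.rf r s := by
  apply R.rt_injective
  rw [R.rt_rf]
  refine sub_rt_ext ((subRS R J).rf r s).2 (fun m hm => by simp [r.2 m hm, s.2 m hm]) ?_
  have := (subRS R J).rt_rf r s
  rw [sub_A] at this
  exact this

theorem sub_wp (l : List J) (r : R.Phi J) : ((subRS R J).wp l r : ι) = R.wp (l.map Subtype.val) r := by
  induction l with
  | nil => rfl
  | cons i l ih =>
    rw [List.map_cons, RS.wp_cons, RS.wp_cons, Equiv.Perm.mul_apply, Equiv.Perm.mul_apply, ← ih]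
    rfl

variable {K : Type*} [Field K] {G : Type*} [Group G]

/-- root elements indexed by a parabolic subsystem -/
def subWRG (J : Set Λ) [DecidablePred (· ∈ J)] (y : ι → K → G)
    (hadd : ∀ r ∈ R.Phi J, ∀ t u, y r (t + u) = y r t * y r u)
    (hcomm : ∀ r ∈ R.Phi J, ∀ s ∈ R.Phi J, s ≠ R.neg r → ∀ t u,
      y r t * y s u * (y r t)⁻¹ * (y s u)⁻¹ ∈ Subgroup.closure {g | ∃ k, R.Cone r s k ∧ ∃ c, g = y k c}) :
    WRG (subRS R J) K G where
  x r := y r
  x_add r := hadd r r.2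
  comm r s h t u := by
    refine Subgroup.closure_mono ?_ (hcomm r r.2 s s.2 (fun h' => h (Subtype.ext h')) t u)
    rintro _ ⟨k, hk, c, rfl⟩
    exact ⟨⟨k, R.closed_Phi J r r.2 s s.2 k hk⟩, sub_cone.2 hk, c, rfl⟩

/-- the restriction of a root group structure -/
def subRG (X : RG R K G) (J : Set Λ) [DecidablePred (· ∈ J)] : RG (subRS R J) K G where
  toWRG := subWRG J X.x (fun r _ => X.x_add r) fun r _ s _ => X.comm r s
  η r s := X.η r s
  η_sq r s := X.η_sq r s
  η_neg r s := X.η_neg r s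
  η_rf r s := by rw [sub_rf, sub_A]; exact X.η_rf r s
  conj_n r s t u ht := by
    have := X.conj_n r s t u ht
    rw [← sub_rf, ← sub_A] at this
    exact this
  h_mul r := X.h_mul r
  nd1 r a hr h := by
    refine X.nd1 r a ((sub_pos r).1 hr) (WRG.XS_le_iff _ |>.2 ?_ h)
    exact fun s hs t => X.x_mem_XS (S := {s | (r : ι) < s}) hs t
  nd2 := by
    rw [eq_bot_iff, ← X.nd2]
    refine inf_le_inf (sup_le_sup ((WRG.XS_le_iff _).2 fun s hs t => ?_) ((WRG.H_le_iff _).2 fun s t ht => ?_))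
      ((WRG.XS_le_iff _).2 fun s hs t => ?_)
    · exact X.x_mem_XS (S := {r | R.Pos r}) ((sub_pos s).1 hs) t
    · exact X.h_mem_H s ht
    · exact X.x_mem_XS (S := {r | ¬R.Pos r}) (fun h => hs ((sub_pos s).2 h)) t

end sub

/-- the Coxeter matrix of a root system -/
noncomputable def coxM [Fintype ι] (R : RS ι Λ) : CoxeterMatrix Λ where
  M := Matrix.of fun i j => orderOf (R.s i * R.s j)
  isSymm := by
    ext i j
    simp only [Matrix.transpose_apply, Matrix.of_apply]
    rw [← orderOf_inv, mul_inv_rev, RS.s_inv, RS.s_inv]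
  diagonal i := by simp [RS.s_mul_s]
  off_diagonal i j hij := by
    simp only [Matrix.of_apply, ne_eq, orderOf_eq_one_iff]
    intro h
    have h1 : R.s i = R.s j := by rw [← R.mul_s_s (R.s i) j, h, one_mul]
    have := RS.inv_s (R := R) i
    rw [h1, RS.inv_s] at this
    exact hij (R.sim_injective (by simpa using this.symm))

/-- The universal property of the Weyl group. -/
theorem exists_W_hom [Fintype ι] (R : RS ι Λ) {Γ : Type*} [Group Γ] (ν : Λ → Γ)
    (h : ∀ i j m, (R.s i * R.s j) ^ m = 1 → (ν i * ν j) ^ m = 1) :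
    ∃ φ : R.W →* Γ, ∀ i, φ ⟨R.s i, R.s_mem_W i⟩ = ν i := by
  obtain ⟨e, he⟩ := RS.exists_coxeter_equiv_W (R := R) (coxM R) fun i j => rfl
  have hl : (coxM R).IsLiftable ν := fun i j => h i j _ (pow_orderOf_eq_one _)
  refine ⟨((coxM R).toCoxeterSystem.lift ⟨ν, hl⟩).comp e.toMonoidHom, fun i => ?_⟩
  simp only [MonoidHom.comp_apply, MulEquiv.coe_toMonoidHom, he]
  exact CoxeterSystem.lift_apply_simple _ hl i

theorem lt_s_of_neg (R : RS ι Λ) {i : Λ} {r : ι} (h : R.ca i r < 0) : r < R.s i r := by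
  rw [R.lt_iff_key, RS.s_apply, R.rt_sr, sub_eq_add_neg, RS.keyv_add, RS.keyv_neg, lt_add_iff_pos_right]
  have : R.keyv (Pi.single i (R.ca i r)) = R.κ i * R.ca i r := by
    simp [RS.keyv, Pi.single_apply]
  rw [this]
  have := R.κ_pos i
  nlinarith

theorem pair_induction [Fintype ι] (R : RS ι Λ) {P : ι → ι → Prop}
    (hstep : ∀ i r s, P (R.s i r) (R.s i s) → P r s)
    (hb : ∀ r s, (∀ i, 0 ≤ R.ca i r) → (∀ i, R.ca i r = 0 → 0 ≤ R.ca i s) → P r s) (r s : ι) : P r s := by
  induction r using (wellFounded_gt (α := ι)).induction generalizing s with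
  | _ r ih =>
  induction s using (wellFounded_gt (α := ι)).induction with
  | _ s ih' =>
  by_cases c1 : ∀ i, 0 ≤ R.ca i r
  swap
  · push Not at c1
    obtain ⟨i, hi⟩ := c1
    exact hstep i r s (ih _ (lt_s_of_neg R hi) _)
  by_cases c2 : ∀ i, R.ca i r = 0 → 0 ≤ R.ca i s
  swap
  · push Not at c2
    obtain ⟨i, h1, h2⟩ := c2
    have e : R.s i r = r := R.rt_injective (by rw [RS.s_apply, R.rt_sr, h1]; simp)
    apply hstep i r s
    rw [e]
    exact ih' _ (lt_s_of_neg R h2)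
  exact hb r s c1 c2

/-- An element of a rank two coset decomposition maps a simple root to a simple root. -/
theorem sim_of_decomp {R : RS ι Λ} {J : Set Λ} {d : Equiv.Perm ι} (hd : d ∈ R.W)
    (h : ∀ i ∈ J, R.Pos (d (R.sim i))) {r : ι} (hr : r ∈ R.Phi J) {j : Λ} (hj : d r = R.sim j) :
    ∃ m ∈ J, r = R.sim m := by
  have hp : R.Pos r := by
    by_contra hn
    have := RS.pos_of_simple_pos hd h (R.pos_neg_iff.2 hn) (RS.neg_mem_Phi.2 hr)
    rw [RS.W_neg hd, hj] at this
    exact R.not_pos_neg_sim j this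
  have h1 : R.ht (d r) = ∑ i, R.rt r i * R.ht (d (R.sim i)) := by
    unfold RS.ht
    rw [RS.W_rt hd]
    simp only [Finset.sum_apply, Pi.smul_apply, smul_eq_mul, Finset.mul_sum]
    exact Finset.sum_comm
  have h2 : R.ht (d r) = 1 := by rw [hj]; simp [RS.ht, R.rt_sim]
  have h3 : ∀ i, R.rt r i ≤ R.rt r i * R.ht (d (R.sim i)) := by
    intro i
    by_cases hi : i ∈ J
    · have := R.ht_pos (h i hi)
      have h0 : 0 ≤ R.rt r i := hp i
      nlinarith
    · rw [hr i hi]; simp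
  have h4 : ∑ i, R.rt r i ≤ 1 := by rw [← h2, h1]; exact Finset.sum_le_sum fun i _ => h3 i
  obtain ⟨m, -, hm⟩ := R.exists_descent hp
  have h5 : ∀ k, k ≠ m → R.rt r k = 0 := by
    intro k hk
    have := Finset.sum_le_sum_of_subset_of_nonneg (s := {k, m}) (t := Finset.univ) (f := R.rt r)
      (Finset.subset_univ _) fun i _ _ => hp i
    rw [Finset.sum_pair hk] at this
    have h0 : 0 ≤ R.rt r k := hp k
    omega
  refine ⟨m, by by_contra hJ; exact hm.ne' (hr m hJ), (R.reduced h5).resolve_right ?_⟩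
  rintro rfl
  exact R.not_pos_neg_sim m hp

end H19
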