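import Mathlib
import Cfsg.Agent.H19.Sub

/-! The Curtis–Tits theorem for abstract root groups. -/

set_option autoImplicit false

namespace H19
open H20 Finset

variable {ι Λ : Type} [LinearOrder ι] [Fintype Λ] [DecidableEq Λ] [Fintype ι] {R : RS ι Λ}
  {K : Type*} [Field K] {G S : Type*} [Group G] [Group S]

theorem conj_n_self {Y : WRG R K G} {X : RG R K S} {θ : G →* S} (hθ : ∀ r t, θ (Y.x r t) = X.x r t)
    {r s : ι} {j : Λ} (h1 : R.sim j ≠ r) (h2 : R.sim j ≠ R.neg r) (hA : R.ca j r ≠ 0)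
    (hs : s = r ∨ s = R.neg r) {t : K} (ht : t ≠ 0) (u : K) :
    Y.n r t * Y.x s u * (Y.n r t)⁻¹ = Y.x (R.rf r s) (X.η r s * t ^ (-R.A r s) * u) := by
  have hs1 : R.sim j ≠ s := by rcases hs with rfl | rfl <;> assumption
  have hs2 : R.sim j ≠ R.neg s := by
    rcases hs with rfl | rfl
    · exact h2
    · rwa [R.neg_neg]
  have hsA : R.ca j s ≠ 0 := by
    rcases hs with rfl | rfl
    · exact hA
    · rw [R.ca_neg]; simpa using hA
  have ha1 : R.s j s ≠ R.sim j := fun h => hs2 (by rw [← R.s_s j s, h, R.s_sim, R.neg_neg])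
  have ha2 : R.s j s ≠ R.neg (R.sim j) := fun h => hs1 (by
    rw [← R.s_s j s, h, ← R.s_sim, R.s_s])
  have ha3 : R.s j s ≠ s := fun h => by
    have := congrFun (congrArg R.rt h) j
    rw [RS.s_apply, R.rt_sr] at this
    exact hsA (by simpa using this)
  have ha4 : R.s j s ≠ R.neg s := fun h => by
    have h3 := congrArg R.rt h
    rw [RS.s_apply, R.rt_sr, R.rt_neg] at h3
    rcases R.reduced (r := s) (i := j) (fun k hk => by
      have := congrFun h3 k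
      simp [hk] at this
      omega) with h4 | h4
    · exact hs1 h4.symm
    · exact hs2 (by rw [h4, R.neg_neg])
  have ha5 : R.s j s ≠ r ∧ R.s j s ≠ R.neg r := by
    rcases hs with rfl | rfl
    · exact ⟨ha3, ha4⟩
    · rw [R.neg_neg] at ha4; exact ⟨ha4, ha3⟩
  have e1 := WRG.lift_conj_n_ne hθ ha1 ha2 one_ne_zero (X.η (R.sim j) (R.s j s) * u)
  rw [R.rf_sim, R.s_s, one_zpow, mul_one, ← mul_assoc (X.η _ _), X.η_sq, one_mul] at e1
  set c := X.η r (R.sim j) * t ^ (-R.A r (R.sim j)) with hc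
  have hc0 : c ≠ 0 := mul_ne_zero (X.η_ne_zero _ _) (zpow_ne_zero _ ht)
  have e2 : Y.n r t * Y.n (R.sim j) 1 * (Y.n r t)⁻¹ = Y.n (R.rf r (R.sim j)) c := by
    have a1 := WRG.lift_conj_n_ne hθ h1 h2 ht 1
    have a2 := WRG.lift_conj_n_ne hθ (r := r) (s := R.neg (R.sim j)) (fun h => h2 (by rw [← h, R.neg_neg]))
      (fun h => h1 (R.neg_injective h)) ht (-1⁻¹)
    rw [RS.W_neg (R.rf_mem_W r), X.η_neg, R.A_neg_right] at a2
    have a3 : X.η r (R.sim j) * t ^ (- -R.A r (R.sim j)) * -1⁻¹ = -c⁻¹ := by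
      rw [hc, mul_inv, ← zpow_neg, inv_eq_of_mul_eq_one_right (X.η_sq _ _)]; simp
    rw [a3] at a2
    rw [mul_one, ← hc] at a1
    have b1 : Y.n (R.sim j) 1 = Y.x (R.sim j) 1 * Y.x (R.neg (R.sim j)) (-1⁻¹) * Y.x (R.sim j) 1 := rfl
    have b2 : Y.n (R.rf r (R.sim j)) c = Y.x (R.rf r (R.sim j)) c * Y.x (R.neg (R.rf r (R.sim j))) (-c⁻¹) *
      Y.x (R.rf r (R.sim j)) c := rfl
    rw [b1, b2, ← a1, ← a2]
    group
  have e3 := WRG.lift_conj_n_ne hθ ha5.1 ha5.2 ht (X.η (R.sim j) (R.s j s) * u)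
  obtain ⟨c2, e3⟩ : ∃ c2, Y.n r t * Y.x (R.s j s) (X.η (R.sim j) (R.s j s) * u) * (Y.n r t)⁻¹ =
    Y.x (R.rf r (R.s j s)) c2 := ⟨_, e3⟩
  have e4 := WRG.lift_conj_n_ne hθ (r := R.rf r (R.sim j)) (s := R.rf r (R.s j s))
    (fun h => ha1 ((R.rf r).injective h))
    (fun h => ha2 ((R.rf r).injective (by rw [h, RS.W_neg (R.rf_mem_W r)]))) hc0 c2
  have e5 : R.rf (R.rf r (R.sim j)) (R.rf r (R.s j s)) = R.rf r s := by
    rw [RS.rf_conj (R.rf_mem_W r), R.rf_sim]; simp [R.s_s]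
  rw [e5] at e4
  obtain ⟨c3, e6⟩ : ∃ c3, Y.n r t * Y.x s u * (Y.n r t)⁻¹ = Y.x (R.rf r s) c3 := by
    refine ⟨_, Eq.trans ?_ e4⟩
    rw [← e1, ← e2, ← e3]
    group
  have e7 := congrArg θ e6
  rw [map_mul, map_mul, map_inv, WRG.map_n hθ, hθ, hθ, X.conj_n r s t u ht] at e7
  rw [e6, X.x_injective _ e7]

theorem prod_map_replicate {α M : Type*} [Monoid M] (f : α → M) (a b : α) (m : ℕ) :
    ((List.replicate m [a, b]).flatten.map f).prod = (f a * f b) ^ m := by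
  induction m with
  | zero => simp
  | succ m ih => rw [List.replicate_succ, List.flatten_cons, List.map_append, List.prod_append, ih, pow_succ']; simp

/-- a pair of nodes -/
def pr (i j : Λ) : Set Λ := {k | k = i ∨ k = j}

omit [Fintype Λ] [DecidableEq Λ] in
@[simp] theorem mem_pr {i j k : Λ} : k ∈ pr i j ↔ k = i ∨ k = j := Iff.rfl

instance instDecPr (i j : Λ) : DecidablePred (· ∈ pr i j) := fun k => inferInstanceAs (Decidable (k = i ∨ k = j))

noncomputable instance instFintypePhi (J : Set Λ) : Fintype (R.Phi J) := Fintype.ofFinite _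

/-- `n_r(t)` for a family of elements -/
def nn (R : RS ι Λ) (y : ι → K → G) (r : ι) (t : K) : G := y r t * y (R.neg r) (-t⁻¹) * y r t

/-- `h_r(t)` for a family of elements -/
def hh (R : RS ι Λ) (y : ι → K → G) (r : ι) (t : K) : G := nn R y r t * nn R y r (-1)

/-- The hypotheses of the Curtis–Tits theorem. -/
structure CT (X : RG R K S) (G : Type*) [Group G] where
  θ : G →* S
  y : ι → K → G
  hθ : ∀ i j, ∀ r ∈ R.Phi (pr i j), ∀ t, θ (y r t) = X.x r t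
  add : ∀ i j, ∀ r ∈ R.Phi (pr i j), ∀ t u, y r (t + u) = y r t * y r u
  comm : ∀ i j, ∀ r ∈ R.Phi (pr i j), ∀ s ∈ R.Phi (pr i j), s ≠ R.neg r → ∀ t u,
    y r t * y s u * (y r t)⁻¹ * (y s u)⁻¹ ∈ Subgroup.closure {g | ∃ k, R.Cone r s k ∧ ∃ c, g = y k c}
  hmul : ∀ i j, ∀ r ∈ R.Phi (pr i j), ∀ t u, t ≠ 0 → u ≠ 0 → hh R y r t * hh R y r u = hh R y r (t * u)
  adj : ∀ i, ∃ j, j ≠ i ∧ R.C j i ≠ 0

namespace CT
variable {X : RG R K S} (c : CT X G)

/-- the rank two root elements -/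
def Wk (i j : Λ) : WRG (subRS R (pr i j)) K G := subWRG (pr i j) c.y (c.add i j) (c.comm i j)

theorem conj_nn {i j : Λ} {r s : ι} (hr : r ∈ R.Phi (pr i j)) (hs : s ∈ R.Phi (pr i j)) {t : K} (ht : t ≠ 0) (u : K) :
    nn R c.y r t * c.y s u * (nn R c.y r t)⁻¹ = c.y (R.rf r s) (X.η r s * t ^ (-R.A r s) * u) := by
  by_cases h : s ≠ r ∧ s ≠ R.neg r
  · have := WRG.lift_conj_n_ne (Y := c.Wk i j) (X := subRG X (pr i j)) (θ := c.θ) (fun r t => c.hθ i j r r.2 t)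
      (r := ⟨r, hr⟩) (s := ⟨s, hs⟩) (fun e => h.1 (congrArg Subtype.val e))
      (fun e => h.2 (congrArg Subtype.val e)) ht u
    rw [sub_A] at this
    exact this.trans (congrArg (c.y · _) (sub_rf _ _))
  have hs' : s = r ∨ s = R.neg r := by tauto
  obtain ⟨i', j', m, hm, hr', h1, h2, h3⟩ : ∃ i' j' m, m ∈ (pr i' j') ∧ r ∈ R.Phi (pr i' j') ∧
      R.sim m ≠ r ∧ R.sim m ≠ R.neg r ∧ R.ca m r ≠ 0 := by
    have key : ∀ r ∈ R.Phi (pr i j), R.Pos r → ∃ i' j' m, m ∈ (pr i' j') ∧ r ∈ R.Phi (pr i' j') ∧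
        R.sim m ≠ r ∧ R.sim m ≠ R.neg r ∧ R.ca m r ≠ 0 := by
      intro r hr hp
      obtain ⟨m, hm1, hm2⟩ := R.exists_descent hp
      by_cases e : R.sim m = r
      · subst e
        obtain ⟨k, hk1, hk2⟩ := c.adj m
        exact ⟨m, k, k, by simp, RS.sim_mem_Phi.2 (by simp), fun e => hk1 (R.sim_injective e),
          R.ne_neg_of_pos hp (R.pos_sim k), hk2⟩
      · exact ⟨i, j, m, by by_contra hJ; exact hm2.ne' (hr m hJ), hr, e, R.ne_neg_of_pos hp (R.pos_sim m), hm1.ne'⟩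
    by_cases hp : R.Pos r
    · exact key r hr hp
    · obtain ⟨i', j', m, a1, a2, a3, a4, a5⟩ := key _ (RS.neg_mem_Phi.2 hr) (R.pos_neg_iff.2 hp)
      rw [R.neg_neg] at a4
      rw [R.ca_neg] at a5
      exact ⟨i', j', m, a1, RS.neg_mem_Phi.1 a2, a4, a3, by simpa using a5⟩
  have hs'' : s ∈ R.Phi (pr i' j') := by
    rcases hs' with rfl | rfl
    · exact hr'
    · exact RS.neg_mem_Phi.2 hr'
  have := conj_n_self (Y := c.Wk i' j') (X := subRG X (pr i' j')) (θ := c.θ) (fun r t => c.hθ i' j' r r.2 t)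
    (r := ⟨r, hr'⟩) (s := ⟨s, hs''⟩) (j := ⟨m, hm⟩) (fun e => h1 (congrArg Subtype.val e))
    (fun e => h2 (congrArg Subtype.val e)) h3 (hs'.imp Subtype.ext Subtype.ext) ht u
  rw [sub_A] at this
  exact this.trans (congrArg (c.y · _) (sub_rf _ _))

/-- the rank two root group structures -/
def Z (i j : Λ) : SRG (subRS R (pr i j)) K G where
  toWRG := c.Wk i j
  η := (subRG X (pr i j)).η
  η_sq := (subRG X (pr i j)).η_sq
  η_neg := (subRG X (pr i j)).η_neg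
  η_rf := (subRG X (pr i j)).η_rf
  conj_n r s t u ht := by
    rw [sub_A]
    exact (c.conj_nn r.2 s.2 ht u).trans (congrArg (c.y · _) (sub_rf _ _).symm)
  h_mul r := c.hmul i j r r.2

/-- the torus -/
def HH : Subgroup G := Subgroup.closure {g | ∃ i t, t ≠ 0 ∧ g = hh R c.y (R.sim i) t}

theorem Z_H_le (i j : Λ) : (c.Z i j).H ≤ c.HH := by
  intro g hg
  obtain ⟨a, rfl⟩ := (c.Z i j).mem_H_iff.1 hg
  clear hg
  induction a using Pi.mulSingle_induction with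
  | one => rw [map_one]; exact one_mem _
  | mul f g hf hg =>
    rw [map_mul]; exact mul_mem hf hg
  | mulSingle k t =>
    rw [SRG.hmap_single]
    exact Subgroup.subset_closure ⟨k, t, t.ne_zero, rfl⟩

theorem nu_mem (i : Λ) : nn R c.y (R.sim i) 1 ∈ Subgroup.normalizer (c.HH : Set G) := by
  have key : ∀ g : G, (∀ j, g ∈ (c.Z i j).N) → ∀ a ∈ c.HH, g * a * g⁻¹ ∈ c.HH := by
    intro g hg a ha
    induction ha using Subgroup.closure_induction with
    | mem a ha =>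
      obtain ⟨j, t, ht, rfl⟩ := ha
      exact c.Z_H_le i j ((c.Z i j).N_conj_H (hg j)
        ((c.Z i j).h_mem_H ((subRS R (pr i j)).sim ⟨j, by simp⟩) ht))
    | one => simp
    | mul a b _ _ ha hb => simpa [mul_assoc] using mul_mem ha hb
    | inv a _ ha => simpa [mul_assoc] using inv_mem ha
  have hn : ∀ j, nn R c.y (R.sim i) 1 ∈ (c.Z i j).N := fun j =>
    (c.Z i j).n_mem_N ((subRS R (pr i j)).sim ⟨i, by simp⟩) one_ne_zero
  rw [Subgroup.mem_normalizer_iff]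
  refine fun a => ⟨key _ hn a, fun h => ?_⟩
  simpa [mul_assoc] using key _ (fun j => inv_mem (hn j)) _ h

/-- the normaliser of the torus -/
abbrev NN : Subgroup G := Subgroup.normalizer (c.HH : Set G)

/-- the product of the `n_i` along a word -/
def nw (l : List Λ) : c.NN := (l.map fun i => (⟨_, c.nu_mem i⟩ : c.NN)).prod

theorem coe_nw (l : List Λ) : (c.nw l : G) = (l.map fun i => nn R c.y (R.sim i) 1).prod := by
  simp [nw, List.map_map, Function.comp_def]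

theorem Z_nw {i j : Λ} (l : List (pr i j)) : (c.Z i j).nw l = c.nw (l.map Subtype.val) := by
  rw [coe_nw, List.map_map]; rfl

theorem θ_nw (l : List Λ) : c.θ (c.nw l) = X.nw l := by
  rw [coe_nw, map_list_prod, List.map_map, SRG.nw]
  congr 1
  refine List.map_congr_left fun i _ => ?_
  have h1 : R.sim i ∈ R.Phi (pr i i) := RS.sim_mem_Phi.2 (by simp)
  simp [nn, WRG.n, c.hθ i i _ h1, c.hθ i i _ (RS.neg_mem_Phi.2 h1)]

theorem exists_φ : ∃ φ : R.W →* c.NN ⧸ c.HH.subgroupOf c.NN,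
    ∀ l, φ ⟨R.wp l, R.wp_mem_W l⟩ = QuotientGroup.mk (c.nw l) := by
  obtain ⟨φ, hφ⟩ := exists_W_hom R (Γ := c.NN ⧸ c.HH.subgroupOf c.NN)
    (fun i => QuotientGroup.mk ⟨_, c.nu_mem i⟩) fun i j m h => by
      let l : List (pr i j) := (List.replicate m [⟨i, by simp⟩, ⟨j, by simp⟩]).flatten
      have hl : l.map Subtype.val = (List.replicate m [i, j]).flatten := by simp [l]
      have h1 : (subRS R (pr i j)).wp l = 1 := by
        ext r
        rw [sub_wp, hl, RS.wp, prod_map_replicate, h]; rfl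
      have h2 := c.Z_H_le i j ((c.Z i j).nw_mem_H h1)
      rw [Z_nw, hl] at h2
      rw [← QuotientGroup.mk_mul, ← QuotientGroup.mk_pow, QuotientGroup.eq_one_iff, Subgroup.mem_subgroupOf]
      rwa [nw, prod_map_replicate] at h2
  refine ⟨φ, fun l => ?_⟩
  induction l with
  | nil => exact map_one φ
  | cons i l ih =>
    have : (⟨R.wp (i :: l), R.wp_mem_W _⟩ : R.W) = ⟨R.s i, R.s_mem_W i⟩ * ⟨R.wp l, R.wp_mem_W l⟩ := rfl
    rw [this, map_mul, hφ, ih, ← QuotientGroup.mk_mul]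
    rfl

/-- the homomorphism from the Weyl group -/
noncomputable def φ : R.W →* c.NN ⧸ c.HH.subgroupOf c.NN := c.exists_φ.choose

/-- `g` lifts `w` -/
def Lift (g : c.NN) (w : Equiv.Perm ι) : Prop := ∃ hw : w ∈ R.W, c.φ ⟨w, hw⟩ = QuotientGroup.mk g

variable {c}

theorem lift_nw (l : List Λ) : c.Lift (c.nw l) (R.wp l) := ⟨_, c.exists_φ.choose_spec l⟩

theorem Lift.mul {g g' : c.NN} {w w' : Equiv.Perm ι} (h : c.Lift g w) (h' : c.Lift g' w') :
    c.Lift (g * g') (w * w') :=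
  ⟨mul_mem h.1 h'.1, by rw [QuotientGroup.mk_mul, ← h.2, ← h'.2, ← map_mul]; rfl⟩

theorem Lift.inv {g : c.NN} {w : Equiv.Perm ι} (h : c.Lift g w) : c.Lift g⁻¹ w⁻¹ :=
  ⟨inv_mem h.1, by rw [QuotientGroup.mk_inv, ← h.2, ← map_inv]; rfl⟩

theorem Lift.mem_HH {g : c.NN} (h : c.Lift g 1) : (g : G) ∈ c.HH := by
  have := h.2
  rwa [show (⟨1, h.1⟩ : R.W) = 1 from rfl, map_one, eq_comm, QuotientGroup.eq_one_iff,
    Subgroup.mem_subgroupOf] at this

theorem HH_conj {g : G} (hg : g ∈ c.HH) (i : Λ) (u : K) :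
    ∃ a, g * c.y (R.sim i) u * g⁻¹ = c.y (R.sim i) a := by
  have : (∀ u, ∃ a, g * c.y (R.sim i) u * g⁻¹ = c.y (R.sim i) a) ∧
      ∀ u, ∃ a, g⁻¹ * c.y (R.sim i) u * g⁻¹⁻¹ = c.y (R.sim i) a := by
    induction hg using Subgroup.closure_induction with
    | mem a ha =>
      obtain ⟨j, t, ht, rfl⟩ := ha
      have h1 := fun t => (c.Z i j).h_conj_x (t := t) ((subRS R (pr i j)).sim ⟨j, by simp⟩) ((subRS R (pr i j)).sim ⟨i, by simp⟩)
      have h2 := (c.Z i j).h_inv ((subRS R (pr i j)).sim ⟨j, by simp⟩) ht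
      refine ⟨fun u => ⟨_, h1 _ ht u⟩, fun u => ?_⟩
      have h3 := h1 _ (inv_ne_zero ht) u
      rw [← h2] at h3
      exact ⟨_, h3⟩
    | one => exact ⟨fun u => ⟨u, by simp⟩, fun u => ⟨u, by simp⟩⟩
    | mul a b _ _ ha hb =>
      refine ⟨fun u => ?_, fun u => ?_⟩
      · obtain ⟨x, hx⟩ := hb.1 u
        obtain ⟨z, hz⟩ := ha.1 x
        exact ⟨z, by rw [← hz, ← hx]; group⟩
      · obtain ⟨x, hx⟩ := ha.2 u
        obtain ⟨z, hz⟩ := hb.2 x
        exact ⟨z, by rw [← hz, ← hx]; group⟩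
    | inv a _ ha => exact ⟨ha.2, by simpa using ha.1⟩
  exact this.1 u

theorem nw_conj {i j : Λ} {l : List Λ} (hl : ∀ k ∈ l, k ∈ (pr i j)) {r : ι} (hr : r ∈ R.Phi (pr i j)) :
    ∃ a, a ≠ 0 ∧ ∀ u, c.nw l * c.y r u * (c.nw l : G)⁻¹ = c.y (R.wp l r) (a * u) := by
  obtain ⟨a, ha, h⟩ := ((c.Z i j).acts_nw (l.pmap Subtype.mk hl)).conj_x ⟨r, hr⟩
  have e : (l.pmap Subtype.mk hl).map Subtype.val = l := by simp [List.map_pmap]
  refine ⟨a, ha, fun u => ?_⟩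
  have := h u
  rw [Z_nw, e] at this
  refine this.trans (congrArg (c.y · _) ?_)
  exact (sub_wp _ _).trans (by rw [e])

/-- The key lemma: lifts of Weyl group elements permute the fundamental root subgroups. -/
theorem Lift.conj_sim {g : c.NN} {w : Equiv.Perm ι} (h : c.Lift g w) {i j : Λ} (hij : w (R.sim i) = R.sim j)
    (u : K) : ∃ a, g * c.y (R.sim i) u * (g : G)⁻¹ = c.y (R.sim j) a := by
  induction hn : R.len w using Nat.strong_induction_on generalizing g w i u with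
  | _ n ih =>
  by_cases h1 : w = 1
  · subst h1
    obtain rfl : i = j := R.sim_injective hij
    exact HH_conj h.mem_HH i u
  obtain ⟨k, -, hk⟩ := RS.exists_right_descent (J := Set.univ) h.1 h1
  obtain ⟨v, hv, hd⟩ := RS.exists_coset_decomp (pr i k) h.1
  have hvW := R.WJ_le_W _ hv
  have hdW : w * v⁻¹ ∈ R.W := mul_mem h.1 (inv_mem hvW)
  have hlen := RS.len_mul hdW hvW (RS.len_mul_of_simple_pos hdW hd hv)
  rw [inv_mul_cancel_right] at hlen
  have hv0 : R.len v ≠ 0 := fun e => by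
    have := RS.eq_one_of_len_eq_zero hvW e
    subst this
    exact hk (by simpa using hd k (by simp))
  have hi : R.sim i ∈ R.Phi (pr i k) := RS.sim_mem_Phi.2 (by simp)
  obtain ⟨m, -, hm⟩ := sim_of_decomp hdW hd ((RS.WJ_mem_Phi subset_rfl hv).2 hi) (j := j) (by simpa using hij)
  obtain ⟨l, hl, rfl⟩ := R.mem_WJ_iff.1 hv
  obtain ⟨a, -, ha⟩ := c.nw_conj hl hi
  obtain ⟨b, hb⟩ := ih _ (by omega) (h.mul (lift_nw l).inv) (i := m) (by rw [← hm]; simpa using hij) (a * u) rfl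
  refine ⟨b, ?_⟩
  rw [← hb, ← hm, ← ha]
  simp [mul_assoc]

variable (c)

theorem exists_x (r : ι) : ∃ (l : List Λ) (i : Λ) (a : K), R.wp l (R.sim i) = r ∧ a ≠ 0 ∧
    ∀ u, X.nw l * X.x (R.sim i) u * (X.nw l)⁻¹ = X.x r (a * u) := by
  obtain ⟨w, hw, i, rfl⟩ := R.exists_W_sim r
  obtain ⟨l, rfl⟩ := R.mem_W_iff.1 hw
  obtain ⟨a, ha, h⟩ := (X.acts_nw l).conj_x (R.sim i)
  exact ⟨l, i, a, rfl, ha, h⟩

theorem exists_xx : ∃ x : ι → K → G, (∀ r t, c.θ (x r t) = X.x r t) ∧ (∀ r t u, x r (t + u) = x r t * x r u) ∧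
    (∀ i j, ∀ r ∈ R.Phi (pr i j), x r = c.y r) ∧
    ∀ g w, c.Lift g w → ∀ r u, ∃ a, g * x r u * (g : G)⁻¹ = x (w r) a := by
  choose l i a h1 h2 h3 using exists_x (X := X)
  have hs : ∀ k, R.sim k ∈ R.Phi (pr k k) := fun k => RS.sim_mem_Phi.2 (by simp)
  let x : ι → K → G := fun r u => c.nw (l r) * c.y (R.sim (i r)) ((a r)⁻¹ * u) * (c.nw (l r) : G)⁻¹
  have hθ : ∀ r t, c.θ (x r t) = X.x r t := fun r t => by
    simp only [x, map_mul, map_inv, θ_nw, c.hθ _ _ _ (hs _), h3, mul_inv_cancel_left₀ (h2 r)]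
  have hA : ∀ g w, c.Lift g w → ∀ r u, ∃ a, g * x r u * (g : G)⁻¹ = x (w r) a := by
    intro g w hg r u
    obtain ⟨b, hb⟩ := (((lift_nw (l (w r))).inv.mul hg).mul (lift_nw (l r))).conj_sim (i := i r) (j := i (w r))
      (by rw [Equiv.Perm.mul_apply, h1, Equiv.Perm.mul_apply, Equiv.Perm.inv_eq_iff_eq, h1]) ((a r)⁻¹ * u)
    refine ⟨a (w r) * b, ?_⟩
    simp only [x, inv_mul_cancel_left₀ (h2 _), ← hb]
    simp [mul_assoc]
  have hS : ∀ k u, x (R.sim k) u = c.y (R.sim k) u := fun k u => by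
    obtain ⟨b, hb⟩ := (lift_nw (c := c) (l (R.sim k))).conj_sim (h1 (R.sim k)) ((a (R.sim k))⁻¹ * u)
    have := hθ (R.sim k) u
    simp only [x] at this ⊢
    rw [hb, c.hθ _ _ _ (hs k)] at this
    rw [hb, X.x_injective _ this]
  refine ⟨x, hθ, fun r t u => ?_, fun i j r hr => funext fun u => ?_, hA⟩
  · simp only [x, mul_add, c.add _ _ _ (hs _)]
    group
  · obtain ⟨w, hw, m, hm, rfl⟩ := RS.exists_WJ_sim hr
    obtain ⟨l, hl, rfl⟩ := R.mem_WJ_iff.1 hw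
    obtain ⟨b, hb⟩ := hA _ _ (lift_nw l).inv (R.wp l (R.sim m)) u
    obtain ⟨e, -, he⟩ := c.nw_conj hl (RS.sim_mem_Phi.2 hm)
    have h4 : x (R.wp l (R.sim m)) u = c.y (R.wp l (R.sim m)) (e * b) := by
      rw [← he, ← hS]
      simp only [Equiv.Perm.coe_inv, Equiv.symm_apply_apply] at hb
      rw [← hb]
      simp [mul_assoc]
    have h5 := hθ (R.wp l (R.sim m)) u
    rw [h4, c.hθ _ _ _ hr] at h5
    rw [h4, X.x_injective _ h5]

/-- The Curtis–Tits theorem. -/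
theorem exists_wrg (hP : ∀ r s, ∃ w ∈ R.W, ∃ i j, w r ∈ R.Phi (pr i j) ∧ w s ∈ R.Phi (pr i j)) :
    ∃ Y : WRG R K G, (∀ r t, c.θ (Y.x r t) = X.x r t) ∧ (∀ i j, ∀ r ∈ R.Phi (pr i j), Y.x r = c.y r) ∧
      ∀ r t u, t ≠ 0 → u ≠ 0 → Y.h r t * Y.h r u = Y.h r (t * u) := by
  obtain ⟨x, hθ, hadd, hy, hA⟩ := c.exists_xx
  let Y : WRG R K G :=
    { x := x
      x_add := hadd
      comm := fun r s hrs t u => by
        obtain ⟨w, hw, i, j, hr, hs⟩ := hP r s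
        obtain ⟨l, rfl⟩ := R.mem_W_iff.1 hw
        obtain ⟨t', ht⟩ := hA _ _ (lift_nw l) r t
        obtain ⟨u', hu⟩ := hA _ _ (lift_nw l) s u
        have h1 := c.comm i j _ hr _ hs (by rw [← RS.W_neg hw]; simpa using hrs) t' u'
        rw [← hy i j _ hr, ← hy i j _ hs, ← ht, ← hu] at h1
        have h2 := Subgroup.mem_map_of_mem (MulAut.conj (c.nw l : G)⁻¹).toMonoidHom h1
        rw [MonoidHom.map_closure] at h2
        simp only [MulEquiv.coe_toMonoidHom, MulAut.conj_apply, inv_inv] at h2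
        have e : (c.nw l : G)⁻¹ * (c.nw l * x r t * (c.nw l : G)⁻¹ * (c.nw l * x s u * (c.nw l : G)⁻¹) *
            (c.nw l * x r t * (c.nw l : G)⁻¹)⁻¹ * (c.nw l * x s u * (c.nw l : G)⁻¹)⁻¹) * c.nw l =
            x r t * x s u * (x r t)⁻¹ * (x s u)⁻¹ := by group
        rw [e] at h2
        refine Subgroup.closure_mono ?_ h2
        rintro _ ⟨_, ⟨k, hk, b, rfl⟩, rfl⟩
        obtain ⟨b', hb⟩ := hA _ _ (lift_nw l).inv k b
        refine ⟨(R.wp l)⁻¹ k, by simpa using hk.map (inv_mem hw), b', ?_⟩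
        rw [← hb, hy i j k (R.closed_Phi _ _ hr _ hs k hk)]
        simp }
  refine ⟨Y, hθ, hy, fun r t u ht hu => ?_⟩
  obtain ⟨w, hw, i, rfl⟩ := R.exists_W_sim r
  obtain ⟨l, rfl⟩ := R.mem_W_iff.1 hw
  obtain ⟨e, he⟩ := X.acts_nw l
  have hY : Y.ActsBy (c.nw l) (R.wp l) e := ⟨hw, he.inv, fun r u => by
    obtain ⟨b, hb⟩ := hA _ _ (lift_nw l) r u
    have := congrArg c.θ hb
    rw [map_mul, map_mul, map_inv, θ_nw, hθ, hθ, he.conj] at this
    rw [X.x_injective _ this]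
    exact hb⟩
  have hi : R.sim i ∈ R.Phi (pr i i) := RS.sim_mem_Phi.2 (by simp)
  have hn : ∀ t, Y.n (R.sim i) t = (c.Z i i).n ((subRS R (pr i i)).sim ⟨i, by simp⟩) t := fun t => by
    change x _ _ * x _ _ * x _ _ = _
    rw [hy i i _ hi, hy i i _ (RS.neg_mem_Phi.2 hi)]
    rfl
  have e0 := he.ne_zero (R.sim i)
  have hh : ∀ t, t ≠ 0 → Y.h (R.wp l (R.sim i)) t =
      c.nw l * (c.Z i i).h ((subRS R (pr i i)).sim ⟨i, by simp⟩) t * (c.nw l : G)⁻¹ := fun t ht => by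
    have a1 := hY.conj_n (R.sim i) ((e (R.sim i))⁻¹ * t)
    have a2 := hY.conj_n (R.sim i) ((e (R.sim i))⁻¹ * (-1))
    rw [mul_inv_cancel_left₀ e0, hn] at a1 a2
    have a3 := (c.Z i i).n_mul_n ((subRS R (pr i i)).sim ⟨i, by simp⟩) (mul_ne_zero (inv_ne_zero e0) ht)
      (mul_ne_zero (inv_ne_zero e0) (neg_ne_zero.2 one_ne_zero))
    rw [show -((e (R.sim i))⁻¹ * t * ((e (R.sim i))⁻¹ * -1)⁻¹) = t by field_simp] at a3
    rw [WRG.h, ← a1, ← a2, ← a3]
    group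
  rw [hh t ht, hh u hu, hh _ (mul_ne_zero ht hu), ← (c.Z i i).h_mul _ t u ht hu]
  group

end CT

end H19
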