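import Mathlib
import Cfsg.Prelude.Def_CurtisTits
import Cfsg.Agent.H19.CT

/-! The Curtis–Tits theorem for the tabulated data. -/

set_option autoImplicit false

namespace H19
open H20 Cfsg Cfsg.Lie

instance instDecInRankTwoSub (D : ChevalleyDatum) (i j r : ℕ) : Decidable (D.InRankTwoSub i j r) := by
  unfold ChevalleyDatum.InRankTwoSub; infer_instance

/-- certificate: every base pair of roots is conjugate into a rank two parabolic subsystem -/
def PairCert (D : ChevalleyDatum) (L : List (List ℕ × ℕ × ℕ)) : Prop :=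
  (∀ i < D.rank, ∃ j < D.rank, j ≠ i ∧ D.cartan j (D.simple i) ≠ 0) ∧ (∀ c ∈ L, ∀ k ∈ c.1, k < D.rank) ∧
  ∀ r < D.nroots, (∃ i < D.rank, D.cartan i r < 0) ∨ ∀ s < D.nroots,
    (∃ i < D.rank, D.cartan i r = 0 ∧ D.cartan i s < 0) ∨
      ∃ c ∈ L, D.InRankTwoSub c.2.1 c.2.2 (c.1.foldr D.reflectRoot r) ∧
        D.InRankTwoSub c.2.1 c.2.2 (c.1.foldr D.reflectRoot s)

instance instDecPairCert (D : ChevalleyDatum) (L : List (List ℕ × ℕ × ℕ)) : Decidable (PairCert D L) := by
  unfold PairCert; infer_instance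

variable {D : ChevalleyDatum} (g : Good D) {K : Type*} [Field K]

theorem inSub_iff {i j : Fin D.rank} {r : Fin D.nroots} : D.InRankTwoSub i j r ↔ r ∈ g.rs.Phi (pr i j) := by
  refine ⟨fun h k hk => (g.rs.co_eq_zero_iff r k).1 (h.2.2.2 k k.2 (fun e => hk (Or.inl (Fin.ext e)))
    fun e => hk (Or.inr (Fin.ext e))), fun h => ⟨r.2, i.2, j.2, fun k hk h1 h2 => ?_⟩⟩
  refine (g.rs.co_eq_zero_iff r ⟨k, hk⟩).2 (h _ ?_)
  rintro (e | e)
  · exact h1 (congrArg Fin.val e)
  · exact h2 (congrArg Fin.val e)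

theorem inSub_phi {i j r : ℕ} (h : D.InRankTwoSub i j r) :
    (⟨r, h.1⟩ : Fin D.nroots) ∈ g.rs.Phi (pr ⟨i, h.2.1⟩ ⟨j, h.2.2.1⟩) := (inSub_iff g).1 h

include g in
theorem inSub_neg {i j r : ℕ} (h : D.InRankTwoSub i j r) : D.InRankTwoSub i j (D.neg r) :=
  (inSub_iff g (i := ⟨i, h.2.1⟩) (j := ⟨j, h.2.2.1⟩) (r := g.rs.neg ⟨r, h.1⟩)).2
    (RS.neg_mem_Phi.2 (inSub_phi g h))

include g in
theorem inSub_comm {i j r s : ℕ} (hr : D.InRankTwoSub i j r) (hs : D.InRankTwoSub i j s) (t u : K) :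
    ∀ a ∈ D.commWord K r s t u, D.InRankTwoSub i j a.1 := by
  intro a ha
  obtain ⟨c, hc, rfl⟩ := List.mem_map.1 ha
  obtain ⟨h1, h2⟩ := g.commTerms_cone (r := ⟨r, hr.1⟩) (s := ⟨s, hs.1⟩) hc
  exact (inSub_iff g (i := ⟨i, hr.2.1⟩) (j := ⟨j, hr.2.2.1⟩) (r := ⟨c.1, h1⟩)).2
    (g.rs.closed_Phi _ _ (inSub_phi g hr) _ (inSub_phi g hs) _ h2)

theorem wp_foldr (l : List ℕ) (hl : ∀ k ∈ l, k < D.rank) (r : Fin D.nroots) :
    (g.rs.wp (l.pmap Fin.mk hl) r : ℕ) = l.foldr D.reflectRoot r := by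
  induction l with
  | nil => rfl
  | cons k l ih =>
    rw [List.pmap_cons, RS.wp_cons, Equiv.Perm.mul_apply, List.foldr_cons, ← ih fun k hk => hl k (by simp [hk])]
    rfl

theorem pair_of_cert {L : List (List ℕ × ℕ × ℕ)} (h : PairCert D L) (r s : Fin D.nroots) :
    ∃ w ∈ g.rs.W, ∃ i j, w r ∈ g.rs.Phi (pr i j) ∧ w s ∈ g.rs.Phi (pr i j) := by
  refine pair_induction g.rs
    (P := fun r s => ∃ w ∈ g.rs.W, ∃ i j, w r ∈ g.rs.Phi (pr i j) ∧ w s ∈ g.rs.Phi (pr i j)) ?_ ?_ r s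
  · rintro k r s ⟨w, hw, i, j, h1, h2⟩
    exact ⟨w * g.rs.s k, mul_mem hw (g.rs.s_mem_W k), i, j, h1, h2⟩
  · intro r s h1 h2
    rcases h.2.2 r r.2 with ⟨i, hi, h3⟩ | h3
    · exact absurd (h1 ⟨i, hi⟩) (not_le.2 h3)
    rcases h3 s s.2 with ⟨i, hi, h4, h5⟩ | ⟨c, hc, h4, h5⟩
    · exact absurd (h2 ⟨i, hi⟩ h4) (not_le.2 h5)
    rw [← wp_foldr g c.1 (h.2.1 c hc)] at h4 h5
    exact ⟨_, g.rs.wp_mem_W _, _, _, inSub_phi g h4, inSub_phi g h5⟩

variable (D K) in
/-- the generators of the Curtis–Tits group -/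
def ctGen (r : ℕ) (t : K) : D.CurtisTitsGroup K := PresentedGroup.mk (D.curtisTitsRels K) (D.stX r t)

theorem ct_word (w : List (ℕ × K)) :
    PresentedGroup.mk (D.curtisTitsRels K) (D.stWord w) = (w.map fun p => ctGen D K p.1 p.2).prod := by
  simp [ChevalleyDatum.stWord, map_list_prod, List.map_map, Function.comp_def, ctGen]

open Classical in
include g in
theorem exists_ct_hom : ∃ θ : D.CurtisTitsGroup K →* D.SteinbergGroup K,
    ∀ r t, θ (ctGen D K r t) = if ∃ i j, D.InRankTwoSub i j r then D.stGen K r t else 1 := by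
  let f : Fin D.nroots × K → D.SteinbergGroup K := fun p =>
    if ∃ i j, D.InRankTwoSub i j p.1 then D.stGen K p.1 p.2 else 1
  have hx : ∀ r t, FreeGroup.lift f (D.stX r t) = if ∃ i j, D.InRankTwoSub i j r then D.stGen K r t else 1 := by
    intro r t
    unfold ChevalleyDatum.stX
    split_ifs with h1 h2 h2
    · simp [f, h2]
    · simp only [FreeGroup.lift_apply_of, f, if_neg h2]
    · exact absurd h2.choose_spec.choose_spec.1 h1
    · exact map_one _
  have hx' : ∀ {i j r : ℕ}, D.InRankTwoSub i j r → ∀ t, FreeGroup.lift f (D.stX r t) = D.stGen K r t :=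
    fun h t => (hx _ t).trans (if_pos ⟨_, _, h⟩)
  have hw : ∀ (i j : ℕ) (w : List (ℕ × K)), (∀ a ∈ w, D.InRankTwoSub i j a.1) →
      FreeGroup.lift f (D.stWord w) = (w.map fun p => D.stGen K p.1 p.2).prod := by
    intro i j w hw
    rw [ChevalleyDatum.stWord, map_list_prod, List.map_map]
    congr 1
    exact List.map_congr_left fun a ha => hx' (hw a ha) _
  have hrel : ∀ a ∈ D.curtisTitsRels K, FreeGroup.lift f a = 1 := by
    rintro a (((⟨r, t, hr, h, rfl⟩ | ⟨i, j, r, t, u, h, rfl⟩) | ⟨i, j, r, s, t, u, hr, hs, h1, h2, rfl⟩) |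
      ⟨i, j, r, t, u, h, ht, hu, rfl⟩)
    · rw [hx, if_neg (by push Not; exact h)]
    · simp only [map_mul, map_inv, hx' h]
      rw [mul_inv_eq_one]
      exact ((stRel D K).x_add r h.1 t u).symm
    · simp only [map_mul, map_inv, hx' hr, hx' hs, hw i j _ (inSub_comm g hr hs t u)]
      have := (stRel D K).comm r s hr.1 hs.1 h1 h2 t u
      rw [mul_inv_eq_one, mul_assoc, show D.stGen K s u * D.stGen K r t = _ from this]
      simp [stRel, mul_assoc]
    · have hh : ∀ t, FreeGroup.lift f (D.stH r t) = ((stRel D K).toWRG g).h ⟨r, h.1⟩ t := fun t => by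
        rw [ChevalleyDatum.stH, hw i j, Rel.h_eq]
        · rfl
        · have := inSub_neg g h
          simp [ChevalleyDatum.hWord, ChevalleyDatum.nWord, h, this]
      simp only [map_mul, map_inv, hh]
      rw [st_h_mul g _ t u ht hu, mul_inv_cancel]
  exact ⟨PresentedGroup.toGroup hrel, hx⟩

theorem ct_comm {i j r s : ℕ} (hr : D.InRankTwoSub i j r) (hs : D.InRankTwoSub i j s) (h1 : s ≠ r)
    (h2 : s ≠ D.neg r) (t u : K) : (ctGen D K s u)⁻¹ * (ctGen D K r t)⁻¹ * ctGen D K s u * ctGen D K r t =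
      ((D.commWord K r s t u).map fun p => ctGen D K p.1 p.2).prod := by
  have := PresentedGroup.one_of_mem (rels := D.curtisTitsRels K)
    (Or.inl (Or.inr ⟨i, j, r, s, t, u, hr, hs, h1, h2, rfl⟩))
  rw [map_mul, map_inv, mul_inv_eq_one, ct_word] at this
  rw [← this]
  simp [ctGen]

theorem ct_add {i j r : ℕ} (hr : D.InRankTwoSub i j r) (t u : K) :
    ctGen D K r (t + u) = ctGen D K r t * ctGen D K r u := by
  have := PresentedGroup.one_of_mem (rels := D.curtisTitsRels K) (Or.inl (Or.inl (Or.inr ⟨i, j, r, t, u, hr, rfl⟩)))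
  rw [map_mul, map_mul, map_inv, mul_inv_eq_one] at this
  exact this.symm

theorem ct_inv {i j r : ℕ} (hr : D.InRankTwoSub i j r) (t : K) : (ctGen D K r t)⁻¹ = ctGen D K r (-t) := by
  have h0 : ctGen D K r 0 = 1 := by simpa using (ct_add hr (0 : K) 0).symm
  rw [inv_eq_iff_mul_eq_one, ← ct_add hr, add_neg_cancel, h0]

theorem curtis_tits (M : MatRG g K) {L : List (List ℕ × ℕ × ℕ)} (hL : PairCert D L) :
    ∃ e : D.CurtisTitsGroup K ≃* D.SteinbergGroup K,
      ∀ (i j r : ℕ) (t : K), D.InRankTwoSub i j r →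
        e (PresentedGroup.mk (D.curtisTitsRels K) (D.stX r t)) = D.stGen K r t := by
  classical
  obtain ⟨θ, hθ⟩ := exists_ct_hom (K := K) g
  let c : CT M.St (D.CurtisTitsGroup K) :=
    { θ := θ
      y := fun r => ctGen D K r
      hθ := fun i j r hr t => by rw [hθ, if_pos ⟨i, j, (inSub_iff g).2 hr⟩]; rfl
      add := fun i j r hr => ct_add ((inSub_iff g).2 hr)
      comm := fun i j r hr s hs h t u => by
        have hr' := (inSub_iff g).2 hr
        have hs' := (inSub_iff g).2 hs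
        by_cases hrs : s = r
        · subst hrs
          rw [← ct_add hs', add_comm, ct_add hs']
          simp
        have h1 := ct_comm hr' hs' (fun h' => hrs (Fin.ext h')) (fun h' => h (Fin.ext h')) (-t) (-u)
        rw [← ct_inv hr', ← ct_inv hs'] at h1
        have h2 : ctGen D K r t * ctGen D K s u * (ctGen D K r t)⁻¹ * (ctGen D K s u)⁻¹ =
            (((D.commWord K r s (-t) (-u)).map fun p => ctGen D K p.1 p.2).prod)⁻¹ := by
          rw [← h1]; group
        rw [h2]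
        refine inv_mem (list_prod_mem ?_)
        intro a ha
        simp only [ChevalleyDatum.commWord, List.map_map, List.mem_map, Function.comp_apply] at ha
        obtain ⟨c, hc, rfl⟩ := ha
        obtain ⟨hu, hcone⟩ := g.commTerms_cone hc
        exact Subgroup.subset_closure ⟨⟨c.1, hu⟩, hcone, _, rfl⟩
      hmul := fun i j r hr t u ht hu => by
        have := PresentedGroup.one_of_mem (rels := D.curtisTitsRels K)
          (Or.inr ⟨i, j, r, t, u, (inSub_iff g).2 hr, ht, hu, rfl⟩)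
        rw [map_mul, map_mul, map_inv, mul_inv_eq_one] at this
        have e : ∀ t, PresentedGroup.mk (D.curtisTitsRels K) (D.stH r t) =
            hh g.rs (fun r : Fin D.nroots => ctGen D K r) r t := fun t => by
          rw [ChevalleyDatum.stH, ct_word]
          simp [ChevalleyDatum.hWord, ChevalleyDatum.nWord, hh, nn, mul_assoc]
        rwa [e, e, e] at this
      adj := fun i => by
        obtain ⟨j, hj, h1, h2⟩ := hL.1 i i.2
        exact ⟨⟨j, hj⟩, fun e => h1 (congrArg Fin.val e), h2⟩ }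
  obtain ⟨Y, hY1, hY2, hY3⟩ := c.exists_wrg (pair_of_cert g hL)
  let x : ℕ → K → D.CurtisTitsGroup K := fun r t => if h : r < D.nroots then Y.x ⟨r, h⟩ t else 1
  have hx : ∀ (r : Fin D.nroots) t, x r t = Y.x r t := fun r t => dif_pos r.2
  have hθx : ∀ r < D.nroots, ∀ t, θ (x r t) = D.stGen K r t := fun r hr t => by
    rw [hx ⟨r, hr⟩]; exact hY1 _ _
  let Z : Rel D K (D.CurtisTitsGroup K) :=
    { x := x
      x_add := fun r hr t u => by rw [hx ⟨r, hr⟩, hx ⟨r, hr⟩, hx ⟨r, hr⟩, Y.x_add]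
      comm := fun r s hr hs h1 h2 t u => by
        obtain ⟨w, hw, h3, h4⟩ := RS.exists_common_pos (R := g.rs) (r := ⟨r, hr⟩) (t := ⟨s, hs⟩)
          fun e => h2 (congrArg Fin.val e)
        have m1 : ∀ t, x r t ∈ Y.XS {k | g.rs.Pos (w k)} := fun t => hx ⟨r, hr⟩ t ▸ Y.x_mem_XS h3 t
        have m2 : ∀ t, x s t ∈ Y.XS {k | g.rs.Pos (w k)} := fun t => hx ⟨s, hs⟩ t ▸ Y.x_mem_XS h4 t
        refine WRG.eq_of_map_eq (X := M.St) hY1 hw (mul_mem (m2 u) (m1 t))
          (mul_mem (mul_mem (m1 t) (m2 u)) (list_prod_mem ?_)) ?_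
        · intro a ha
          simp only [ChevalleyDatum.commWord, List.map_map, List.mem_map, Function.comp_apply] at ha
          obtain ⟨c, hc, rfl⟩ := ha
          obtain ⟨hu, hcone⟩ := g.commTerms_cone (r := ⟨r, hr⟩) (s := ⟨s, hs⟩) hc
          rw [hx ⟨c.1, hu⟩]
          exact Y.x_mem_XS ((hcone.map hw).pos h3 h4) _
        · change θ _ = θ _
          rw [map_mul, map_mul, map_mul, hθx r hr, hθx s hs, map_list_prod, List.map_map]
          refine ((stRel D K).comm r s hr hs h1 h2 t u).trans ?_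
          congr 2
          refine List.map_congr_left fun a ha => ?_
          obtain ⟨c, hc, rfl⟩ := List.mem_map.1 ha
          exact (hθx _ (g.commTerms_cone (r := ⟨r, hr⟩) (s := ⟨s, hs⟩) hc).1 _).symm }
  have hZ : ∀ r t, (Z.toWRG g).h r t = Y.h r t := fun r t => by
    simp only [WRG.h, WRG.n, Rel.toWRG_x, Z, hx]
  obtain ⟨ψ, hψ⟩ := Z.exists_st_hom g fun r t u ht hu => by rw [hZ, hZ, hZ, hY3 r t u ht hu]
  refine ⟨MonoidHom.toMulEquiv θ ψ ?_ ?_, fun i j r t h => ?_⟩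
  · refine PresentedGroup.ext fun p => ?_
    have e : (PresentedGroup.of p : D.CurtisTitsGroup K) = ctGen D K p.1 p.2 := by
      simp [ctGen, ChevalleyDatum.stX, PresentedGroup.of]
    rw [e, MonoidHom.comp_apply, hθ, MonoidHom.id_apply]
    split_ifs with h
    · obtain ⟨i, j, h⟩ := h
      rw [hψ _ _ p.1.2]
      exact (hx p.1 p.2).trans (congrFun (hY2 _ _ _ (inSub_phi g h)) p.2)
    · rw [map_one]
      exact (PresentedGroup.one_of_mem (rels := D.curtisTitsRels K)
        (Or.inl (Or.inl (Or.inl ⟨p.1, p.2, p.1.2, by push Not at h; exact h, rfl⟩)))).symm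
  · refine st_hom_ext fun r t => ?_
    rw [MonoidHom.comp_apply, hψ _ _ r.2]
    exact hθx r r.2 t
  · exact (hθ r t).trans (if_pos ⟨i, j, h⟩)

end H19
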