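import Mathlib
import Cfsg.Prelude.Def_LieTypes
import Cfsg.Agent.H19.CTD

/-! Certificates for the Curtis–Tits theorem. -/

set_option autoImplicit false
set_option maxRecDepth 100000

namespace H19
open Cfsg Cfsg.Lie

theorem pairCertD4 : PairCert chevD4 [([2, 0, 1], 1, 3), ([3, 2, 1, 0], 0, 1), ([1, 3, 0, 1], 0, 2), ([1, 2, 0, 1], 0, 3), ([1, 2, 0, 1], 2, 3)] := by
  decide +kernel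

theorem pairCertF4 : PairCert chevF4 [([3, 0, 1, 2, 1, 0], 1, 2), ([3, 2, 0, 1, 2, 3, 1, 0], 1, 2), ([2, 3, 1, 2, 0, 1, 2, 0, 1], 0, 1), ([1, 2, 3, 2, 1, 2, 0, 1, 2, 0], 0, 2), ([1, 2, 0, 1, 2, 3, 0, 1, 2], 2, 3), ([2, 1, 2, 0, 1, 2, 3, 2, 0, 1], 0, 3)] := by
  decide +kernel

theorem pairCertE6 : PairCert chevE6 [([3, 2, 1, 3, 4, 0, 2, 3, 1], 4, 5), ([3, 4, 5, 1, 3, 4, 2, 3, 0, 2, 1, 3], 0, 2), ([3, 4, 5, 0, 2, 3, 4, 0, 2, 1, 3, 2, 1, 0], 1, 2)] := by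
  decide +kernel

theorem pairCertE7 : PairCert chevE7 [([4, 3, 2, 1, 3, 4, 5, 0, 2, 3, 4, 1, 3, 2, 0], 5, 6), ([4, 3, 2, 1, 3, 4, 5, 6, 0, 2, 3, 4, 5, 1, 3, 4, 2, 3, 0, 2], 5, 6), ([3, 4, 5, 6, 0, 2, 3, 4, 5, 1, 3, 4, 2, 3, 0, 2, 1, 3, 4, 5, 1, 3, 2, 0], 1, 2)] := by
  decide +kernel

theorem pairCertE8 : PairCert chevE8 [([5, 4, 3, 2, 1, 3, 4, 5, 6, 0, 2, 3, 4, 5, 1, 3, 4, 2, 3, 0, 2, 1, 3, 4, 5, 6, 7], 6, 7), ([5, 4, 3, 2, 1, 3, 4, 5, 6, 0, 2, 3, 4, 5, 1, 3, 4, 2, 3, 0, 2, 1, 3, 4, 5, 6, 7, 6, 5, 4, 3, 2, 1, 3, 4, 5, 6], 6, 7), ([3, 4, 5, 6, 7, 1, 3, 4, 5, 6, 0, 2, 3, 4, 5, 1, 3, 4, 2, 3, 0, 2, 1, 3, 4, 5, 6, 7, 5, 4, 3, 2, 1, 3, 4, 5, 0, 2, 3, 4, 1, 3, 2, 0], 1, 2)] := by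
  decide +kernel

end H19
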