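import Mathlib
import Cfsg.Agent.H19.Asm2
import Cfsg.Agent.H19.TabB2
import Cfsg.Agent.H20.GoodB2

/-! Certificates for type B2: fundamental group, connectedness, perfectness. -/

set_option autoImplicit false
set_option maxRecDepth 100000

namespace H19
open Cfsg Cfsg.Lie H20

/-- the root group package of type B2 -/
noncomputable def matB2 (F : Type*) [Field F] : MatRG goodB2 F := tabB2.matRG goodB2 F

theorem kerB2 : KerCert goodB2.rs 2 (r := 1) (fun k => ⟨([0] : List ℕ).getD k 0 % 2, Nat.mod_lt _ (by decide)⟩)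
    (fun k i => (([[1, 0]] : List (List ℤ)).getD k []).getD i 0)
    (fun i j => (([[0, 0], [1, 1]] : List (List ℤ)).getD i []).getD j 0)
    (fun k i => (([[2, 1]] : List (List ℤ)).getD k []).getD i 0) := by
  decide +kernel

theorem treeB2 : TreeCert goodB2.rs ⟨0, by decide⟩
    (fun i => ⟨([0, 0] : List ℕ).getD i 0 % 2, Nat.mod_lt _ (by decide)⟩)
    (fun i => ([0, 1] : List ℕ).getD i 0) := by
  decide +kernel

theorem perfectB2 (F : Type*) [Field F] (hF : ∃ a : F, a ≠ 0 ∧ a ≠ 1) :
    commutator ↥(chevB2.group F) = ⊤ := by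
  obtain ⟨a, h0, h1⟩ := hF
  rw [(matB2 F).isMat.grp_eq]
  refine commutator_eq_top_of (matB2 F).X.toSRG fun i t => ?_
  have hi : i = ⟨0, by decide⟩ ∨ i = ⟨1, by decide⟩ := by revert i; decide
  rcases hi with rfl | rfl
  · exact x_mem_comm_of_torus _ (s := goodB2.rs.sim ⟨1, by decide⟩) (by decide +kernel) h0 h1 t
  · exact x_mem_comm_of_two (matB2 F) (k' := ⟨6, by decide⟩) (r := 2) (s := 7) (by decide) (by decide)
      (by decide) (by decide) (e := -1) (e' := 1) (by decide) (by decide +kernel)
      (x_mem_comm_of_torus _ (s := ⟨0, by decide⟩) (by decide +kernel) h0 h1) t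

end H19
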