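import Mathlib
import Cfsg.Agent.H19.Asm2
import Cfsg.Agent.H20.St

/-! Matrix representations of the Steinberg relations given by row tables, with a verified evaluator. -/

set_option autoImplicit false

namespace H19
open Cfsg Cfsg.Lie H20 Matrix

/-- a coding of a finite index type by the natural numbers below `N` -/
structure Coding (I : Type) where
  N : ℕ
  cd : I → ℕ
  dc : ℕ → I
  cd_lt : ∀ i, cd i < N
  dc_cd : ∀ i, dc (cd i) = i
  cd_dc : ∀ c < N, cd (dc c) = c

/-- row tables: letter, row ↦ list of (column, coefficient, power of the parameter) -/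
abbrev RT := ℕ → ℕ → List (ℕ × ℤ × ℕ)

section evaluator
variable {M : Type} [Add M] [Zero M] [DecidableEq M]

def rapp (N : ℕ) (T : RT) (p : ℤ) (L : List (ℕ × ℤ × M)) (a : ℕ × List (ℤ × M)) : List (ℕ × ℤ × M) :=
  vnorm p (L.flatMap fun e => (bif Nat.blt e.1 N then T a.1 e.1 else []).flatMap fun v =>
    (ppow a.2 v.2.2).map fun q => (v.1, e.2.1 * v.2.1 * q.1, e.2.2 + q.2))

def rappW (N : ℕ) (T : RT) (p : ℤ) (w : List (ℕ × List (ℤ × M))) (L : List (ℕ × ℤ × M)) : List (ℕ × ℤ × M) :=
  w.foldl (rapp N T p) L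

/-- the row number `i` of the matrix of a word -/
def rowW (N : ℕ) (T : RT) (p : ℤ) (w : List (ℕ × List (ℤ × M))) (i : ℕ) : List (ℕ × ℤ × M) :=
  rappW N T p w [(i, 1, 0)]

def rweq (N : ℕ) (T : RT) (p : ℤ) (w₁ w₂ : List (ℕ × List (ℤ × M))) : Bool :=
  allB N fun i => veq p (rowW N T p w₁ i) (rowW N T p w₂ i)

variable {F : Type*} [Field F]

/-- the value of a formal linear form -/
def evG (b : ℕ → F) (ev : M → F) (L : List (ℕ × ℤ × M)) : F :=
  (L.map fun e => ((e.2.1 : ℤ) : F) * ev e.2.2 * b e.1).sum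

variable {b : ℕ → F} {ev : M → F}

omit [Add M] [Zero M] [DecidableEq M] in
theorem evG_nil : evG b ev [] = 0 := rfl

omit [Add M] [Zero M] [DecidableEq M] in
theorem evG_append (L₁ L₂ : List (ℕ × ℤ × M)) : evG b ev (L₁ ++ L₂) = evG b ev L₁ + evG b ev L₂ := by
  simp [evG]

omit [Add M] [Zero M] [DecidableEq M] in
theorem evG_cons (e : ℕ × ℤ × M) (L : List (ℕ × ℤ × M)) :
    evG b ev (e :: L) = ((e.2.1 : ℤ) : F) * ev e.2.2 * b e.1 + evG b ev L := by
  simp [evG]

omit [Add M] [Zero M] in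
theorem evG_vins (e : ℕ × ℤ × M) (L : List (ℕ × ℤ × M)) : evG b ev (vins e L) = evG b ev (e :: L) := by
  induction L with
  | nil => rfl
  | cons f L ih =>
    unfold vins
    cases hb : (Nat.beq e.1 f.1 && decide (e.2.2 = f.2.2))
    · rw [cond_false, evG_cons, ih, evG_cons, evG_cons, evG_cons]; ring
    · rw [cond_true]
      rw [Bool.and_eq_true, Nat.beq_eq, decide_eq_true_eq] at hb
      rw [evG_cons, evG_cons, evG_cons, hb.1, hb.2]
      simp only [Int.cast_add]; ring

omit [Add M] [Zero M] [DecidableEq M] in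
theorem evG_filter {q : ℕ × ℤ × M → Bool} (L : List (ℕ × ℤ × M))
    (h : ∀ e ∈ L, q e = false → ((e.2.1 : ℤ) : F) * ev e.2.2 * b e.1 = 0) :
    evG b ev (L.filter q) = evG b ev L := by
  induction L with
  | nil => rfl
  | cons e L ih =>
    have ih' := ih fun f hf => h f (List.mem_cons_of_mem _ hf)
    rw [List.filter_cons]
    cases he : q e
    · rw [if_neg (by simp), ih', evG_cons, h e (by simp) he, zero_add]
    · rw [if_pos rfl, evG_cons, evG_cons, ih']

omit [Add M] [Zero M] in
theorem evG_vnorm {p : ℤ} (hp : ((p : ℤ) : F) = 0) (L : List (ℕ × ℤ × M)) :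
    evG b ev (vnorm p L) = evG b ev L := by
  unfold vnorm
  rw [evG_filter]
  · induction L with
    | nil => rfl
    | cons e L ih => rw [List.foldr_cons, evG_vins, evG_cons, ih, evG_cons]
  · intro e _ he
    have he' : e.2.1 % p = 0 := by simpa using he
    obtain ⟨c, hc⟩ := Int.dvd_of_emod_eq_zero he'
    rw [hc, Int.cast_mul, hp]; simp

omit [Add M] [Zero M] in
theorem evG_of_veq {p : ℤ} (hp : ((p : ℤ) : F) = 0) {L₁ L₂ : List (ℕ × ℤ × M)} (h : veq p L₁ L₂ = true) :
    evG b ev L₁ = evG b ev L₂ := by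
  unfold veq at h
  rw [List.isEmpty_iff] at h
  have h1 := evG_vnorm (b := b) (ev := ev) hp (L₁ ++ L₂.map fun e => (e.1, -e.2.1, e.2.2))
  rw [h, evG_append] at h1
  have h2 : evG b ev (L₂.map fun e => (e.1, -e.2.1, e.2.2)) = - evG b ev L₂ := by
    clear h h1
    induction L₂ with
    | nil => simp [evG]
    | cons e L ih => rw [List.map_cons, evG_cons, evG_cons, ih]; push_cast; ring
  rw [h2, evG_nil] at h1
  exact add_neg_eq_zero.1 h1.symm

end evaluator

namespace Coding
variable {I : Type} [Fintype I] [DecidableEq I] (C : Coding I) (T : RT) {F : Type*} [Field F]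

/-- the coordinate with code `c` -/
def xc (x : I → F) (c : ℕ) : F := if c < C.N then x (C.dc c) else 0

/-- the basis vector with code `c` -/
def e (F : Type*) [Field F] (c : ℕ) : I → F := fun i => if C.cd i = c then 1 else 0

/-- the matrix of a letter -/
def Y (r : ℕ) (t : F) : Matrix I I F :=
  of fun i j => ((T r (C.cd i)).map fun e => if e.1 = C.cd j then ((e.2.1 : ℤ) : F) * t ^ e.2.2 else 0).sum

/-- the matrix of a word -/
def W (w : List (ℕ × F)) : Matrix I I F := (w.map fun a => C.Y T a.1 a.2).prod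

variable {C T}

omit [Fintype I] [DecidableEq I] in
theorem xc_cd (x : I → F) (i : I) : C.xc x (C.cd i) = x i := by rw [xc, if_pos (C.cd_lt i), C.dc_cd]

omit [Fintype I] [DecidableEq I] in
theorem xc_lt (x : I → F) {c : ℕ} (hc : c < C.N) : C.xc x c = x (C.dc c) := if_pos hc

omit [Fintype I] [DecidableEq I] in
theorem xc_ge (x : I → F) {c : ℕ} (hc : ¬c < C.N) : C.xc x c = 0 := if_neg hc

omit [Fintype I] [DecidableEq I] in
theorem xc_e {a : ℕ} (ha : a < C.N) (c : ℕ) : C.xc (C.e F c) a = if a = c then 1 else 0 := by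
  rw [xc_lt _ ha, e, C.cd_dc a ha]

omit [Fintype I] [DecidableEq I] in
theorem xc_add (x y : I → F) (c : ℕ) : C.xc (x + y) c = C.xc x c + C.xc y c := by
  unfold xc; split_ifs <;> simp

omit [Fintype I] [DecidableEq I] in
theorem xc_smul (a : F) (x : I → F) (c : ℕ) : C.xc (a • x) c = a * C.xc x c := by
  unfold xc; split_ifs <;> simp

omit [Fintype I] [DecidableEq I] in
theorem xc_zero (c : ℕ) : C.xc (0 : I → F) c = 0 := by
  unfold xc; split_ifs <;> simp

omit [Fintype I] [DecidableEq I] in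
theorem vec_ext {x y : I → F} (h : ∀ c < C.N, C.xc x c = C.xc y c) : x = y := by
  funext i; rw [← C.xc_cd x, ← C.xc_cd y, h _ (C.cd_lt i)]

omit [DecidableEq I] in
theorem sum_ite_cd (x : I → F) (c : ℕ) (a : F) : ∑ j, (if c = C.cd j then a else 0) * x j = a * C.xc x c := by
  by_cases hc : c < C.N
  · rw [Finset.sum_eq_single (C.dc c), C.cd_dc c hc, if_pos rfl, xc_lt _ hc]
    · intro j _ hj
      rw [if_neg, zero_mul]
      rintro rfl
      exact hj (C.dc_cd j).symm
    · simp
  · rw [xc_ge _ hc, mul_zero]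
    refine Finset.sum_eq_zero fun j _ => ?_
    rw [if_neg, zero_mul]
    rintro rfl
    exact hc (C.cd_lt j)

omit [DecidableEq I] in
theorem Y_mulVec (r : ℕ) (t : F) (x : I → F) {i : ℕ} (hi : i < C.N) :
    C.xc (C.Y T r t *ᵥ x) i = ((T r i).map fun e => ((e.2.1 : ℤ) : F) * t ^ e.2.2 * C.xc x e.1).sum := by
  rw [xc_lt _ hi, mulVec, dotProduct]
  simp only [Y, of_apply, C.cd_dc i hi]
  induction T r i with
  | nil => simp
  | cons e L ih => simp only [List.map_cons, List.sum_cons, add_mul, Finset.sum_add_distrib, ih, sum_ite_cd]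

theorem W_nil : C.W T ([] : List (ℕ × F)) = 1 := rfl

theorem W_cons (a : ℕ × F) (w : List (ℕ × F)) : C.W T (a :: w) = C.Y T a.1 a.2 * C.W T w := by simp [W]

theorem W_append (v w : List (ℕ × F)) : C.W T (v ++ w) = C.W T v * C.W T w := by simp [W]

theorem mat_ext {A B : Matrix I I F} (h : ∀ x, ∀ i < C.N, C.xc (A *ᵥ x) i = C.xc (B *ᵥ x) i) : A = B := by
  ext i j
  have := congrFun (C.vec_ext (h (Pi.single j 1))) i
  simpa using this

section
variable {M : Type} [Add M] [Zero M] [DecidableEq M] {ev : M → F} (h0 : ev 0 = 1)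
  (hadd : ∀ a b, ev (a + b) = ev a * ev b) {p : ℤ} (hp : ((p : ℤ) : F) = 0)
include h0 hadd hp

omit [DecidableEq I] in
theorem evG_rapp (x : I → F) (L : List (ℕ × ℤ × M)) (a : ℕ × List (ℤ × M)) :
    evG (C.xc x) ev (rapp C.N T p L a) = evG (C.xc (C.Y T a.1 (evP ev a.2) *ᵥ x)) ev L := by
  unfold rapp
  rw [evG_vnorm hp]
  induction L with
  | nil => rfl
  | cons e L ih =>
    rw [List.flatMap_cons, evG_append, ih, evG_cons]
    congr 1
    by_cases he : e.1 < C.N
    · rw [blt_true he, cond_true, Y_mulVec _ _ _ he]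
      induction T a.1 e.1 with
      | nil => simp [evG]
      | cons v K ihK =>
        rw [List.flatMap_cons, evG_append, ihK, List.map_cons, List.sum_cons, mul_add]
        congr 1
        rw [← evP_ppow h0 hadd]
        generalize ppow a.2 v.2.2 = Q
        induction Q with
        | nil => simp [evG, evP]
        | cons q Q ihQ =>
          rw [List.map_cons, evG_cons, ihQ]
          simp only [evP, List.map_cons, List.sum_cons, hadd, Int.cast_mul]
          ring
    · rw [blt_false he, cond_false, xc_ge _ he]; simp [evG]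

theorem evG_rappW (w : List (ℕ × List (ℤ × M))) (x : I → F) (L : List (ℕ × ℤ × M)) :
    evG (C.xc x) ev (rappW C.N T p w L) = evG (C.xc (C.W T (evW ev w) *ᵥ x)) ev L := by
  induction w generalizing L with
  | nil => simp [rappW, evW, W_nil]
  | cons a w ih =>
    have : rappW C.N T p (a :: w) L = rappW C.N T p w (rapp C.N T p L a) := rfl
    rw [this, ih, evG_rapp h0 hadd hp, mulVec_mulVec]
    simp [evW, W_cons]

theorem xc_W (w : List (ℕ × List (ℤ × M))) (x : I → F) (i : ℕ) :
    C.xc (C.W T (evW ev w) *ᵥ x) i = evG (C.xc x) ev (rowW C.N T p w i) := by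
  rw [rowW, evG_rappW h0 hadd hp]; simp [evG, h0]

theorem W_eq_of_rweq {w₁ w₂ : List (ℕ × List (ℤ × M))} (h : rweq C.N T p w₁ w₂ = true) :
    C.W T (evW ev w₁) = C.W T (evW ev w₂) := by
  refine C.mat_ext fun x i hi => ?_
  rw [xc_W h0 hadd hp, xc_W h0 hadd hp]
  exact evG_of_veq hp (allB_iff.1 h i hi)

end

end Coding

/-! ### transport of the commutator formula along the Weyl group, in an arbitrary group -/

section transport
variable {D : ChevalleyDatum} {η : ℕ → ℕ → ℤ} {F : Type*} [Field F] {G : Type*} [Group G]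

theorem Tab.comm_of_base (h : Tab D η) (y : ℕ → F → G)
    (hN : ∀ i < D.rank, ∃ ν : G, ∀ s < D.nroots, ∀ t,
      ν * y s t = y (D.reflectRoot i s) (((η i s : ℤ) : F) * t) * ν)
    (hb : ∀ r < D.nroots, ∀ s < D.nroots, (∀ i < D.rank, 0 ≤ D.cartan i r) →
      (∀ i < D.rank, D.cartan i r = 0 → 0 ≤ D.cartan i s) → s ≠ r → s ≠ D.neg r → ∀ t u,
      y s u * y r t = y r t * y s u * ((D.commWord F r s t u).map fun p => y p.1 p.2).prod)
    {r s : ℕ} (hr : r < D.nroots) (hs : s < D.nroots) (h1 : s ≠ r) (h2 : s ≠ D.neg r) (t u : F) :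
    y s u * y r t = y r t * y s u * ((D.commWord F r s t u).map fun p => y p.1 p.2).prod := by
  have tr : ∀ i < D.rank, ∀ r < D.nroots, ∀ s < D.nroots,
      (∀ t u, y s u * y r t = y r t * y s u * ((D.commWord F r s t u).map fun p => y p.1 p.2).prod) →
      ∀ t u, y (D.reflectRoot i s) u * y (D.reflectRoot i r) t = y (D.reflectRoot i r) t * y (D.reflectRoot i s) u *
        ((D.commWord F (D.reflectRoot i r) (D.reflectRoot i s) t u).map fun p => y p.1 p.2).prod := by
    intro i hi r hr s hs ih t u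
    obtain ⟨ν, hν⟩ := hN i hi
    have k : ∀ s < D.nroots, ∀ a : F, y (D.reflectRoot i s) a = ν * y s (((η i s : ℤ) : F) * a) * ν⁻¹ := by
      intro s hs a; rw [hν s hs, ← mul_assoc (η i s : F), h.eta_sq' hi hs, one_mul, mul_inv_cancel_right]
    have kw : ∀ w : List (ℕ × F), (∀ a ∈ w, a.1 < D.nroots) → ν * (w.map fun p => y p.1 p.2).prod * ν⁻¹ =
        (w.map fun p => y (D.reflectRoot i p.1) (((η i p.1 : ℤ) : F) * p.2)).prod := by
      intro w hw
      induction w with
      | nil => simp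
      | cons a w ihw =>
        rw [List.map_cons, List.map_cons, List.prod_cons, List.prod_cons, ← ihw fun b hb => hw b (by simp [hb]),
          ← mul_assoc, hν _ (hw a (by simp))]
        group
    have k2 : ((D.commWord F (D.reflectRoot i r) (D.reflectRoot i s) t u).map fun p => y p.1 p.2).prod =
        ν * ((D.commWord F r s (((η i r : ℤ) : F) * t) (((η i s : ℤ) : F) * u)).map fun p => y p.1 p.2).prod * ν⁻¹ := by
      rw [kw]
      · congr 1
        unfold ChevalleyDatum.commWord
        rw [h.commTerms_w hi hr hs, List.map_map, List.map_map, List.map_map]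
        apply List.map_congr_left
        intro c _
        simp only [Function.comp_apply]
        congr 1
        push_cast
        rw [neg_mul_eq_mul_neg, mul_pow, mul_pow]; ring
      · intro a ha
        unfold ChevalleyDatum.commWord at ha
        obtain ⟨c, hc, rfl⟩ := List.mem_map.1 ha
        exact h.commTerms_lt hr hs c hc
    rw [k2, k r hr, k s hs]
    calc _ = ν * (y s (((η i s : ℤ) : F) * u) * y r (((η i r : ℤ) : F) * t)) * ν⁻¹ := by group
      _ = _ := by rw [ih]; group
  revert t u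
  induction hm : D.nroots - r using Nat.strong_induction_on generalizing r s with
  | _ m ih =>
  induction hm' : D.nroots - s using Nat.strong_induction_on generalizing s with
  | _ m' ih' =>
  have step : ∀ i < D.rank, (∀ t u : F, y (D.reflectRoot i s) u * y (D.reflectRoot i r) t =
      y (D.reflectRoot i r) t * y (D.reflectRoot i s) u *
        ((D.commWord F (D.reflectRoot i r) (D.reflectRoot i s) t u).map fun p => y p.1 p.2).prod) →
      ∀ t u : F, y s u * y r t = y r t * y s u * ((D.commWord F r s t u).map fun p => y p.1 p.2).prod := by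
    intro i hi hh t u
    have := tr i hi _ (h.w_lt i hi r hr) _ (h.w_lt i hi s hs) hh t u
    rwa [h.w_w i hi r hr, h.w_w i hi s hs] at this
  have ne1 : ∀ i < D.rank, D.reflectRoot i s ≠ D.reflectRoot i r := fun i hi e => h1 (h.w_inj hi hs hr e)
  have ne2 : ∀ i < D.rank, D.reflectRoot i s ≠ D.neg (D.reflectRoot i r) := fun i hi e =>
    h2 (h.w_inj hi hs (h.neg_lt r hr) (by rw [e, h.w_neg i hi r hr]))
  by_cases c1 : ∀ i < D.rank, 0 ≤ D.cartan i r
  swap
  · push Not at c1
    obtain ⟨i, hi, c1⟩ := c1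
    have := h.raise i hi r hr c1
    have hw := h.w_lt i hi r hr
    exact step i hi (ih _ (by omega) hw (h.w_lt i hi s hs) (ne1 i hi) (ne2 i hi) rfl)
  by_cases c2 : ∀ i < D.rank, D.cartan i r = 0 → 0 ≤ D.cartan i s
  swap
  · push Not at c2
    obtain ⟨i, hi, c2, c3⟩ := c2
    have := h.raise i hi s hs c3
    have hw := h.w_lt i hi s hs
    have e := h.w_fix i hi r hr c2
    apply step i hi
    have n1 := ne1 i hi
    have n2 := ne2 i hi
    rw [e] at n1 n2 ⊢
    exact ih' _ (by omega) hw n1 n2 rfl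
  exact hb r hr s hs c1 c2 h1 h2

end transport

/-! ### the check that a table satisfies Steinberg's relations -/

namespace Rec
variable (R : Rec) (η : ℕ → ℕ → ℤ) (N : ℕ) (T : RT)

def rZero : Bool := allB R.n fun r => rweq N T 0 [(r, ([] : List (ℤ × ℕ)))] []

def rAdd : Bool := allB R.n fun r =>
  rweq N T 0 [(r, [(1, ((1 : ℕ), (0 : ℕ)))]), (r, [(1, (0, 1))])] [(r, [(1, (1, 0)), (1, (0, 1))])]

def rN (i : ℕ) : Bool := allB R.n fun s =>
  rweq N T 0 [(R.sim i, [(1, (0 : ℕ))]), (R.neg (R.sim i), [(-1, 0)]), (R.sim i, [(1, 0)]), (s, [(1, 1)])]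
    [(R.refl i s, [(η i s, 1)]), (R.sim i, [(1, (0 : ℕ))]), (R.neg (R.sim i), [(-1, 0)]), (R.sim i, [(1, 0)])]

def rComm : Bool :=
  allB R.n fun r => !(allB R.l fun i => decide (0 ≤ R.car i r)) ||
    allB R.n fun s => !(allB R.l fun i => decide (R.car i r = 0 → 0 ≤ R.car i s)) ||
      Nat.beq s r || Nat.beq s (R.neg r) ||
      rweq N T 0 [(s, [(1, ((0 : ℕ), (1 : ℕ)))]), (r, [(1, (1, 0))])]
        ((r, [(1, (1, 0))]) :: (s, [(1, (0, 1))]) ::
          (R.commTerms r s).map fun c => (c.1, [(c.2.1 * (-1) ^ c.2.2.1, (c.2.2.1, c.2.2.2))]))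

/-- the word `h_r(m)` for a monomial `m` -/
def hW {M : Type} [Zero M] [Neg M] (r : ℕ) (m : M) : List (ℕ × List (ℤ × M)) :=
  [(r, [(1, m)]), (R.neg r, [(-1, -m)]), (r, [(1, m)]), (r, [(-1, 0)]), (R.neg r, [(1, 0)]), (r, [(-1, 0)])]

def rH : Bool := allB R.n fun r =>
  rweq N T 0 (R.hW r ((1 : ℤ), (0 : ℤ)) ++ R.hW r (0, 1)) (R.hW r (1, 1))

structure RepChk : Prop where
  cZero : R.rZero N T = true
  cAdd : R.rAdd N T = true
  cN : ∀ i < R.l, R.rN η N T i = true
  cComm : R.rComm N T = true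
  cH : R.rH N T = true

end Rec

/-- a solution of Steinberg's relations by the matrices of a table -/
structure RepRel (D : ChevalleyDatum) {I : Type} [Fintype I] [DecidableEq I] (C : Coding I) (T : RT)
    (F : Type*) [Field F] where
  Y : Rel D F (GL I F)
  coe : ∀ r < D.nroots, ∀ t, (Y.x r t : Matrix I I F) = C.Y T r t
  h_mul : ∀ (g : Good D) r t u, t ≠ 0 → u ≠ 0 →
    (Y.toWRG g).h r t * (Y.toWRG g).h r u = (Y.toWRG g).h r (t * u)

section
variable {D : ChevalleyDatum} {η : ℕ → ℕ → ℤ} {I : Type} [Fintype I] [DecidableEq I] {C : Coding I} {T : RT}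
  {F : Type*} [Field F]

theorem coe_prod_of {y : ℕ → F → GL I F} {n : ℕ} (hy : ∀ r < n, ∀ t, (y r t : Matrix I I F) = C.Y T r t)
    (w : List (ℕ × F)) (hw : ∀ a ∈ w, a.1 < n) :
    (((w.map fun p => y p.1 p.2).prod : GL I F) : Matrix I I F) = C.W T w := by
  induction w with
  | nil => simp [Coding.W_nil]
  | cons a w ih =>
    rw [List.map_cons, List.prod_cons, Units.val_mul, hy _ (hw a (by simp)), Coding.W_cons,
      ih fun b hb => hw b (by simp [hb])]

theorem Tab.exists_repRel (h : Tab D η) (hc : (recOf D).RepChk η C.N T) (F : Type*) [Field F] :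
    Nonempty (RepRel D C T F) := by
  have ev1 : ∀ t : F, (fun a : ℕ => t ^ a) 0 = 1 ∧
      ∀ a b : ℕ, (fun a : ℕ => t ^ a) (a + b) = (fun a : ℕ => t ^ a) a * (fun a : ℕ => t ^ a) b :=
    fun t => ⟨by simp, fun a b => pow_add t a b⟩
  have ev2 : ∀ t u : F, (fun a : ℕ × ℕ => t ^ a.1 * u ^ a.2) 0 = 1 ∧
      ∀ a b : ℕ × ℕ, (fun a : ℕ × ℕ => t ^ a.1 * u ^ a.2) (a + b) =
        (fun a : ℕ × ℕ => t ^ a.1 * u ^ a.2) a * (fun a : ℕ × ℕ => t ^ a.1 * u ^ a.2) b :=
    fun t u => ⟨by simp, fun a b => by simp only [Prod.fst_add, Prod.snd_add, pow_add]; ring⟩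
  have hz : ∀ r < D.nroots, C.Y T r (0 : F) = 1 := by
    intro r hr
    have := Coding.W_eq_of_rweq (C := C) (ev1 1).1 (ev1 1).2 (p := 0) (by simp) (allB_iff.1 hc.cZero r hr)
    simpa [evW, evP, Coding.W_cons, Coding.W_nil] using this
  have hadd : ∀ r < D.nroots, ∀ t u : F, C.Y T r t * C.Y T r u = C.Y T r (t + u) := by
    intro r hr t u
    have := Coding.W_eq_of_rweq (C := C) (ev := fun a : ℕ × ℕ => t ^ a.1 * u ^ a.2) (ev2 t u).1 (ev2 t u).2 (p := 0) (by simp) (allB_iff.1 hc.cAdd r hr)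
    simpa [evW, evP, Coding.W_cons, Coding.W_nil] using this
  let y : ℕ → F → GL I F := fun r t => if hr : r < D.nroots then
    ⟨C.Y T r t, C.Y T r (-t), by rw [hadd r hr, add_neg_cancel, hz r hr], by rw [hadd r hr, neg_add_cancel, hz r hr]⟩
    else 1
  have hy : ∀ r < D.nroots, ∀ t, (y r t : Matrix I I F) = C.Y T r t := fun r hr t => by simp [y, hr]
  have hcomm : ∀ r s, r < D.nroots → s < D.nroots → s ≠ r → s ≠ D.neg r → ∀ t u,
      y s u * y r t = y r t * y s u * ((D.commWord F r s t u).map fun p => y p.1 p.2).prod := by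
    intro r s hr hs h1 h2 t u
    refine h.comm_of_base y (fun i hi => ?_) (fun r hr s hs c1 c2 h1 h2 t u => ?_) hr hs h1 h2 t u
    · have hp := h.sim_lt i hi
      refine ⟨y (D.simple i) 1 * y (D.neg (D.simple i)) (-1) * y (D.simple i) 1, fun s hs t => Units.ext ?_⟩
      have := Coding.W_eq_of_rweq (C := C) (ev1 t).1 (ev1 t).2 (p := 0) (by simp)
        (allB_iff.1 (hc.cN i hi) s hs)
      simp only [Units.val_mul, hy _ hp, hy _ (h.neg_lt _ hp), hy _ hs, hy _ (h.w_lt i hi s hs)]
      simp only [evW, evP, Coding.W_cons, Coding.W_nil, List.map_cons, List.map_nil, List.sum_cons, List.sum_nil,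
        Int.cast_one, pow_zero, pow_one, mul_one, one_mul, add_zero, Int.cast_neg] at this
      simp only [mul_assoc]
      exact this
    · have h3 := hc.cComm
      simp only [Rec.rComm, allB_iff, Bool.or_eq_true, Nat.beq_eq, Bool.not_eq_true', ← Bool.not_eq_true,
        decide_eq_true_eq] at h3
      rcases h3 r hr with h3 | h3
      · exact absurd c1 h3
      rcases h3 s hs with ((h3 | h3) | h3) | h3
      · exact absurd c2 h3
      · exact absurd h3 h1
      · exact absurd h3 h2
      have := Coding.W_eq_of_rweq (C := C) (ev := fun a : ℕ × ℕ => t ^ a.1 * u ^ a.2) (ev2 t u).1 (ev2 t u).2 (p := 0) (by simp) h3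
      apply Units.ext
      rw [Units.val_mul, Units.val_mul, Units.val_mul, coe_prod_of hy, hy _ hr, hy _ hs]
      · simp only [evW, List.map_cons, List.map_nil, Coding.W_cons, Coding.W_nil, evP, List.sum_cons, List.sum_nil,
          Int.cast_one, pow_zero, pow_one, mul_one, one_mul, add_zero, List.map_map] at this
        rw [this, mul_assoc]
        congr 3
        unfold ChevalleyDatum.commWord
        apply List.map_congr_left
        intro c _
        simp only [Function.comp_apply, Prod.mk.injEq, true_and, List.map_cons, List.map_nil, List.sum_cons,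
          List.sum_nil]
        push_cast
        rw [neg_pow t]; ring
      · intro a ha
        unfold ChevalleyDatum.commWord at ha
        obtain ⟨c, hc, rfl⟩ := List.mem_map.1 ha
        exact h.commTerms_lt hr hs c hc
  refine ⟨⟨⟨y, fun r hr t u => Units.ext (by rw [Units.val_mul, hy r hr, hy r hr, hy r hr, hadd r hr]), hcomm⟩,
    hy, fun g r t u ht hu => ?_⟩⟩
  have := Coding.W_eq_of_rweq (C := C) (ev := fun a : ℤ × ℤ => t ^ a.1 * u ^ a.2) (by simp)
    (fun a b => by simp only [Prod.fst_add, Prod.snd_add, zpow_add₀ ht, zpow_add₀ hu]; ring) (p := 0) (by simp)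
    (allB_iff.1 hc.cH r r.2)
  apply Units.ext
  simp only [Rel.h_eq, Units.val_mul]
  have hw : ∀ c : F, ∀ a ∈ D.hWord (r : ℕ) c, a.1 < D.nroots := by
    intro c a ha
    simp only [ChevalleyDatum.hWord, ChevalleyDatum.nWord, List.mem_append, List.mem_cons, List.not_mem_nil,
      or_false] at ha
    rcases ha with (rfl | rfl | rfl) | rfl | rfl | rfl
    exacts [r.2, h.neg_lt _ r.2, r.2, r.2, h.neg_lt _ r.2, r.2]
  rw [coe_prod_of hy _ (hw t), coe_prod_of hy _ (hw u), coe_prod_of hy _ (hw _), ← Coding.W_append]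
  simpa [evW, evP, Rec.hW, ChevalleyDatum.hWord, ChevalleyDatum.nWord, mul_comm, recOf] using this

end

/-! ### central quotients -/

theorem quot_center_equiv {S G Γ : Type*} [Group S] [Group G] [Group Γ] (θ : S →* G) (hθ : Function.Surjective θ)
    (hk : θ.ker = Subgroup.center S) (hs : IsSimpleGroup G) (hG : ¬IsMulCommutative G) (ψ : S →* Γ)
    (hψ : Function.Surjective ψ) (hΓ : ¬IsMulCommutative Γ) : Nonempty (Γ ⧸ Subgroup.center Γ ≃* G) := by
  have hc : ∀ a ∈ Subgroup.center S, ψ a ∈ Subgroup.center Γ := by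
    intro a ha
    rw [Subgroup.mem_center_iff] at ha ⊢
    intro b
    obtain ⟨b, rfl⟩ := hψ b
    rw [← map_mul, ha, map_mul]
  have hle : ψ.ker ≤ θ.ker := by
    rcases (Subgroup.Normal.map (MonoidHom.normal_ker ψ) θ hθ).eq_bot_or_eq_top with h | h
    · rwa [Subgroup.map_eq_bot_iff] at h
    · exfalso
      refine hΓ ⟨⟨fun a b => ?_⟩⟩
      obtain ⟨a, rfl⟩ := hψ a
      obtain ⟨k, hk1, hk2⟩ : θ a ∈ ψ.ker.map θ := by rw [h]; trivial
      have : k⁻¹ * a ∈ Subgroup.center S := by rw [← hk, MonoidHom.mem_ker, map_mul, map_inv, hk2, inv_mul_cancel]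
      have h2 := hc _ this
      rw [map_mul, map_inv, MonoidHom.mem_ker.1 hk1, inv_one, one_mul, Subgroup.mem_center_iff] at h2
      exact (h2 b).symm
  let φ : Γ →* G := ψ.liftOfSurjective hψ ⟨θ, hle⟩
  have hφ : ∀ a, φ (ψ a) = θ a := fun a => ψ.liftOfRightInverse_comp_apply _ _ _ a
  have hφs : Function.Surjective φ := fun b => by obtain ⟨a, rfl⟩ := hθ b; exact ⟨ψ a, hφ a⟩
  have hker : Subgroup.center Γ = φ.ker := by
    ext b
    obtain ⟨a, rfl⟩ := hψ b
    constructor
    · intro hb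
      have h1 : φ (ψ a) ∈ Subgroup.center G := by
        rw [Subgroup.mem_center_iff] at hb ⊢
        intro c
        obtain ⟨c, rfl⟩ := hφs c
        rw [← map_mul, hb, map_mul]
      rcases (inferInstance : (Subgroup.center G).Normal).eq_bot_or_eq_top with h | h
      · rwa [h] at h1
      · exact absurd ⟨⟨fun a b => ((Subgroup.mem_center_iff.1 (h ▸ Subgroup.mem_top a)) b).symm⟩⟩ hG
    · intro hb
      rw [MonoidHom.mem_ker, hφ, ← MonoidHom.mem_ker, hk] at hb
      exact hc a hb
  exact ⟨(QuotientGroup.quotientMulEquivOfEq hker).trans (QuotientGroup.quotientKerEquivOfSurjective φ hφs)⟩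

/-- the image of Steinberg's group in a representation is the Chevalley group modulo centre -/
theorem st_quot_equiv {D : ChevalleyDatum} {g : Good D} {F : Type*} [Field F] (M : MatRG g F)
    (hs : IsSimpleGroup ↥(D.group F) ∧ ¬IsMulCommutative ↥(D.group F)) {Γ : Type*} [Group Γ]
    (ψ : D.SteinbergGroup F →* Γ) (hψ : Function.Surjective ψ) (hΓ : ¬IsMulCommutative Γ) :
    Nonempty (Γ ⧸ Subgroup.center Γ ≃* D.group F) := by
  rw [M.isMat.grp_eq] at hs ⊢
  refine quot_center_equiv (M.θ.codRestrict _ M.θ_mem) (fun b => ?_) ?_ hs.1 hs.2 ψ hψ hΓ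
  · obtain ⟨a, ha⟩ : b.1 ∈ M.θ.range := by rw [M.θ_range]; exact b.2
    exact ⟨a, Subtype.ext ha⟩
  · rw [MonoidHom.ker_codRestrict, M.θ_ker]

end H19
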