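import Mathlib
import Cfsg.Agent.H19.Rep

/-! Certified Gaussian elimination in groups preserving a family of quadratic forms. -/

set_option autoImplicit false

namespace H19
open Cfsg Cfsg.Lie H20 Matrix
open scoped commutatorElement

/-- quadratic forms as lists of (coefficient, variable, variable) -/
abbrev QL := List (ℤ × ℕ × ℕ)

/-- words with one polynomial parameter -/
abbrev Word := List (ℕ × List (ℤ × ℕ))

section forms
variable {F : Type*} [Field F]

def qv (b : ℕ → F) (L : QL) : F := (L.map fun e => ((e.1 : ℤ) : F) * b e.2.1 * b e.2.2).sum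

def pv (b b' : ℕ → F) (L : QL) : F :=
  (L.map fun e => ((e.1 : ℤ) : F) * (b e.2.1 * b' e.2.2 + b e.2.2 * b' e.2.1)).sum

def lv (b : ℕ → F) (L : List (ℤ × ℕ)) : F := (L.map fun e => ((e.1 : ℤ) : F) * b e.2).sum

def pl (L : QL) (s : ℕ) : List (ℤ × ℕ) :=
  L.flatMap fun e => (bif Nat.beq e.2.1 s then [(e.1, e.2.2)] else []) ++
    (bif Nat.beq e.2.2 s then [(e.1, e.2.1)] else [])

theorem pv_single {b : ℕ → F} {s : ℕ} (hb : ∀ a, b a = if a = s then 1 else 0) (b' : ℕ → F) (L : QL) :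
    pv b b' L = lv b' (pl L s) := by
  induction L with
  | nil => rfl
  | cons e L ih =>
    simp only [pv, lv, pl, List.map_cons, List.sum_cons, List.flatMap_cons, List.map_append, List.sum_append] at ih ⊢
    rw [ih, hb, hb]
    congr 1
    by_cases h1 : e.2.1 = s <;> by_cases h2 : e.2.2 = s <;> simp [h1, h2, beq_false, beq_true, mul_add]

theorem pv_smul_left (c : F) (b b' : ℕ → F) (L : QL) : pv (fun a => c * b a) b' L = c * pv b b' L := by
  induction L with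
  | nil => simp [pv]
  | cons e L ih => simp only [pv, List.map_cons, List.sum_cons] at ih ⊢; rw [ih]; ring

theorem lv_eq_zero {b : ℕ → F} {L : List (ℤ × ℕ)} (h : ∀ e ∈ L, b e.2 = 0) : lv b L = 0 :=
  List.sum_eq_zero fun _ hx => by obtain ⟨e, he, rfl⟩ := List.mem_map.1 hx; rw [h e he, mul_zero]

theorem qv_filter {b : ℕ → F} {Z : List ℕ} (hZ : ∀ a ∈ Z, b a = 0) (L : QL) :
    qv b (L.filter fun e => !(Z.contains e.2.1 || Z.contains e.2.2)) = qv b L := by
  induction L with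
  | nil => rfl
  | cons e L ih =>
    rw [List.filter_cons]
    split_ifs with h
    · simp only [qv, List.map_cons, List.sum_cons] at ih ⊢; rw [ih]
    · simp only [qv, List.map_cons, List.sum_cons] at ih ⊢
      rw [ih]
      simp only [Bool.not_eq_true', Bool.not_eq_false, Bool.or_eq_true, List.contains_iff_mem] at h
      rcases h with h | h <;> simp [hZ _ h]

end forms

variable {I : Type} [Fintype I] [DecidableEq I] {F : Type*} [Field F]

namespace Coding
variable (C : Coding I)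

/-- the entry of `g` in row `a` and column `b` -/
def ent (g : GL I F) (a b : ℕ) : F := C.xc ((g : Matrix I I F) *ᵥ C.e F b) a

/-- `g` fixes the line spanned by the basis vector `s` -/
def FixL (g : GL I F) (s : ℕ) : Prop := ∀ a, a ≠ s → C.ent g a s = 0

variable {C}

omit [Fintype I] [DecidableEq I] in
theorem xc_e' {s : ℕ} (hs : s < C.N) (a : ℕ) : C.xc (C.e F s) a = if a = s then 1 else 0 := by
  by_cases ha : a < C.N
  · exact xc_e ha s
  · rw [xc_ge _ ha, if_neg]; rintro rfl; exact ha hs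

theorem FixL.eq_smul {g : GL I F} {s : ℕ} (h : C.FixL g s) :
    (g : Matrix I I F) *ᵥ C.e F s = C.ent g s s • C.e F s := by
  refine C.vec_ext fun a ha => ?_
  rw [xc_smul, xc_e ha]
  split_ifs with h1
  · rw [h1, mul_one]; rfl
  · rw [mul_zero]; exact h a h1

theorem mulVec_ne_zero (g : GL I F) {s : ℕ} (hs : s < C.N) : (g : Matrix I I F) *ᵥ C.e F s ≠ 0 := by
  intro h
  have : C.e F s = 0 := by
    have := congrArg (((g⁻¹ : GL I F) : Matrix I I F) *ᵥ ·) h
    simpa [mulVec_mulVec] using this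
  have h2 := congrArg (C.xc · s) this
  simp [xc_e' hs, xc_zero] at h2

theorem FixL.ne_zero {g : GL I F} {s : ℕ} (h : C.FixL g s) (hs : s < C.N) : C.ent g s s ≠ 0 := by
  intro h0
  exact mulVec_ne_zero g hs (by rw [h.eq_smul, h0, zero_smul])

theorem ent_mul (γ g : GL I F) (a b : ℕ) :
    C.ent (γ * g) a b = C.xc ((γ : Matrix I I F) *ᵥ ((g : Matrix I I F) *ᵥ C.e F b)) a := by
  rw [ent, Units.val_mul, mulVec_mulVec]

theorem FixL.mul {γ g : GL I F} {s : ℕ} (h1 : C.FixL γ s) (h2 : C.FixL g s) : C.FixL (γ * g) s := by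
  intro a ha
  rw [ent_mul, h2.eq_smul, mulVec_smul, xc_smul, show C.xc (_ *ᵥ C.e F s) a = 0 from h1 a ha, mul_zero]

theorem eq_of_ent {g g' : GL I F} (h : ∀ a < C.N, ∀ b < C.N, C.ent g a b = C.ent g' a b) : g = g' := by
  ext i j
  have := h _ (C.cd_lt i) _ (C.cd_lt j)
  have he : C.e F (C.cd j) = Pi.single j 1 := by
    funext k
    rw [e, Pi.single_apply]
    congr 1
    exact propext ⟨fun h => by rw [← C.dc_cd k, h, C.dc_cd], fun h => by rw [h]⟩
  simpa [ent, xc_cd, he] using this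

end Coding

/-- the group `G'` preserves the family of quadratic forms `ql j`, `j < nq`, up to linear combinations -/
structure QF (C : Coding I) (nq : ℕ) (ql : ℕ → QL) (tri : ℕ → ℕ → ℕ → Bool) (G' : Subgroup (GL I F)) : Prop where
  sing : ∀ g ∈ G', ∀ x, (∀ j < nq, qv (C.xc x) (ql j) = 0) →
    ∀ j < nq, qv (C.xc ((g : Matrix I I F) *ᵥ x)) (ql j) = 0
  perp : ∀ g ∈ G', ∀ x y, (∀ j < nq, pv (C.xc x) (C.xc y) (ql j) = 0) →
    ∀ j < nq, pv (C.xc ((g : Matrix I I F) *ᵥ x)) (C.xc ((g : Matrix I I F) *ᵥ y)) (ql j) = 0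
  tri : ∀ g ∈ G', ∀ s s' b, tri s s' b = true → C.FixL g s → C.FixL g s' →
    C.ent g s s * C.ent g s' s' * C.ent g b b = 1

/-- one step of the elimination -/
structure Step where
  b : ℕ
  Z : List (ℕ × ℕ × ℕ)
  moves : List (ℕ × Word)
  kills : List (ℕ × Word)

section checks
variable (N : ℕ) (T : RT) (nl nq : ℕ) (ql : ℕ → QL) (tri : ℕ → ℕ → ℕ → Bool)

def unitL (L : List (ℤ × ℕ)) (a : ℕ) : Bool := L == [(1, a)] || L == [(-1, a)]

def unitQ (L : QL) (a b : ℕ) : Bool := L == [(1, a, b)] || L == [(-1, a, b)] || L == [(1, b, a)] || L == [(-1, b, a)]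

def perpB (s b : ℕ) : Bool := allB nq fun j => (pl (ql j) s).all fun e => !Nat.beq e.2 b

def singB (b : ℕ) : Bool := allB nq fun j => (ql j).all fun e => !(Nat.beq e.2.1 b && Nat.beq e.2.2 b)

def modZ (L : QL) (Z : List ℕ) : QL := L.filter fun e => !(Z.contains e.2.1 || Z.contains e.2.2)

def wordOK (S : List ℕ) (w : Word) : Bool :=
  (w.all fun a => Nat.blt a.1 nl) &&
    allB N fun i => (rowW N T 0 w i).all fun e => Nat.beq e.1 i || !S.contains e.1

def killChk (S : List ℕ) (b : ℕ) : List (ℕ × Word) → List ℕ → Bool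
  | [], _ => true
  | k :: K, Z => wordOK N T nl S k.2 &&
      ((rowW N T 0 k.2 b).filter fun e => !Z.contains e.1) == [(b, 1, 0)] &&
      (veq 0 ((rowW N T 0 k.2 k.1).filter fun e => !Z.contains e.1) [(k.1, 1, 0), (b, 1, 1)] ||
        veq 0 ((rowW N T 0 k.2 k.1).filter fun e => !Z.contains e.1) [(k.1, 1, 0), (b, -1, 1)]) &&
      (Z.all fun a => (rowW N T 0 k.2 a).all fun e => Z.contains e.1) && killChk S b K (k.1 :: Z)

def nzChk (S : List ℕ) (b : ℕ) (A : List ℕ) : Bool :=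
  (allB N fun a => A.contains a || (singB nq ql b && !allB nq fun j => !unitQ (modZ (ql j) A) a a)) ||
  (S.any fun s => (!allB nq fun j => !unitL (pl (ql j) s) b) &&
    allB nq fun j => (pl (ql j) s).all fun e => A.contains e.2) ||
  (S.any fun s => S.any fun s' => tri s s' b && A.contains b)

def stepChk (S : List ℕ) (P : Step) : Bool :=
  Nat.blt P.b N &&
  (P.Z.all fun z => !Nat.beq z.1 P.b && S.contains z.2.1 && Nat.blt z.2.2 nq && perpB nq ql z.2.1 P.b &&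
    unitL (pl (ql z.2.2) z.2.1) z.1) &&
  nzChk N nq ql tri S P.b (P.Z.map (·.1) ++ P.moves.map (·.1)) &&
  (P.moves.all fun m => wordOK N T nl S m.2 &&
    (rowW N T 0 m.2 P.b == [(m.1, 1, 0)] || rowW N T 0 m.2 P.b == [(m.1, -1, 0)])) &&
  killChk N T nl S P.b P.kills (P.Z.map (·.1)) &&
  allB N fun a => Nat.beq a P.b || (P.kills.map (·.1) ++ P.Z.map (·.1)).contains a ||
    (singB nq ql P.b && !allB nq fun j => !unitQ (modZ (ql j) (P.kills.map (·.1) ++ P.Z.map (·.1))) a P.b)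

def chainChk : List Step → List ℕ → Bool
  | [], _ => true
  | P :: L, S => stepChk N T nl nq ql tri S P && chainChk L (P.b :: S)

end checks

theorem not_allB_not {n : ℕ} {f : ℕ → Bool} (h : (!allB n fun j => !f j) = true) : ∃ j < n, f j = true := by
  by_contra hc
  push Not at hc
  have : (allB n fun j => !f j) = true := allB_iff.2 fun j hj => by simpa using hc j hj
  simp [this] at h

theorem lv_of_unitL {b : ℕ → F} {L : List (ℤ × ℕ)} {a : ℕ} (h : unitL L a = true) : lv b L = 0 ↔ b a = 0 := by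
  simp only [unitL, Bool.or_eq_true, beq_iff_eq] at h
  rcases h with rfl | rfl <;> simp [lv]

theorem qv_of_unitQ {b : ℕ → F} {L : QL} {a c : ℕ} (h : unitQ L a c = true) (h0 : qv b L = 0) :
    b a = 0 ∨ b c = 0 := by
  simp only [unitQ, Bool.or_eq_true, beq_iff_eq] at h
  rcases h with ((rfl | rfl) | rfl) | rfl <;> simp [qv] at h0 <;> tauto

section sound
variable {C : Coding I} {T : RT} {nl nq : ℕ} {ql : ℕ → QL} {tri : ℕ → ℕ → ℕ → Bool} {G' Γ : Subgroup (GL I F)}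

theorem exists_word (hΓ : ∀ r < nl, ∀ t : F, ∃ γ ∈ Γ, (γ : Matrix I I F) = C.Y T r t) (w : List (ℕ × F))
    (hw : ∀ a ∈ w, a.1 < nl) : ∃ γ ∈ Γ, (γ : Matrix I I F) = C.W T w := by
  induction w with
  | nil => exact ⟨1, one_mem _, rfl⟩
  | cons a w ih =>
    obtain ⟨γ, h1, h2⟩ := hΓ a.1 (hw a (by simp)) a.2
    obtain ⟨δ, h3, h4⟩ := ih fun b hb => hw b (by simp [hb])
    exact ⟨γ * δ, mul_mem h1 h3, by rw [Units.val_mul, h2, h4, Coding.W_cons]⟩

theorem exists_wordOK (hΓ : ∀ r < nl, ∀ t : F, ∃ γ ∈ Γ, (γ : Matrix I I F) = C.Y T r t) {S : List ℕ}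
    (hS : ∀ s ∈ S, s < C.N) {w : Word} (h : wordOK C.N T nl S w = true) (t : F) :
    ∃ γ ∈ Γ, (∀ s ∈ S, C.FixL γ s) ∧ ∀ x i, C.xc ((γ : Matrix I I F) *ᵥ x) i =
      evG (C.xc x) (fun k : ℕ => t ^ k) (rowW C.N T 0 w i) := by
  simp only [wordOK, Bool.and_eq_true, List.all_eq_true, Nat.blt_eq, allB_iff, Bool.or_eq_true, Nat.beq_eq,
    Bool.not_eq_true', ← Bool.not_eq_true, List.contains_iff_mem] at h
  obtain ⟨γ, h1, h2⟩ := exists_word hΓ (evW (fun k : ℕ => t ^ k) w) (by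
    intro a ha
    obtain ⟨b, hb, rfl⟩ := List.mem_map.1 ha
    exact h.1 b hb)
  have key : ∀ x i, C.xc ((γ : Matrix I I F) *ᵥ x) i = evG (C.xc x) (fun k : ℕ => t ^ k) (rowW C.N T 0 w i) :=
    fun x i => by rw [h2]; exact Coding.xc_W (by simp) (fun a b => pow_add t a b) (by simp) w x i
  refine ⟨γ, h1, fun s hs a ha => ?_, key⟩
  by_cases haN : a < C.N
  · rw [Coding.ent, key]
    refine List.sum_eq_zero fun _ hx => ?_
    obtain ⟨e, he, rfl⟩ := List.mem_map.1 hx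
    rw [Coding.xc_e' (hS s hs), if_neg, mul_zero]
    rintro rfl
    rcases h.2 a haN e he with h3 | h3
    exacts [ha h3.symm, h3 hs]
  · exact Coding.xc_ge _ haN

theorem evG_filter_Z {b : ℕ → F} {ev : ℕ → F} {Z : List ℕ} (hZ : ∀ a ∈ Z, b a = 0) (L : List (ℕ × ℤ × ℕ)) :
    evG b ev (L.filter fun e => !Z.contains e.1) = evG b ev L :=
  evG_filter L fun e _ he => by rw [hZ e.1 (by simpa using he), mul_zero]

theorem kill_sound (hΓ : ∀ r < nl, ∀ t : F, ∃ γ ∈ Γ, (γ : Matrix I I F) = C.Y T r t) {S : List ℕ}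
    (hS : ∀ s ∈ S, s < C.N) {b : ℕ} (K : List (ℕ × Word)) (Z : List ℕ) (h : killChk C.N T nl S b K Z = true)
    (g : GL I F) (hg : ∀ s ∈ S, C.FixL g s) (hb : C.ent g b b ≠ 0) (hZ : ∀ a ∈ Z, C.ent g a b = 0) :
    ∃ γ ∈ Γ, (∀ s ∈ S, C.FixL (γ * g) s) ∧ C.ent (γ * g) b b ≠ 0 ∧
      ∀ a ∈ K.map (·.1) ++ Z, C.ent (γ * g) a b = 0 := by
  induction K generalizing Z g with
  | nil => exact ⟨1, one_mem _, by simpa using hg, by simpa using hb, by simpa using hZ⟩
  | cons k K ih =>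
    simp only [killChk, Bool.and_eq_true, beq_iff_eq, Bool.or_eq_true, List.all_eq_true,
      List.contains_iff_mem] at h
    obtain ⟨⟨⟨⟨h1, h2⟩, h3⟩, h4⟩, h5⟩ := h
    obtain ⟨ε, hε, h3⟩ : ∃ ε : ℤ, (ε = 1 ∨ ε = -1) ∧
        veq 0 ((rowW C.N T 0 k.2 k.1).filter fun e => !Z.contains e.1) [(k.1, 1, 0), (b, ε, 1)] = true := by
      rcases h3 with h3 | h3
      exacts [⟨1, Or.inl rfl, h3⟩, ⟨-1, Or.inr rfl, h3⟩]
    obtain ⟨γ, hγ, hf, hx⟩ := exists_wordOK hΓ hS h1 (-(ε : F) * C.ent g k.1 b / C.ent g b b)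
    have hZ' : ∀ a ∈ Z, C.xc ((g : Matrix I I F) *ᵥ C.e F b) a = 0 := hZ
    obtain ⟨δ, hδ, h6, h7, h8⟩ := ih (k.1 :: Z) h5 (γ * g) (fun s hs => (hf s hs).mul (hg s hs))
      (by rw [Coding.ent_mul, hx, ← evG_filter_Z hZ', h2]; simpa [evG, Coding.ent] using hb) (by
        intro a ha
        rcases List.mem_cons.1 ha with rfl | ha
        · rw [Coding.ent_mul, hx, ← evG_filter_Z hZ', evG_of_veq (by simp) h3]
          simp only [evG, List.map_cons, List.map_nil, List.sum_cons, List.sum_nil]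
          change _ * _ * C.ent g k.1 b + (_ * _ * C.ent g b b + 0) = 0
          rcases hε with rfl | rfl <;> field_simp <;> simp
        · rw [Coding.ent_mul, hx]
          refine List.sum_eq_zero fun _ hx => ?_
          obtain ⟨e, he, rfl⟩ := List.mem_map.1 hx
          rw [hZ' _ (h4 a ha e he), mul_zero])
    refine ⟨δ * γ, mul_mem hδ hγ, by simpa only [mul_assoc] using h6, by simpa only [mul_assoc] using h7, ?_⟩
    intro a ha
    rw [mul_assoc]
    apply h8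
    simp only [List.map_cons, List.cons_append, List.mem_cons, List.mem_append] at ha ⊢
    tauto

theorem QF.sing_col (Q : QF C nq ql tri G') {b : ℕ} (hb : b < C.N) (h : singB nq ql b = true) {g : GL I F}
    (hg : g ∈ G') : ∀ j < nq, qv (fun a => C.ent g a b) (ql j) = 0 := by
  refine Q.sing g hg _ fun j hj => List.sum_eq_zero fun _ hx => ?_
  obtain ⟨e, he, rfl⟩ := List.mem_map.1 hx
  have := List.all_eq_true.1 (allB_iff.1 h j hj) e he
  rw [Coding.xc_e' hb, Coding.xc_e' hb]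
  by_cases h1 : e.2.1 = b <;> by_cases h2 : e.2.2 = b <;> simp_all

theorem QF.perp_iff (Q : QF C nq ql tri G') {s b : ℕ} (hs : s < C.N) {g : GL I F} (hg : g ∈ G')
    (hf : C.FixL g s) : (∀ j < nq, lv (fun a => C.ent g a b) (pl (ql j) s) = 0) ↔
      ∀ j < nq, lv (C.xc (C.e F b)) (pl (ql j) s) = 0 := by
  have e1 : ∀ j, pv (C.xc ((g : Matrix I I F) *ᵥ C.e F s)) (C.xc ((g : Matrix I I F) *ᵥ C.e F b)) (ql j) =
      C.ent g s s * lv (fun a => C.ent g a b) (pl (ql j) s) := by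
    intro j
    rw [hf.eq_smul, ← pv_single (Coding.xc_e' hs), ← pv_smul_left]
    congr 1
    funext a
    rw [Coding.xc_smul]
  constructor
  · intro h j hj
    have := Q.perp g⁻¹ (inv_mem hg) _ _ (fun j hj => by rw [e1, h j hj, mul_zero]) j hj
    simpa [mulVec_mulVec, pv_single (Coding.xc_e' hs)] using this
  · intro h j hj
    have := Q.perp g hg _ _ (fun j hj => by rw [pv_single (Coding.xc_e' hs), h j hj]) j hj
    rw [e1] at this
    exact (mul_eq_zero.1 this).resolve_left (hf.ne_zero hs)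

theorem QF.step_sound (Q : QF C nq ql tri G') (hle : Γ ≤ G')
    (hΓ : ∀ r < nl, ∀ t : F, ∃ γ ∈ Γ, (γ : Matrix I I F) = C.Y T r t) {S : List ℕ}
    (hS : ∀ s ∈ S, s < C.N) {P : Step} (h : stepChk C.N T nl nq ql tri S P = true)
    (g : GL I F) (hg : g ∈ G') (hf : ∀ s ∈ S, C.FixL g s) : ∃ γ ∈ Γ, ∀ s ∈ P.b :: S, C.FixL (γ * g) s := by
  simp only [stepChk, Bool.and_eq_true, beq_iff_eq, Bool.or_eq_true, List.all_eq_true,
    List.contains_iff_mem, Nat.blt_eq, allB_iff, Nat.beq_eq] at h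
  obtain ⟨⟨⟨⟨⟨hb, hZ⟩, hnz⟩, hmv⟩, hk⟩, hfin⟩ := h
  have hZ0 : ∀ g ∈ G', (∀ s ∈ S, C.FixL g s) → ∀ a ∈ P.Z.map (·.1), C.ent g a P.b = 0 := by
    intro g hg hf a ha
    obtain ⟨z, hz, rfl⟩ := List.mem_map.1 ha
    obtain ⟨⟨⟨⟨-, h1⟩, h2⟩, h3⟩, h4⟩ := hZ z hz
    refine (lv_of_unitL h4).1 ((Q.perp_iff (hS _ h1) hg (hf _ h1)).2 (fun j hj => lv_eq_zero fun e he => ?_) _ h2)
    have := List.all_eq_true.1 (allB_iff.1 h3 j hj) e he
    rw [Coding.xc_e' hb, if_neg]
    intro h5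
    simp [h5] at this
  have hA : ∃ m ∈ P.moves, C.ent g m.1 P.b ≠ 0 := by
    by_contra hc
    push Not at hc
    have hA0 : ∀ a ∈ P.Z.map (·.1) ++ P.moves.map (·.1), C.ent g a P.b = 0 := by
      intro a ha
      rcases List.mem_append.1 ha with ha | ha
      · exact hZ0 g hg hf a ha
      · obtain ⟨m, hm, rfl⟩ := List.mem_map.1 ha
        exact hc m hm
    simp only [nzChk, Bool.and_eq_true, Bool.or_eq_true, List.all_eq_true, List.any_eq_true,
      List.contains_iff_mem, allB_iff] at hnz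
    rcases hnz with (h1 | ⟨s, hs, h1, h2⟩) | ⟨s, hs, s', hs', h1, h2⟩
    · refine Coding.mulVec_ne_zero g hb (C.vec_ext fun a ha => ?_)
      rw [Coding.xc_zero]
      rcases h1 a ha with h2 | ⟨h2, h3⟩
      · exact hA0 a h2
      · obtain ⟨j, hj, h4⟩ := not_allB_not h3
        have := Q.sing_col hb h2 hg j hj
        rw [← qv_filter hA0] at this
        exact (qv_of_unitQ h4 this).elim id id
    · obtain ⟨j, hj, h3⟩ := not_allB_not h1
      have := (Q.perp_iff (hS s hs) hg (hf s hs)).1 (fun j hj => lv_eq_zero fun e he => hA0 _ (h2 j hj e he)) j hj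
      rw [lv_of_unitL h3, Coding.xc_e' hb, if_pos rfl] at this
      exact one_ne_zero this
    · have := Q.tri g hg s s' P.b h1 (hf s hs) (hf s' hs')
      rw [hA0 _ h2, mul_zero] at this
      exact zero_ne_one this
  obtain ⟨m, hm, hm0⟩ := hA
  obtain ⟨h1, h2⟩ := hmv m hm
  obtain ⟨γ, hγ, hγf, hx⟩ := exists_wordOK hΓ hS h1 (1 : F)
  have hg' : γ * g ∈ G' := mul_mem (hle hγ) hg
  have hf' : ∀ s ∈ S, C.FixL (γ * g) s := fun s hs => (hγf s hs).mul (hf s hs)
  obtain ⟨δ, hδ, h3, h4, h5⟩ := kill_sound hΓ hS P.kills _ hk (γ * g) hf' (by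
    rw [Coding.ent_mul, hx]
    rcases h2 with h2 | h2 <;> rw [h2] <;> simpa [evG, Coding.ent] using hm0) (hZ0 _ hg' hf')
  refine ⟨δ * γ, mul_mem hδ hγ, fun s hs => ?_⟩
  rw [mul_assoc]
  rcases List.mem_cons.1 hs with rfl | hs
  · intro a ha
    by_cases haN : a < C.N
    · rcases hfin a haN with (h6 | h6) | ⟨h6, h7⟩
      · exact absurd h6 ha
      · exact h5 a h6
      · obtain ⟨j, hj, h8⟩ := not_allB_not h7
        have := Q.sing_col hb h6 (mul_mem (hle hδ) hg') j hj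
        rw [← qv_filter h5] at this
        exact (qv_of_unitQ h8 this).resolve_right h4
    · exact Coding.xc_ge _ haN
  · exact h3 s hs

theorem QF.chain_sound (Q : QF C nq ql tri G') (hle : Γ ≤ G')
    (hΓ : ∀ r < nl, ∀ t : F, ∃ γ ∈ Γ, (γ : Matrix I I F) = C.Y T r t) (L : List Step) {S : List ℕ}
    (hS : ∀ s ∈ S, s < C.N) (h : chainChk C.N T nl nq ql tri L S = true)
    (g : GL I F) (hg : g ∈ G') (hf : ∀ s ∈ S, C.FixL g s) :
    ∃ γ ∈ Γ, ∀ s ∈ L.map (·.b) ++ S, C.FixL (γ * g) s := by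
  induction L generalizing S g with
  | nil => exact ⟨1, one_mem _, by simpa using hf⟩
  | cons P L ih =>
    simp only [chainChk, Bool.and_eq_true] at h
    obtain ⟨γ, hγ, h1⟩ := Q.step_sound hle hΓ hS h.1 g hg hf
    have hb : P.b < C.N := by
      have := h.1
      simp only [stepChk, Bool.and_eq_true, Nat.blt_eq] at this
      exact this.1.1.1.1.1
    obtain ⟨δ, hδ, h2⟩ := ih (S := P.b :: S) (by simpa using ⟨hb, hS⟩) h.2 (γ * g) (mul_mem (hle hγ) hg) h1
    refine ⟨δ * γ, mul_mem hδ hγ, fun s hs => ?_⟩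
    rw [mul_assoc]
    apply h2
    simp only [List.map_cons, List.cons_append, List.mem_cons, List.mem_append] at hs ⊢
    tauto

theorem QF.exists_diag (Q : QF C nq ql tri G') (hle : Γ ≤ G')
    (hΓ : ∀ r < nl, ∀ t : F, ∃ γ ∈ Γ, (γ : Matrix I I F) = C.Y T r t) (L : List Step)
    (h : chainChk C.N T nl nq ql tri L [] = true) (h' : allB C.N (fun s => (L.map (·.b)).contains s) = true)
    (g : GL I F) (hg : g ∈ G') : ∃ γ ∈ Γ, ∀ s < C.N, C.FixL (γ * g) s := by
  obtain ⟨γ, hγ, h1⟩ := Q.chain_sound hle hΓ L (S := []) (by simp) h g hg (by simp)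
  exact ⟨γ, hγ, fun s hs => h1 s (by simpa using allB_iff.1 h' s hs)⟩

end sound

/-! ### diagonal matrices -/

namespace Coding
variable (C : Coding I)

/-- the diagonal matrix with entries `c ^ k a` -/
def dg (k : ℕ → ℤ) (c : Fˣ) : GL I F :=
  ⟨diagonal fun i => (c : F) ^ k (C.cd i), diagonal fun i => (c : F) ^ (-k (C.cd i)),
    by rw [diagonal_mul_diagonal, ← diagonal_one]; congr 1; funext i; rw [← zpow_add₀ c.ne_zero]; simp,
    by rw [diagonal_mul_diagonal, ← diagonal_one]; congr 1; funext i; rw [← zpow_add₀ c.ne_zero]; simp⟩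

variable {C}

theorem coe_dg (k : ℕ → ℤ) (c : Fˣ) :
    (C.dg k c : Matrix I I F) = diagonal fun i => (c : F) ^ k (C.cd i) := rfl

theorem xc_dg (k : ℕ → ℤ) (c : Fˣ) (x : I → F) (a : ℕ) :
    C.xc ((C.dg k c : Matrix I I F) *ᵥ x) a = (c : F) ^ k a * C.xc x a := by
  by_cases ha : a < C.N
  · rw [xc_lt _ ha, xc_lt _ ha, coe_dg, mulVec_diagonal, C.cd_dc a ha]
  · rw [xc_ge _ ha, xc_ge _ ha, mul_zero]

theorem ent_dg_mul (k : ℕ → ℤ) (c : Fˣ) (g : GL I F) (a b : ℕ) :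
    C.ent (C.dg k c * g) a b = (c : F) ^ k a * C.ent g a b := by
  rw [ent_mul, xc_dg]; rfl

theorem FixL.dg_mul {g : GL I F} {s : ℕ} (h : C.FixL g s) (k : ℕ → ℤ) (c : Fˣ) : C.FixL (C.dg k c * g) s :=
  fun a ha => by rw [ent_dg_mul, h a ha, mul_zero]

theorem dg_comm (k k' : ℕ → ℤ) (c c' : Fˣ) : C.dg k c * C.dg k' c' = C.dg k' c' * C.dg k c :=
  Units.ext (by simp only [Units.val_mul, coe_dg, diagonal_mul_diagonal, mul_comm])

theorem dg_inv (k : ℕ → ℤ) (c : Fˣ) : (C.dg k c)⁻¹ = C.dg k c⁻¹ :=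
  Units.ext (by simp [dg])

theorem dg_mul_dg (k k' : ℕ → ℤ) (c : Fˣ) : C.dg k c * C.dg k' c = C.dg (fun a => k a + k' a) c :=
  Units.ext (by simp only [Units.val_mul, coe_dg, diagonal_mul_diagonal, zpow_add₀ c.ne_zero])

theorem dg_neg (k : ℕ → ℤ) (c : Fˣ) : (C.dg k c)⁻¹ = C.dg (fun a => -k a) c :=
  Units.ext (by simp [dg])

theorem dg_congr {k k' : ℕ → ℤ} (h : ∀ a < C.N, k a = k' a) (c : Fˣ) : C.dg k c = C.dg k' c :=
  Units.ext (by simp only [coe_dg, h _ (C.cd_lt _)])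

theorem eq_one_of_diag {g : GL I F} (h : ∀ s < C.N, C.FixL g s) (h1 : ∀ s < C.N, C.ent g s s = 1) : g = 1 := by
  refine eq_of_ent (C := C) fun a ha b hb => ?_
  have : C.ent (1 : GL I F) a b = if a = b then 1 else 0 := by simp [ent, xc_e ha]
  rw [this]
  split_ifs with h2
  · rw [h2, h1 b hb]
  · exact h b hb a h2

theorem dg_mul_Y {T : RT} {k k' : ℕ → ℤ} {ρ : ℤ} {r : ℕ}
    (h : allB C.N (fun i => (T r i).all fun e => k i == (e.2.2 : ℤ) * ρ + k' e.1) = true) (c : Fˣ) (t : F) :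
    (C.dg k c : Matrix I I F) * C.Y T r t = C.Y T r ((c : F) ^ ρ * t) * C.dg k' c := by
  refine C.mat_ext fun x i hi => ?_
  rw [← mulVec_mulVec, ← mulVec_mulVec, xc_dg, Y_mulVec _ _ _ hi, Y_mulVec _ _ _ hi, ← List.sum_map_mul_left]
  congr 1
  refine List.map_congr_left fun e he => ?_
  have := List.all_eq_true.1 (allB_iff.1 h i hi) e he
  rw [xc_dg, beq_iff_eq.1 this, zpow_add₀ c.ne_zero, mul_pow, mul_comm (e.2.2 : ℤ), _root_.zpow_mul, zpow_natCast]
  ring

theorem dg_mem_of_word {T : RT} {nl : ℕ} {Γ : Subgroup (GL I F)}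
    (hΓ : ∀ r < nl, ∀ t : F, ∃ γ ∈ Γ, (γ : Matrix I I F) = C.Y T r t) {k : ℕ → ℤ}
    (w : List (ℕ × List (ℤ × ℤ))) (hw : (w.all fun a => Nat.blt a.1 nl) = true)
    (h : allB C.N (fun i => veq 0 (rowW C.N T 0 w i) [(i, 1, k i)]) = true) (c : Fˣ) : C.dg k c ∈ Γ := by
  obtain ⟨γ, h1, h2⟩ := exists_word hΓ (evW (fun k : ℤ => (c : F) ^ k) w) (by
    intro a ha
    obtain ⟨b, hb, rfl⟩ := List.mem_map.1 ha
    simpa using List.all_eq_true.1 hw b hb)
  have : C.dg k c = γ := by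
    refine Units.ext (C.mat_ext fun x i hi => ?_)
    rw [h2, xc_W (by simp) (fun a b => zpow_add₀ c.ne_zero a b) (p := 0) (by simp),
      evG_of_veq (by simp) (allB_iff.1 h i hi), xc_dg]
    simp [evG]
  rwa [this]

end Coding

/-- scaling: the listed diagonal entries can be made `1` -/
def scaleChk : List (ℕ × (ℕ → ℤ)) → List ℕ → Bool
  | [], _ => true
  | p :: L, K => p.2 p.1 == 1 && (K.all fun a => p.2 a == 0) && scaleChk L (p.1 :: K)

theorem scale_sound {C : Coding I} {Γ : Subgroup (GL I F)} (L : List (ℕ × (ℕ → ℤ)))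
    (hL : ∀ p ∈ L, p.1 < C.N ∧ ∀ c : Fˣ, C.dg p.2 c ∈ Γ) (K : List ℕ) (h : scaleChk L K = true) (g : GL I F)
    (hg : ∀ s < C.N, C.FixL g s) (hK : ∀ a ∈ K, C.ent g a a = 1) :
    ∃ γ ∈ Γ, (∀ s < C.N, C.FixL (γ * g) s) ∧ ∀ a ∈ L.map (·.1) ++ K, C.ent (γ * g) a a = 1 := by
  induction L generalizing K g with
  | nil => exact ⟨1, one_mem _, by simpa using hg, by simpa using hK⟩
  | cons p L ih =>
    simp only [scaleChk, Bool.and_eq_true, beq_iff_eq, List.all_eq_true] at h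
    obtain ⟨hp, hp'⟩ := hL p (by simp)
    have h0 := (hg _ hp).ne_zero hp
    obtain ⟨δ, hδ, h1, h2⟩ := ih (fun q hq => hL q (by simp [hq])) (p.1 :: K) h.2
      (C.dg p.2 (Units.mk0 _ h0)⁻¹ * g) (fun s hs => (hg s hs).dg_mul _ _) (by
        intro a ha
        rw [Coding.ent_dg_mul]
        rcases List.mem_cons.1 ha with rfl | ha
        · rw [h.1.1]; simp [h0]
        · rw [h.1.2 a ha, hK a ha]; simp)
    refine ⟨δ * _, mul_mem hδ (hp' _), by simpa only [mul_assoc] using h1, fun a ha => ?_⟩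
    rw [mul_assoc]
    apply h2
    simp only [List.map_cons, List.cons_append, List.mem_cons, List.mem_append] at ha ⊢
    tauto

/-- propagation of the equations `d a = 1` along triples -/
def propChk (tri : ℕ → ℕ → ℕ → Bool) (N : ℕ) : List (ℕ × ℕ × ℕ) → List ℕ → Bool
  | [], K => allB N fun a => K.contains a
  | p :: L, K => tri p.1 p.2.1 p.2.2 && K.contains p.1 && K.contains p.2.1 && propChk tri N L (p.2.2 :: K)

theorem prop_sound {tri : ℕ → ℕ → ℕ → Bool} {N : ℕ} {d : ℕ → F}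
    (hd : ∀ a b c, tri a b c = true → d a = 1 → d b = 1 → d c = 1) (L : List (ℕ × ℕ × ℕ)) (K : List ℕ)
    (h : propChk tri N L K = true) (hK : ∀ a ∈ K, d a = 1) : ∀ a < N, d a = 1 := by
  induction L generalizing K with
  | nil => exact fun a ha => hK a (by simpa using allB_iff.1 h a ha)
  | cons p L ih =>
    simp only [propChk, Bool.and_eq_true, List.contains_iff_mem] at h
    refine ih _ h.2 fun a ha => ?_
    rcases List.mem_cons.1 ha with rfl | ha
    · exact hd _ _ _ h.1.1.1 (hK _ h.1.1.2) (hK _ h.1.2)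
    · exact hK a ha

/-! ### the derived group of an extension by an abelian group -/

theorem commutator_eq_of {G : Type*} [Group G] {G' Γ : Subgroup G} {A : Set G} (hΓ : Γ ≤ G') (hA : A ⊆ G')
    (hgen : G' ≤ Γ ⊔ Subgroup.closure A) (hn : ∀ a ∈ A, a ∈ Subgroup.normalizer (Γ : Set G))
    (hc : ∀ a ∈ A, ∀ b ∈ A, ⁅a, b⁆ ∈ Γ) (hp : Γ ≤ ⁅Γ, Γ⁆) : ⁅G', G'⁆ = Γ := by
  refine le_antisymm ?_ (hp.trans (Subgroup.commutator_mono hΓ hΓ))
  have hN : G' ≤ Subgroup.normalizer (Γ : Set G) :=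
    hgen.trans (sup_le Subgroup.le_normalizer ((Subgroup.closure_le _).2 hn))
  have hconj : ∀ a ∈ G', ∀ x ∈ Γ, a * x * a⁻¹ ∈ Γ := fun a ha x hx =>
    (Subgroup.mem_set_normalizer_iff.1 (hN ha) x).1 hx
  let M : G → Subgroup G := fun b =>
    { carrier := {a | a ∈ G' ∧ ⁅a, b⁆ ∈ Γ}
      one_mem' := ⟨one_mem _, by simp⟩
      mul_mem' := by
        rintro a a' ⟨h1, h2⟩ ⟨h3, h4⟩
        refine ⟨mul_mem h1 h3, ?_⟩
        have : ⁅a * a', b⁆ = a * ⁅a', b⁆ * a⁻¹ * ⁅a, b⁆ := by simp only [commutatorElement_def]; group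
        rw [this]; exact mul_mem (hconj a h1 _ h4) h2
      inv_mem' := by
        rintro a ⟨h1, h2⟩
        refine ⟨inv_mem h1, ?_⟩
        have : ⁅a⁻¹, b⁆ = a⁻¹ * ⁅a, b⁆⁻¹ * a⁻¹⁻¹ := by simp only [commutatorElement_def]; group
        rw [this]; exact hconj _ (inv_mem h1) _ (inv_mem h2) }
  have hΓM : ∀ b ∈ G', Γ ≤ M b := by
    intro b hb a ha
    refine ⟨hΓ ha, ?_⟩
    have : ⁅a, b⁆ = a * (b * a⁻¹ * b⁻¹) := by simp only [commutatorElement_def]; group
    rw [this]; exact mul_mem ha (hconj b hb _ (inv_mem ha))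
  have h1 : ∀ b ∈ A, ∀ a ∈ G', ⁅a, b⁆ ∈ Γ := fun b hb a ha =>
    ((hgen.trans (sup_le (hΓM b (hA hb)) ((Subgroup.closure_le _).2 fun a ha => ⟨hA ha, hc a ha b hb⟩))) ha).2
  rw [Subgroup.commutator_le]
  intro a ha b hb
  refine ((hgen.trans (sup_le (hΓM b hb) ((Subgroup.closure_le _).2 fun a ha => ⟨hA ha, ?_⟩))) ha).2
  rw [← commutatorElement_inv]
  exact inv_mem (h1 a ha b hb)

end H19
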