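import Mathlib
import Cfsg.Prelude.Def_Classical
import Cfsg.Prelude.Def_E6
import Cfsg.Agent.H19.Elim

/-! Invariant quadratic and cubic forms of table representations; images of Steinberg's group. -/

set_option autoImplicit false

namespace H19
open Cfsg Cfsg.Lie H20 Matrix
open scoped commutatorElement

/-- monomials as sorted lists of variables -/
def Mon : Type := List ℕ

def Mon.ins (a : ℕ) : List ℕ → List ℕ
  | [] => [a]
  | b :: L => bif Nat.ble a b then a :: b :: L else b :: Mon.ins a L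

instance instAddMon : Add Mon := ⟨fun a b => List.foldr Mon.ins b a⟩
instance instZeroMon : Zero Mon := ⟨([] : List ℕ)⟩
instance instDecEqMon : DecidableEq Mon := inferInstanceAs (DecidableEq (List ℕ))

/-- polynomials as lists of (coefficient, list of variables) -/
abbrev PL := List (ℤ × List ℕ)

def substP (rows : ℕ → List (ℤ × Mon)) (L : PL) : List (ℤ × Mon) :=
  L.flatMap fun e => e.2.foldr (fun a P => pmul (rows a) P) [(e.1, 0)]

def rowP (N : ℕ) (T : RT) (r i : ℕ) : List (ℤ × Mon) :=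
  bif Nat.blt i N then ((T r i).filter fun e => Nat.blt e.1 N).map fun e =>
    (e.2.1, (e.1 :: List.replicate e.2.2 N : List ℕ)) else []

def rowI (N i : ℕ) : List (ℤ × Mon) := bif Nat.blt i N then [(1, ([i] : List ℕ))] else []

/-- the letter `r` preserves the polynomial `L` -/
def formChk (N : ℕ) (T : RT) (L : PL) (r : ℕ) : Bool :=
  veq 0 ((substP (rowP N T r) L).map fun e => (0, e)) ((substP (rowI N) L).map fun e => (0, e))

section forms
variable {F : Type*} [Field F]

def evM (b : ℕ → F) (m : Mon) : F := (List.map b m).prod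

def fv (b : ℕ → F) (L : PL) : F := (L.map fun e => ((e.1 : ℤ) : F) * (e.2.map b).prod).sum

theorem evM_zero (b : ℕ → F) : evM b 0 = 1 := rfl

theorem prod_ins (b : ℕ → F) (a : ℕ) (L : List ℕ) : ((Mon.ins a L).map b).prod = b a * (L.map b).prod := by
  induction L with
  | nil => simp [Mon.ins]
  | cons c L ih =>
    unfold Mon.ins
    cases Nat.ble a c
    · rw [cond_false, List.map_cons, List.prod_cons, ih, List.map_cons, List.prod_cons]; ring
    · simp

theorem evM_add (b : ℕ → F) (m m' : Mon) : evM b (m + m') = evM b m * evM b m' := by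
  have key : ∀ m m' : List ℕ,
      ((List.foldr Mon.ins m' m).map b).prod = (List.map b m).prod * (List.map b m').prod := by
    intro m m'
    induction m with
    | nil => simp
    | cons a m ih => rw [List.foldr_cons, prod_ins, ih, List.map_cons, List.prod_cons, mul_assoc]
  exact key m m'

theorem evP_substP (b : ℕ → F) (rows : ℕ → List (ℤ × Mon)) (L : PL) :
    evP (evM b) (substP rows L) = fv (fun a => evP (evM b) (rows a)) L := by
  induction L with
  | nil => rfl
  | cons e L ih =>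
    have h1 : ∀ m : List ℕ, evP (evM b) (m.foldr (fun a P => pmul (rows a) P) [(e.1, 0)]) =
        ((e.1 : ℤ) : F) * (m.map fun a => evP (evM b) (rows a)).prod := by
      intro m
      induction m with
      | nil => simp [evP, evM_zero]
      | cons a m ihm => rw [List.foldr_cons, evP_pmul (evM_add b), ihm, List.map_cons, List.prod_cons]; ring
    simp only [substP, fv, List.flatMap_cons, List.map_cons, List.sum_cons] at ih ⊢
    rw [← ih, ← h1]
    simp [evP]

theorem evG_map_zero {M : Type} (ev : M → F) (P : List (ℤ × M)) :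
    evG (fun _ => 1) ev (P.map fun e => (0, e)) = evP ev P := by
  simp [evG, evP, Function.comp_def]

/-- cubic forms -/
abbrev CL := List (ℤ × ℕ × ℕ × ℕ)

def cv (b : ℕ → F) (L : CL) : F := (L.map fun e => ((e.1 : ℤ) : F) * (b e.2.1 * b e.2.2.1 * b e.2.2.2)).sum

def cv2 (b b' : ℕ → F) (L : CL) : F :=
  (L.map fun e => ((e.1 : ℤ) : F) * (b e.2.1 * b e.2.2.1 * b' e.2.2.2 + b e.2.1 * b e.2.2.2 * b' e.2.2.1 +
    b e.2.2.1 * b e.2.2.2 * b' e.2.1)).sum

def qlOf (L : CL) (j : ℕ) : QL :=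
  L.flatMap fun e => (bif Nat.beq e.2.2.2 j then [(e.1, e.2.1, e.2.2.1)] else []) ++
    (bif Nat.beq e.2.2.1 j then [(e.1, e.2.1, e.2.2.2)] else []) ++
    (bif Nat.beq e.2.1 j then [(e.1, e.2.2.1, e.2.2.2)] else [])

theorem qv_eq_fv (b : ℕ → F) (L : QL) : qv b L = fv b (L.map fun e => (e.1, [e.2.1, e.2.2])) := by
  simp [qv, fv, Function.comp_def, mul_assoc]

theorem cv_eq_fv (b : ℕ → F) (L : CL) : cv b L = fv b (L.map fun e => (e.1, [e.2.1, e.2.2.1, e.2.2.2])) := by
  simp [cv, fv, Function.comp_def, mul_assoc]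

theorem qv_add (b b' : ℕ → F) (L : QL) : qv (fun a => b a + b' a) L = qv b L + qv b' L + pv b b' L := by
  induction L with
  | nil => simp [qv, pv]
  | cons e L ih => simp only [qv, pv, List.map_cons, List.sum_cons] at ih ⊢; rw [ih]; ring

theorem qv_smul (c : F) (b : ℕ → F) (L : QL) : qv (fun a => c * b a) L = c ^ 2 * qv b L := by
  induction L with
  | nil => simp [qv]
  | cons e L ih => simp only [qv, List.map_cons, List.sum_cons] at ih ⊢; rw [ih]; ring

theorem pv_smul_right (c : F) (b b' : ℕ → F) (L : QL) : pv b (fun a => c * b' a) L = c * pv b b' L := by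
  induction L with
  | nil => simp [pv]
  | cons e L ih => simp only [pv, List.map_cons, List.sum_cons] at ih ⊢; rw [ih]; ring

theorem cv_add (c : F) (b b' : ℕ → F) (L : CL) :
    cv (fun a => c * b a + b' a) L = c ^ 3 * cv b L + c ^ 2 * cv2 b b' L + c * cv2 b' b L + cv b' L := by
  induction L with
  | nil => simp [cv, cv2]
  | cons e L ih => simp only [cv, cv2, List.map_cons, List.sum_cons] at ih ⊢; rw [ih]; ring

theorem lv_unit {b : ℕ → F} {L : List (ℤ × ℕ)} {a : ℕ} (h : unitL L a = true) :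
    ∃ ε : F, ε ≠ 0 ∧ ∀ b : ℕ → F, lv b L = ε * b a := by
  simp only [unitL, Bool.or_eq_true, beq_iff_eq] at h
  rcases h with rfl | rfl
  exacts [⟨1, one_ne_zero, fun b => by simp [lv]⟩, ⟨-1, by simp, fun b => by simp [lv]⟩]

end forms

variable {I : Type} [Fintype I] [DecidableEq I] {F : Type*} [Field F] {C : Coding I} {T : RT}

omit [DecidableEq I] in
theorem fv_Y {L : PL} {r : ℕ} (h : formChk C.N T L r = true) (t : F) (x : I → F) :
    fv (C.xc (C.Y T r t *ᵥ x)) L = fv (C.xc x) L := by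
  let b : ℕ → F := fun c => if c = C.N then t else C.xc x c
  have h1 := evG_of_veq (b := fun _ => (1 : F)) (ev := evM b) (by simp) h
  rw [evG_map_zero, evG_map_zero, evP_substP, evP_substP] at h1
  convert h1 using 2 with a a
  · funext a
    unfold rowP
    by_cases ha : a < C.N
    · rw [blt_true ha, cond_true, Coding.Y_mulVec _ _ _ ha]
      induction T r a with
      | nil => rfl
      | cons e K ih =>
        rw [List.map_cons, List.sum_cons, ih, List.filter_cons]
        by_cases he : e.1 < C.N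
        · rw [blt_true he, if_pos rfl]
          simp [evP, evM, b, he.ne, mul_comm, mul_left_comm, mul_assoc]
        · rw [blt_false he, if_neg (by simp), Coding.xc_ge _ he]; simp
    · rw [blt_false ha, cond_false, Coding.xc_ge _ ha]; rfl
  · funext a
    unfold rowI
    by_cases ha : a < C.N
    · rw [blt_true ha, cond_true]; simp [evP, evM, b, ha.ne]
    · rw [blt_false ha, cond_false, Coding.xc_ge _ ha]; rfl

/-! ### quadratic forms -/

section quad
variable {L : QL} {Q : (I → F) → F} (hQ : ∀ v, Q v = qv (C.xc v) L)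
include hQ

theorem mem_isom_iff {g : GL I F} : g ∈ isometryGroup F Q ↔
    ∀ x, qv (C.xc ((g : Matrix I I F) *ᵥ x)) L = qv (C.xc x) L := by
  simp only [← hQ]
  exact ⟨fun h x => h x x, fun h x _ => h x⟩

theorem isom_pv {g : GL I F} (hg : g ∈ isometryGroup F Q) (x y : I → F) :
    pv (C.xc ((g : Matrix I I F) *ᵥ x)) (C.xc ((g : Matrix I I F) *ᵥ y)) L = pv (C.xc x) (C.xc y) L := by
  rw [mem_isom_iff hQ] at hg
  have h1 := hg (x + y)
  have e : ∀ x y : I → F, C.xc (x + y) = fun a => C.xc x a + C.xc y a := fun x y => funext (Coding.xc_add x y)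
  rw [mulVec_add, e, e, qv_add, qv_add, hg, hg] at h1
  exact add_left_cancel h1

theorem qf_quad : QF C 1 (fun _ => L) (fun _ _ _ => false) (isometryGroup F Q) where
  sing g hg x h j hj := by rw [(mem_isom_iff hQ).1 hg, h j hj]
  perp g hg x y h j hj := by rw [isom_pv hQ hg, h j hj]
  tri _ _ _ _ _ h := by simp at h

theorem mem_isom_of_formChk {r : ℕ} (h : formChk C.N T (L.map fun e => (e.1, [e.2.1, e.2.2])) r = true)
    {t : F} {g : GL I F} (hg : (g : Matrix I I F) = C.Y T r t) : g ∈ isometryGroup F Q := by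
  rw [mem_isom_iff hQ, hg]
  intro x
  rw [qv_eq_fv, qv_eq_fv, fv_Y h]

theorem dg_mem_isom {k : ℕ → ℤ} {c : Fˣ} (h : ∀ e ∈ L, (c : F) ^ (k e.2.1 + k e.2.2) = 1) :
    C.dg k c ∈ isometryGroup F Q := by
  rw [mem_isom_iff hQ]
  intro x
  unfold qv
  congr 1
  refine List.map_congr_left fun e he => ?_
  have := h e he
  rw [zpow_add₀ c.ne_zero] at this
  rw [Coding.xc_dg, Coding.xc_dg]
  linear_combination (e.1 : F) * C.xc x e.2.1 * C.xc x e.2.2 * this

theorem isom_pair {g : GL I F} (hg : g ∈ isometryGroup F Q) {s s' : ℕ} (hs : s < C.N) (hs' : s' < C.N)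
    (h : unitL (pl L s) s' = true) (h1 : C.FixL g s) (h2 : C.FixL g s') : C.ent g s s * C.ent g s' s' = 1 := by
  have := isom_pv hQ hg (C.e F s) (C.e F s')
  obtain ⟨ε, hε, h3⟩ := lv_unit (b := fun _ => (0 : F)) h
  have e : ∀ (c : F) (x : I → F), C.xc (c • x) = fun a => c * C.xc x a := fun c x => funext (Coding.xc_smul c x)
  rw [h1.eq_smul, h2.eq_smul, e, e, pv_smul_left, pv_smul_right, pv_single (Coding.xc_e' hs), h3,
    Coding.xc_e' hs', if_pos rfl, mul_one, ← mul_assoc] at this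
  exact (mul_eq_right₀ hε).1 this

theorem isom_sq {g : GL I F} (hg : g ∈ isometryGroup F Q) {s : ℕ} (h : qv (C.xc (C.e F s)) L ≠ 0)
    (h1 : C.FixL g s) : C.ent g s s ^ 2 = 1 := by
  have := (mem_isom_iff hQ).1 hg (C.e F s)
  have e : ∀ (c : F) (x : I → F), C.xc (c • x) = fun a => c * C.xc x a := fun c x => funext (Coding.xc_smul c x)
  rw [h1.eq_smul, e, qv_smul] at this
  exact (mul_eq_right₀ h).1 this

end quad

/-! ### cubic forms -/

def triB (N : ℕ) (ql : ℕ → QL) (s s' b : ℕ) : Bool :=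
  Nat.blt s N && Nat.blt s' N && Nat.blt b N && unitL (pl (ql b) s) s' &&
    allB N fun j => Nat.beq j b || (pl (ql j) s).all fun e => !Nat.beq e.2 s'

omit [DecidableEq I] in
theorem cv2_eq_sum (L : CL) (b : ℕ → F) (z : I → F) :
    cv2 b (C.xc z) L = ∑ i, qv b (qlOf L (C.cd i)) * z i := by
  induction L with
  | nil => simp [cv2, qlOf, qv]
  | cons e L ih =>
    simp only [cv2, qlOf, qv, List.map_cons, List.sum_cons, List.flatMap_cons, List.map_append, List.sum_append,
      add_mul, Finset.sum_add_distrib] at ih ⊢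
    rw [ih]
    congr 1
    have key : ∀ (a u v : ℕ), ∑ i, (List.map (fun e : ℤ × ℕ × ℕ => ((e.1 : ℤ) : F) * b e.2.1 * b e.2.2)
        (bif Nat.beq a (C.cd i) then [(e.1, u, v)] else [])).sum * z i = (e.1 : F) * b u * b v * C.xc z a := by
      intro a u v
      rw [← Coding.sum_ite_cd]
      refine Finset.sum_congr rfl fun i _ => ?_
      by_cases h : a = C.cd i
      · rw [beq_true h, if_pos h]; simp
      · rw [beq_false h, if_neg h]; simp
    rw [key, key, key]; ring

section cubic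
variable {L : CL} {f : (I → F) → F} (hf : ∀ v, f v = cv (C.xc v) L)
include hf

theorem mem_stab_iff {g : GL I F} : g ∈ funStab F f ↔
    ∀ x, cv (C.xc ((g : Matrix I I F) *ᵥ x)) L = cv (C.xc x) L := by
  simp only [← hf]
  exact Iff.rfl

theorem mem_stab_of_formChk {r : ℕ}
    (h : formChk C.N T (L.map fun e => (e.1, [e.2.1, e.2.2.1, e.2.2.2])) r = true)
    {t : F} {g : GL I F} (hg : (g : Matrix I I F) = C.Y T r t) : g ∈ funStab F f := by
  rw [mem_stab_iff hf, hg]
  intro x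
  rw [cv_eq_fv, cv_eq_fv, fv_Y h]

theorem stab_cv2 (hF : ∃ a : F, a ≠ 0 ∧ a ≠ 1) {g : GL I F} (hg : g ∈ funStab F f) (x z : I → F) :
    cv2 (C.xc ((g : Matrix I I F) *ᵥ x)) (C.xc ((g : Matrix I I F) *ᵥ z)) L = cv2 (C.xc x) (C.xc z) L := by
  obtain ⟨a, h0, h1⟩ := hF
  rw [mem_stab_iff hf] at hg
  have e : ∀ (c : F) (x y : I → F), C.xc (c • x + y) = fun a => c * C.xc x a + C.xc y a :=
    fun c x y => funext fun a => by rw [Coding.xc_add, Coding.xc_smul]
  have k : ∀ c : F, c ^ 2 * cv2 (C.xc ((g : Matrix I I F) *ᵥ x)) (C.xc ((g : Matrix I I F) *ᵥ z)) L +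
      c * cv2 (C.xc ((g : Matrix I I F) *ᵥ z)) (C.xc ((g : Matrix I I F) *ᵥ x)) L =
      c ^ 2 * cv2 (C.xc x) (C.xc z) L + c * cv2 (C.xc z) (C.xc x) L := by
    intro c
    have h2 := hg (c • x + z)
    rw [mulVec_add, mulVec_smul, e, e, cv_add, cv_add, hg, hg] at h2
    linear_combination h2
  have h3 : a * (a - 1) ≠ 0 := mul_ne_zero h0 (sub_ne_zero.2 h1)
  apply mul_left_cancel₀ h3
  linear_combination k a - a * k 1

theorem qf_cubic (hF : ∃ a : F, a ≠ 0 ∧ a ≠ 1) {ql : ℕ → QL} (hql : ∀ j < C.N, ql j = qlOf L j) :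
    QF C C.N ql (triB C.N ql) (funStab F f) := by
  have hq : ∀ (g : GL I F), g ∈ funStab F f → ∀ x z, ∑ i, qv (C.xc ((g : Matrix I I F) *ᵥ x)) (ql (C.cd i)) *
      ((g : Matrix I I F) *ᵥ z) i = ∑ i, qv (C.xc x) (ql (C.cd i)) * z i := by
    intro g hg x z
    simp only [hql _ (C.cd_lt _), ← cv2_eq_sum]
    exact stab_cv2 hf hF hg x z
  have hp : ∀ (g : GL I F), g ∈ funStab F f → ∀ x y z, ∑ i, pv (C.xc ((g : Matrix I I F) *ᵥ x))
      (C.xc ((g : Matrix I I F) *ᵥ y)) (ql (C.cd i)) * ((g : Matrix I I F) *ᵥ z) i =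
      ∑ i, pv (C.xc x) (C.xc y) (ql (C.cd i)) * z i := by
    intro g hg x y z
    have e : ∀ x y : I → F, C.xc (x + y) = fun a => C.xc x a + C.xc y a := fun x y => funext (Coding.xc_add x y)
    have h1 := hq g hg (x + y) z
    simp only [mulVec_add, e, qv_add, add_mul, Finset.sum_add_distrib, hq g hg] at h1
    exact add_left_cancel h1
  have hz : ∀ (g : GL I F) (u : I → F) (j : ℕ), j < C.N → ∑ i, u i * ((g : Matrix I I F) *ᵥ
      (((g⁻¹ : GL I F) : Matrix I I F) *ᵥ Pi.single (C.dc j) 1)) i = u (C.dc j) := by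
    intro g u j hj
    rw [mulVec_mulVec, ← Units.val_mul, mul_inv_cancel, Units.val_one, one_mulVec]
    simp [Pi.single_apply]
  refine ⟨fun g hg x h j hj => ?_, fun g hg x y h j hj => ?_, fun g hg s s' b h h1 h2 => ?_⟩
  · have := hq g hg x (((g⁻¹ : GL I F) : Matrix I I F) *ᵥ Pi.single (C.dc j) 1)
    rw [hz g _ j hj, C.cd_dc j hj] at this
    rw [this]
    exact Finset.sum_eq_zero fun i _ => by rw [h _ (C.cd_lt i), zero_mul]
  · have := hp g hg x y (((g⁻¹ : GL I F) : Matrix I I F) *ᵥ Pi.single (C.dc j) 1)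
    rw [hz g _ j hj, C.cd_dc j hj] at this
    rw [this]
    exact Finset.sum_eq_zero fun i _ => by rw [h _ (C.cd_lt i), zero_mul]
  · simp only [triB, Bool.and_eq_true, Nat.blt_eq, allB_iff, Bool.or_eq_true, Nat.beq_eq, List.all_eq_true] at h
    obtain ⟨⟨⟨⟨hs, hs'⟩, hb⟩, h3⟩, h4⟩ := h
    obtain ⟨ε, hε, h3⟩ := lv_unit (b := fun _ => (0 : F)) h3
    have h5 : ∀ z : I → F, ∑ i, pv (C.xc (C.e F s)) (C.xc (C.e F s')) (ql (C.cd i)) * z i = ε * C.xc z b := by
      intro z
      rw [← Coding.sum_ite_cd]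
      refine Finset.sum_congr rfl fun i _ => ?_
      congr 1
      rw [pv_single (Coding.xc_e' hs)]
      split_ifs with h6
      · rw [← h6, h3, Coding.xc_e' hs', if_pos rfl, mul_one]
      · refine lv_eq_zero fun e he => ?_
        rcases h4 _ (C.cd_lt i) with h7 | h7
        · exact absurd h7.symm h6
        · rw [Coding.xc_e' hs', if_neg]
          intro h8
          simpa [h8] using h7 e he
    have := hp g hg (C.e F s) (C.e F s') (C.e F b)
    have e : ∀ (c : F) (x : I → F), C.xc (c • x) = fun a => c * C.xc x a := fun c x => funext (Coding.xc_smul c x)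
    rw [h1.eq_smul, h2.eq_smul, e, e] at this
    simp only [pv_smul_left, pv_smul_right, mul_assoc, ← Finset.mul_sum] at this
    rw [h5, h5, Coding.xc_e' hb, if_pos rfl] at this
    apply mul_left_cancel₀ hε
    change _ * (_ * (ε * C.ent g b b)) = _ at this
    linear_combination this

end cubic

/-! ### the image of Steinberg's group -/

section st
variable {D : ChevalleyDatum} {g : Good D} {G : Type*} [Group G]

theorem commWord_mem' {X : WRG g.rs F G} {Y : Rel D F G} (hXY : ∀ r t, X.x r t = Y.x r t) {r s : ℕ}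
    (hr : r < D.nroots) (hs : s < D.nroots) (h1 : s ≠ r) (h2 : s ≠ D.neg r) (t u : F) :
    ((D.commWord F r s t u).map fun p => Y.x p.1 p.2).prod ∈ ⁅X.grp, X.grp⁆ := by
  have e : ((D.commWord F r s t u).map fun p => Y.x p.1 p.2).prod = ⁅(Y.x s u)⁻¹, (Y.x r t)⁻¹⁆ := by
    rw [commutatorElement_def, inv_inv, inv_inv, mul_assoc, mul_assoc, Y.comm r s hr hs h1 h2 t u]
    group
  rw [e]
  exact Subgroup.commutator_mem_commutator (inv_mem (hXY ⟨s, hs⟩ u ▸ X.x_mem_grp _ _))
    (inv_mem (hXY ⟨r, hr⟩ t ▸ X.x_mem_grp _ _))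

theorem x_mem_comm_of_one' {X : WRG g.rs F G} {Y : Rel D F G} (hXY : ∀ r t, X.x r t = Y.x r t)
    {k : Fin D.nroots} {w : ℕ × ℕ} (h : One D k w) (t : F) : X.x k t ∈ ⁅X.grp, X.grp⁆ := by
  obtain ⟨hr, hs, h1, h2, h3 | h3⟩ := h
  · simpa [ChevalleyDatum.commWord, h3, hXY] using commWord_mem' hXY hr hs h1 h2 (-1) t
  · simpa [ChevalleyDatum.commWord, h3, hXY] using commWord_mem' hXY hr hs h1 h2 1 t

theorem x_mem_comm_of_two' {X : WRG g.rs F G} {Y : Rel D F G} (hXY : ∀ r t, X.x r t = Y.x r t)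
    {k k' : Fin D.nroots} {r s : ℕ} (hr : r < D.nroots) (hs : s < D.nroots)
    (h1 : s ≠ r) (h2 : s ≠ D.neg r) {e e' : ℤ} (he : e = 1 ∨ e = -1)
    (h3 : D.commTerms r s = [((k' : ℕ), e', 1, 1), ((k : ℕ), e, 2, 1)])
    (h4 : ∀ t, X.x k' t ∈ ⁅X.grp, X.grp⁆) (t : F) : X.x k t ∈ ⁅X.grp, X.grp⁆ := by
  have := commWord_mem' hXY hr hs h1 h2 1 ((e : F) * t)
  simp only [ChevalleyDatum.commWord, h3, List.map_cons, List.map_nil, List.prod_cons, List.prod_nil, mul_one,
    ← hXY] at this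
  have := (Subgroup.mul_mem_cancel_left _ (h4 _)).1 this
  rcases he with rfl | rfl <;> simpa using this

theorem st_perfect_of (M : MatRG g F) (h : ∀ i t, M.St.x (g.rs.sim i) t ∈ ⁅M.St.grp, M.St.grp⁆) :
    commutator (D.SteinbergGroup F) = ⊤ := by
  have h1 := congrArg (Subgroup.map M.St.grp.subtype) (commutator_eq_top_of M.St.toSRG h)
  rw [Subgroup.map_subtype_commutator, ← MonoidHom.range_eq_map, Subgroup.range_subtype, M.St_grp] at h1
  exact h1

theorem st_perfect_of_one (M : MatRG g F) (wL : List (ℕ × ℕ))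
    (h : ∀ i < D.rank, One D (D.simple i) (wL.getD i (0, 0))) : commutator (D.SteinbergGroup F) = ⊤ :=
  st_perfect_of M fun i t => x_mem_comm_of_one' (Y := stRel D F) (fun _ _ => rfl) (k := g.rs.sim i) (h i i.2) t

theorem range_le_commutator {S : Type*} [Group S] (hS : commutator S = ⊤) (ψ : S →* G) :
    ψ.range ≤ ⁅ψ.range, ψ.range⁆ := by
  rw [MonoidHom.range_eq_map, ← Subgroup.map_commutator, ← commutator_def, hS]

theorem not_comm_of_perfect {Γ : Subgroup G} (h : Γ ≤ ⁅Γ, Γ⁆) {a : G} (ha : a ∈ Γ) (h1 : a ≠ 1) :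
    ¬IsMulCommutative Γ := by
  intro hc
  have : ⁅Γ, Γ⁆ = ⊥ := by
    rw [eq_bot_iff, Subgroup.commutator_le]
    intro x hx y hy
    have := congrArg Subtype.val (hc.is_comm.comm (⟨x, hx⟩ : Γ) ⟨y, hy⟩)
    rw [Subgroup.mem_bot, commutatorElement_eq_one_iff_mul_comm]
    exact this
  exact h1 (by simpa [this] using h ha)

theorem st_range_le (g : Good D) (ψ : D.SteinbergGroup F →* G) {M : Subgroup G}
    (h : ∀ r < D.nroots, ∀ t, ψ (D.stGen F r t) ∈ M) : ψ.range ≤ M := by
  rw [MonoidHom.range_eq_map, Subgroup.map_le_iff_le_comap, ← st_grp g, WRG.grp, WRG.XS_le_iff]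
  exact fun r _ t => h r r.2 t

theorem mem_normalizer_range (g : Good D) (ψ : D.SteinbergGroup F →* G) {a : G}
    (h : ∀ r < D.nroots, ∀ t, a * ψ (D.stGen F r t) * a⁻¹ ∈ ψ.range)
    (h' : ∀ r < D.nroots, ∀ t, a⁻¹ * ψ (D.stGen F r t) * a ∈ ψ.range) :
    a ∈ Subgroup.normalizer (ψ.range : Set G) := by
  have k : ∀ a : G, (∀ r < D.nroots, ∀ t, a * ψ (D.stGen F r t) * a⁻¹ ∈ ψ.range) →
      ∀ x ∈ ψ.range, a * x * a⁻¹ ∈ ψ.range := fun a h x hx =>
    st_range_le g ψ (M := ψ.range.comap (MulAut.conj a).toMonoidHom) h hx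
  rw [Subgroup.mem_set_normalizer_iff]
  refine fun x => ⟨k a h x, fun hx => ?_⟩
  simpa [mul_assoc] using k a⁻¹ (by simpa using h') _ hx

theorem pomega_equiv (M : MatRG g F) (hs : IsSimpleGroup ↥(D.group F) ∧ ¬IsMulCommutative ↥(D.group F))
    (ψ : D.SteinbergGroup F →* G) {G' : Subgroup G} (h : ⁅G', G'⁆ = ψ.range)
    (hnc : ¬IsMulCommutative ψ.range) :
    Nonempty (D.group F ≃* (commutator G' ⧸ Subgroup.center (commutator G'))) := by
  have hm : ∀ a : G', a ∈ commutator G' ↔ (a : G) ∈ ψ.range := by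
    intro a
    rw [← h, ← Subgroup.map_subtype_commutator]
    exact ⟨fun ha => ⟨a, ha, rfl⟩, fun ⟨b, hb, e⟩ => (Subtype.ext e : b = a) ▸ hb⟩
  have hle : ∀ a, ψ a ∈ G' := fun a => Subgroup.commutator_le_self G' (h ▸ ⟨a, rfl⟩)
  let ψ' : D.SteinbergGroup F →* commutator G' :=
    (ψ.codRestrict G' hle).codRestrict _ fun a => (hm _).2 ⟨a, rfl⟩
  have hsurj : Function.Surjective ψ' := fun b => by
    obtain ⟨a, ha⟩ := (hm _).1 b.2
    exact ⟨a, Subtype.ext (Subtype.ext ha)⟩
  refine (st_quot_equiv M hs ψ' hsurj fun hc => hnc ⟨⟨?_⟩⟩).map MulEquiv.symm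
  rintro ⟨_, a, rfl⟩ ⟨_, b, rfl⟩
  exact Subtype.ext (congrArg (fun x : commutator G' => ((x : G') : G)) (hc.is_comm.comm (ψ' a) (ψ' b)))

theorem stab_equiv (M : MatRG g F) (hs : IsSimpleGroup ↥(D.group F) ∧ ¬IsMulCommutative ↥(D.group F))
    (ψ : D.SteinbergGroup F →* G) {G' : Subgroup G} (h : G' = ψ.range) (hnc : ¬IsMulCommutative ψ.range) :
    Nonempty ((G' ⧸ Subgroup.center G') ≃* D.group F) := by
  subst h
  exact st_quot_equiv M hs ψ.rangeRestrict ψ.rangeRestrict_surjective hnc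

theorem RepRel.exists_psi (R : RepRel D C T F) (g : Good D) : ∃ ψ : D.SteinbergGroup F →* GL I F,
    ∀ r < D.nroots, ∀ t, (ψ (D.stGen F r t) : Matrix I I F) = C.Y T r t := by
  obtain ⟨ψ, h⟩ := R.Y.exists_st_hom g (R.h_mul g)
  exact ⟨ψ, fun r hr t => by rw [h r t hr, R.coe r hr]⟩

theorem Y_ne_one {r a b : ℕ} {ε : ℤ} (ha : a < C.N) (hb : b < C.N) (hab : a ≠ b) (hε : ε = 1 ∨ ε = -1)
    (h : T r a = [(a, 1, 0), (b, ε, 1)]) : C.Y T r (1 : F) ≠ 1 := by
  intro h1
  have := Coding.Y_mulVec (C := C) (T := T) r (1 : F) (C.e F b) ha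
  rw [h1, h, one_mulVec] at this
  rcases hε with rfl | rfl <;> simp [Coding.xc_e' hb, hab] at this

theorem dg_mem_normalizer (g : Good D) {ψ : D.SteinbergGroup F →* GL I F}
    (hψ : ∀ r < D.nroots, ∀ t, (ψ (D.stGen F r t) : Matrix I I F) = C.Y T r t) {k : ℕ → ℤ} (ρ : ℕ → ℤ)
    (h : allB D.nroots (fun r => allB C.N fun i => (T r i).all fun e => k i == (e.2.2 : ℤ) * ρ r + k e.1) = true)
    (c : Fˣ) : C.dg k c ∈ Subgroup.normalizer (ψ.range : Set (GL I F)) := by
  have key : ∀ c : Fˣ, ∀ r < D.nroots, ∀ t, C.dg k c * ψ (D.stGen F r t) * (C.dg k c)⁻¹ ∈ ψ.range := by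
    intro c r hr t
    refine ⟨D.stGen F r ((c : F) ^ ρ r * t), ?_⟩
    rw [eq_mul_inv_iff_mul_eq]
    apply Units.ext
    rw [Units.val_mul, Units.val_mul, hψ r hr, hψ r hr, Coding.dg_mul_Y (allB_iff.1 h r hr)]
  refine mem_normalizer_range g ψ (key c) fun r hr t => ?_
  have := key c⁻¹ r hr t
  rwa [← Coding.dg_inv, inv_inv] at this

end st

end H19
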