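import Mathlib

/-!
# Ovoids in the generalized quadrangle of order two
-/

set_option autoImplicit false

namespace H19.GQ22
open Finset

/-- The table of the cube. -/
def tab (j : Fin 3) (a : Fin 4 × Bool) : Fin 4 × Bool :=
  (![![1, 0, 3, 2], ![2, 3, 0, 1], ![3, 2, 1, 0]] j a.1,
    if a.1 = 0 ∨ a.1 = j.succ then a.2 else !a.2)

theorem cube0 : (univ.filter fun S : Finset (Fin 4 × Bool) =>
    S.card = 4 ∧ ∀ y ∈ S, ∀ i, tab i y ∉ S).card = 2 := by decide +kernel

theorem cube {T : Type*} [Fintype T] [DecidableEq T] (hT : Fintype.card T = 8) (φ : Fin 3 → T → T)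
    (ε : Fin 3 → T → Bool) (h1 : ∀ i y, φ i (φ i y) = y) (h2 : ∀ i y, ε i (φ i y) = ε i y)
    (h3 : ∀ i j y, j ≠ i → ε j (φ i y) = !ε j y)
    (h4 : ∀ i j k y, i ≠ j → j ≠ k → i ≠ k → φ i (φ j y) ≠ φ k y) :
    (univ.filter fun S : Finset T => S.card = 4 ∧ ∀ y ∈ S, ∀ i, φ i y ∉ S).card = 2 := by
  obtain ⟨y0⟩ : Nonempty T := Fintype.card_pos_iff.1 (by omega)
  have hε : ∀ i j y, ε j (φ i y) = xor (decide (j ≠ i)) (ε j y) := fun i j y => by
    by_cases e : j = i
    · subst e; simp [h2]
    · simp [h3 i j y e, e]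
  have inj : ∀ i, Function.Injective (φ i) := fun i => Function.LeftInverse.injective (h1 i)
  let y : Bool → T := fun b => if b then φ 0 (φ 1 (φ 2 y0)) else y0
  have hy : Function.Injective y := by
    have : φ 0 (φ 1 (φ 2 y0)) ≠ y0 := fun e =>
      h4 1 2 0 y0 (by decide) (by decide) (by decide) (by rw [← h1 0 (φ 1 (φ 2 y0)), e])
    intro a b e
    cases a <;> cases b
    · rfl
    · exact absurd e.symm this
    · exact absurd e this
    · rfl
  have hyε : ∀ b j, ε j (y b) = ε j y0 := fun b j => by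
    cases b
    · rfl
    · simp only [y, if_true, hε]
      fin_cases j <;> simp
  let g : Fin 4 × Bool → T := fun a => Fin.cases (y a.2) (fun i => φ i (y a.2)) a.1
  let v : Fin 4 → Fin 3 → Bool := fun k j => decide (k ≠ 0 ∧ k ≠ j.succ)
  have hg : ∀ a j, ε j (g a) = xor (v a.1 j) (ε j y0) := by
    rintro ⟨k, b⟩ j
    refine Fin.cases ?_ (fun i => ?_) k
    · simp [g, v, hyε]
    · simp only [g, v, Fin.cases_succ, hε, hyε]
      congr 1
      simp [eq_comm]
  have hv : ∀ k k', (∀ j, v k j = v k' j) → k = k' := by decide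
  have ginj : Function.Injective g := by
    rintro ⟨k, b⟩ ⟨k', b'⟩ e
    obtain rfl : k = k' := hv _ _ fun j => by
      have := congrArg (ε j) e
      rw [hg, hg] at this
      simpa using this
    congr 1
    revert e
    refine Fin.cases (fun e => hy e) (fun i e => hy (inj i e)) k
  have gbij : Function.Bijective g :=
    (Fintype.bijective_iff_injective_and_card g).2 ⟨ginj, by simp [hT]⟩
  have ht : ∀ j a, φ j (g a) = g (tab j a) := by
    rintro j ⟨k, b⟩
    revert j
    refine Fin.cases (fun j => ?_) (fun i j => ?_) k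
    · fin_cases j <;> rfl
    by_cases e : j = i
    · subst e
      change φ j (φ j _) = _
      rw [h1]
      fin_cases j <;> rfl
    obtain ⟨⟨k', b'⟩, e'⟩ := gbij.2 (φ j (g (i.succ, b)))
    have hk : k' = (tab j (i.succ, b)).1 := hv _ _ fun l => by
      have := congrArg (ε l) e'
      rw [hε, hg, hg, ← Bool.xor_assoc] at this
      have h5 : ∀ (i j l : Fin 3) (b : Bool),
          v (tab j (i.succ, b)).1 l = xor (decide (l ≠ j)) (v i.succ l) := by decide
      rw [h5]
      exact Bool.xor_left_inj.1 this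
    have h6 : ∀ (i j : Fin 3) (b : Bool), j ≠ i → ∃ k : Fin 3, i ≠ k ∧ j ≠ k ∧
        tab j (i.succ, b) = (k.succ, !b) := by decide
    obtain ⟨k, hk1, hk2, hk3⟩ := h6 i j b e
    rw [← e', hk3]
    rw [hk3] at hk
    subst hk
    congr 2
    by_contra hb
    obtain rfl : b' = b := by simpa using hb
    exact h4 j i k (y b') e hk1 hk2 e'.symm
  rw [← cube0]
  symm
  refine card_equiv (Equiv.finsetCongr (Equiv.ofBijective g gbij)) fun S => ?_
  simp only [mem_filter, mem_univ, true_and, Equiv.finsetCongr_apply, card_map, forall_mem_map]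
  refine and_congr Iff.rfl (forall_congr' fun a => forall_congr' fun _ => forall_congr' fun i => ?_)
  change _ ↔ φ i (g a) ∉ _
  rw [ht, show g (tab i a) = (Equiv.ofBijective g gbij).toEmbedding (tab i a) from rfl, mem_map']

variable {P L : Type*} [Fintype P] [DecidableEq P] [Fintype L] [DecidableEq L]
  (I : P → L → Prop) [∀ y l, Decidable (I y l)]

/-- Collinear points. -/
def Col (y z : P) : Prop := ∃ m, I y m ∧ I z m

instance instDecCol (y z : P) : Decidable (Col I y z) := by unfold Col; infer_instance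

variable {I}

theorem ovoids (hP : Fintype.card P = 15) (h1 : ∀ y, (univ.filter (I y)).card = 3)
    (h2 : ∀ l, (univ.filter (I · l)).card = 3)
    (h3 : ∀ {y z l m}, y ≠ z → I y l → I z l → I y m → I z m → l = m)
    (h4 : ∀ y l, ¬ I y l → ∃! z, I z l ∧ Col I y z) (B : P) :
    (univ.filter fun O : Finset P =>
      B ∈ O ∧ O.card = 5 ∧ ∀ y ∈ O, ∀ z ∈ O, y ≠ z → ¬ Col I y z).card = 2 := by
  classical
  have csymm : ∀ {y z}, Col I y z → Col I z y := fun ⟨m, a, b⟩ => ⟨m, b, a⟩
  have crefl : ∀ y, Col I y y := fun y => by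
    obtain ⟨m, hm⟩ := card_pos.1 (show 0 < (univ.filter (I y)).card by rw [h1]; norm_num)
    exact ⟨m, (mem_filter.1 hm).2, (mem_filter.1 hm).2⟩
  have onl : ∀ {y l a b}, a ≠ b → I a l → I b l → Col I y a → Col I y b → I y l :=
    fun {y l a b} hab ha hb ca cb => by
      by_contra hn
      exact hab ((h4 y l hn).unique ⟨ha, ca⟩ ⟨hb, cb⟩)
  have third : ∀ {l a b}, a ≠ b → I a l → I b l → ∃ c, I c l ∧ c ≠ a ∧ c ≠ b ∧
      ∀ d, I d l → d = a ∨ d = b ∨ d = c := fun {l a b} hab ha hb => by
    have hc : (((univ.filter (I · l)).erase a).erase b).card = 1 := by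
      rw [card_erase_of_mem (by simp [hb, hab.symm]), card_erase_of_mem (by simp [ha]), h2]
    obtain ⟨c, hc⟩ := card_eq_one.1 hc
    have : c ∈ ((univ.filter (I · l)).erase a).erase b := hc ▸ mem_singleton_self c
    simp only [mem_erase, mem_filter, mem_univ, true_and] at this
    refine ⟨c, this.2.2, this.2.1, this.1, fun d hd => ?_⟩
    by_contra! hn
    exact hn.2.2 (mem_singleton.1 (hc ▸ by simp [hd, hn.1, hn.2.1]))
  obtain ⟨q, hq⟩ : ∃ q : Fin 3 ↪ L, ∀ l, I B l ↔ ∃ i, q i = l := by
    let e := (univ.filter (I B)).equivFinOfCardEq (h1 B)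
    refine ⟨⟨fun i => (e.symm i).1, fun a b h => e.symm.injective (Subtype.ext h)⟩, fun l => ⟨fun h =>
      ⟨e ⟨l, by simp [h]⟩, congrArg Subtype.val (e.symm_apply_apply _)⟩, ?_⟩⟩
    rintro ⟨i, rfl⟩
    exact (mem_filter.1 (e.symm i).2).2
  have hqB : ∀ i, I B (q i) := fun i => (hq _).2 ⟨i, rfl⟩
  let T := {y : P // ¬ Col I B y}
  have hT : Fintype.card T = 8 := by
    have : (univ.filter (Col I B)) = insert B (univ.biUnion fun i => (univ.filter (I · (q i))).erase B) := by
      ext y
      simp only [mem_filter, mem_univ, true_and, mem_insert, mem_biUnion, mem_erase]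
      constructor
      · rintro ⟨m, hm, hy⟩
        obtain ⟨i, rfl⟩ := (hq m).1 hm
        by_cases e : y = B
        · exact Or.inl e
        · exact Or.inr ⟨i, e, hy⟩
      · rintro (rfl | ⟨i, -, hy⟩)
        · exact crefl _
        · exact ⟨_, hqB i, hy⟩
    have hc : (univ.filter (Col I B)).card = 7 := by
      rw [this, card_insert_of_notMem (by simp), card_biUnion]
      · simp [card_erase_of_mem, hqB, h2]
      · intro i _ j _ hij
        refine disjoint_left.2 fun y hi hj => hij (q.injective ?_)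
        simp only [mem_filter, mem_univ, true_and, mem_erase] at hi hj
        exact h3 hi.1 hi.2 (hqB i) hj.2 (hqB j)
    rw [Fintype.card_subtype_compl, hP, Fintype.card_subtype, hc]
  have hnq : ∀ (y : T) i, ¬ I y.1 (q i) := fun y i h => y.2 ⟨_, hqB i, h⟩
  choose C hC using fun (i : Fin 3) (y : T) => (h4 y.1 (q i) (hnq y i)).exists
  choose l hl using fun (i : Fin 3) (y : T) => (hC i y).2
  have hCB : ∀ i y, C i y ≠ B := fun i y e => y.2 (csymm (by
    have := (hC i y).2; rwa [e] at this))
  have hCy : ∀ i (y z : T), z.1 ≠ C i y := fun i y z e => hnq z i (e ▸ (hC i y).1)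
  have hCC : ∀ {i j y z}, C i y = C j z → i = j := fun {i j y z} e =>
    q.injective (h3 (hCB i y) (hC i y).1 (hqB i) (e ▸ (hC j z).1) (hqB j))
  have hCu : ∀ {i} {y : T} {c}, I c (q i) → Col I y.1 c → c = C i y := fun {i y c} a b =>
    (h4 y.1 (q i) (hnq y i)).unique ⟨a, b⟩ (hC i y)
  choose f hf using fun (i : Fin 3) (y : T) => third (hCy i y y) (hl i y).1 (hl i y).2
  have hfT : ∀ i y, ¬ Col I B (f i y) := fun i y h =>
    y.2 ⟨l i y, onl (hf i y).2.2.1 (hf i y).1 (hl i y).2 h ⟨_, hqB i, (hC i y).1⟩, (hl i y).1⟩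
  let φ : Fin 3 → T → T := fun i y => ⟨f i y, hfT i y⟩
  have hφC : ∀ i y, C i (φ i y) = C i y := fun i y =>
    (hCu (hC i y).1 ⟨_, (hf i y).1, (hl i y).2⟩).symm
  have hφl : ∀ i y, l i (φ i y) = l i y := fun i y =>
    h3 (hCy i y (φ i y)) (hl i (φ i y)).1 (hφC i y ▸ (hl i (φ i y)).2) (hf i y).1 (hl i y).2
  have hφT : ∀ {i} {y z : T}, I z.1 (l i y) → z = y ∨ z = φ i y := fun {i y z} h => by
    rcases (hf i y).2.2.2 _ h with e | e | e
    · exact Or.inl (Subtype.ext e)
    · exact absurd e (hCy i y z)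
    · exact Or.inr (Subtype.ext e)
  have hφne : ∀ i y, φ i y ≠ y := fun i y e => (hf i y).2.1 (congrArg Subtype.val e)
  have hφφ : ∀ i y, φ i (φ i y) = y := fun i y =>
    ((hφT (y := φ i y) (z := y) (hφl i y ▸ (hl i y).1)).resolve_left (hφne i y).symm).symm
  have hφC' : ∀ i j y, j ≠ i → C j (φ i y) ≠ C j y := fun i j y hij e => by
    have : I (C j y) (l i y) := onl (hf i y).2.1 (hf i y).1 (hl i y).1
      (csymm (e ▸ (hC j (φ i y)).2)) (csymm (hC j y).2)
    rcases (hf i y).2.2.2 _ this with e | e | e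
    · exact hCy j y y e.symm
    · exact hij (hCC e)
    · exact hCy j y (φ i y) e.symm
  have hlinj : ∀ y : T, Function.Injective (l · y) := fun y i j e => by
    by_contra hij
    have e : l i y = l j y := e
    rcases hφT (i := i) (y := y) (z := φ j y) (e ▸ (hf j y).1) with e' | e'
    · exact hφne j y e'
    · exact hφC' j i y hij (e' ▸ hφC i y)
  have hcol : ∀ {y z : T}, y ≠ z → (Col I y.1 z.1 ↔ ∃ i, φ i y = z) := fun {y z} hyz => by
    refine ⟨fun ⟨m, hy, hz⟩ => ?_, ?_⟩
    · have : univ.image (l · y) = univ.filter (I y.1) :=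
        eq_of_subset_of_card_le (fun m hm => by
          obtain ⟨i, -, rfl⟩ := mem_image.1 hm
          simp [(hl i y).1]) (by rw [h1, card_image_of_injective _ (hlinj y)]; simp)
      obtain ⟨i, -, rfl⟩ := mem_image.1 (this ▸ (by simp [hy] : m ∈ univ.filter (I y.1)))
      exact ⟨i, ((hφT hz).resolve_left hyz.symm).symm⟩
    · rintro ⟨i, rfl⟩
      exact ⟨_, (hl i y).1, (hf i y).1⟩
  obtain ⟨y0⟩ : Nonempty T := Fintype.card_pos_iff.1 (by omega)
  have hε : ∀ i j y, j ≠ i → decide (C j (φ i y) = C j y0) = !decide (C j y = C j y0) :=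
    fun i j y hij => by
      obtain ⟨c, -, -, -, hc⟩ := third (hCB j y0) (hC j y0).1 (hqB j)
      have a := hc _ (hC j y).1
      have b := hc _ (hC j (φ i y)).1
      have c1 := hφC' i j y hij
      have c2 := hCB j y
      have c3 := hCB j (φ i y)
      by_cases e : C j y = C j y0
      · simp [e, e ▸ c1]
      · simp only [e, decide_false, Bool.not_false, decide_eq_true_eq]
        grind
  have key := cube hT φ (fun i y => decide (C i y = C i y0)) hφφ (fun i y => by simp only [hφC]) hε
    (fun i j k y hij hjk hik e => by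
      have hne : φ j y ≠ φ k y := fun e' => hφC' k j y hjk (e' ▸ hφC j y)
      have : I (φ k y).1 (l j y) := onl (hf j y).2.1 (hf j y).1 (hl j y).1
        (csymm ((hcol hne).2 ⟨i, e⟩)) (csymm ((hcol (hφne k y).symm).2 ⟨k, rfl⟩))
      rcases hφT this with e' | e'
      · exact hφne k y e'
      · exact hne e'.symm)
  rw [← key]
  symm
  have hBT : ∀ S : Finset T, B ∉ S.map (Function.Embedding.subtype _) := fun S h => by
    obtain ⟨y, -, e⟩ := mem_map.1 h
    exact y.2 (by rw [show y.1 = B from e]; exact crefl B)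
  refine card_bij (fun S _ => insert B (S.map (Function.Embedding.subtype _))) (fun S hS => ?_)
    (fun S _ S' _ e => ?_) (fun O hO => ?_)
  · simp only [mem_filter, mem_univ, true_and] at hS ⊢
    refine ⟨mem_insert_self _ _, by rw [card_insert_of_notMem (hBT S), card_map, hS.1], ?_⟩
    simp only [forall_mem_insert, forall_mem_map]
    refine ⟨⟨fun h => absurd rfl h, fun z _ _ => z.2⟩, fun y hy => ⟨fun _ h => y.2 (csymm h),
      fun z hz hyz h => ?_⟩⟩
    obtain ⟨i, rfl⟩ := (hcol fun e => hyz (congrArg _ e)).1 h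
    exact hS.2 y hy i hz
  · have := congrArg (fun s => s.erase B) e
    simp only [erase_insert (hBT _)] at this
    exact map_injective _ this
  · simp only [mem_filter, mem_univ, true_and] at hO
    have e : insert B ((O.subtype _ : Finset T).map (Function.Embedding.subtype _)) = O := by
      ext y
      simp only [subtype_map, mem_insert, mem_filter]
      constructor
      · rintro (rfl | h)
        · exact hO.1
        · exact h.1
      · intro hy
        by_cases e : y = B
        · exact Or.inl e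
        · exact Or.inr ⟨hy, hO.2.2 B hO.1 y hy (Ne.symm e)⟩
    refine ⟨O.subtype _, ?_, e⟩
    simp only [mem_filter, mem_univ, true_and]
    refine ⟨?_, fun y hy i hi => hO.2.2 _ (mem_subtype.1 hy) _ (mem_subtype.1 hi) (hf i y).2.1.symm
      ((hcol (hφne i y).symm).2 ⟨i, rfl⟩)⟩
    have := hO.2.1
    rw [← e, card_insert_of_notMem (hBT _), card_map] at this
    omega

end H19.GQ22
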