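import Mathlib
import Cfsg.Agent.H19.K3A

/-!
# Quaternion pieces of `O₂(C(z))` under a largest elementary abelian `3`-group
-/

set_option autoImplicit false
set_option linter.unusedSectionVars false

open Cfsg H24 H26 Subgroup H18.K3 H25.Sym

namespace H19.K3

universe u

variable {G : Type u} [Group G] [Finite G] {p a b n : ℕ}

/-- an orbit of an element of order three with product one -/
structure Tri (x i j k : G) : Prop where
  hj : x * i * x⁻¹ = j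
  hk : x * j * x⁻¹ = k
  hi : x * k * x⁻¹ = i
  prod : i * j * k = 1
  ne : i ≠ 1

theorem tri_mk {x q : G} (hx : x ^ 3 = 1) (hq : x * q * x⁻¹ ≠ q) :
    ∃ i j k, Tri x i j k ∧ ∀ X : Subgroup G, x ∈ N[X] → q ∈ X → i ∈ X ∧ j ∈ X ∧ k ∈ X := by
  have h3 : ∀ g : G, x * (x * (x * g * x⁻¹) * x⁻¹) * x⁻¹ = g := fun g => by
    calc x * (x * (x * g * x⁻¹) * x⁻¹) * x⁻¹ = x ^ 3 * g * (x ^ 3)⁻¹ := by
          simp only [pow_succ, pow_zero, one_mul]; group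
      _ = g := by rw [hx]; group
  refine ⟨q⁻¹ * (x * q * x⁻¹), _, _, ⟨rfl, rfl, h3 _, ?_, fun e => hq (inv_mul_eq_one.1 e).symm⟩,
    fun X hX hqX => ?_⟩
  · calc _ = q⁻¹ * (x * (x * (x * q * x⁻¹) * x⁻¹) * x⁻¹) := by group
      _ = 1 := by rw [h3]; group
  · have := mul_mem (inv_mem hqX) (conj_mem hX hqX)
    exact ⟨this, conj_mem hX this, conj_mem hX (conj_mem hX this)⟩

theorem cjm (x u v : G) : x * (u * v) * x⁻¹ = x * u * x⁻¹ * (x * v * x⁻¹) := by group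

theorem Tri.ind {x i j k z : G} (T : Tri x i j k) (zz : z * z = 1) (z1 : z ≠ 1)
    (hxz : x * z * x⁻¹ = z) (zi : z * i = i * z) (ii : i * i = 1) : Ind z i j := by
  have jj : j * j = 1 := by rw [← T.hj, ← cjm, ii]; group
  have kk : k * k = 1 := by rw [← T.hk, ← cjm, jj]; group
  have zj : z * j = j * z := by rw [← T.hj, ← hxz, ← cjm, ← cjm, zi]
  have e1 : i * j = k := by
    rw [mul_eq_one_iff_eq_inv.1 T.prod]; exact inv_eq_of_mul_eq_one_right kk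
  have ij : i * j = j * i := by
    have h1 : (i * j)⁻¹ = i * j := by rw [e1]; exact inv_eq_of_mul_eq_one_right kk
    rw [← h1, mul_inv_rev, inv_eq_of_mul_eq_one_right ii, inv_eq_of_mul_eq_one_right jj]
  have iz : i ≠ z := fun e => by
    have hj : j = z := by rw [← T.hj, e, hxz]
    have hk : k = z := by rw [← T.hk, hj, hxz]
    have := T.prod
    rw [e, hj, hk, zz, one_mul] at this
    exact z1 this
  refine ⟨zz, ii, jj, zi, zj, ij, z1, T.ne, iz, fun e => T.ne ?_, fun e => iz ?_, fun e => T.ne ?_,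
    fun e => iz ?_⟩
  · rw [← T.hi, ← T.hk, e]; group
  · rw [← T.hi, ← T.hk, e, hxz, hxz]
  · have hk : k = i := by rw [← T.hk, e, T.hj, e]
    have := T.prod
    rwa [e, hk, ii, one_mul] at this
  · have hk : k = i := by rw [← T.hk, e, cjm, hxz, T.hj, e, ← mul_assoc, zz, one_mul]
    rw [e, hk, ← mul_assoc, ← zi, mul_assoc, ii, mul_one] at e1
    exact e1.symm

/-- generators of a quaternion group with central involution `z` -/
structure Qu (z i j : G) : Prop where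
  ii : i * i = z
  jj : j * j = z
  ij : i * j * i⁻¹ = z * j

section

variable {z : G} {Q : Subgroup G}

theorem Tri.qu (S : Sy z Q) {x i j k : G} (T : Tri x i j k) (hx : x * z * x⁻¹ = z) (hi : i ∈ Q)
    (hj : j ∈ Q) (ii : i * i ≠ 1) : Qu z i j := by
  have ii' := (S.sq i hi).resolve_left ii
  have jj : j * j = z := by rw [← T.hj, ← cjm, ii', hx]
  have kk : k * k = z := by rw [← T.hk, ← cjm, jj, hx]
  refine ⟨ii', jj, (S.cj_cases hi hj).resolve_left fun e => S.ne_one ?_⟩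
  have e1 : i * j = j * i := mul_inv_eq_iff_eq_mul.1 e
  have e2 : k = (i * j)⁻¹ := eq_inv_of_mul_eq_one_right T.prod
  have e3 : (i * j) * (i * j) = 1 := by
    calc i * j * (i * j) = i * (j * i) * j := by group
      _ = (i * i) * (j * j) := by rw [← e1]; group
      _ = 1 := by rw [ii', jj, S.zz]
  rw [← kk, e2, ← mul_inv_rev, e3, inv_one]

theorem Tri.comm (S : Sy z Q) {x i j k c : G} (T : Tri x i j k) (hx : x * z * x⁻¹ = z)
    (hi : i ∈ Q) (hj : j ∈ Q) (hc : c ∈ Q) (hxc : x * c = c * x) :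
    c * i = i * c ∧ c * j = j * c := by
  have hcc : ∀ g, x * (c * g * c⁻¹) * x⁻¹ = c * (x * g * x⁻¹) * c⁻¹ := fun g => by
    calc x * (c * g * c⁻¹) * x⁻¹ = (x * c) * g * (x * c)⁻¹ := by group
      _ = _ := by rw [hxc]; group
  rcases S.cj_cases hc hi with e | e
  · have e2 : c * j * c⁻¹ = j := by rw [← T.hj, ← hcc, e]
    exact ⟨mul_inv_eq_iff_eq_mul.1 e, mul_inv_eq_iff_eq_mul.1 e2⟩
  · exfalso
    have e2 : c * j * c⁻¹ = z * j := by rw [← T.hj, ← hcc, e, cjm, hx]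
    have e3 : c * k * c⁻¹ = z * k := by rw [← T.hk, ← hcc, e2, cjm, hx]
    have e4 : c * (i * j * k) * c⁻¹ = z * i * (z * j) * (z * k) := by
      rw [cjm, cjm, e, e2, e3]
    have e5 : z * i * (z * j) * (z * k) = z * (i * j * k) := by
      calc z * i * (z * j) * (z * k) = z * (i * z) * (j * z) * k := by group
        _ = (z * z) * (i * z) * j * k := by rw [S.comm hj, S.comm hi]; simp only [mul_assoc]; rw [← mul_assoc i z, S.comm hi, mul_assoc]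
        _ = _ := by rw [S.zz, S.comm hi]; group
    rw [e5, T.prod] at e4
    exact S.ne_one (by simpa using e4.symm)

theorem Qu.ji (S : Sy z Q) {i j : G} (h : Qu z i j) :
    j * i * j⁻¹ = z * i := by
  have e : i * j = z * j * i := mul_inv_eq_iff_eq_mul.1 h.ij
  have e2 : j * i = z * i * j := by
    rw [mul_assoc, e, ← mul_assoc, ← mul_assoc, S.zz, one_mul]
  rw [e2]; group

theorem zne (S : Sy z Q) (g : G) : z * g ≠ g := fun e => S.ne_one (by simpa using e)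

theorem fix2 (S : Sy z Q) {g q m : G} (hq : q ∈ Q) (h1 : g * q * g⁻¹ = z * q)
    (h2 : g * m * g⁻¹ = z * m) : g * (q * m) * g⁻¹ = q * m := by
  rw [cjm, h1, h2]
  calc z * q * (z * m) = z * (q * z) * m := by group
    _ = (z * z) * (q * m) := by rw [S.comm hq]; group
    _ = _ := by rw [S.zz, one_mul]

theorem pair (S : Sy z Q) {i j i' j' : G} (h : Qu z i j) (h' : Qu z i' j') (hi : i ∈ Q)
    (hj : j ∈ Q) (hi' : i' ∈ Q) (hj' : j' ∈ Q) (c1 : i * i' = i' * i) (c2 : i * j' = j' * i)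
    (c3 : j * i' = i' * j) (c4 : j * j' = j' * j) : Ind z (i * i') (j * j') := by
  have sq : ∀ s t : G, s * s = z → t * t = z → s * t = t * s → s * t * (s * t) = 1 := by
    intro s t hs ht hst
    calc s * t * (s * t) = s * (t * s) * t := by group
      _ = (s * s) * (t * t) := by rw [← hst]; group
      _ = 1 := by rw [hs, ht, S.zz]
  have ju : j * (i * i') * j⁻¹ = z * (i * i') := by
    rw [cjm, h.ji S, c3]; group
  have iv : i * (j * j') * i⁻¹ = z * (j * j') := by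
    rw [cjm, h.ij, c2]; group
  have iu : i * (i * i') * i⁻¹ = i * i' := by
    rw [cjm, mul_inv_cancel_right, c1, mul_inv_cancel_right, c1]
  have uv : i * i' * (j * j') = j * j' * (i * i') := by
    have e1 : i' * (j * j') * i'⁻¹ = z * (j * j') := by
      rw [cjm, h'.ij, ← c3, mul_inv_cancel_right, ← mul_assoc, S.comm hj]; group
    have e2 : i * i' * (j * j') * (i * i')⁻¹ = j * j' := by
      calc i * i' * (j * j') * (i * i')⁻¹ = i * (i' * (j * j') * i'⁻¹) * i⁻¹ := by group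
        _ = _ := by rw [e1, cjm, iv, S.cz hi, ← mul_assoc, S.zz, one_mul]
    exact mul_inv_eq_iff_eq_mul.1 e2
  refine ⟨S.zz, sq _ _ h.ii h'.ii c1, sq _ _ h.jj h'.jj c4, (S.comm (mul_mem hi hi')).symm,
    (S.comm (mul_mem hj hj')).symm, uv, S.ne_one, fun e => ?_, fun e => ?_, fun e => ?_,
    fun e => ?_, fun e => ?_, fun e => ?_⟩
  · rw [e] at ju; exact zne S 1 (by rw [← ju]; group)
  · rw [e, S.cz hj] at ju; exact zne S z ju.symm
  · rw [e] at iv; exact zne S 1 (by rw [← iv]; group)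
  · rw [e, S.cz hi] at iv; exact zne S z iv.symm
  · rw [e, iu] at iv; exact zne S _ iv.symm
  · rw [e, cjm, iu, S.cz hi] at iv; exact zne S _ iv.symm

end

theorem ea_mono {q : ℕ} {B B0 : Subgroup G} (h : IsElementaryAbelian q B) (h0 : B0 ≤ B) :
    IsElementaryAbelian q B0 := ⟨Abl.of_le h.1 h0, fun x hx => h.2 x (h0 hx)⟩

theorem card_le_list {K : Subgroup G} (l : List G) (h : ∀ x ∈ K, x ∈ l) : ♯K ≤ l.length := by
  classical
  have h1 : (K : Set G) ⊆ (l.toFinset : Set G) := fun x hx => by simpa using h x hx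
  have h2 := Set.ncard_le_ncard h1 (Finset.finite_toSet _)
  rw [Set.ncard_coe_finset] at h2
  exact (le_of_eq (Nat.card_coe_set_eq (K : Set G))).trans (h2.trans l.toFinset_card_le)

theorem hyp {B K L : Subgroup G} (hB : IsElementaryAbelian 3 B) (hK : IsPi {2} K)
    (hn : B ≤ N[K]) (h : ¬ K ≤ L) :
    ∃ B0 ≤ B, ∃ x ∈ B, B ≤ B0 ⊔ zpowers x ∧ ∃ q ∈ K, q ∈ C[B0] ∧ q ∉ L := by
  by_contra hcon
  push Not at hcon
  exact h (coprime_abelian_gen_cent hB.1 hn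
    (hK.coprime_of_ne (ea_pi Nat.prime_three hB) (by norm_num))
    fun F hF ⟨c, hc, hFc⟩ q hq => hcon F hF c hc hFc q hq.1 hq.2)

theorem hyp_card {B B0 : Subgroup G} (hB : IsElementaryAbelian 3 B) (h0 : B0 ≤ B) {x : G}
    (hx : x ∈ B) (h : B ≤ B0 ⊔ zpowers x) : ♯B ≤ 3 * ♯B0 := by
  by_cases hx0 : x ∈ B0
  · have := card_le (h.trans (sup_le le_rfl (zpowers_le.2 hx0)))
    omega
  · have := (ext3 (ea_mono hB h0) (ord3 (hB.2 x hx) fun e => hx0 (e ▸ one_mem _))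
      (C_anti h0 (Abl.le_C hB.1 hx)) hx0).2
    rw [← this]
    exact card_le h

theorem hyp_mv {B B0 : Subgroup G} {x q : G} (h : B ≤ B0 ⊔ zpowers x) (hq : q ∈ C[B0])
    (hn : q ∉ C[B]) : x * q * x⁻¹ ≠ q := fun e => hn (C_anti h (by
  rw [C_sup, C_zpowers]
  exact ⟨hq, mem_C1_comm.1 (mem_C1_iff_conj.2 e)⟩))

/-- the standing situation -/
structure Ct (n : ℕ) (z : G) (B : Subgroup G) : Prop where
  mx : Mx n G
  nine : 9 ≤ n
  ea : IsElementaryAbelian 3 B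
  card : ♯B = n
  ord : orderOf z = 2
  le : B ≤ C{z}

namespace Ct

variable {z : G} {B B0 Q : Subgroup G} (H : Ct n z B)
include H

theorem ne_bot (h : n ≤ 3 * ♯B0) : B0 ≠ ⊥ := by
  rintro rfl
  have := H.nine
  simp at h
  omega

theorem ne_bot' : B ≠ ⊥ := H.ne_bot (by have := H.card; omega)

theorem zC (h0 : B0 ≤ B) : z ∈ C[B0] := mem_C_iff_le_C1.2 (h0.trans H.le)

theorem cz {x : G} (hx : x ∈ B) : x * z * x⁻¹ = z := mem_C1_iff_conj.1 (H.le hx)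

theorem z1 : z ≠ 1 := ne_one_of_orderOf_prime (H.ord ▸ Nat.prime_two)

theorem no4' (h : KT G p a b) {v : G} (hv : v * v = 1) (hz : v ∈ C{z}) (hB : v ∈ C[B]) :
    v = 1 ∨ v = z :=
  no4 h H.mx H.ea H.ne_bot' (by have := H.card; have := H.nine; omega) (sq2 H.ord) hv
    (mem_C1.1 hz).symm H.z1 (H.zC le_rfl) hB

theorem no8' (h : KT G p a b) (h0 : B0 ≤ B) (hc : n ≤ 3 * ♯B0) {u v : G} (hI : Ind z u v)
    (hu : u ∈ C[B0]) (hv : v ∈ C[B0]) : False :=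
  no8 h H.mx (ea_mono H.ea h0) (H.ne_bot hc) (by have := H.nine; omega) hI (H.zC h0) hu hv

theorem nC (h0 : B0 ≤ B) {x : G} (hx : x ∈ B) : x ∈ N[C[B0]] :=
  norm_self _ (C_anti h0 (Abl.le_C H.ea.1 hx))

/-- a `B`-invariant subgroup of exponent two of `C(z)` lies in `⟨z⟩` -/
theorem exp2 (h : KT G p a b) {V : Subgroup G} (hV : ∀ v ∈ V, v * v = 1) (hz : V ≤ C{z})
    (hn : B ≤ N[V]) {v : G} (hv : v ∈ V) : v = 1 ∨ v = z := by
  by_cases hc : V ≤ C[B]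
  · exact H.no4' h (hV v hv) (hz hv) (hc hv)
  exfalso
  have h2 : IsPi {2} V := isPi_iff_piElt.2 fun x hx => piElt_of_pow_eq_one (n := 2)
    (fun _ hr hd => (Nat.prime_dvd_prime_iff_eq hr Nat.prime_two).1 hd)
    (by rw [pow_two, hV x hx])
  obtain ⟨B0, h0, x, hx, hle, q, hq, hq0, hqB⟩ := hyp H.ea h2 hn hc
  obtain ⟨i, j, k, T, hm⟩ := tri_mk (H.ea.2 x hx) (hyp_mv hle hq0 hqB)
  have m1 := hm V (hn hx) hq
  have m2 := hm _ (H.nC h0 hx) hq0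
  exact H.no8' h h0 (H.card ▸ hyp_card H.ea h0 hx hle)
    (T.ind (sq2 H.ord) H.z1 (H.cz hx) (mem_C1.1 (hz m1.1)).symm (hV i m1.1)) m2.1 m2.2.1

theorem quat (h : KT G p a b) (S : Sy z Q) (h0 : B0 ≤ B) (hc : n ≤ 3 * ♯B0) {x q : G}
    (hx : x ∈ B) (hq : q ∈ Q) (hq0 : q ∈ C[B0]) (hm : x * q * x⁻¹ ≠ q) :
    ∃ i j k, Tri x i j k ∧ Qu z i j ∧ (i ∈ Q ∧ j ∈ Q) ∧ (i ∈ C[B0] ∧ j ∈ C[B0]) ∧
      ∀ X : Subgroup G, x ∈ N[X] → q ∈ X → i ∈ X ∧ j ∈ X := by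
  obtain ⟨i, j, k, T, hm⟩ := tri_mk (H.ea.2 x hx) hm
  have m1 := hm Q (S.nml.norm (H.le hx)) hq
  have m2 := hm _ (H.nC h0 hx) hq0
  refine ⟨i, j, k, T, T.qu S (H.cz hx) m1.1 m1.2.1 fun e => ?_, ⟨m1.1, m1.2.1⟩, ⟨m2.1, m2.2.1⟩,
    fun X h1 h2 => ⟨(hm X h1 h2).1, (hm X h1 h2).2.1⟩⟩
  exact H.no8' h h0 hc (T.ind S.zz S.ne_one (H.cz hx) (S.comm m1.1).symm e) m2.1 m2.2.1

theorem not_cent (S : Sy z Q) {x : G} (hx : x ∈ B) (h1 : x ≠ 1) : ¬ Q ≤ C{x} := fun h =>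
  h1 ((S.pi.piElt (S.cent ⟨H.le hx, mem_C_iff_le_C1.2 h⟩)).eq_one
    (((ea_pi Nat.prime_three H.ea).compl_of_ne (by norm_num)).piElt hx))

theorem first (h : KT G p a b) (S : Sy z Q) :
    ∃ B0 ≤ B, n ≤ 3 * ♯B0 ∧ ∃ x ∈ B, ∃ i j k, Tri x i j k ∧ Qu z i j ∧ (i ∈ Q ∧ j ∈ Q) ∧
      (i ∈ C[B0] ∧ j ∈ C[B0]) := by
  obtain ⟨⟨y, hy⟩, y1⟩ := ne_bot_iff_exists_ne_one.1 H.ne_bot'
  obtain ⟨B0, h0, x, hx, hle, q, hq, hq0, hqB⟩ := hyp (L := C[B]) H.ea S.pi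
    (H.le.trans S.nml.norm) fun hle =>
      H.not_cent S hy (fun e => y1 (Subtype.ext e)) (hle.trans (C_le_C1 hy))
  have hc : n ≤ 3 * ♯B0 := H.card ▸ hyp_card H.ea h0 hx hle
  obtain ⟨i, j, k, T, hQ, m1, m2, -⟩ := H.quat h S h0 hc hx hq hq0 (hyp_mv hle hq0 hqB)
  exact ⟨B0, h0, hc, x, hx, i, j, k, T, hQ, m1, m2⟩

/-- `C_Q(B) = ⟨z⟩` -/
theorem cb (h : KT G p a b) (S : Sy z Q) (hZ : ∀ c ∈ Q, c ∈ C[Q] → c = 1 ∨ c = z) {c : G}
    (hc : c ∈ Q) (hcB : c ∈ C[B]) : c = 1 ∨ c = z := by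
  by_contra hcon
  have sq : ∀ d ∈ Q, d ∈ C[B] → ¬ (d = 1 ∨ d = z) → d * d = z := fun d hd hdB hn =>
    (S.sq d hd).resolve_left fun e => hn (H.no4' h e (S.nml.le hd) hdB)
  obtain ⟨q, hq, hcq⟩ : ∃ q ∈ Q, c * q * c⁻¹ = z * q := by
    by_contra h2
    push Not at h2
    refine hcon (hZ c hc (mem_C'.2 fun q hq => mul_inv_eq_iff_eq_mul.1 ?_))
    exact (S.cj_cases hc hq).resolve_right (h2 q hq)
  have hBQ : B ≤ N[Q] := H.le.trans S.nml.norm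
  have hBc : B ≤ C{c} := mem_C_iff_le_C1.1 hcB
  obtain ⟨v, hv, hvq⟩ := coprime_lift_cent (A := B) (V := Q ⊓ C{c}) (g := q)
    (norm_inf hBQ (norm_C1 hBc))
    ((S.pi.inf_left _).coprime_of_ne (ea_pi Nat.prime_three H.ea) (by norm_num))
    (Or.inr (Abl.sol H.ea.1)) fun x hx => by
      have m : x * q * x⁻¹ ∈ Q := conj_mem (hBQ hx) hq
      refine ⟨Q.mul_mem m (Q.inv_mem hq), mem_C1_comm.1 (mem_C1_iff_conj.2 ?_)⟩
      have e1 : c * (x * q * x⁻¹) * c⁻¹ = z * (x * q * x⁻¹) := by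
        have e : x * c = c * x := mem_C1.1 (hBc hx)
        calc c * (x * q * x⁻¹) * c⁻¹ = (c * x) * q * (c * x)⁻¹ := by group
          _ = x * (c * q * c⁻¹) * x⁻¹ := by rw [← e]; group
          _ = _ := by rw [hcq, cjm, H.cz hx]
      have e2 : c * q⁻¹ * c⁻¹ = z * q⁻¹ := by
        rw [← conj_inv, hcq, mul_inv_rev, inv_eq_of_mul_eq_one_right S.zz, S.comm (Q.inv_mem hq)]
      exact fix2 S m e1 e2
  have hc' : v * q ∈ Q := Q.mul_mem hv.1 hq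
  have e : c * (v * q) * c⁻¹ = z * (v * q) := by
    rw [cjm, hcq, mem_C1_iff_conj.1 (mem_C1_comm.1 hv.2), ← mul_assoc, S.comm hv.1, mul_assoc]
  have hn : ¬ (v * q = 1 ∨ v * q = z) := by
    rintro (e1 | e1)
    · rw [e1] at e; exact zne S 1 (by rw [← e]; group)
    · rw [e1, S.cz hc] at e; exact zne S z e.symm
  obtain ⟨B0, h0, hcard, x, hx, i, j, k, T, hQ, m1, m2⟩ := H.first h S
  have k1 := T.comm S (H.cz hx) m1.1 m1.2 hc (mem_C.1 hcB x hx)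
  have k2 := T.comm S (H.cz hx) m1.1 m1.2 hc' (mem_C.1 hvq x hx)
  exact H.no8' h h0 hcard (pair S ⟨sq c hc hcB hcon, sq _ hc' hvq hn, e⟩ hQ hc hc' m1.1 m1.2
    k1.1 k1.2 k2.1 k2.2) (mul_mem (C_anti h0 hcB) m2.1) (mul_mem (C_anti h0 hvq) m2.2)

theorem eight (h : KT G p a b) (S : Sy z Q) (hZ : ∀ c ∈ Q, c ∈ C[Q] → c = 1 ∨ c = z)
    (h0 : B0 ≤ B) {x : G} (hx : x ∈ B) (hle : B ≤ B0 ⊔ zpowers x) : ♯(Q ⊓ C[B0]) ≤ 8 := by
  have hc : n ≤ 3 * ♯B0 := H.card ▸ hyp_card H.ea h0 hx hle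
  have hfix : ∀ q ∈ Q, q ∈ C[B0] → x * q * x⁻¹ = q → q = 1 ∨ q = z := fun q hq hq0 e => by
    refine H.cb h S hZ hq ?_
    by_contra hn
    exact hyp_mv hle hq0 hn e
  by_cases hall : ∀ q ∈ Q, q ∈ C[B0] → x * q * x⁻¹ = q
  · refine (card_le_list [1, z] fun q hq => ?_).trans (by simp)
    simpa using hfix q hq.1 hq.2 (hall q hq.1 hq.2)
  push Not at hall
  obtain ⟨q0, hq0, hq0', hm⟩ := hall
  obtain ⟨i, j, k, T, hQ, m1, m2, -⟩ := H.quat h S h0 hc hx hq0 hq0' hm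
  have hN : x ∈ N[C{i} ⊓ C{j}] := mem_N_of_finite fun g hg => by
    have g1 : g * i = i * g := mem_C1.1 hg.1
    have g2 : g * j = j * g := mem_C1.1 hg.2
    have g3 : g * k = k * g := by
      rw [eq_inv_of_mul_eq_one_right T.prod]
      exact (Commute.mul_right g1 g2).inv_right
    refine ⟨mem_C1.2 ?_, mem_C1.2 ?_⟩
    · rw [← T.hi, ← cjm, ← cjm, g3]
    · rw [← T.hj, ← cjm, ← cjm, g1]
  have hD : ∀ d ∈ Q, d ∈ C[B0] → i * d * i⁻¹ = d → j * d * j⁻¹ = d → d = 1 ∨ d = z := by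
    intro d hd hd0 e1 e2
    refine hfix d hd hd0 ?_
    by_contra hm'
    obtain ⟨i', j', k', -, hQ', m1', m2', hX⟩ := H.quat h S h0 hc hx hd hd0 hm'
    obtain ⟨n1, n2⟩ := hX _ hN ⟨mem_C1_comm.1 (mem_C1_iff_conj.2 e1),
      mem_C1_comm.1 (mem_C1_iff_conj.2 e2)⟩
    exact H.no8' h h0 hc (pair S hQ hQ' m1.1 m1.2 m1'.1 m1'.2 (mem_C1.1 n1.1).symm
      (mem_C1.1 n2.1).symm (mem_C1.1 n1.2).symm (mem_C1.1 n2.2).symm)
      (mul_mem m2.1 m2'.1) (mul_mem m2.2 m2'.2)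
  have ii : i * i * i⁻¹ = i := by group
  have jj : j * j * j⁻¹ = j := by group
  have iij : i * (i * j) * i⁻¹ = z * (i * j) := by
    rw [cjm, ii, hQ.ij, ← mul_assoc, S.comm m1.1, mul_assoc]
  have jij : j * (i * j) * j⁻¹ = z * (i * j) := by rw [cjm, jj, hQ.ji S, mul_assoc]
  refine (card_le_list [1, z, 1 * j⁻¹, z * j⁻¹, 1 * i⁻¹, z * i⁻¹, 1 * (i * j)⁻¹, z * (i * j)⁻¹]
    fun q hq => ?_).trans (by simp)
  simp only [List.mem_cons, List.not_mem_nil, or_false]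
  rcases S.cj_cases m1.1 hq.1 with e1 | e1 <;> rcases S.cj_cases m1.2 hq.1 with e2 | e2
  · rcases hD q hq.1 hq.2 e1 e2 with e | e <;> simp [e]
  · rcases hD (q * i) (Q.mul_mem hq.1 m1.1) (mul_mem hq.2 m2.1) (by rw [cjm, e1, ii])
      (fix2 S hq.1 e2 (hQ.ji S)) with e | e <;> have := eq_mul_inv_of_mul_eq e <;> tauto
  · rcases hD (q * j) (Q.mul_mem hq.1 m1.2) (mul_mem hq.2 m2.2) (fix2 S hq.1 e1 hQ.ij)
      (by rw [cjm, e2, jj]) with e | e <;> have := eq_mul_inv_of_mul_eq e <;> tauto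
  · rcases hD (q * (i * j)) (Q.mul_mem hq.1 (Q.mul_mem m1.1 m1.2))
      (mul_mem hq.2 (mul_mem m2.1 m2.2)) (fix2 S hq.1 e1 iij) (fix2 S hq.1 e2 jij) with e | e <;>
      have := eq_mul_inv_of_mul_eq e <;> tauto

theorem two (h : KT G p a b) (S : Sy z Q) :
    ∃ B0 ≤ B, ∃ B1 ≤ B, n ≤ 3 * ♯B0 ∧ n ≤ 3 * ♯B1 ∧ ∃ i j i' j', Qu z i j ∧ Qu z i' j' ∧
      (i ∈ Q ∧ j ∈ Q) ∧ (i' ∈ Q ∧ j' ∈ Q) ∧ (i ∈ C[B0] ∧ j ∈ C[B0]) ∧
      (i' ∈ C[B1] ∧ j' ∈ C[B1]) ∧ (i * i' = i' * i ∧ i * j' = j' * i) ∧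
      (j * i' = i' * j ∧ j * j' = j' * j) := by
  obtain ⟨B0, h0, hc, x, hx, i, j, k, T, hQ, m1, m2⟩ := H.first h S
  obtain ⟨⟨y, hy⟩, y1⟩ := ne_bot_iff_exists_ne_one.1 (H.ne_bot hc)
  obtain ⟨B1, h1, x', hx', hle, q, hq, hq0, hqy⟩ := hyp H.ea S.pi (H.le.trans S.nml.norm)
    (H.not_cent S (h0 hy) fun e => y1 (Subtype.ext e))
  have hc1 : n ≤ 3 * ♯B1 := H.card ▸ hyp_card H.ea h1 hx' hle
  obtain ⟨i', j', k', T', hQ', m1', m2', -⟩ := H.quat h S h1 hc1 (h0 hy) hq hq0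
    fun e => hqy (mem_C1_comm.1 (mem_C1_iff_conj.2 e))
  exact ⟨B0, h0, B1, h1, hc, hc1, i, j, i', j', hQ, hQ', m1, m1', m2, m2',
    T'.comm S (H.cz (h0 hy)) m1'.1 m1'.2 m1.1 (mem_C.1 m2.1 y hy),
    T'.comm S (H.cz (h0 hy)) m1'.1 m1'.2 m1.2 (mem_C.1 m2.2 y hy)⟩

end Ct

end H19.K3
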