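import Mathlib
import Cfsg.Agent.H19.K3B
import Cfsg.Agent.H3.Extraspecial

/-!
# An involution centraliser of `3`-rank at least two in a group of characteristic `{2,3}`
-/

set_option autoImplicit false
set_option linter.unusedSectionVars false

open Cfsg H24 H26 Subgroup H18.K3 H25.Sym

namespace H19.K3

universe u

variable {G : Type u} [Group G] [Finite G] {p a b n : ℕ}

theorem two_le {A B : Subgroup G} (h : A ≤ B) {x : G} (hx : x ∈ B) (hn : x ∉ A) :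
    2 * ♯A ≤ ♯B := by
  obtain ⟨k, hk⟩ := card_dvd h
  have h1 := card_lt (lt_of_le_of_ne h fun e => hn (e ▸ hx))
  have : 2 ≤ k := by
    by_contra hc
    have : k = 0 ∨ k = 1 := by omega
    rcases this with rfl | rfl <;> omega
  rw [hk]; nlinarith

theorem mem_zp3 {x g : G} (h : orderOf x = 3) (hg : g ∈ zpowers x) : g = 1 ∨ g = x ∨ g = x⁻¹ := by
  obtain ⟨k, rfl⟩ := hg
  simp only
  rw [← zpow_mod_orderOf, h]
  have h3 : x ^ (2 : ℤ) = x⁻¹ := by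
    rw [zpow_two, eq_inv_iff_mul_eq_one, ← cube h, pow_three']
  have : k % ((3 : ℕ) : ℤ) = 0 ∨ k % ((3 : ℕ) : ℤ) = 1 ∨ k % ((3 : ℕ) : ℤ) = 2 := by omega
  rcases this with e | e | e <;> rw [e]
  · left; exact zpow_zero x
  · right; left; exact zpow_one x
  · right; right; exact h3

section

variable {z : G} {Q : Subgroup G}

theorem sy_norm (S : Sy z Q) {A : Subgroup G} (hA : A ≤ Q) (hz : z ∈ A) : Q ≤ N[A] :=
  le_N_iff.2 fun g hg x hx => by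
    rcases S.cj_cases hg (hA hx) with e | e <;> rw [e]
    · exact hx
    · exact mul_mem hz hx

theorem jb (S : Sy z Q) {A B : Subgroup G} (hA : A ≤ Q) (hB : B ≤ Q) (hzA : z ∈ A)
    (hzB : z ∈ B) {m : ℕ} (h1 : ♯A ≤ m) (h2 : ♯B ≤ 8) : ♯(A ⊔ B) ≤ 4 * m := by
  have e := card_sup (hB.trans (sy_norm S hA hzA))
  have h3 := two_le (bot_le (a := A ⊓ B)) (x := z) ⟨hzA, hzB⟩ (by simpa using S.ne_one)
  rw [card_bot] at h3
  have := Nat.mul_le_mul h1 h2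
  nlinarith

/-- the involution `z` is the only one in the centre of a Sylow subgroup -/
theorem sy_syl (S : Sy z Q) : ∃ T, Syl 2 ⊤ T ∧ z ∈ T ∧ z ∈ C[T] ∧
    ∀ w ∈ T, w ∈ C[T] → orderOf w = 2 → w = z := by
  obtain ⟨T, hT⟩ := Sylow_exists Nat.prime_two C{z}
  have hQT : Q ≤ T := hT.nml_le S.pi S.nml
  have hz : z ∈ C[T] := mem_C_iff_le_C1.2 hT.le
  have hu : ∀ w ∈ T, w ∈ C[T] → orderOf w = 2 → w = z := fun w hw hc ho =>
    (S.uniq w (S.cent ⟨hT.le hw, C_anti hQT hc⟩) (C_anti hQT hc) (sq2 ho)).resolve_left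
      (ne_one_of_orderOf_prime (ho ▸ Nat.prime_two))
  refine ⟨T, hT.of_norm_le Nat.prime_two le_top fun g hg => mem_C1_iff_conj.2 ?_, hQT S.mem, hz,
    hu⟩
  exact hu _ (conj_mem hg.2 (hQT S.mem)) (conj_mem (N_le_NC T hg.2) hz)
    (by rw [orderOf_conj, S.ord])

theorem sy_conj (S : Sy z Q) {c : G} {P : Subgroup G} (S' : Sy c P) : ∃ g, g * z * g⁻¹ = c := by
  obtain ⟨T, hT, h1, h2, -⟩ := sy_syl S
  obtain ⟨T', hT', -, -, h3⟩ := sy_syl S'
  obtain ⟨g, -, rfl⟩ := Sylow_trans Nat.prime_two hT hT'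
  refine ⟨g, h3 _ (conj_mem_cj g h1) ?_ (by rw [orderOf_conj, S.ord])⟩
  rw [← cj_C]
  exact conj_mem_cj g h2

end

namespace Ct

variable {z : G} {B B0 Q : Subgroup G} (H : Ct n z B)
include H

theorem lower (h : KT G p a b) (S : Sy z Q) : 32 ≤ ♯Q := by
  obtain ⟨-, -, -, -, -, -, i, j, i', j', hQ, hQ', m, m', -, -, c1, c2⟩ := H.two h S
  have nc : ∀ {s t : G}, s * t * s⁻¹ = z * t → t ∉ C{s} := fun e hm =>
    zne S _ (e.symm.trans (mem_C1_iff_conj.1 (mem_C1_comm.1 hm)))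
  have zc : ∀ {s : G}, s ∈ Q → z ∈ C{s} := fun hs => mem_C1.2 (S.comm hs).symm
  have h4 := two_le (inf_le_left : Q ⊓ C{i} ≤ Q) m.2 fun hm => nc hQ.ij hm.2
  have h3 := two_le (inf_le_left : Q ⊓ C{i} ⊓ C{i'} ≤ _) (x := j')
    ⟨m'.2, mem_C1.2 c1.2.symm⟩ fun hm => nc hQ'.ij hm.2
  have h2 := two_le (inf_le_left : Q ⊓ C{i} ⊓ C{i'} ⊓ C{j'} ≤ _) (x := i')
    ⟨⟨m'.1, mem_C1.2 c1.1.symm⟩, self_mem_C1 _⟩ fun hm => nc (hQ'.ji S) hm.2
  have h1 := two_le (inf_le_left : Q ⊓ C{i} ⊓ C{i'} ⊓ C{j'} ⊓ C{j} ≤ _) (x := i)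
    ⟨⟨⟨m.1, self_mem_C1 _⟩, mem_C1.2 c1.1⟩, mem_C1.2 c1.2⟩ fun hm => nc (hQ.ji S) hm.2
  have h0 := two_le (bot_le (a := Q ⊓ C{i} ⊓ C{i'} ⊓ C{j'} ⊓ C{j})) (x := z)
    ⟨⟨⟨⟨S.mem, zc m.1⟩, zc m'.1⟩, zc m'.2⟩, zc m.2⟩ (by simpa using S.ne_one)
  rw [card_bot] at h0
  omega

theorem upper (h : KT G p a b) (S : Sy z Q) (hZ : ∀ c ∈ Q, c ∈ C[Q] → c = 1 ∨ c = z)
    (h9 : n = 9) : ♯Q ≤ 512 := by
  have hB := H.ea
  have hcard : ♯B = 9 := H.card.trans h9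
  have ex : ∀ w ∈ B, w ≠ 1 → ∃ y ∈ B, y ∉ zpowers w := fun w hw w1 => by
    by_contra hc
    push Not at hc
    have := card_le (show B ≤ zpowers w from hc)
    rw [Nat.card_zpowers, ord3 (hB.2 w hw) w1] at this
    omega
  have gen : ∀ w ∈ B, w ≠ 1 → ∀ y ∈ B, y ∉ zpowers w → B ≤ zpowers w ⊔ zpowers y := by
    intro w hw w1 y hy hn
    have hle : zpowers w ≤ B := zpowers_le.2 hw
    have := (ext3 (ea_mono hB hle) (ord3 (hB.2 y hy) fun e => hn (e ▸ one_mem _))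
      (C_anti hle (Abl.le_C hB.1 hy)) hn).2
    rw [Nat.card_zpowers, ord3 (hB.2 w hw) w1] at this
    exact (eq_of_card_ge (sup_le hle (zpowers_le.2 hy)) (by omega)).ge
  have e8 : ∀ w ∈ B, w ≠ 1 → ♯(Q ⊓ C{w}) ≤ 8 := fun w hw w1 => by
    obtain ⟨y, hy, hn⟩ := ex w hw w1
    rw [← C_zpowers]
    exact H.eight h S hZ (zpowers_le.2 hw) hy (gen w hw w1 y hy hn)
  have zm : ∀ w ∈ B, z ∈ Q ⊓ C{w} := fun w hw => ⟨S.mem, mem_C1_comm.1 (H.le hw)⟩
  obtain ⟨⟨x, hx⟩, x1⟩ := ne_bot_iff_exists_ne_one.1 H.ne_bot'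
  have x1' : x ≠ 1 := fun e => x1 (Subtype.ext e)
  obtain ⟨y, hy, hn⟩ := ex x hx x1'
  have y1 : y ≠ 1 := fun e => hn (e ▸ one_mem _)
  have xy : x * y = y * x := Abl.comm hB.1 hx hy
  have m3 : x * y ∈ B := B.mul_mem hx hy
  have m4 : x * y⁻¹ ∈ B := B.mul_mem hx (B.inv_mem hy)
  have n3 : x * y ≠ 1 := fun e => hn (by
    rw [eq_inv_of_mul_eq_one_right e]; exact inv_mem (mem_zpowers x))
  have n4 : x * y⁻¹ ≠ 1 := fun e => hn (by rw [← mul_inv_eq_one.1 e]; exact mem_zpowers x)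
  have b2 := jb S inf_le_left inf_le_left (zm x hx) (zm y hy) (e8 x hx x1') (e8 y hy y1)
  have b3 := jb S (sup_le inf_le_left inf_le_left) inf_le_left (mem_sup_left (zm x hx)) (zm _ m3)
    b2 (e8 _ m3 n3)
  have b4 := jb S (sup_le (sup_le inf_le_left inf_le_left) inf_le_left) inf_le_left
    (mem_sup_left (mem_sup_left (zm x hx))) (zm _ m4) b3 (e8 _ m4 n4)
  refine (card_le ?_).trans b4
  have ci : ∀ w : G, Q ⊓ C{w⁻¹} ≤ Q ⊓ C{w} := fun w =>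
    inf_le_inf_left _ (C1_le_C1_of_mem_zpowers (by simp))
  refine coprime_abelian_gen_cent1 hB.1 (fun hc => ?_) (H.le.trans S.nml.norm)
    (S.pi.coprime_of_ne (ea_pi Nat.prime_three hB) (by norm_num)) fun w hw w1 => ?_
  · obtain ⟨g, hg, e⟩ := hc.exists_gen
    have := orderOf_dvd_of_pow_eq_one (hB.2 g hg)
    rw [← Nat.card_zpowers, e, hcard] at this
    omega
  have l1 : Q ⊓ C{x} ≤ Q ⊓ C{x} ⊔ Q ⊓ C{y} ⊔ Q ⊓ C{x * y} ⊔ Q ⊓ C{x * y⁻¹} :=
    le_sup_of_le_left (le_sup_of_le_left le_sup_left)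
  have l2 : Q ⊓ C{y} ≤ Q ⊓ C{x} ⊔ Q ⊓ C{y} ⊔ Q ⊓ C{x * y} ⊔ Q ⊓ C{x * y⁻¹} :=
    le_sup_of_le_left (le_sup_of_le_left le_sup_right)
  have l3 : Q ⊓ C{x * y} ≤ Q ⊓ C{x} ⊔ Q ⊓ C{y} ⊔ Q ⊓ C{x * y} ⊔ Q ⊓ C{x * y⁻¹} :=
    le_sup_of_le_left le_sup_right
  have l4 : Q ⊓ C{x * y⁻¹} ≤ Q ⊓ C{x} ⊔ Q ⊓ C{y} ⊔ Q ⊓ C{x * y} ⊔ Q ⊓ C{x * y⁻¹} :=
    le_sup_right
  obtain ⟨u, hu, v, hv, rfl⟩ := (mem_sup_of_norm (norm_of_cent (Abl.cents hB.1
    (zpowers_le.2 hy) (zpowers_le.2 hx)))).1 (gen x hx x1' y hy hn hw)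
  rcases mem_zp3 (ord3 (hB.2 x hx) x1') hu with rfl | rfl | rfl <;>
    rcases mem_zp3 (ord3 (hB.2 y hy) y1) hv with rfl | rfl | rfl
  · simp at w1
  · rw [one_mul]; exact l2
  · rw [one_mul]; exact (ci _).trans l2
  · rw [mul_one]; exact l1
  · exact l3
  · exact l4
  · rw [mul_one]; exact (ci _).trans l1
  · rw [show x⁻¹ * v = (x * v⁻¹)⁻¹ by
      rw [mul_inv_rev, inv_inv]; exact (Commute.inv_left xy).eq]
    exact (ci _).trans l4
  · rw [← mul_inv_rev, ← xy]; exact (ci _).trans l3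

theorem large (h : KT G p a b) (S : Sy z Q) (h9 : 9 < n)
    (hX : ∀ (c : G) (B' : Subgroup G), Ct n c B' → ∃ P, Sy c P) : False := by
  obtain ⟨B0, h0, B1, h1, hc0, hc1, i, j, i', j', hQ, hQ', m, m', k, k', c1, c2⟩ := H.two h S
  have hI := pair S hQ hQ' m.1 m.2 m'.1 m'.2 c1.1 c1.2 c2.1 c2.2
  have e := card_sup (Abl.norm H.ea.1 h1 h0)
  have h2 := card_le (sup_le h0 h1)
  rw [H.card] at h2
  have h3 : n ≤ 9 * ♯(B0 ⊓ B1) := by
    have h4 := Nat.mul_le_mul hc0 hc1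
    have h5 := Nat.mul_le_mul_right (♯(B0 ⊓ B1)) h2
    have : n * n ≤ n * (9 * ♯(B0 ⊓ B1)) := by nlinarith
    exact Nat.le_of_mul_le_mul_left this (by omega)
  have hle : B0 ⊓ B1 ≤ B := inf_le_left.trans h0
  obtain ⟨c, hc, ho, B', hB', hcard, hBc, y, hy, hoy, hzy⟩ := k3 h (ea_mono H.ea hle)
    (fun e => by rw [e, card_bot] at h3; omega) hI (H.zC hle)
    (mul_mem (C_anti inf_le_left k.1) (C_anti inf_le_right k'.1))
    (mul_mem (C_anti inf_le_left k.2) (C_anti inf_le_right k'.2))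
  have hcQ : c ∈ Q := (closure_le Q).2 (by
    rintro x (rfl | rfl | rfl)
    exacts [S.mem, Q.mul_mem m.1 m'.1, Q.mul_mem m.2 m'.2]) hc
  obtain ⟨P, S'⟩ := hX c B' ⟨H.mx, H.nine, hB',
    le_antisymm (H.mx c B' ho hB' hBc) (by omega), ho, hBc⟩
  obtain ⟨g, rfl⟩ := sy_conj S S'
  have hne : g * z * g⁻¹ ≠ z := fun e => ne_inv3 hoy (by
    rw [e] at hy
    rw [← hzy, mem_C1_iff_conj.1 (mem_C1_comm.1 hy)])
  have hz := S.mem_conj hne hcQ
  have S2 := S.conj g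
  have h6 : z * (y * z⁻¹ * y⁻¹) ∈ cj g Q := mul_mem hz (S2.nml.conj_mem hy (inv_mem hz))
  have h7 : z * (y * z⁻¹ * y⁻¹) = y := by
    calc z * (y * z⁻¹ * y⁻¹) = (z * y * z⁻¹) * y⁻¹ := by group
      _ = y * (y ^ 3)⁻¹ := by rw [hzy]; group
      _ = y := by rw [cube hoy]; group
  rw [h7] at h6
  have := (S2.pi.piElt h6) 3 Nat.prime_three (hoy ▸ dvd_rfl)
  simp at this

theorem fs_eq (h : KT G p a b) : generalizedFittingSubgroup C{z} = pCore 2 C{z} := by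
  have hp5 := h.five
  have hs : Sol C{z} := h.solC H.z1 (by
    rw [H.ord]; intro hd; have := Nat.le_of_dvd (by norm_num) hd; omega)
  have hO := h.core2 ⟨1, by rw [H.ord, pow_one]⟩ H.z1
  rw [pcore_compl_singleton Nat.prime_two,
    map_eq_bot_iff_of_injective _ (subtype_injective _)] at hO
  exact H23.fstar_eq_pCore_iff'.2 ⟨H23.layer_eq_bot_of_solvable, hO⟩

theorem sympl (h : KT G p a b) : IsOfSymplecticType (generalizedFittingSubgroup C{z}) := by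
  have h2 : IsPGroup 2 (generalizedFittingSubgroup C{z}) :=
    H23.fstar_eq_pCore_iff_isPGroup.1 (H.fs_eq h)
  refine ⟨h2, fun A hA hA' => ?_⟩
  set A1 := A.map (generalizedFittingSubgroup C{z}).subtype with hA1
  have hn : A1.Normal := ConjAct.normal_of_characteristic_of_normal
  have hN : A1.map (C{z}).subtype ⊴ C{z} := nml_map_subtype A1
  have hab : Abl (A1.map (C{z}).subtype) := Abl.map (Abl.map hA' _) _
  let V : Subgroup G :=
    { carrier := {v | v ∈ A1.map (C{z}).subtype ∧ v * v = 1}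
      one_mem' := ⟨one_mem _, one_mul 1⟩
      mul_mem' := fun {s t} hs ht => ⟨mul_mem hs.1 ht.1, by
        calc s * t * (s * t) = s * (t * s) * t := by group
          _ = (s * s) * (t * t) := by rw [← hab.comm hs.1 ht.1]; group
          _ = 1 := by rw [hs.2, ht.2, one_mul]⟩
      inv_mem' := fun {s} hs => ⟨inv_mem hs.1, by rw [← mul_inv_rev, hs.2, inv_one]⟩ }
  have key : ∀ v : A, v ^ 2 = 1 → ((v.1.1 : G) = 1 ∨ (v.1.1 : G) = z) := fun v hv =>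
    H.exp2 h (V := V) (fun _ hv => hv.2) (fun _ hv => hN.le hv.1)
      (le_N_iff.2 fun g hg s hs => ⟨hN.conj_mem (H.le hg) hs.1, by rw [← cjm, hs.2]; group⟩)
      ⟨⟨v.1.1, ⟨v.1, v.2, rfl⟩, rfl⟩, by
        rw [pow_two] at hv
        exact congrArg (fun w : A => (w.1.1 : G)) hv⟩
  refine H2.UniqueOrderP.isCyclic_of_comm (p := 2) (h2.to_subgroup A) fun x y x1 hx hy => ?_
  have ex := (key x hx).resolve_left fun e => x1 (Subtype.ext (Subtype.ext (Subtype.ext e)))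
  rcases key y hy with e | e
  · rw [show y = 1 from Subtype.ext (Subtype.ext (Subtype.ext e))]; exact one_mem _
  · rw [show y = x from Subtype.ext (Subtype.ext (Subtype.ext (e.trans ex.symm)))]
    exact mem_zpowers x

theorem sy (h : KT G p a b) (hE : IsExtraspecial 2 (generalizedFittingSubgroup C{z})) :
    Sy z (H25.Bd.fs C{z}) ∧ ∀ c ∈ H25.Bd.fs C{z}, c ∈ C[H25.Bd.fs C{z}] → c = 1 ∨ c = z := by
  obtain ⟨w, hw, -, -⟩ := H3.IsExtraspecial.exists_xs hE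
  have ww : w * w = 1 := sq2 hw.ord
  have S : Sy z (H25.Bd.fs C{z}) := sy_of H.ord (H.sympl h) (by
    rintro _ ⟨q, hq, rfl⟩
    have e : q ^ 4 = 1 := by
      rw [show 4 = 2 * 2 from rfl, pow_mul]
      rcases (mem_zp ww).1 (hw.pow q hq) with e | e <;> rw [e]
      · exact one_pow _
      · rw [pow_two, ww]
    exact congrArg Subtype.val e)
  refine ⟨S, ?_⟩
  rintro _ ⟨q, hq, rfl⟩ hc
  refine S.uniq _ ⟨q, hq, rfl⟩ hc ?_
  have e : q * q = 1 := by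
    rcases (mem_zp ww).1 (hw.center_le q hq fun y hy =>
      Subtype.ext (mem_C'.1 hc y ⟨y, hy, rfl⟩)) with e | e <;> rw [e]
    · exact one_mul 1
    · exact ww
  exact congrArg Subtype.val e

end Ct

theorem exists_ct {t : G} (ht : orderOf t = 2) {B : Subgroup G}
    (hB : IsElementaryAbelian 3 B) (h9 : 9 ≤ Nat.card B) (hBt : B ≤ centralizer {t}) :
    ∃ (n : ℕ) (z : G) (B' : Subgroup G), Ct n z B' := by
  obtain ⟨⟨z, B'⟩, hm, hmax⟩ := Set.Finite.exists_maximalFor (fun s : G × Subgroup G => ♯s.2)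
    {s | orderOf s.1 = 2 ∧ IsElementaryAbelian 3 s.2 ∧ s.2 ≤ C{s.1}} (Set.toFinite _)
    ⟨(t, B), ht, hB, hBt⟩
  have hx : Mx (♯B') G := fun c D h1 h2 h3 => by
    by_contra hc
    have := hmax (j := (c, D)) ⟨h1, h2, h3⟩ (by simp only; omega)
    simp only at this
    omega
  exact ⟨_, z, B', hx, h9.trans (hx t B ht hB hBt), hm.2.1, rfl, hm.1, hm.2.2⟩

theorem big (h : H18.K3.KT G p a b) {t : G} (ht : orderOf t = 2) {B : Subgroup G}
    (hB : IsElementaryAbelian 3 B) (h9 : 9 ≤ Nat.card B) (hBt : B ≤ centralizer {t}) :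
    ∃ z : G, orderOf z = 2 ∧
      IsOfSymplecticType ↥(generalizedFittingSubgroup ↥(centralizer ({z} : Set G))) ∧
      (¬ IsExtraspecial 2 ↥(generalizedFittingSubgroup ↥(centralizer ({z} : Set G))) ∨
        Nat.card ↥(generalizedFittingSubgroup ↥(centralizer ({z} : Set G))) = 32 ∨
        Nat.card ↥(generalizedFittingSubgroup ↥(centralizer ({z} : Set G))) = 128 ∨
        Nat.card ↥(generalizedFittingSubgroup ↥(centralizer ({z} : Set G))) = 512) := by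
  obtain ⟨n, z, D, H⟩ := exists_ct ht hB h9 hBt
  by_cases hX : ∀ (c : G) (B' : Subgroup G), Ct n c B' →
      IsExtraspecial 2 (generalizedFittingSubgroup C{c})
  swap
  · push Not at hX
    obtain ⟨c, B', H', hn⟩ := hX
    exact ⟨c, H'.ord, H'.sympl h, Or.inl hn⟩
  obtain ⟨S, hZ⟩ := H.sy h (hX z D H)
  have h9' : n = 9 := by
    by_contra hne
    exact H.large h S (lt_of_le_of_ne H.nine (Ne.symm hne))
      fun c B' H' => ⟨_, (H'.sy h (hX c B' H')).1⟩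
  have h1 := H.lower h S
  have h2 := H.upper h S hZ h9'
  rw [Subgroup.card_map_of_injective (subtype_injective _)] at h1 h2
  obtain ⟨m, -, hm⟩ := H3.IsExtraspecial.card_eq (hX z D H)
  refine ⟨z, H.ord, H.sympl h, Or.inr ?_⟩
  rw [hm] at h1 h2 ⊢
  have h3 : m < 5 := by
    by_contra hc
    have : 2 ^ 11 ≤ 2 ^ (2 * m + 1) := Nat.pow_le_pow_right (by norm_num) (by omega)
    omega
  interval_cases m <;> simp_all

end H19.K3
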