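import Mathlib
import Cfsg.Agent.H29.Ext

set_option autoImplicit false
set_option maxRecDepth 100000
set_option Elab.async false
set_option linter.all false

namespace H19.LyT3
open H29

noncomputable def n0 : Net := ben 6 [(nat_lit 0x333315ccccccccc),
 (nat_lit 0x1b1b00272727272),
 (nat_lit 0x2a080015041504),
 (nat_lit 0x2202001110010),
 (nat_lit 0x2000000100),
 (nat_lit 0x0)]
noncomputable def t0 : List ℕ := [(nat_lit 0xa9100c134cc8012),
 (nat_lit 0x6190000b4ccb320),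
 (nat_lit 0xfbd55eb80000000),
 (nat_lit 0xe1884c980000000)]
noncomputable def d0 : ℕ := (nat_lit 0x40020441114444)
noncomputable def n1 : Net := n0.rev
noncomputable def t1 : List ℕ := mapPull n1 t0
noncomputable def d1 : ℕ := (nat_lit 0x4502014441110)
noncomputable def n2 : Net := ben 6 [(nat_lit 0x5ab98899c19a425),
 (nat_lit 0x44f251b45b40cc1),
 (nat_lit 0x23bf77943bc90c),
 (nat_lit 0x80b298942e40094),
 (nat_lit 0x4a004b78000e310),
 (nat_lit 0xce58800)]
noncomputable def t2 : List ℕ := [(nat_lit 0x109404410260818),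
 (nat_lit 0x842c531441000),
 (nat_lit 0x48920101000000),
 (nat_lit 0x49508500000000)]
noncomputable def d2 : ℕ := (nat_lit 0xeb20d0a8288a2a2)
noncomputable def n3 : Net := n2.rev
noncomputable def t3 : List ℕ := mapPull n3 t2
noncomputable def d3 : ℕ := (nat_lit 0x109a0d128220808)
def ivl : List ℕ := [1, 0, 3, 2, 5, 4, 7, 6, 9, 8, 11, 10, 13, 12, 15, 14, 17, 16, 19, 18, 21, 20, 23, 22, 25, 24, 27, 26, 29, 28, 31, 30, 33, 32, 35, 34, 37, 36, 39, 38, 41, 40, 43, 42, 45, 44, 47, 46, 49, 48, 51, 50, 53, 52, 55, 54, 57, 56, 59, 58, 61, 60, 63, 62, 65, 64, 67, 66, 69, 68, 71, 70, 73, 72, 75, 74, 77, 76]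
def cols : List ℕ := [0, 1, 2, 3]
def hcols : List ℕ := [0, 1]
def G0 : List (List ℕ) := [[0, 0, 0, 0, 0, 0, 0, 0],
 [2, 2, 2, 2, 2],
 [0, 2, 0, 2, 0, 2, 0, 2],
 [1, 1, 3, 0, 0, 2],
 [1, 3, 0, 2, 1, 3, 0, 2, 1, 3, 0, 2]]
def R0 : List (List ℕ) := G0
theorem hii : ∀ c, ivOf ivl (ivOf ivl c) = c := ivOf_ivOf (by decide +kernel)
theorem der : Derives (ivOf ivl) R0 R0 := Derives.refl _ _
noncomputable def nl : List Net := [n0, n1, n2, n3]
noncomputable def T : TCData := ⟨60, 60, 6, 4, nth Net.nil nl, ivOf ivl, cols, hcols, R0,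
  nth [] [t0, t1, t2, t3], nth 0 [d0, d1, d2, d3]⟩
theorem hn : NetsOK 60 (nth Net.nil nl) := netsOK_of_all (by decide +kernel)
theorem hiv : IvOK (sg (nth Net.nil nl)) (ivOf ivl) :=
  ivOK_of_chk (k := 6) hn (by decide) (n := 78) (by decide) (by decide) (allN_true.1 (by decide +kernel))
theorem hb : T.Basic := TCData.basic_of_chk hn hiv (by decide +kernel)
theorem hG0 : ∀ r ∈ G0, ev (sg (nth Net.nil nl)) r = 1 :=
  rels_of_chk (k := 6) hn (by decide) hiv (allN_true.1 (by decide +kernel))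
noncomputable def s0 : List TCData.Step := [.all 3 0 0,
 .pts 3 1 0 4 [50]]
noncomputable def s1 : List TCData.Step := [.all 2 0 0,
 .all 3 3 0,
 .pts 4 2 0 13 [32, 38, 39, 59]]
noncomputable def s2 : List TCData.Step := [.pts 4 1 0 6 [24, 41],
 .pts 4 1 0 11 [34, 46]]
noncomputable def s3 : List TCData.Step := [.all 1 0 0,
 .all 2 1 0]
theorem hR0 : ∀ r ∈ R0, ev (sg (nth Net.nil nl)) r = 1 := hG0
theorem col0 : T.ColOK 0 := TCData.colOK_of_chk (U := (T.stepsMask 0 s0 (T.mask0 0))) (V := (T.stepsMask 1 s1 (T.mask0 1))) hb (TCData.cov_stepsMask hb (by decide) s0 _ (T.cov_mask0 0)) (TCData.cov_stepsMask hb (by decide) s1 _ (T.cov_mask0 1)) (by decide +kernel)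
theorem col1 : T.ColOK 1 := TCData.colOK_of_chk (U := (T.stepsMask 1 s1 (T.mask0 1))) (V := (T.stepsMask 0 s0 (T.mask0 0))) hb (TCData.cov_stepsMask hb (by decide) s1 _ (T.cov_mask0 1)) (TCData.cov_stepsMask hb (by decide) s0 _ (T.cov_mask0 0)) (by decide +kernel)
theorem col2 : T.ColOK 2 := TCData.colOK_of_chk (U := (T.stepsMask 2 s2 (T.mask0 2))) (V := (T.stepsMask 3 s3 (T.mask0 3))) hb (TCData.cov_stepsMask hb (by decide) s2 _ (T.cov_mask0 2)) (TCData.cov_stepsMask hb (by decide) s3 _ (T.cov_mask0 3)) (by decide +kernel)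
theorem col3 : T.ColOK 3 := TCData.colOK_of_chk (U := (T.stepsMask 3 s3 (T.mask0 3))) (V := (T.stepsMask 2 s2 (T.mask0 2))) hb (TCData.cov_stepsMask hb (by decide) s3 _ (T.cov_mask0 3)) (TCData.cov_stepsMask hb (by decide) s2 _ (T.cov_mask0 2)) (by decide +kernel)
theorem ok : T.OK := ⟨hb, TCData.treeOK_of_chk hn (by decide +kernel), (List.forall_mem_cons.2 ⟨col0, (List.forall_mem_cons.2 ⟨col1, (List.forall_mem_cons.2 ⟨col2, (List.forall_mem_cons.2 ⟨col3, (fun _ h => absurd h List.not_mem_nil)⟩)⟩)⟩)⟩), der _ _ hiv hR0⟩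
theorem bd {G : Type} [Group G] {e : ℕ → G} (h1 : IvOK e (ivOf ivl)) (h2 : ∀ r ∈ R0, ev e r = 1)
    {m : ℕ} (h : Bd (gen e hcols) m) : Bd (gen e cols) (60 * m) := ok.bd h1 (der G e h1 h2) h
theorem cm {G : Type} [Group G] {e : ℕ → G} (h1 : IvOK e (ivOf ivl)) (h2 : ∀ r ∈ R0, ev e r = 1)
    (h3 : gen e cols = ⊤) {ρ : G →* Equiv.Perm ℕ} (h4 : ∀ c, ρ (e c) = sg (nth Net.nil nl) c) :
    CosetModel ρ (gen e hcols) 60 := ok.cosetModel h1 (der G e h1 h2) h3 fun c _ => h4 c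

end H19.LyT3
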