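import Mathlib
import Cfsg.Agent.H19.MG1

/-!
# A monomial subgroup `3^6 : 2 M12` of `Co0`: data
-/

set_option autoImplicit false
set_option linter.all false
set_option maxRecDepth 100000
set_option Elab.async false

namespace H10.Mon.MG.Mu

open H29 H10.Mon.Y

abbrev U6 : Type := Fin 6 → ZMod 3

def WL : List (List ℕ) := [[12, 2, 6, 5, 5, 6, 5, 18, 19, 20, 21, 24, 25, 16, 1, 6, 16, 12, 12, 2, 16, 6], [3, 13, 12, 15, 3, 0, 11, 17, 18, 20, 22, 23, 24, 25, 26, 16, 4, 2, 16, 4, 15, 12], [13, 0, 0, 11, 8, 3, 5, 19, 21, 22, 24, 25, 26, 27, 16, 2, 16, 4, 16, 1, 12, 13, 6], [0, 10, 14, 13, 13, 3, 3, 6, 17, 18, 19, 20, 21, 23, 25, 26, 27, 16, 12, 16, 5, 6, 16, 10, 8], [1, 11, 8, 7, 11, 8, 5, 14, 17, 19, 22, 23, 16, 0, 0, 16, 1, 8, 5, 2], [8, 4, 15, 13, 10, 0, 6, 17, 18, 19, 21, 26, 16, 2, 14, 3, 16, 13, 7, 4], [5, 5, 14, 5, 11, 13, 13, 2, 18, 16, 0, 5, 16, 12, 3, 2], [12, 1, 8, 2, 3, 3, 6, 17, 18, 19, 20, 21, 22, 26, 16, 13, 10, 16, 6, 13, 16, 3], [0, 11, 0, 13,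 11, 8, 13, 13, 18, 19, 20, 26, 16, 12, 16, 15, 14, 15, 1], [0, 3, 13, 3, 7, 10, 15, 2, 16, 0, 16, 15, 0, 11], [4, 7, 14, 5, 11, 12, 12, 19, 20, 25, 26, 16, 0, 16, 12, 3, 7, 16, 14], [13, 4, 0, 14, 0, 6, 19, 23, 24, 25, 26, 27, 16, 1, 3, 15, 16, 15, 6, 11]]
def TL : List (List ℕ) := [[13182996, 3118021, 12487311, 12215148, 11156527, 16641355, 6974970, 7864155, 13290444, 9430257, 10362397, 7593624, 7043382, 1007685, 5356955, 14634724, 15538405, 2591705, 3845050, 12348028, 959077, 16312808, 11468812, 6247165], [2883, 4900207, 5156770, 11079038, 4478144, 13466063, 14984813, 9054530, 10665654, 6585541, 769410, 1814251, 7249649, 5040463, 15509798, 7323249, 15093924, 4123018, 9164843, 12606348, 1141078, 15722032, 11425305, 7325305], [16365720, 6226727, 9312877, 1604488, 13200071, 13028175, 1026531, 11580199, 6859560, 1780344, 9876503, 15896826, 10281273, 7903293, 1479166, 13990407, 12087439, 11278809, 11614650, 756253, 959077, 5339925, 4194304, 13025293], [15202491,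 9207446, 4296013, 15722731, 6366424, 6647491, 10488715, 8558297, 5237058, 12783798, 13585928, 6318618, 283533, 4717005, 14631587, 2000668, 194209, 2558312, 9582793, 16094871, 2031811, 9592271, 13080684, 2786193], [9877566, 1489943, 14127510, 5988496, 7568994, 7904730, 5381327, 8107567, 11451016, 13710042, 13492109, 1319842, 14907141, 8112039, 14886661, 10900861, 3128456, 1820514, 4043863, 2771368, 6042189, 13022994, 8936082, 12474101], [15454989, 8900380, 11203269, 1616996, 14421726, 14107654, 9287104, 4994695, 3930406, 3449245, 11539588, 1345490, 11115678, 6390512, 10804052, 2750452, 16075084, 12517652, 2900864, 13622949, 6801531, 8513363, 3685096, 1209058], [4038733, 5584808, 248, 16620407, 2667552, 644, 2668244, 16620291, 15252266, 16620507, 7906565, 3705507, 15244635, 12095459, 4625124, 3177193, 2411505, 9564094, 2416159, 10905790, 7905843, 12494718, 4530787, 12091643], [3927312, 133321, 133274, 15560896, 11026219, 8370378, 11153698, 4464866, 3851481,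 14155330, 2785499, 8239320, 10937983, 1313740, 8485313, 2390, 11298736, 14771426, 8931213, 9333294, 133127, 5892632, 3794129, 10399498], [9053379, 13586768, 8750059, 3731459, 875172, 591354, 6599386, 8778059, 1025790, 4716652, 11719339, 4716284, 13461271, 16312808, 2086911, 14241018, 10619051, 12581375, 4522123, 4404189, 12368, 2415713, 1095699, 390915], [4206146, 1386584, 3703872, 13896419, 2656510, 3704516, 2657853, 15502895, 11123171, 13897348, 8227339, 3706040, 806543, 4802623, 15661067, 8324620, 1722082, 15872196, 12565025, 13224652, 1048576, 15978081, 16117257, 12587036], [2893849, 7940575, 15008005, 1716752, 15866765, 1579634, 11473503, 13183527, 4608972, 9067092, 5778947, 2648783, 3738162, 2421580, 2556846, 5214862, 16128335, 16200263, 12557279, 14186508, 4911526, 10025006, 4194304, 11404268], [8200553, 14634474, 13868001, 5614895, 13453218, 5613125, 7454186, 13073405, 5777277, 3040464, 16645651, 3544798, 9900987, 1773218, 12232663, 5369694, 16053535,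 7785208, 14549727, 10317227, 6931326, 14158011, 16289505, 11608200]]
def NW : Fin 5 → Fin 6 → List (Fin 6) := ![![[0, 1, 3, 5], [1, 1, 3, 3, 4, 5], [0, 1, 2, 2, 3], [2, 2, 3, 4, 4], [0, 0, 1, 1, 2, 4, 4, 5, 5], [0, 2, 3, 4, 4]],
  ![[0, 0, 1, 1, 3, 3, 4, 4, 5], [0, 0, 1, 1, 2, 3, 3, 4, 5], [1, 2, 2, 4, 4, 5], [0, 1, 1, 2, 2, 3, 3, 4, 5], [0, 0, 2, 2, 3, 4, 4, 5, 5], [1, 1, 2, 2, 5]],
  ![[0], [1], [2], [0, 0, 2, 3], [1, 2, 2, 4], [0, 0, 1, 2, 2, 3, 4, 4, 5]],
  ![[0], [1], [2], [0, 1, 1, 2, 2, 3], [2, 2, 4], [2, 3, 3, 4, 4, 5]],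
  ![[0, 0], [1, 1], [2, 2], [3, 3], [4, 4], [5, 5]]]
def fL : Fin 12 → U6 := ![![1, 1, 1, 2, 1, 1], ![1, 1, 1, 1, 0, 2], ![1, 1, 1, 0, 2, 2], ![1, 1, 0, 2, 1, 0], ![1, 1, 0, 1, 2, 1], ![1, 1, 0, 0, 0, 0], ![1, 0, 1, 0, 2, 1], ![1, 0, 1, 0, 1, 0], ![1, 0, 1, 0, 0, 0], ![1, 0, 0, 2, 0, 2], ![1, 0, 0, 1, 0, 0], ![1, 0, 0, 0, 0, 0]]
def sL : Fin 5 → Fin 12 → Fin 12 := ![![5, 8, 7, 1, 3, 2, 11, 4, 9, 10, 0, 6], ![4, 8, 11, 9, 10, 2, 7, 1, 6, 0, 5, 3], ![0, 1, 2, 4, 5, 3, 7, 8, 6, 10, 11, 9], ![1, 2, 0, 3, 4, 5, 7, 8, 6, 11, 9, 10], ![0, 1, 2, 3, 4, 5, 6, 7, 8, 9, 10, 11]]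
def rkT : ℕ := 0x050a080608080608070608050609070906070808080a0a04080205030506060a08050607090306070807080a0706060606070807070708050a080909060806090808090407070707050709040708090809090708030508080509090808090a0a0808080307040902080707080a090907060907080708070808070908090509060a080809060508070806080807040807030709080a0807060905060605060608070609070806070702080207080804060805090505090805090606020608060803060607080908080709030708070808070909080707070406090606060709090707070704070708050809080506060106070a070a09060a0907060707070907090409060708080507080208090706070508080606070509090606070606090a080808080209070805040807080707070909060908070707070406080908080907080809040407090507080708040807070008050808070904090907040805070401080a080a0404080607070903050a080708080805060809080506060807080909080707080908070808090709080708050906050406050a090a0908090508080808080a08030909060a0a0306070507080806080807060a080709050709090907060609090802010806080707070808080a08030708040909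0909050407090509090409040708070307070508080a060805080809080a020903080a07080508040808050a09070509080804070a08030807020609080903030609090407070a080405080706060807070405080307070603080401090605060608090a09070a08080509090a0708060609060307060807090608050507090309060604070506080a0809070106050807090507060805090607070704070607060608030409040a060909090a050506070504080809090809070905080707080606080708060108070807070909070908080705070509050809070808090a0608020407070608070906020408080707070700070309050806060500040300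
def slM : List (ℕ × ℕ) := [(0, 0), (2, 2), (0, 3), (5, 5), (0, 6), (1, 1), (0, 1), (10, 10), (0, 11), (1, 1), (0, 0), (0, 0), (0, 3), (16, 999), (1, 999), (17, 999), (9, 999), (18, 999), (15, 999), (19, 999), (19, 999), (5, 7), (7, 0), (7, 0), (10, 0), (9, 0), (5, 0), (8, 0), (9, 0), (11, 11), (10, 0), (14, 0), (17, 0), (16, 0), (20, 0), (18, 0), (21, 0), (23, 20), (21, 0), (22, 0), (25, 0), (24, 0), (24, 0), (26, 0), (23, 0), (29, 25), (27, 0), (31, 0), (34, 0), (33, 0), (34, 0), (36, 0), (36, 0), (39, 35), (38, 0), (39, 0), (37, 0), (43, 0), (37, 0), (45, 0), (42, 0), (46, 42), (42, 0), (48, 0), (46, 0), (48, 0), (49, 0), (52, 0), (49, 0), (8, 24), (25, 0), (10, 0), (0, 0), (1, 0), (0, 37), (46, 0), (2, 47), (40, 0), (4, 25), (34, 0), (6, 35), (28, 0), (8, 13), (22, 0), (8, 47), (56, 0), (10, 33), (42, 0), (12, 43), (36, 0), (14, 21), (30, 0), (14, 23), (32, 0), (49, 65), (66, 0), (43, 0), (60, 0), (45, 0), (38, 0), (47, 0), (64, 0), (41, 0), (58, 0),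 (67, 0), (27, 0), (26, 0), (23, 0), (22, 0), (19, 0), (73, 57), (74, 0), (51, 0), (60, 0), (77, 0), (70, 0), (55, 0), (72, 0), (73, 0), (74, 0), (51, 0), (47, 0), (46, 0), (43, 0), (38, 0), (31, 0), (81, 65), (58, 0), (75, 0), (92, 0), (61, 0), (78, 0), (103, 0), (88, 0), (65, 0), (90, 0), (67, 0), (63, 0), (62, 0), (59, 0), (56, 0), (53, 0), (52, 0), (51, 0), (50, 0), (67, 71), (66, 0), (65, 0), (64, 0), (59, 0), (56, 0)]

def kL : Fin 5 → ℕ := ![7, 8, 9, 10, 6]
def gR : List (ℕ × List ℕ) := [(0, [0]), (1, [1]), (2, [2]), (3, [1, 1, 9, 10, 10]),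
  (4, [1, 9, 9, 10, 10]), (9, [1, 2, 3, 4, 4]), (10, [2, 3, 3, 4, 4])]

/-- `0..5`: the diagonal group; `6`: conjugation; `7..10`: permutations; `11`: an element of
order 4 that centralises the first three. -/
noncomputable def E (i : ℕ) : G0 := co (gw (nth [] WL i))

theorem cols_E (i : ℕ) : Cols (E i) (nth hCI TL i) := by
  by_cases h : i < 12
  · have : allN 12 (fun i => eqL (colW (nth [] WL i)) (nth hCI TL i)) = true := by decide +kernel
    exact eqL_true (allN_true.1 this i h) ▸ cols_colW _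
  · rw [E, nth_eq, nth_eq, List.getD_eq_default _ _ (by change 12 ≤ i; omega),
      List.getD_eq_default _ _ (by change 12 ≤ i; omega), gw, map_one]
    exact cols_one

attribute [irreducible] E

noncomputable def ev : List ℕ → G0
  | [] => 1
  | c :: w => E c * ev w

noncomputable def evK (w : List ℕ) : (List ℕ → Bool) → Bool :=
  List.rec (motive := fun _ => (List ℕ → Bool) → Bool) (fun k => k hCI)
    (fun c _ ih k => ih fun B => litL (mulC (nth hCI TL c) B) k) w

theorem evK_true : ∀ (w : List ℕ) {k : List ℕ → Bool}, evK w k = true →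
    ∃ A, Cols (ev w) A ∧ k A = true
  | [], _, h => ⟨_, cols_one, h⟩
  | c :: w, k, h => by
    obtain ⟨B, h1, h2⟩ := evK_true w (k := fun B => litL (mulC (nth hCI TL c) B) k) h
    exact ⟨_, (cols_E c).mul h1, litL_eq _ k ▸ h2⟩

noncomputable def rel (u w : List ℕ) : Bool := evK u fun A => evK w fun B => eqL A B

theorem rel_true {u w : List ℕ} (h : rel u w = true) : Ac (ev u) (ev w) := fun c => by
  obtain ⟨A, h1, h2⟩ := evK_true u h
  obtain ⟨B, h3, h4⟩ := evK_true w h2
  obtain ⟨n, -, rfl⟩ := dec_surj c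
  rw [← h1.ap, ← h3.ap, eqL_true h4]

theorem r_cm : ∀ i j : Fin 6, rel [i, j] [j, i] = true := by decide +kernel
theorem r_3 : ∀ i : Fin 6, rel [i, i, i] [] = true := by decide +kernel
theorem r_k : ∀ (j : Fin 5) (i : Fin 6), rel [i, kL j] (kL j :: (NW j i).map Fin.val) = true := by
  decide +kernel
theorem r_s : ∀ j : Fin 5, rel [6, kL j] [kL j, 6] = true := by decide +kernel
theorem r_g : ∀ p ∈ gR, rel [p.1, 11] (11 :: p.2) = true := by decide +kernel
theorem r_4 : rel [11, 11, 11, 11] [] = true := by decide +kernel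

theorem E0_ne : E 0 • dec 1 ≠ dec 1 := by
  rw [← (cols_E 0).ap]
  exact fun h => absurd (dec_inj (by decide +kernel) (by norm_num) h) (by decide +kernel)

theorem gen {H : Subgroup G0} (h0 : neg1 ∈ H) (h : ∀ i ∈ [5, 11, 8, 7], E i ∈ H) : H = ⊤ := by
  have e : slp slM (fun T => allL [(41, 0), (25, 1), (6, 2), (0, 17)] fun p =>
      eqL (nth hCI T p.1) (lt p.2).C) ([5, 11, 8, 7].map (nth hCI TL)) = true := by decide +kernel
  obtain ⟨T, h1, h2⟩ := slp_true (H := H) _ _
    (List.forall_mem_map.2 fun i hi => ⟨_, h i hi, cols_E i⟩) e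
  have k := fun p hp => eqL_true (allL_true.1 h2 p hp)
  refine im_top h0 (fun c hc => ?_) ⟨_, h 11 (by simp), cols_E 11⟩ fun e =>
    absurd (dec_inj (by decide +kernel) (by norm_num) e) (by decide +kernel)
  simp only [List.mem_cons, List.not_mem_nil, or_false] at hc
  rcases hc with rfl | rfl | rfl | rfl
  exacts [k (41, 0) (by simp) ▸ h1 41, k (25, 1) (by simp) ▸ h1 25, k (6, 2) (by simp) ▸ h1 6,
    k (0, 17) (by simp) ▸ h1 0]

def sm (f : U6) (w : List (Fin 6)) : ZMod 3 := (w.map f).sum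
def tr (j : Fin 5) (f : U6) : U6 := fun i => sm f (NW j i)
def trw : List (Fin 5) → U6 → U6
  | [], f => f
  | j :: w, f => trw w (tr j f)
def rk (f : U6) : ℕ := (rkT >>> (8 * ((f 0).val + 3 * ((f 1).val + 3 * ((f 2).val + 3 * ((f 3).val +
  3 * ((f 4).val + 3 * (f 5).val))))))) % 256
def r1 : U6 := ![0, 1, 0, 0, 0, 0]
def r2 : U6 := ![0, 1, 1, 0, 0, 0]
def W13 : Fin 13 → List (Fin 5) := ![[], [0], [1], [0, 0], [0, 1], [1, 0], [1, 1], [0, 0, 0], [0, 0, 1],
  [0, 1, 0], [0, 1, 1], [1, 0, 0], [1, 0, 1]]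
def W12 : Fin 12 → List (Fin 5) := ![[], [1, 0, 0], [0, 0], [1, 0], [1], [0], [0, 0, 1, 0], [0, 0, 0],
  [1, 0, 0, 0], [1, 0, 1], [1, 1], [0, 0, 1]]

/-- A word in the first `n` letters on which `f` vanishes and `f'` does not. -/
def Sep (n : ℕ) (f f' : U6) : Prop := ∃ a b : Fin 6, a.1 < n ∧ b.1 < n ∧
  ((f a + f b = 0 ∧ f' a + f' b ≠ 0) ∨ (f a + (f b + f b) = 0 ∧ f' a + (f' b + f' b) ≠ 0))

instance (n : ℕ) (f f' : U6) : Decidable (Sep n f f') := by unfold Sep; infer_instance

theorem rk_lt (f : U6) : f = 0 ∨ f = fL 0 ∨ f = r1 ∨ f = r2 ∨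
    ∃ j, tr j f ≠ 0 ∧ rk (tr j f) < rk f := by
  have : ∀ a b c d e g : ZMod 3, ∀ f, f = ![a, b, c, d, e, g] → f = 0 ∨ f = fL 0 ∨ f = r1 ∨ f = r2 ∨
      (tr 0 f ≠ 0 ∧ rk (tr 0 f) < rk f) ∨ (tr 1 f ≠ 0 ∧ rk (tr 1 f) < rk f) := by
    simp only [forall_eq]
    decide +kernel
  rcases this (f 0) (f 1) (f 2) (f 3) (f 4) (f 5) f (by ext i; fin_cases i <;> rfl) with
    h | h | h | h | h | h
  exacts [.inl h, .inr (.inl h), .inr (.inr (.inl h)), .inr (.inr (.inr (.inl h))),
    .inr (.inr (.inr (.inr ⟨0, h⟩))), .inr (.inr (.inr (.inr ⟨1, h⟩)))]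

theorem sep13 : ∀ r ∈ [r1, r2], ∀ i j, (∃ a, trw (W13 i) r a ≠ 0) ∧
    (j ≠ i → Sep 6 (trw (W13 i) r) (trw (W13 j) r)) := by decide +kernel
theorem w12 : ∀ i, trw (W12 i) (fL 0) = fL i ∨ trw (W12 i) (fL 0) = -fL i := by decide +kernel
theorem sep12 : ∀ i j, j ≠ i → Sep 5 (fL i) (fL j) := by decide +kernel
theorem sep4 : ∀ i j : Fin 12, (j.1 / 3 = i.1 / 3 → ∀ a : Fin 6, a.1 < 3 → fL j a = fL i a) ∧
    (j.1 / 3 ≠ i.1 / 3 → Sep 3 (fL i) (fL j)) := by decide +kernel
theorem fL0 : ∀ i, fL i 0 = 1 := by decide +kernel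
theorem tr_fL : ∀ j i, tr j (fL i) = fL (sL j i) ∨ tr j (fL i) = -fL (sL j i) := by decide +kernel
theorem tr4 : ∀ i, tr 4 (fL i) 0 = 2 ∧ sL 4 i = i ∧ tr 2 (fL i) 0 = 1 ∧ tr 3 (fL i) 0 = 1 := by
  decide +kernel
theorem blk : ∀ i j : Fin 12, j.1 / 3 = i.1 / 3 → j = i ∨ ∃ a ∈ [2, 3], j = sL a i ∨ i = sL a j := by
  decide +kernel

end H10.Mon.MG.Mu
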