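import Mathlib
import Cfsg.Agent.H19.MU0

/-!
# The 24-dimensional module of `Co1` over the field of two elements is unique
-/

set_option autoImplicit false
set_option linter.all false

namespace H10.Mon.MG.Mu

variable {V : Type*} [AddCommGroup V]

def rot (e : ZMod 3) (v w : V) : V := if e = 0 then v else if e = 1 then w else v + w

theorem z3 : ∀ e : ZMod 3, e = 0 ∨ e = 1 ∨ e = 2 := by decide
theorem rot0 (v w : V) : rot 0 v w = v := rfl
theorem rot1 (v w : V) : rot 1 v w = w := rfl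
theorem rot2 (v w : V) : rot 2 v w = v + w := rfl

theorem rot_map {W : Type*} [AddCommGroup W] {T : V → W} (h : ∀ a b, T (a + b) = T a + T b)
    (e : ZMod 3) (v w : V) : T (rot e v w) = rot e (T v) (T w) := by
  rcases z3 e with rfl | rfl | rfl
  exacts [rfl, rfl, h v w]

theorem rot_add (e : ZMod 3) (v w v' w' : V) : rot e (v + v') (w + w') = rot e v w + rot e v' w' := by
  rcases z3 e with rfl | rfl | rfl
  exacts [rfl, rfl, add_add_add_comm _ _ _ _]

def cb (s : ZMod 2) (v : V) : V := if s = 0 then 0 else v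

theorem cb_mem {D : AddSubgroup V} (s : ZMod 2) {v : V} (h : v ∈ D) : cb s v ∈ D := by
  rcases z2 s with rfl | rfl
  exacts [zero_mem _, h]

variable [DistribMulAction G0 V]

theorem rot_smul (g : G0) (e : ZMod 3) (v w : V) : g • rot e v w = rot e (g • v) (g • w) :=
  rot_map (smul_add g) e v w

structure Md (V : Type*) [AddCommGroup V] [DistribMulAction G0 V] : Prop where
  two : ∀ v : V, v + v = 0
  neg : ∀ v : V, neg1 • v = v

def Eig (n : ℕ) (f : U6) (v w : V) : Prop :=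
  ∀ a : Fin 6, a.1 < n → E a • v = rot (f a) v w ∧ E a • w = rot (f a + 1) v w

theorem Eig.add {n : ℕ} {f : U6} {v w v' w' : V} (h : Eig n f v w) (h' : Eig n f v' w') :
    Eig n f (v + v') (w + w') := fun a ha => by
  rw [smul_add, smul_add, rot_add, rot_add, (h a ha).1, (h a ha).2, (h' a ha).1, (h' a ha).2]
  exact ⟨rfl, rfl⟩

theorem Eig.map {n : ℕ} {f : U6} {v w : V} (h : Eig n f v w) {T : V → V}
    (h1 : ∀ a b, T (a + b) = T a + T b) (h2 : ∀ a : Fin 6, a.1 < n → ∀ x, T (E a • x) = E a • T x) :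
    Eig n f (T v) (T w) := fun a ha => by
  rw [← h2 a ha, ← h2 a ha, (h a ha).1, (h a ha).2, rot_map h1, rot_map h1]
  exact ⟨rfl, rfl⟩

theorem Eig.mono {n m : ℕ} {f : U6} {v w : V} (h : Eig n f v w) (hm : m ≤ n) : Eig m f v w :=
  fun a ha => h a (by omega)

namespace Md

variable (M : Md V)
include M

theorem two' (a b : V) : a + (a + b) = b := by rw [← add_assoc, M.two, zero_add]

theorem eq_of {a b : V} (h : a + b = 0) : a = b := by rw [← M.two' b a, add_comm b a, h, add_zero]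

theorem rot_rot (d e : ZMod 3) (v w : V) :
    rot d (rot e v w) (rot (e + 1) v w) = rot (e + d) v w := by
  rcases z3 d with rfl | rfl | rfl
  · rw [add_zero]; rfl
  · rfl
  · rcases z3 e with rfl | rfl | rfl
    · rfl
    · change w + (v + w) = v
      rw [add_comm v, M.two']
    · change v + w + v = w
      rw [add_comm, M.two']

theorem rot_neg (d : ZMod 3) (v w : V) : rot d v (v + w) = rot (-d) v w := by
  rcases z3 d with rfl | rfl | rfl
  exacts [rfl, rfl, M.two' v w]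

theorem rot_inj {v w : V} (h1 : v ≠ 0) (h2 : w ≠ 0) (h3 : v + w ≠ 0) {d e : ZMod 3}
    (h : rot d v w = rot e v w) : d = e := by
  rcases z3 d with rfl | rfl | rfl <;> rcases z3 e with rfl | rfl | rfl <;>
    simp only [rot0, rot1, rot2] at h <;> first | rfl | skip
  · exact (h3 (h ▸ M.two v)).elim
  · simp [h2] at h
  · exact (h3 (h ▸ M.two w)).elim
  · simp [h1] at h
  · simp [h2] at h
  · simp [h1] at h

theorem ac {a b : G0} (h : Ac a b) (v : V) : a • v = b • v := by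
  rw [← mul_inv_cancel_left b a, mul_smul]
  rcases mem_center_G0.1 (center_of_fix (h := b⁻¹ * a) fun c => by
    rw [mul_smul, h, inv_smul_smul]) with e | e <;> rw [e]
  · rw [one_smul]
  · rw [M.neg]

theorem rl {u w : List ℕ} (h : rel u w = true) (v : V) : ev u • v = ev w • v := M.ac (rel_true h) v

theorem cm (a b : Fin 6) (v : V) : E a • E b • v = E b • E a • v := by
  simpa [ev, mul_smul] using M.rl (r_cm a b) v

theorem cube (a : Fin 6) (v : V) : E a • E a • E a • v = v := by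
  simpa [ev, mul_smul] using M.rl (r_3 a) v

variable {n : ℕ} {f : U6} {v w : V}

theorem eig_rot (h : Eig n f v w) (e : ZMod 3) : Eig n f (rot e v w) (rot (e + 1) v w) := fun a ha => by
  rw [rot_smul, rot_smul, (h a ha).1, (h a ha).2, M.rot_rot, M.rot_rot, M.rot_rot, M.rot_rot]
  exact ⟨by rw [add_comm], by congr 1; ring⟩

theorem eig_neg (h : Eig n f v w) : Eig n (-f) v (v + w) := fun a ha => by
  rw [M.rot_neg, M.rot_neg, smul_add, (h a ha).1, (h a ha).2, ← rot2, M.rot_rot, Pi.neg_apply, neg_neg]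
  exact ⟨rfl, by rw [(by decide : ∀ e : ZMod 3, -(-e + 1) = e + 2)]⟩

theorem word (h : Eig n f v w) : ∀ u : List (Fin 6), (∀ a ∈ u, a.1 < n) → ∀ e,
    ev (u.map Fin.val) • rot e v w = rot (sm f u + e) v w
  | [], _, e => by simp [ev, sm]
  | a :: u, hu, e => by
    have := h a (hu a (by simp))
    rw [List.map_cons, ev, mul_smul, word h u fun b hb => hu b (by simp [hb]), rot_smul, this.1, this.2,
      M.rot_rot, sm, sm, List.map_cons, List.sum_cons, add_assoc]

theorem eig_tr (h : Eig 6 f v w) (j : Fin 5) : Eig 6 (tr j f) (E (kL j) • v) (E (kL j) • w) :=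
  fun a _ => by
    have k := fun x => M.rl (r_k j a) x
    simp only [ev, mul_smul, one_smul] at k
    have h0 := M.word h (NW j a) (fun b _ => b.2) 0
    have h1 := M.word h (NW j a) (fun b _ => b.2) 1
    rw [rot0, add_zero] at h0
    rw [rot1] at h1
    rw [k, k, h0, h1, rot_smul, rot_smul]
    exact ⟨rfl, rfl⟩

theorem ne_of (h : Eig n f v w) (hv : v ≠ 0) {a : Fin 6} (ha : a.1 < n) (hf : f a ≠ 0) :
    w ≠ 0 ∧ v + w ≠ 0 := by
  obtain ⟨h1, h2⟩ := h a ha
  refine ⟨?_, fun e => ?_⟩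
  · rintro rfl
    rcases z3 (f a) with e | e | e <;> rw [e] at h2
    exacts [hf e, hv (by simpa using (show E a • (0 : V) = v + 0 from h2).symm),
      hv (by simpa using (show E a • (0 : V) = v from h2).symm)]
  · obtain rfl := M.eq_of e
    rcases z3 (f a) with e | e | e <;> rw [e] at h1 h2
    exacts [hf e, hv ((h1.symm.trans h2).trans (M.two v)), hv ((h2.symm.trans h1).trans (M.two v))]

def VJ (n : ℕ) (f : U6) : AddSubgroup V where
  carrier := {v | ∃ w, Eig n f v w}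
  zero_mem' := ⟨0, fun a _ => by
    constructor <;> rw [smul_zero, rot] <;> split_ifs <;> simp⟩
  add_mem' := fun ⟨_, a⟩ ⟨_, b⟩ => ⟨_, a.add b⟩
  neg_mem' := fun {a} h => by rwa [neg_eq_iff_add_eq_zero.2 (M.two a)]

theorem snd_mem (h : Eig n f v w) : w ∈ M.VJ n f := ⟨_, M.eig_rot h 1⟩

theorem sep {f f' : U6} (h : Sep n f f') : ∃ u : G0, (∀ g, ∀ v ∈ M.VJ n g, u • v ∈ M.VJ n g) ∧
    (∀ v ∈ M.VJ n f, u • v = v) ∧ ∀ v ∈ M.VJ n f', v + u • v + u • u • v = 0 := by
  obtain ⟨u, h1, h2, h3⟩ : ∃ u : List (Fin 6), (∀ a ∈ u, a.1 < n) ∧ sm f u = 0 ∧ sm f' u ≠ 0 := by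
    obtain ⟨a, b, ha, hb, h | h⟩ := h
    exacts [⟨[a, b], by simp [ha, hb], by simpa [sm] using h⟩,
      ⟨[a, b, b], by simp [ha, hb], by simpa [sm] using h⟩]
  refine ⟨ev (u.map Fin.val), fun g v ⟨w, h⟩ => ⟨_, M.word h u h1 0 ▸ M.eig_rot h _⟩,
    fun v ⟨w, h⟩ => by simpa [h2, rot0] using M.word h u h1 0, fun v ⟨w, h⟩ => ?_⟩
  have e := M.word h u h1 0
  rw [rot0] at e
  rw [e, M.word h u h1, add_zero]
  rcases z3 (sm f' u) with e | e | e <;> rw [e]
  exacts [(h3 e).elim, M.two _, by rw [rot2, M.two']; exact M.two _]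

theorem ind {ι : Type*} [DecidableEq ι] {F : ι → U6} {y : V} (hy : y ∈ M.VJ n f) (S : Finset ι) :
    (∀ j ∈ S, Sep n f (F j)) → ∀ x : ι → V, (∀ j ∈ S, x j ∈ M.VJ n (F j)) → y = ∑ j ∈ S, x j →
      y = 0 := by
  induction S using Finset.induction_on with
  | empty => exact fun _ _ _ h => h
  | insert j S hj ih =>
    intro h1 x h2 h3
    obtain ⟨u, u1, u2, u3⟩ := M.sep (h1 j (by simp))
    refine ih (fun l hl => h1 l (by simp [hl])) (fun l => x l + u • x l + u • u • x l)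
      (fun l hl => ?_) ?_
    · have := h2 l (by simp [hl])
      exact add_mem (add_mem this (u1 _ _ this)) (u1 _ _ (u1 _ _ this))
    · have : y = y + u • y + u • u • y := by rw [u2 y hy, u2 y hy, M.two, zero_add]
      rw [this, h3]
      simp only [Finset.smul_sum, ← Finset.sum_add_distrib]
      rw [Finset.sum_insert hj, u3 _ (h2 j (by simp)), zero_add]

def Ph {ι : Type*} [Fintype ι] (v w : ι → V) : (ι → ZMod 2 × ZMod 2) →+ V :=
  AddMonoidHom.mk' (fun c => ∑ i, (cb (c i).1 (v i) + cb (c i).2 (w i))) fun a b => by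
    have : ∀ (s t : ZMod 2) (x : V), cb (s + t) x = cb s x + cb t x := fun s t x => by
      rcases z2 s with rfl | rfl <;> rcases z2 t with rfl | rfl
      exacts [(add_zero _).symm, (zero_add _).symm, (add_zero _).symm, (M.two x).symm]
    rw [← Finset.sum_add_distrib]
    exact Finset.sum_congr rfl fun i _ => by
      rw [Pi.add_apply, Prod.fst_add, Prod.snd_add, this, this, add_add_add_comm]

theorem Ph_single (v w : Fin 12 → V) (i : Fin 12) :
    M.Ph v w (Pi.single i (1, 0)) = v i ∧ M.Ph v w (Pi.single i (0, 1)) = w i := by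
  have k : ∀ p : ZMod 2 × ZMod 2, M.Ph v w (Pi.single i p) = cb p.1 (v i) + cb p.2 (w i) := fun p => by
    change ∑ j, (cb (Pi.single (M := fun _ => ZMod 2 × ZMod 2) i p j).1 (v j) +
      cb (Pi.single (M := fun _ => ZMod 2 × ZMod 2) i p j).2 (w j)) = _
    rw [Finset.sum_eq_single i (fun j _ h => by simp [cb, h]) fun h => (h (Finset.mem_univ _)).elim,
      Pi.single_eq_same]
  exact ⟨(k _).trans (add_zero _), (k _).trans (zero_add _)⟩

theorem Ph_inj {ι : Type*} [Fintype ι] [DecidableEq ι] {F : ι → U6} {v w : ι → V}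
    (h1 : ∀ i, Eig n (F i) (v i) (w i)) (h2 : ∀ i, v i ≠ 0) (h3 : ∀ i, ∃ a : Fin 6, a.1 < n ∧ F i a ≠ 0)
    (h4 : ∀ i j, j ≠ i → Sep n (F i) (F j)) : Function.Injective (M.Ph v w) :=
  (injective_iff_map_eq_zero _).2 fun c hc => funext fun i => by
    have m : ∀ j, cb (c j).1 (v j) + cb (c j).2 (w j) ∈ M.VJ n (F j) := fun j =>
      add_mem (cb_mem _ ⟨_, h1 j⟩) (cb_mem _ (M.snd_mem (h1 j)))
    have := M.ind (m i) (Finset.univ.erase i) (fun j hj => h4 i j (Finset.ne_of_mem_erase hj)) _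
      (fun j _ => m j) (M.eq_of ((Finset.add_sum_erase _
        (fun j => cb (c j).1 (v j) + cb (c j).2 (w j)) (Finset.mem_univ i)).trans hc))
    obtain ⟨a, a1, a2⟩ := h3 i
    obtain ⟨k1, k2⟩ := M.ne_of (h1 i) (h2 i) a1 a2
    rcases z2 (c i).1 with e1 | e1 <;> rcases z2 (c i).2 with e2 | e2 <;> rw [e1, e2] at this
    exacts [Prod.ext e1 e2, (k1 ((zero_add _).symm.trans this)).elim,
      (h2 i ((add_zero _).symm.trans this)).elim, (k2 this).elim]

theorem ref_ne (g : G0) (w : V) (hv : v ≠ 0) : ∃ e, v + g • rot e v w + g • g • rot (e + e) v w ≠ 0 := by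
  by_contra h
  push Not at h
  have := congrArg₂ (· + ·) (congrArg₂ (· + ·) (h 0) (h 1)) (h 2)
  change v + g • v + g • g • v + (v + g • w + g • g • (v + w)) +
    (v + g • (v + w) + g • g • w) = 0 + 0 + 0 at this
  simp only [add_zero, smul_add] at this
  refine hv ?_
  calc v = v + (v + g • v + g • w + g • g • v + g • g • w +
        (v + g • v + g • w + g • g • v + g • g • w)) := by rw [M.two, add_zero]
    _ = _ := by rw [← this]; abel

theorem start (hnt : ∃ (g : G0) (v : V), g • v ≠ v) : ∃ f, ∃ v w : V, f 0 = 1 ∧ v ≠ 0 ∧ Eig 6 f v w := by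
  have s : ∀ n ≤ 5, ∃ f, ∃ v w : V, f 0 = 1 ∧ v ≠ 0 ∧ Eig (n + 1) f v w := fun n => by
    induction n with
    | zero =>
      obtain ⟨u, hu⟩ : ∃ u : V, E 0 • u ≠ u := by
        by_contra h
        push Not at h
        have h1 : neg1 ∈ (MulAction.toPermHom G0 V).ker := Equiv.ext M.neg
        rcases normal_G0 _ h1 with e | e
        · rcases (eq_of_card_two e h1).1 (show E 0 ∈ _ from Equiv.ext h) with e | e
          exacts [E0_ne (by rw [e, one_smul]), E0_ne (by rw [e, neg1_smul_C])]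
        · obtain ⟨g, v, h⟩ := hnt
          have : g ∈ (MulAction.toPermHom G0 V).ker := e ▸ Subgroup.mem_top g
          exact h (congrArg (· v) (MonoidHom.mem_ker.1 this))
      refine fun _ => ⟨fun _ => 1, u + E 0 • u, E 0 • (u + E 0 • u), rfl, fun e => hu (M.eq_of e).symm,
        fun a ha => ?_⟩
      obtain rfl : a = 0 := Fin.ext (by omega)
      refine ⟨rfl, ?_⟩
      change E 0 • E 0 • (u + E 0 • u) = u + E 0 • u + E 0 • (u + E 0 • u)
      rw [smul_add, smul_add, show E 0 • E 0 • E 0 • u = u from M.cube 0 u, add_assoc, M.two',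
        add_comm]
    | succ n ih =>
      intro hn
      obtain ⟨f, v, w, h1, h2, h3⟩ := ih (by omega)
      let a : Fin 6 := ⟨n + 1, by omega⟩
      obtain ⟨e, he⟩ := M.ref_ne (E a) w h2
      refine ⟨Function.update f a (e + e), _, w + E a • rot (e + 1) v w +
        E a • E a • rot (e + e + 1) v w, by rw [Function.update_of_ne (by simp [a, Fin.ext_iff]), h1],
        he, fun b hb => ?_⟩
      by_cases e1 : b = a
      · subst e1
        simp only [Function.update_self, smul_add, M.cube, rot_add, ← rot_smul, M.rot_rot]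
        rw [(by decide : ∀ e : ZMod 3, e + (e + e) = 0), (by decide : ∀ e : ZMod 3, e + e + (e + e) = e),
          (by decide : ∀ e : ZMod 3, e + (e + e + 1) = 1),
          (by decide : ∀ e : ZMod 3, e + e + (e + e + 1) = e + 1), rot0, rot1]
        exact ⟨by abel, by abel⟩
      · rw [Function.update_of_ne e1]
        have c : ∀ {x y : V}, Eig (n + 1) f x y → Eig (n + 1) f (E a • x) (E a • y) := fun h =>
          h.map (smul_add _) fun b _ x => M.cm a b x
        exact (h3.add (c (M.eig_rot h3 e))).add (c (c (M.eig_rot h3 (e + e)))) b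
          (by have : b.1 ≠ n + 1 := fun h => e1 (Fin.ext h); omega)
  exact s 5 le_rfl

theorem eig_trw : ∀ (u : List (Fin 5)) {f : U6} {v w : V}, v ≠ 0 → Eig 6 f v w →
    ∃ v w : V, v ≠ 0 ∧ Eig 6 (trw u f) v w
  | [], _, _, _, h1, h2 => ⟨_, _, h1, h2⟩
  | j :: u, _, _, _, h1, h2 => eig_trw u ((smul_ne_zero_iff_ne _).2 h1) (M.eig_tr h2 j)

theorem root (hc : Nat.card V = 2 ^ 24) : ∀ (m : ℕ) {f : U6} {v w : V}, rk f < m → f ≠ 0 → v ≠ 0 →
    Eig 6 f v w → ∃ v w : V, v ≠ 0 ∧ Eig 6 (fL 0) v w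
  | 0, _, _, _, h, _, _, _ => absurd h (by omega)
  | m + 1, f, v, w, h0, h1, h2, h3 => by
    haveI : Finite V := Nat.finite_of_card_ne_zero (by omega)
    have k : f ∉ [r1, r2] := fun hf => by
      choose x y k1 k2 using fun i => M.eig_trw (W13 i) h2 h3
      have := Nat.card_le_card_of_injective _ (M.Ph_inj k2 k1
        (fun i => (sep13 f hf i i).1.imp fun a h => ⟨a.2, h⟩) fun i j => (sep13 f hf i j).2)
      rw [hc, Nat.card_fun, Nat.card_prod, Nat.card_zmod, Nat.card_fin] at this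
      norm_num at this
    rcases rk_lt f with e | rfl | e | e | ⟨j, j1, j2⟩
    exacts [(h1 e).elim, ⟨v, w, h2, h3⟩, (k (by simp [e])).elim, (k (by simp [e])).elim,
      root hc m (by omega) j1 ((smul_ne_zero_iff_ne _).2 h2) (M.eig_tr h3 j)]

end Md

/-- Twelve independent lines. -/
structure Pf (v : Fin 12 → V) : Prop where
  M : Md V
  card : Nat.card V = 2 ^ 24
  ne : ∀ i, v i ≠ 0
  eig : ∀ i, Eig 6 (fL i) (v i) (E 0 • v i)

namespace Pf

variable {v : Fin 12 → V} (P : Pf v)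
include P

theorem bij : Function.Bijective (P.M.Ph v fun i => E 0 • v i) := by
  haveI : Finite V := Nat.finite_of_card_ne_zero (by rw [P.card]; omega)
  refine (Nat.bijective_iff_injective_and_card _).2 ⟨P.M.Ph_inj (fun i => (P.eig i).mono (by omega))
    P.ne (fun i => ⟨0, by omega, by rw [fL0]; decide⟩) sep12, ?_⟩
  rw [P.card, Nat.card_fun, Nat.card_prod, Nat.card_zmod, Nat.card_fin]; rfl

theorem inj (i : Fin 12) {d e : ZMod 3} (h : rot d (v i) (E 0 • v i) = rot e (v i) (E 0 • v i)) :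
    d = e := by
  obtain ⟨a, b⟩ := P.M.ne_of (P.eig i) (P.ne i) (a := 0) (by omega) (by rw [fL0]; decide)
  exact P.M.rot_inj (P.ne i) a b h

theorem E0 (i : Fin 12) (e : ZMod 3) :
    E 0 • rot e (v i) (E 0 • v i) = rot (e + 1) (v i) (E 0 • v i) := by
  have := (P.M.eig_rot (P.eig i) e 0 (by omega)).1
  rwa [fL0] at this

theorem loc {n : ℕ} (hn : n ≤ 6) {f : U6} {y : V} (hy : y ∈ P.M.VJ n f) (p : Fin 12 → Prop)
    (h1 : ∀ j, p j → ∀ a : Fin 6, a.1 < n → fL j a = f a) (h2 : ∀ j, ¬ p j → Sep n f (fL j))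
    {D : AddSubgroup V} (hD : ∀ j, p j → v j ∈ D ∧ E 0 • v j ∈ D) : y ∈ D := by
  classical
  obtain ⟨c, hc⟩ := P.bij.2 y
  change ∑ i, (cb (c i).1 (v i) + cb (c i).2 (E 0 • v i)) = y at hc
  rw [← Finset.sum_filter_add_sum_filter_not _ p] at hc
  have := P.M.ind (add_mem hy (sum_mem fun j (hj : j ∈ Finset.univ.filter p) => by
      have e : Eig n f (v j) (E 0 • v j) := fun a ha =>
        h1 j (Finset.mem_filter.1 hj).2 a ha ▸ P.eig j a a.2
      exact add_mem (cb_mem (c j).1 ⟨_, e⟩) (cb_mem (c j).2 (P.M.snd_mem e))))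
    (Finset.univ.filter fun j => ¬ p j) (fun j hj => h2 j (Finset.mem_filter.1 hj).2) _
    (fun j _ => add_mem (cb_mem (c j).1 ⟨_, (P.eig j).mono hn⟩)
      (cb_mem (c j).2 (P.M.snd_mem ((P.eig j).mono hn)))) (by rw [← hc, add_comm, P.M.two'])
  rw [P.M.eq_of this]
  exact sum_mem fun j hj => add_mem (cb_mem _ (hD j (Finset.mem_filter.1 hj).2).1)
    (cb_mem _ (hD j (Finset.mem_filter.1 hj).2).2)

theorem span {D : AddSubgroup V} (hD : ∀ j, v j ∈ D ∧ E 0 • v j ∈ D) (y : V) : y ∈ D :=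
  P.loc (n := 0) (f := 0) (by omega) ⟨0, fun _ h => absurd h (by omega)⟩ (fun _ => True)
    (fun _ _ _ h => absurd h (by omega)) (fun _ h => (h trivial).elim) fun j _ => hD j

theorem line {i : Fin 12} {y : V} (hy : y ∈ P.M.VJ 5 (fL i)) (h0 : y ≠ 0) :
    ∃ e, y = rot e (v i) (E 0 • v i) := by
  obtain ⟨c, hc⟩ := P.loc (by omega) hy (· = i) (fun j h _ _ => by rw [h]) (fun j h => sep12 i j h)
    (D := (P.M.Ph (fun _ : Unit => v i) fun _ => E 0 • v i).range) (by
      rintro _ rfl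
      exact ⟨⟨fun _ => (1, 0), by simp [Md.Ph, cb]⟩, ⟨fun _ => (0, 1), by simp [Md.Ph, cb]⟩⟩)
  change ∑ _ : Unit, _ = y at hc
  rw [Fintype.sum_unique] at hc
  rcases z2 (c default).1 with e1 | e1 <;> rcases z2 (c default).2 with e2 | e2 <;> rw [e1, e2] at hc
  exacts [(h0 (hc.symm.trans (add_zero _))).elim, ⟨1, hc.symm.trans (zero_add _)⟩,
    ⟨0, hc.symm.trans (add_zero _)⟩, ⟨2, hc.symm⟩]

theorem kv (j : Fin 5) (i : Fin 12) :
    ∃ e, E (kL j) • v i = rot e (v (sL j i)) (E 0 • v (sL j i)) := by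
  refine P.line ?_ ((smul_ne_zero_iff_ne _).2 (P.ne i))
  have := (P.M.eig_tr (P.eig i) j).mono (m := 5) (by omega)
  rcases tr_fL j i with e | e <;> rw [e] at this
  exacts [⟨_, this⟩, ⟨_, by simpa using P.M.eig_neg this⟩]

theorem sv {i : Fin 12} {e : ZMod 3} (h : E 6 • v i = rot e (v i) (E 0 • v i)) (d : ZMod 3) :
    E 6 • rot d (v i) (E 0 • v i) = rot (e + -d) (v i) (E 0 • v i) := by
  have : E 0 • E 6 • v i = rot (tr 4 (fL i) 0) (E 6 • v i) (E 6 • E 0 • v i) :=
    (P.M.eig_tr (P.eig i) 4 0 (by omega)).1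
  rw [(tr4 i).1, rot2, h, P.E0] at this
  rw [rot_smul, ← P.M.two' (rot e (v i) (E 0 • v i)) (E 6 • E 0 • v i), ← this, h, P.M.rot_neg,
    P.M.rot_rot]

end Pf

theorem exists_fr (M : Md V) (hc : Nat.card V = 2 ^ 24) (hnt : ∃ (g : G0) (v : V), g • v ≠ v) :
    ∃ v : Fin 12 → V, Pf v ∧ ∀ j i, E (kL j) • v i = v (sL j i) ∧
      E (kL j) • E 0 • v i = rot (tr j (fL i) 0) (v (sL j i)) (E 0 • v (sL j i)) := by
  obtain ⟨f, x, y, h1, h2, h3⟩ := M.start hnt
  obtain ⟨x, y, h2, h3⟩ := M.root hc _ (Nat.lt_succ_self _)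
    (fun e => by rw [e] at h1; exact absurd h1 (by decide)) h2 h3
  have : ∀ i, ∃ v : V, v ≠ 0 ∧ Eig 6 (fL i) v (E 0 • v) := fun i => by
    obtain ⟨v, w, k1, k2⟩ : ∃ v w : V, v ≠ 0 ∧ Eig 6 (fL i) v w := by
      obtain ⟨v, w, k1, k2⟩ := M.eig_trw (W12 i) h2 h3
      rcases w12 i with e | e <;> rw [e] at k2
      exacts [⟨v, w, k1, k2⟩, ⟨v, _, k1, by simpa using M.eig_neg k2⟩]
    have := (k2 0 (by omega)).1
    rw [fL0] at this
    exact ⟨v, k1, (show E 0 • v = w from this).symm ▸ k2⟩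
  choose u u1 u2 using this
  have P : Pf u := ⟨M, hc, u1, u2⟩
  choose e he using P.kv 4
  simp only [(tr4 _).2.1] at he
  have Q : Pf fun i => rot (-e i) (u i) (E 0 • u i) := ⟨M, hc, fun i h => by
    obtain ⟨a, b⟩ := M.ne_of (u2 i) (u1 i) (a := 0) (by omega) (by rw [fL0]; decide)
    rcases z3 (-e i) with e | e | e <;> rw [e] at h
    exacts [u1 i h, a h, b h], fun i => by rw [P.E0]; exact M.eig_rot (u2 i) _⟩
  have hs : ∀ i, E 6 • rot (-e i) (u i) (E 0 • u i) = rot (-e i) (u i) (E 0 • u i) := fun i => by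
    rw [P.sv (he i), (by decide : ∀ e : ZMod 3, e + - -e = -e)]
  obtain ⟨v, Q, hs⟩ : ∃ v : Fin 12 → V, Pf v ∧ ∀ i, E 6 • v i = v i := ⟨_, Q, hs⟩
  refine ⟨v, Q, fun j i => ?_⟩
  obtain ⟨d, hd⟩ := Q.kv j i
  have h4 : E 6 • E (kL j) • v i = E (kL j) • E 6 • v i := by
    simpa [ev, mul_smul] using M.rl (r_s j) (v i)
  rw [hs, hd, Q.sv (e := 0) (hs _)] at h4
  rw [(by decide : ∀ d : ZMod 3, 0 + -d = d → d = 0) d (Q.inj _ h4), rot0] at hd
  refine ⟨hd, ?_⟩
  have h5 : E 0 • E (kL j) • v i = _ := (M.eig_tr (Q.eig i) j 0 (by omega)).1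
  rw [hd] at h5
  have : tr j (fL i) 0 = 1 ∨ tr j (fL i) 0 = 2 := by
    rcases tr_fL j i with e | e <;> rw [e]
    exacts [.inl (fL0 _), .inr (by rw [Pi.neg_apply, fL0]; rfl)]
  rcases this with e | e <;> rw [e] at h5 ⊢
  exacts [h5.symm, by rw [rot2, h5, rot2, M.two']]

theorem uniq (h2 : ∀ v : V, v + v = 0)
    (hc : Nat.card V = 2 ^ 24) (hn : ∀ v : V, neg1 • v = v) (hnt : ∃ (g : G0) (v : V), g • v ≠ v) :
    ∃ φ : C ≃+ V, ∀ (g : G0) (c : C), φ (g • c) = g • φ c := by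
  have M : Md V := ⟨h2, hn⟩
  have N : Md C := ⟨two_zmod, neg1_smul_C⟩
  obtain ⟨v, P, hv⟩ := exists_fr M hc hnt
  obtain ⟨u, Q, hu⟩ := exists_fr N card_C ⟨_, _, E0_ne⟩
  obtain ⟨φ, p1, p2⟩ : ∃ φ : C ≃+ V, (∀ i, φ (u i) = v i) ∧ ∀ i, φ (E 0 • u i) = E 0 • v i := by
    refine ⟨(AddEquiv.ofBijective _ Q.bij).symm.trans (AddEquiv.ofBijective _ P.bij), fun i => ?_,
      fun i => ?_⟩
    · rw [AddEquiv.trans_apply, ← (N.Ph_single u (fun i => E 0 • u i) i).1]
      exact (congrArg _ ((AddEquiv.ofBijective _ Q.bij).symm_apply_apply _)).trans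
        (M.Ph_single v (fun i => E 0 • v i) i).1
    · rw [AddEquiv.trans_apply, ← (N.Ph_single u (fun i => E 0 • u i) i).2]
      exact (congrArg _ ((AddEquiv.ofBijective _ Q.bij).symm_apply_apply _)).trans
        (M.Ph_single v (fun i => E 0 • v i) i).2
  have p3 : ∀ e i, φ (rot e (u i) (E 0 • u i)) = rot e (v i) (E 0 • v i) := fun e i => by
    rw [rot_map (map_add φ), p1, p2]
  let H : Subgroup G0 :=
    { carrier := {g | ∀ c : C, φ (g • c) = g • φ c}
      one_mem' := fun c => by rw [one_smul, one_smul]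
      mul_mem' := fun {a b} ha hb c => by rw [mul_smul, mul_smul, ha, hb]
      inv_mem' := fun {a} ha c => by rw [eq_inv_smul_iff, ← ha, smul_inv_smul] }
  have ext : ∀ {S T : C → C}, (∀ a b, S (a + b) = S a + S b) → (∀ a b, T (a + b) = T a + T b) →
      (∀ i, S (u i) = T (u i) ∧ S (E 0 • u i) = T (E 0 • u i)) → ∀ c, S c = T c :=
    fun h1 h2 h c => Q.span (D := (AddMonoidHom.mk' _ h1).eqLocus (AddMonoidHom.mk' _ h2)) h c
  have mH : ∀ g : G0, (∀ i, φ (g • u i) = g • v i ∧ φ (g • E 0 • u i) = g • E 0 • v i) → g ∈ H :=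
    fun g h c => φ.symm.injective (ext (S := fun c => φ.symm (φ (g • c))) (T := fun c => φ.symm (g • φ c))
      (fun a b => by simp [smul_add]) (fun a b => by simp [smul_add])
      (fun i => by rw [p1, p2, (h i).1, (h i).2]; exact ⟨rfl, rfl⟩) c)
  have aH : ∀ a : Fin 6, E a ∈ H := fun a => mH _ fun i => by
    rw [(Q.eig i a a.2).1, (Q.eig i a a.2).2, (P.eig i a a.2).1, (P.eig i a a.2).2, p3, p3]
    exact ⟨rfl, rfl⟩
  have kH : ∀ j, E (kL j) ∈ H := fun j => mH _ fun i => by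
    rw [(hu j i).1, (hu j i).2, (hv j i).1, (hv j i).2, p1, p3]
    exact ⟨rfl, rfl⟩
  have wH : ∀ w : List ℕ, (∀ a ∈ w, a < 11) → ev w ∈ H := fun w hw => by
    induction w with
    | nil => exact one_mem _
    | cons a w ih =>
      refine mul_mem ?_ (ih fun b hb => hw b (by simp [hb]))
      have := hw a (by simp)
      interval_cases a
      exacts [aH 0, aH 1, aH 2, aH 3, aH 4, aH 5, kH 4, kH 0, kH 1, kH 2, kH 3]
  obtain ⟨ψ, s1, s2⟩ : ∃ ψ : C → C, (∀ a b, ψ (a + b) = ψ a + ψ b) ∧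
      ∀ c, φ (ψ (E 11 • c)) = E 11 • φ c :=
    ⟨fun c => φ.symm (E 11 • φ ((E 11)⁻¹ • c)), fun a b => by simp [smul_add], fun c => by simp⟩
  have s3 : ∀ p ∈ gR, ∀ c, ψ (E p.1 • c) = E p.1 • ψ c := fun p hp c => by
    have b := wH p.2 ((by decide : ∀ p ∈ gR, ∀ a ∈ p.2, a < 11) p hp)
    have a := wH [p.1] ((by decide : ∀ p ∈ gR, ∀ a ∈ [p.1], a < 11) p hp)
    have e1 := N.rl (r_g p hp)
    have e2 := M.rl (r_g p hp)
    simp only [ev, mul_smul, one_smul, mul_one] at a e1 e2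
    rw [← smul_inv_smul (E 11) c, e1, ← φ.apply_eq_iff_eq, s2, b, ← e2, a, s2]
  have s4 : ∀ a : Fin 6, a.1 < 5 → ∀ c, ψ (E a • c) = E a • ψ c := fun a ha => by
    fin_cases a
    exacts [s3 (0, _) (by simp [gR]; rfl), s3 (1, _) (by simp [gR]; rfl), s3 (2, _) (by simp [gR]; rfl),
      s3 (3, _) (by simp [gR]; rfl), s3 (4, _) (by simp [gR]; rfl), absurd ha (by decide)]
  choose n hn1 using fun i => Q.line ⟨_, ((Q.eig i).mono (by omega)).map s1 s4⟩ fun e => by
    have := s2 ((E 11)⁻¹ • u i)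
    rw [smul_inv_smul, e, map_zero, eq_comm, smul_eq_zero_iff_eq, map_eq_zero_iff _ φ.injective,
      smul_eq_zero_iff_eq] at this
    exact Q.ne i this
  have hn2 : ∀ i e, ψ (rot e (u i) (E 0 • u i)) = rot (n i + e) (u i) (E 0 • u i) := fun i e => by
    rw [rot_map s1, show ψ (E 0 • u i) = _ from s4 0 (by decide) _, hn1, show E (0 : Fin 6) = E 0 from rfl,
      Q.E0, N.rot_rot]
  have hn3 : ∀ a ∈ [2, 3], ∀ i, n (sL a i) = n i := fun a ha i => by
    have e : ψ (E (kL a) • u i) = E (kL a) • ψ (u i) ∧ tr a (fL i) 0 = 1 := by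
      simp only [List.mem_cons, List.not_mem_nil, or_false] at ha
      rcases ha with rfl | rfl
      exacts [⟨s3 (9, _) (by simp [gR]; rfl) _, (tr4 i).2.2.1⟩,
        ⟨s3 (10, _) (by simp [gR]; rfl) _, (tr4 i).2.2.2⟩]
    have := e.1
    rw [hn1 i, rot_smul, (hu a i).1, (hu a i).2, e.2, rot1, hn1] at this
    exact Q.inj _ this
  have g3 : ∀ a : Fin 6, a.1 < 3 → ∀ c : C, E 11 • E a • c = E a • E 11 • c := fun a ha c => by
    have : ((a : ℕ), [(a : ℕ)]) ∈ gR := by revert a; decide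
    simpa [ev, mul_smul] using (N.rl (r_g _ this) c).symm
  have s5 : ∀ i, ∀ x ∈ N.VJ 3 (fL i), ψ x = rot (n i) x (E 0 • x) := fun i x hx =>
    Q.loc (by omega) hx (fun j => j.1 / 3 = i.1 / 3) (fun j => (sep4 i j).1) (fun j => (sep4 i j).2)
      (D := (AddMonoidHom.mk' _ s1).eqLocus (AddMonoidHom.mk' (fun x => rot (n i) x (E 0 • x))
        fun a b => by rw [smul_add, rot_add])) fun j hj => by
      have : n j = n i := by
        rcases blk i j hj with rfl | ⟨a, ha, rfl | rfl⟩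
        exacts [rfl, hn3 a ha _, (hn3 a ha _).symm]
      refine ⟨(hn1 j).trans (this ▸ rfl), (hn2 j 1).trans ?_⟩
      change _ = rot (n i) (rot 1 (u j) (E 0 • u j)) (E 0 • rot 1 (u j) (E 0 • u j))
      rw [Q.E0, N.rot_rot, this, add_comm]
  have s6 : ∀ c, ψ (E 11 • c) = E 11 • ψ c :=
    ext (fun a b => by rw [smul_add, s1]) (fun a b => by rw [s1, smul_add]) fun i => by
      have e := (Q.eig i).mono (m := 3) (by omega)
      have e' := e.map (smul_add (E 11)) g3
      have k := g3 0 (by decide)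
      change ∀ c : C, E 11 • E 0 • c = E 0 • E 11 • c at k
      rw [s5 i _ ⟨_, e⟩, s5 i _ ⟨_, e'⟩, s5 i _ (N.snd_mem e), s5 i _ (N.snd_mem e'), rot_smul, rot_smul,
        k (u i), k (E 0 • u i), k (u i)]
      exact ⟨rfl, rfl⟩
  have s7 : ∀ i, n i = 0 := fun i => by
    have e1 := N.rl r_4 (u i)
    have e2 := M.rl r_4 (φ (u i))
    simp only [ev, mul_smul, one_smul] at e1 e2
    rw [← s2, ← s2, ← s2, ← s2, φ.apply_eq_iff_eq, ← s6, ← s6, ← s6, ← s6, ← s6, ← s6, e1, hn1, hn2,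
      hn2, hn2] at e2
    exact (by decide : ∀ e : ZMod 3, e + (e + (e + e)) = 0 → e = 0) _ (Q.inj i e2)
  have s8 := ext s1 (T := id) (fun _ _ => rfl) fun i =>
    ⟨by rw [hn1, s7]; rfl, (hn2 i 1).trans (by rw [s7]; rfl)⟩
  have := gen (H := H) (fun c => by rw [neg1_smul_C, hn]) (by
    simp only [List.mem_cons, List.not_mem_nil, or_false, forall_eq_or_imp, forall_eq]
    exact ⟨aH 5, fun c => by rw [← s2, s8]; rfl, kH 1, kH 0⟩)
  exact ⟨φ, fun g => (this ▸ Subgroup.mem_top g : g ∈ H)⟩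

end H10.Mon.MG.Mu

namespace H10.Mon.MG

theorem MU {V : Type*} [AddCommGroup V] [Finite V] [DistribMulAction G0 V] (h2 : ∀ v : V, v + v = 0)
    (hc : Nat.card V = 2 ^ 24) (hn : ∀ v : V, neg1 • v = v) (hnt : ∃ (g : G0) (v : V), g • v ≠ v) :
    ∃ φ : C ≃+ V, ∀ (g : G0) (c : C), φ (g • c) = g • φ c := Mu.uniq h2 hc hn hnt

end H10.Mon.MG
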