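import Mathlib
import Cfsg.Agent.H19.MG0
import Cfsg.Agent.H18.MGQ

/-!
# Coordinates on the extraspecial group of a centraliser of shape `2^(1+24).Co1`
-/

set_option autoImplicit false
set_option linter.all false

open Cfsg

namespace H10.Mon.MG

open scoped commutatorElement

namespace SQ

/-- The statement inside the centraliser. -/
theorem core {H : Type*} [Group H] [Finite H] {z : H} (hc : ∀ g, g * z = z * g) {Q : Subgroup H}
    [Q.Normal] (hX : H3.XS 2 z Q) (hcard : Nat.card Q = 2 ^ 25)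
    (h2c : Subgroup.centralizer (Q : Set H) ≤ Q) (e : H ⧸ Q ≃* G0 ⧸ Subgroup.center G0) :
    ∃ q : ZMod 2 → C → H, (∀ s c t d, q s c * q t d = q (s + t + bb c d) (c + d)) ∧
      (∀ {s c t d}, q s c = q t d → s = t ∧ c = d) ∧ q 1 0 = z ∧ (∀ x ∈ Q, ∃ t c, x = q t c) ∧
      (∀ g, ∃ k, Rel q g k) ∧ ∀ k, ∃ g, Rel q g k := by
  have : Fact (Nat.Prime 2) := ⟨Nat.prime_two⟩
  have hz := hX.ord
  let Z := Subgroup.zpowers z
  have hZ : Z.Normal := ⟨fun x hx g => by
    obtain ⟨t, rfl⟩ := mem_zp hz hx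
    rwa [zp_comm hc, mul_inv_cancel_right]⟩
  let π := QuotientGroup.mk' Z
  let B := Q.map π
  have hB : B.Normal := Subgroup.Normal.map inferInstance π (QuotientGroup.mk'_surjective Z)
  have eqπ : ∀ {a b : H}, π a = π b ↔ ∃ t, a = zp z t * b := fun {a b} => by
    rw [eq_comm, ← mul_inv_eq_one, ← inv_inj, inv_one, mul_inv_rev, inv_inv, ← map_inv, ← map_mul,
      QuotientGroup.mk'_apply, QuotientGroup.eq_one_iff]
    constructor
    · intro h
      obtain ⟨t, ht⟩ := mem_zp hz h
      exact ⟨t, mul_inv_eq_iff_eq_mul.1 ht⟩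
    · rintro ⟨t, rfl⟩
      rw [mul_inv_cancel_right]
      rcases z2 t with rfl | rfl
      exacts [one_mem _, Subgroup.mem_zpowers _]
  have cm : ∀ g, (∀ k ∈ Q, ⁅g, k⁆ ∈ Z) ↔ ∀ k ∈ Q, π g * π k * (π g)⁻¹ = π k := fun g =>
    forall₂_congr fun k _ => by
      rw [← mul_inv_eq_one, ← commutatorElement_def, ← map_commutatorElement,
        QuotientGroup.mk'_apply, QuotientGroup.eq_one_iff]
  have hcomm : ∀ a b : B, a * b = b * a := by
    rintro ⟨_, a, ha, rfl⟩ ⟨_, b, hb, rfl⟩
    exact Subtype.ext (mul_inv_eq_iff_eq_mul.1 ((cm a).1 (hX.comm a ha) b hb))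
  letI : CommGroup B := { (inferInstance : Group B) with mul_comm := hcomm }
  let α0 : H →* MulAut B := MulAut.conjNormal.comp π
  have hα0 : ∀ (g : H) (b : B), (α0 g b : H ⧸ Z) = π g * b * (π g)⁻¹ := fun _ _ => rfl
  let α1 : H ⧸ Q →* MulAut B := QuotientGroup.lift Q α0 fun g hg => MulEquiv.ext (by
    rintro ⟨_, k, hk, rfl⟩
    exact Subtype.ext ((cm g).1 (hX.comm g hg) k hk))
  let α : G0 →* MulAut B := α1.comp (e.symm.toMonoidHom.comp (QuotientGroup.mk' _))
  let A : H → G0 → Prop := fun g h => e (g : H ⧸ Q) = (h : G0 ⧸ Subgroup.center G0)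
  have hA : ∀ g h, A g h → α h = α0 g := fun g h a => by
    change α1 (e.symm (h : G0 ⧸ Subgroup.center G0)) = _
    rw [← a, MulEquiv.symm_apply_apply]
    rfl
  have A1 : ∀ h, ∃ g, A g h := fun h => by
    obtain ⟨g, hg⟩ := QuotientGroup.mk_surjective (e.symm (h : G0 ⧸ Subgroup.center G0))
    exact ⟨g, by change e _ = _; rw [hg, MulEquiv.apply_symm_apply]⟩
  have A2 : ∀ g, ∃ h, A g h := fun g => by
    obtain ⟨h, hh⟩ := QuotientGroup.mk_surjective (e (g : H ⧸ Q))
    exact ⟨h, hh.symm⟩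
  letI : DistribMulAction G0 (Additive B) :=
    { smul := fun h v => Additive.ofMul (α h v.toMul)
      one_smul := fun v => by change Additive.ofMul (α 1 _) = _; rw [map_one]; rfl
      mul_smul := fun a b v => by change Additive.ofMul (α (a * b) _) = _; rw [map_mul]; rfl
      smul_zero := fun h => congrArg Additive.ofMul (map_one (α h))
      smul_add := fun h u v => congrArg Additive.ofMul (map_mul (α h) _ _) }
  have sm : ∀ (h : G0) (v : Additive B), (h • v).toMul = α h v.toMul := fun _ _ => rfl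
  obtain ⟨φ, hφ⟩ := MU (V := Additive B) (fun v => by
      obtain ⟨_, a, ha, rfl⟩ := v
      refine Subtype.ext (show π a * π a = 1 from ?_)
      rw [← map_mul, ← sq, QuotientGroup.mk'_apply, QuotientGroup.eq_one_iff]
      exact hX.pow a ha) (by
      have h1 := (Z.subgroupOf Q).card_mul_index
      have h2 : Z.relIndex Q = Nat.card B := by
        rw [← Subgroup.relIndex_ker, QuotientGroup.ker_mk']
      rw [Nat.card_congr (Subgroup.subgroupOfEquivOfLe (Subgroup.zpowers_le.2 hX.mem)).toEquiv,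
        Nat.card_zpowers, hz, hcard, ← Subgroup.relIndex, h2] at h1
      change Nat.card B = _
      omega) (fun v => by
      have : α neg1 = 1 := by
        rw [hA 1 neg1 (by
          change e _ = _
          rw [QuotientGroup.mk_one, map_one, (QuotientGroup.eq_one_iff _).2 neg1_mem_center]), map_one]
      change Additive.ofMul (α neg1 _) = _
      rw [this]; rfl) (by
      by_contra hn
      push Not at hn
      have : ∀ g : H, g ∈ Q := fun g => by
        obtain ⟨h, hh⟩ := A2 g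
        obtain ⟨x, hx, h1⟩ := hX.exists_mul_mem_centralizer (g := g) (hc g).symm
          ((cm g).2 fun k hk => by
            have := congrArg (fun v : Additive B => (v.toMul : H ⧸ Z))
              (hn h (Additive.ofMul ⟨π k, k, hk, rfl⟩))
            simp only [sm, hA g h hh, hα0] at this
            exact this)
        exact (Q.mul_mem_cancel_left hx).1 (h2c fun k hk => h1 k hk)
      have h1 : Subsingleton (H ⧸ Q) := ⟨fun a b => by
        obtain ⟨a, rfl⟩ := QuotientGroup.mk_surjective a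
        obtain ⟨b, rfl⟩ := QuotientGroup.mk_surjective b
        exact QuotientGroup.eq.2 (this _)⟩
      have h2 := Nat.card_congr e.toEquiv
      rw [card_Co1, Nat.card_of_subsingleton (1 : H ⧸ Q)] at h2
      omega)
  have : ∀ c : C, ∃ x ∈ Q, π x = ((φ c).toMul : H ⧸ Z) := fun c => (φ c).toMul.2
  choose s sQ hs using this
  have sur : ∀ x ∈ Q, ∃ t c, x = zp z t * s c := fun x hx => by
    obtain ⟨c, hc⟩ := φ.surjective (Additive.ofMul ⟨π x, x, hx, rfl⟩)
    obtain ⟨t, ht⟩ := (eqπ (a := x) (b := s c)).1 (by rw [hs, hc]; rfl)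
    exact ⟨t, c, ht⟩
  have inj : ∀ c d t, s c = zp z t * s d → c = d := fun c d t h =>
    φ.injective (Subtype.ext (show ((φ c).toMul : H ⧸ Z) = (φ d).toMul from by
      rw [← hs, ← hs]; exact eqπ.2 ⟨t, h⟩))
  obtain ⟨q, q1, q2, q3, q4, -, q6, q7⟩ := coords hz hc s
    (fun c d => eqπ.1 (by rw [map_mul, hs, hs, hs, map_add]; rfl)) inj (by
      by_contra hn
      push Not at hn
      have k : ∀ c, c = (0 : C) := fun c => by
        obtain ⟨t, ht⟩ := mem_zp hz (hX.center_le (s c) (sQ c) fun y hy => by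
          obtain ⟨t, d, rfl⟩ := sur y hy
          change s c * _ = _ * s c
          rw [← mul_assoc, zp_comm hc, mul_assoc, hn, mul_assoc])
        obtain ⟨u, hu⟩ := (eqπ (a := 1) (b := s 0)).1 (by rw [hs, map_zero, map_one]; rfl)
        refine inj c 0 (t + u) ?_
        rw [zp_add (by rw [← sq, ← hz, pow_orderOf_eq_one]), mul_assoc, ← hu, mul_one, ht]
      exact S_ne_zero c0 (k _)) A A1 fun g h a c => eqπ.1 (by
      rw [map_mul, map_mul, map_inv, hs, hs, hφ, sm, hA g h a, hα0])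
  refine ⟨q, q1, q2, q3, fun x hx => ?_, fun g => ?_, q7⟩
  · obtain ⟨t, c, rfl⟩ := sur x hx
    obtain ⟨u, hu⟩ := q4 t c
    exact ⟨u, c, hu⟩
  · obtain ⟨h, hh⟩ := A2 g
    obtain ⟨k, -, r⟩ := q6 g h hh
    exact ⟨k, r⟩

end SQ

theorem exists_sit {G : Type*} [Group G] [Finite G] (y : G) (hy : orderOf y = 2)
    (Q : Subgroup (Subgroup.centralizer ({y} : Set G))) [Q.Normal] (hQ : IsExtraspecial 2 Q)
    (hcard : Nat.card Q = 2 ^ 25)
    (h2c : Subgroup.centralizer (Q : Set (Subgroup.centralizer ({y} : Set G))) ≤ Q)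
    (hCo1 : Spor.IsoCo1 ((Subgroup.centralizer ({y} : Set G)) ⧸ Q)) : ∃ q, Sit y q := by
  have : Fact (Nat.Prime 2) := ⟨Nat.prime_two⟩
  obtain ⟨e⟩ := hCo1
  let z : Subgroup.centralizer ({y} : Set G) := ⟨y, Subgroup.mem_centralizer_singleton_iff.2 rfl⟩
  have hc : ∀ g, g * z = z * g := fun g =>
    Subtype.ext (Subgroup.mem_centralizer_singleton_iff.1 g.2)
  obtain ⟨z', hX, -, h1⟩ := H3.IsExtraspecial.exists_xs hQ
  have hzc : z ∈ Subgroup.centralizer (Q : Set (Subgroup.centralizer ({y} : Set G))) :=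
    fun g _ => hc g
  obtain rfl : z = z' := by
    obtain ⟨t, ht⟩ := SQ.mem_zp hX.ord (h1 ▸ ⟨h2c hzc, hzc⟩ : z ∈ Subgroup.zpowers z')
    rcases z2 t with rfl | rfl
    · have : y = 1 := congrArg Subtype.val ht
      rw [this, orderOf_one] at hy
      omega
    · exact ht
  obtain ⟨q, q1, q2, q3, q4, q5, q6⟩ := SQ.core hc hX hcard h2c e
  refine ⟨fun t c => q t c, fun s c t d => congrArg Subtype.val (q1 s c t d),
    fun h => q2 (Subtype.ext h), congrArg Subtype.val q3, fun g hg => ?_, fun k => ?_,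
    fun g hg => ?_⟩
  · obtain ⟨k, r⟩ := q5 ⟨g, Subgroup.mem_centralizer_singleton_iff.2 hg⟩
    exact ⟨k, fun t c => congrArg Subtype.val (r t c)⟩
  · obtain ⟨g, r⟩ := q6 k
    exact ⟨g, fun t c => congrArg Subtype.val (r t c)⟩
  · have h2 := hg 1 0
    rw [q3] at h2
    let g' : Subgroup.centralizer ({y} : Set G) := ⟨g, Subgroup.mem_centralizer_singleton_iff.2 h2⟩
    have h3 : ∀ x ∈ Q, x * g' = g' * x := fun x hx => by
      obtain ⟨t, c, rfl⟩ := q4 x hx
      exact Subtype.ext (hg t c).symm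
    obtain ⟨t, ht⟩ := SQ.mem_zp hX.ord (hX.center_le g' (h2c h3) fun x hx => (h3 x hx).symm)
    rcases z2 t with rfl | rfl
    exacts [.inl (congrArg Subtype.val ht), .inr (congrArg Subtype.val ht)]

end H10.Mon.MG
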