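import Mathlib
import Cfsg.Agent.H10.MSimple
import Cfsg.Agent.S1649

/-!
# Recognition of the Thompson group from a four-group with a triality
-/

set_option autoImplicit false
set_option linter.all false

namespace H10.Mon.MS

open Cfsg Subgroup

theorem eq_of_zp {G : Type*} [Group G] {z x : G} (h : orderOf z = 2) (hx : x ∈ zpowers z)
    (h1 : x ≠ 1) : x = z := by
  have h2 : z * z = 1 := by rw [← pow_two, ← h, pow_orderOf_eq_one]
  obtain ⟨n, rfl⟩ := hx
  rcases Int.even_or_odd' n with ⟨k, rfl | rfl⟩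
  · exact absurd (by simp only [zpow_mul, zpow_two, h2, one_zpow]) h1
  · simp only [zpow_add, zpow_mul, zpow_two, h2, one_zpow, one_mul, zpow_one]

theorem simple_of_tri {P G : Type*} [Group P] [Group G] [Finite G] (ι : P →* G)
    (hι : Function.Injective ι) {z y : P} {Q : Subgroup P} [Q.Normal]
    (hr : ι.range = centralizer {ι z}) (xs : H3.XS 2 z Q) (h2c : centralizer (Q : Set P) ≤ Q)
    [IsSimpleGroup (P ⧸ Q)] (irr : ∀ N : Subgroup P, N.Normal → z ∈ N → y ∈ N → Q ≤ N) {τ : G}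
    (t1 : τ * ι z * τ⁻¹ = ι y) (t2 : τ * ι y * τ⁻¹ = ι z * ι y)
    (out : ∃ q ∈ Q, ∃ p ∉ Q, τ * ι q * τ⁻¹ = ι p) : IsSimpleGroup G := by
  have : Finite P := Finite.of_injective ι hι
  have z2 : z * z = 1 := by rw [← pow_two, ← xs.ord, pow_orderOf_eq_one]
  have z1 : z ≠ 1 := fun e => by have := xs.ord; rw [e, orderOf_one] at this; omega
  have hC : ∀ g, g * ι z = ι z * g → ∃ p, ι p = g := fun g hg => by
    rw [← mem_centralizer_singleton_iff, ← hr] at hg; exact hg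
  have hZ : ∀ p, p ≠ 1 → (∀ q ∈ Q, Commute p q) → p = z := fun p h1 hp =>
    eq_of_zp xs.ord (xs.center_le p (h2c fun q hq => (hp q hq).symm) hp) h1
  have : Nontrivial G := ⟨ι z, 1, fun e => z1 (hι (e.trans (map_one ι).symm))⟩
  refine ⟨fun N hN => or_iff_not_imp_left.2 fun h1 => ?_⟩
  have k : ∀ {a}, (∀ n ∈ N, a * n * a⁻¹ = n → n = 1) →
      ∀ n ∈ N, τ * a * τ⁻¹ * n * (τ * a * τ⁻¹)⁻¹ = n → n = 1 := fun {a} ha n hn e => by
    have := ha _ (hN.conj_mem _ hn τ⁻¹) (by (conv_rhs => rw [← e]); group)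
    rwa [conj_eq_one_iff] at this
  obtain ⟨n, n1, n2, n3⟩ : ∃ n ∈ N, ι z * n * (ι z)⁻¹ = n ∧ n ≠ 1 := by
    by_contra hc
    push Not at hc
    have h2 := k hc
    rw [t1] at h2
    have h3 := k h2
    rw [t2] at h3
    have a2 : ι z * ι z = 1 := by rw [← map_mul, z2, map_one]
    exact h1 (four_bot N a2 (by rw [← t1, conj_mul, a2, mul_one, mul_inv_cancel]) hc h2 h3)
  obtain ⟨p, rfl⟩ := hC n (mul_inv_eq_iff_eq_mul.1 n2).symm
  have hN' : (N.comap ι).Normal := hN.comap ι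
  have hz : z ∈ N.comap ι := by
    by_contra hz
    have a : ∀ q ∈ Q, q ∈ N.comap ι → q = 1 := fun q hq hq' => by
      by_contra q1
      refine hz (hZ q q1 (fun r hr => ?_) ▸ hq')
      by_contra e
      exact hz (eq_of_zp xs.ord (xs.comm q hq r hr) (mt commutatorElement_eq_one_iff_commute.1 e) ▸
        comm_mem hq' (hN'.conj_mem _ (inv_mem hq') r))
    refine hz (hZ p (fun e => n3 (by rw [e, map_one])) (fun q hq => ?_) ▸ n1)
    refine commutatorElement_eq_one_iff_commute.1 (a _ ?_ (comm_mem n1 (hN'.conj_mem _ (inv_mem n1) q)))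
    exact mul_mem (‹Q.Normal›.conj_mem q hq p) (inv_mem hq)
  have hQ := irr _ hN' hz (by rw [mem_comap, ← t1]; exact hN.conj_mem _ hz τ)
  have hP : ∀ p, ι p ∈ N := by
    obtain ⟨q, hq, p, hp, e⟩ := out
    have a1 : p ∈ N.comap ι := by rw [mem_comap, ← e]; exact hN.conj_mem _ (hQ hq) τ
    have a2 := (hN'.map _ (QuotientGroup.mk'_surjective Q)).eq_bot_or_eq_top.resolve_left fun e =>
      hp ((QuotientGroup.eq_one_iff p).1 (mem_bot.1 (e ▸ mem_map_of_mem _ a1)))
    intro r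
    obtain ⟨s, hs, e⟩ : (r : P ⧸ Q) ∈ (N.comap ι).map (QuotientGroup.mk' Q) := a2 ▸ mem_top _
    have := mul_mem hs (hQ (QuotientGroup.eq.1 e))
    rwa [mul_inv_cancel_left] at this
  have : Fact (Nat.Prime 2) := Nat.fact_prime_two
  obtain ⟨T, hT⟩ := (xs.isPGroup.map ι).exists_le_sylow
  have hT1 : ∀ w ∈ (T : Subgroup G), w ≠ 1 → (∀ v ∈ (T : Subgroup G), v * w = w * v) → w = ι z :=
    fun w hw w1 e => by
      obtain ⟨p, rfl⟩ := hC w (e _ (hT (mem_map_of_mem ι xs.mem))).symm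
      rw [hZ p (fun e => w1 (by rw [e, map_one])) fun q hq => hι (by
        rw [map_mul, map_mul]; exact (e _ (hT (mem_map_of_mem ι hq))).symm)]
  have hT2 : ∀ v ∈ (T : Subgroup G), v * ι z = ι z * v := by
    have : Nontrivial (T : Subgroup G) := ⟨⟨_, hT (mem_map_of_mem ι xs.mem)⟩, 1, fun e =>
      z1 (hι ((congrArg Subtype.val e).trans (map_one ι).symm))⟩
    have := T.2.center_nontrivial
    obtain ⟨w, w1⟩ := exists_ne (1 : center (T : Subgroup G))
    have e : ∀ v ∈ (T : Subgroup G), v * w = w * v := fun v hv =>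
      congrArg Subtype.val (mem_center_iff.1 w.2 ⟨v, hv⟩)
    rw [← hT1 w w.1.2 (fun e => w1 (Subtype.ext (Subtype.ext e))) e]
    exact e
  have hT3 : ∀ g, g * ι z = ι z * g → g ∈ N := fun g hg => by
    obtain ⟨p, rfl⟩ := hC g hg
    exact hP p
  rw [← Sylow.normalizer_sup_eq_top' (N := N) T fun v hv => hT3 v (hT2 v hv), eq_comm, sup_eq_right]
  intro g hg
  refine hT3 g (mul_inv_eq_iff_eq_mul.1 (hT1 _ ((mem_normalizer_iff.1 hg _).1
    (hT (mem_map_of_mem ι xs.mem))) (fun e => z1 (hι ?_)) fun v hv => ?_))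
  · rw [map_one]; exact conj_eq_one_iff.1 e
  · have := hT2 _ ((mem_normalizer_iff''.1 hg _).1 hv)
    calc _ = g * (g⁻¹ * v * g * ι z) * g⁻¹ := by group
      _ = _ := by rw [this]; group

theorem th_of {P G : Type*} [Group P] [Group G] [Finite G] (ι : P →* G)
    (hι : Function.Injective ι) {z y : P} (ψ : P →* Equiv.Perm (Fin 9))
    (hψ : ψ.range = alternatingGroup (Fin 9)) (hr : ι.range = centralizer {ι z})
    (xs : H3.XS 2 z ψ.ker) (hc : Nat.card ψ.ker = 2 ^ 9)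
    (hE : ∃ E ≤ ψ.ker, IsElementaryAbelian 2 E ∧ Nat.card E = 2 ^ 5)
    (h2c : centralizer (ψ.ker : Set P) ≤ ψ.ker)
    (irr : ∀ N : Subgroup P, N.Normal → z ∈ N → y ∈ N → ψ.ker ≤ N) {τ : G}
    (t1 : τ * ι z * τ⁻¹ = ι y) (t2 : τ * ι y * τ⁻¹ = ι z * ι y)
    (out : ∃ q ∈ ψ.ker, ∃ p ∉ ψ.ker, τ * ι q * τ⁻¹ = ι p) : IsTh G := by
  have s9 : IsSimpleGroup (alternatingGroup (Fin 9)) := alternatingGroup.isSimpleGroup (by simp)
  have : IsSimpleGroup (P ⧸ ψ.ker) :=
    ((QuotientGroup.quotientKerEquivRange ψ).trans (MulEquiv.subgroupCongr hψ)).isSimpleGroup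
  have := simple_of_tri ι hι hr xs h2c irr t1 t2 out
  let e : centralizer ({ι z} : Set G) ≃* P :=
    ((MonoidHom.ofInjective hι).trans (MulEquiv.subgroupCongr hr)).symm
  have hk : (ψ.comp e.toMonoidHom).ker = ψ.ker.comap e.toMonoidHom := (MonoidHom.comap_ker _ _).symm
  have hr' : e.toMonoidHom.range = ⊤ := MonoidHom.range_eq_top.2 e.surjective
  have c1 : ∀ H : Subgroup P, Nat.card (H.comap e.toMonoidHom) = Nat.card H := fun H => by
    rw [← card_map_of_injective (f := e.toMonoidHom) e.injective,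
      map_comap_eq_self (hr' ▸ le_top)]
  have hX := xs_comap (f := e.toMonoidHom) e.injective (z := e.symm z)
    (by simpa using xs) (hr' ▸ le_top)
  refine (Cfsg.Agent.S1649.result (ι z) ((orderOf_injective ι hι z).trans xs.ord)
    (ψ.comp e.toMonoidHom).ker (hk ▸ xs_extra hX fun a => ?_) (hk ▸ (c1 _).trans hc) ?_ ?_
    ((QuotientGroup.quotientKerEquivRange _).trans (MulEquiv.subgroupCongr ?_))).1
  · have := (c1 _).trans hc
    rw [← a, Nat.card_zpowers, hX.ord] at this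
    norm_num at this
  · obtain ⟨E, h1, ⟨h2, h3⟩, h4⟩ := hE
    refine ⟨(E.comap e.toMonoidHom).subgroupOf _, ⟨⟨⟨fun a b => ?_⟩⟩, fun a ha => ?_⟩, ?_⟩
    · refine Subtype.ext (Subtype.ext (e.injective ?_))
      simp only [coe_mul, map_mul]
      exact congrArg Subtype.val (h2.is_comm.comm (⟨_, a.2⟩ : E) ⟨_, b.2⟩)
    · refine Subtype.ext (e.injective ?_)
      rw [coe_pow, map_pow, coe_one, map_one]
      exact h3 _ ha
    · rw [Nat.card_congr (subgroupOfEquivOfLe (hk ▸ comap_mono h1)).toEquiv, c1, h4]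
  · intro g hg
    rw [hk]
    refine h2c fun q hq => ?_
    obtain ⟨q, rfl⟩ := e.surjective q
    exact (map_mul e _ _).symm.trans ((congrArg e (hg q hq)).trans (map_mul e _ _))
  · rw [MonoidHom.range_comp, hr', ← MonoidHom.range_eq_map, hψ]

/-- Two generators of the alternating group of degree 9. -/
def σ1 : Equiv.Perm (Fin 9) := Equiv.swap 0 1 * Equiv.swap 0 2
def σ2 : Equiv.Perm (Fin 9) :=
  Equiv.swap 2 8 * Equiv.swap 2 7 * Equiv.swap 2 6 * Equiv.swap 2 5 * Equiv.swap 2 4 * Equiv.swap 2 3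

theorem alt_le {H : Subgroup (Equiv.Perm (Fin 9))} (h1 : σ1 ∈ H) (h2 : σ2 ∈ H) :
    alternatingGroup (Fin 9) ≤ H := by
  have u : ∀ k : Fin 9, k ≠ 0 → Equiv.swap 0 1 * Equiv.swap 0 k ∈ H := fun k hk => by
    have : ∀ k : Fin 9, k ≠ 0 → k ≠ 1 →
        Equiv.swap 0 1 * Equiv.swap 0 k = σ2 ^ (k.1 - 2) * σ1 * (σ2 ^ (k.1 - 2))⁻¹ := by
      decide +kernel
    by_cases e : k = 1
    · rw [e, Equiv.swap_mul_self]; exact one_mem _
    · rw [this k hk e]; exact mul_mem (mul_mem (pow_mem h2 _) h1) (inv_mem (pow_mem h2 _))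
  have v : ∀ a b : Fin 9, a ≠ b → Equiv.swap 0 1 * Equiv.swap a b ∈ H := fun a b hab => by
    by_cases ha : a = 0
    · subst ha; exact u b hab.symm
    by_cases hb : b = 0
    · subst hb; rw [Equiv.swap_comm a]; exact u a ha
    have : ∀ a b : Fin 9, a ≠ 0 → b ≠ 0 → a ≠ b → Equiv.swap 0 1 * Equiv.swap a b =
        Equiv.swap 0 1 * Equiv.swap 0 a * (Equiv.swap 0 1 * Equiv.swap 0 b)⁻¹ *
          (Equiv.swap 0 1 * Equiv.swap 0 a) := by decide +kernel
    rw [this a b ha hb hab]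
    exact mul_mem (mul_mem (u a ha) (inv_mem (u b hb))) (u a ha)
  have w : ∀ g : Equiv.Perm (Fin 9), (Equiv.Perm.sign g = 1 → g ∈ H) ∧
      (Equiv.Perm.sign g = -1 → Equiv.swap 0 1 * g ∈ H) := fun g => by
    induction g using Equiv.Perm.swap_induction_on with
    | one => exact ⟨fun _ => one_mem _, fun h => absurd h (by decide)⟩
    | swap_mul f a b hab ih =>
      rw [map_mul, Equiv.Perm.sign_swap hab, neg_one_mul, neg_eq_iff_eq_neg, neg_inj]
      refine ⟨fun e => ?_, fun e => ?_⟩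
      · have := mul_mem (inv_mem (v a b hab)) (ih.2 e)
        rwa [_root_.mul_inv_rev, Equiv.swap_inv, mul_assoc, inv_mul_cancel_left] at this
      · rw [← mul_assoc]; exact mul_mem (v a b hab) (ih.1 e)
  exact fun g hg => (w g).1 hg

end H10.Mon.MS
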