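import Mathlib
import Cfsg.Agent.H19.MS4
import Cfsg.Agent.H19.MS5

/-!
# The Thompson group in the Monster
-/

set_option autoImplicit false
set_option linter.all false
set_option maxRecDepth 100000
set_option Elab.async false

namespace H10.Mon.MS

open Cfsg H9 H29 Subgroup

attribute [local irreducible] wd

theorem exists_psi {A B : Type*} [Group A] [Group B] [Finite A] [Finite B] (Γ : Subgroup (A × B))
    (h1 : ∀ σ, (1, σ) ∈ Γ → σ = 1) {Q : Subgroup A} (hQ : ∀ q ∈ Q, (q, 1) ∈ Γ) {R : Subgroup B}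
    (hR : R ≤ Γ.map (MonoidHom.snd A B)) (hc : Nat.card A ≤ Nat.card R * Nat.card Q) :
    ∃ ψ : A →* B, ψ.ker = Q ∧ ψ.range = R ∧ Nat.card R * Nat.card Q ≤ Nat.card A ∧
      ∀ p, (p, 1) ∈ Γ → ψ p = 1 := by
  let f : Γ →* A := (MonoidHom.fst A B).domRestrict Γ
  let g : Γ →* B := (MonoidHom.snd A B).domRestrict Γ
  have hf : Function.Injective f := (injective_iff_map_eq_one f).2 fun a ha =>
    Subtype.ext (Prod.ext ha (h1 _ (by rw [← show a.1.1 = 1 from ha]; exact a.2)))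
  have r1 : R ≤ g.range := by rwa [MonoidHom.domRestrict_range]
  have r2 : Q ≤ g.ker.map f := fun q hq => ⟨⟨_, hQ q hq⟩, rfl, rfl⟩
  have c1 := card_le_of_le r1
  have c2 := card_le_of_le r2
  have c3 := card_kr g
  have c4 := Nat.card_le_card_of_injective f hf
  have c5 := card_map_of_injective (K := g.ker) hf
  have p1 : 0 < Nat.card R := Nat.card_pos
  have p2 : 0 < Nat.card Q := Nat.card_pos
  rw [← c5] at c3
  have c6 := Nat.mul_le_mul c1 c2
  let e := MulEquiv.ofBijective f ((Nat.bijective_iff_injective_and_card f).2 ⟨hf, by omega⟩)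
  refine ⟨g.comp e.symm.toMonoidHom, ?_, ?_, by omega, fun p hp => ?_⟩
  · rw [eq_of_le_of_card_ge r2 (by nlinarith), ← MonoidHom.comap_ker]
    exact (map_equiv_eq_comap_symm' e g.ker).symm
  · rw [MonoidHom.range_comp, MonoidHom.range_eq_top.2 e.symm.surjective, ← MonoidHom.range_eq_map,
      eq_of_le_of_card_ge r1 (by nlinarith)]
  · exact congrArg g (e.symm_apply_eq.2 (show p = e ⟨_, hp⟩ from rfl))

theorem one_of_23 {G : Type*} [Group G] {x a : G} (o : x ^ 3 = 1) (ha : a ∈ zpowers x)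
    (h : a * a = 1) : a = 1 := by
  obtain ⟨k, rfl⟩ := ha
  have : (x ^ k) ^ 3 = 1 := by rw [← zpow_natCast, ← zpow_mul, mul_comm, zpow_mul, zpow_natCast, o, one_zpow]
  rwa [pow_three', h, one_mul] at this

theorem sq_of_comm {G : Type*} [Group G] {z g : G} (hz : z * z = 1)
    (h : (g * z)⁻¹ * (z * g) * z = z * ((g * z)⁻¹ * (z * g))) :
    (g * z)⁻¹ * (z * g) * ((g * z)⁻¹ * (z * g)) = 1 := by
  calc _ = (g * z)⁻¹ * (z * g) * z * (z * z)⁻¹ * (g⁻¹ * z * g) := by group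
    _ = z * ((g * z)⁻¹ * (z * g)) * (g⁻¹ * z * g) := by rw [h, hz, inv_one, mul_one]
    _ = g⁻¹ * (z * z) * g := by group
    _ = 1 := by rw [hz, mul_one, inv_mul_cancel]

theorem zp_cent {G : Type*} [Group G] {x s a : G} (o : x ^ 3 = 1) (hs : s * x * s⁻¹ = x⁻¹)
    (ha : a ∈ zpowers x) (h : a ∈ centralizer {s}) : a = 1 := by
  refine one_of_23 o ha ?_
  obtain ⟨k, rfl⟩ := ha
  have : s * x ^ k * s⁻¹ = (x ^ k)⁻¹ := by rw [← conj_zpow, hs, inv_zpow]
  rw [← mem_centralizer_singleton_iff.1 h, mul_inv_cancel_right] at this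
  exact mul_eq_one_iff_eq_inv.2 this

theorem dec3 {G : Type*} [Group G] {H : Subgroup G} [Finite H] {x s : G} (hx : x ∈ H)
    (o : orderOf x = 3) (hs : s * x * s⁻¹ = x⁻¹) :
    3 * Nat.card ↥(H ⊓ centralizer {s}) ≤ Nat.card H ∧
      (Nat.card H ≤ 3 * Nat.card ↥(H ⊓ centralizer {s}) →
        ∀ p ∈ H, ∃ a ∈ zpowers x, ∃ q ∈ H ⊓ centralizer {s}, a * q = p) := by
  let f : zpowers x × ↥(H ⊓ centralizer {s}) → H := fun p =>
    ⟨p.1 * p.2, mul_mem (zpowers_le.2 hx p.1.2) p.2.2.1⟩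
  have hf : Function.Injective f := fun a b e => by
    have e : a.1.1 * a.2.1 = b.1.1 * b.2.1 := congrArg Subtype.val e
    have e1 : b.1.1⁻¹ * a.1.1 = b.2.1 * a.2.1⁻¹ := by
      rw [inv_mul_eq_iff_eq_mul, ← mul_assoc, ← e, mul_inv_cancel_right]
    have e2 := zp_cent (o ▸ pow_orderOf_eq_one x) hs (mul_mem (inv_mem b.1.2) a.1.2)
      (e1 ▸ mul_mem b.2.2.2 (inv_mem a.2.2.2))
    exact Prod.ext (Subtype.ext (inv_mul_eq_one.1 e2).symm)
      (Subtype.ext (mul_inv_eq_one.1 (e1 ▸ e2)).symm)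
  have c := Nat.card_le_card_of_injective f hf
  have c' : Nat.card (zpowers x × ↥(H ⊓ centralizer {s})) = 3 * Nat.card ↥(H ⊓ centralizer {s}) := by
    rw [Nat.card_prod, Nat.card_zpowers, o]
  refine ⟨c' ▸ c, fun h p hp => ?_⟩
  have : Finite (zpowers x × ↥(H ⊓ centralizer {s})) := Finite.of_injective f hf
  obtain ⟨a, ha⟩ := ((Nat.bijective_iff_injective_and_card f).2 ⟨hf, by omega⟩).2 ⟨p, hp⟩
  exact ⟨_, a.1.2, _, a.2.2, congrArg Subtype.val ha⟩

def ts : List ℕ := [1, 8, 5, 15, 8, 8, 7, 0, 29, 39, 32, 39, 33, 34, 39, 35, 38]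
def th1 : List ℕ := [3, 12, 2, 3, 6, 8, 6, 0, 17, 20, 22, 23, 16, 2, 16, 1, 0, 6, 13, 16, 2, 28, 30,
  32, 36, 37, 39, 40, 41, 42, 43, 45, 46, 47, 49, 50, 51, 52]
def th2 : List ℕ := [2, 14, 2, 2, 5, 8, 4, 17, 18, 19, 20, 22, 26, 16, 1, 11, 4, 6, 29, 30, 32, 33,
  35, 36, 38, 42, 43, 45, 48, 51]
def tG : List ℕ := [28, 45, 50, 51, 6, 16, 1, 4, 16, 12, 7, 10]
def tW : List (List ℕ) := [[135, 774, 1376, 2048], [697191, 3656941, 4500615, 8724952],
  [697312, 3657580, 4499206, 8725567], [697601, 3654893, 4501254, 8728377],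
  [697734, 3653898, 4498022, 8727736], [699239, 3654283, 4500070, 8727262],
  [699360, 3655946, 4499943, 8726462], [699649, 3656331, 4497895, 8725081],
  [699782, 3655532, 4498567, 8726879]]

theorem X_eq : wd tx = rho (gw tx) := wd_gw (by decide +kernel)
theorem S_eq : wd ts = rho (gw ts) := wd_gw (by decide +kernel)
theorem X3 : wd tx ^ 3 = 1 := (wd_pow _ _).trans (one_of_eqS (by decide +kernel))
theorem oX : orderOf (wd tx) = 3 := orderOf_eq_prime X3 (ne_one_of 1 (by decide +kernel))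
theorem SX : wd ts * wd tx * (wd ts)⁻¹ = (wd tx)⁻¹ := by
  rw [wd_cjW, wd_ivW]; exact eqS_true (by decide +kernel)
theorem tauX : Commute tau (wd tx) := ct_of [0, 0, 1, 8] (by decide +kernel)
theorem tauS : Commute tau (wd ts) :=
  ct_of [1, 8, 5, 15, 8, 8, 7, 0, 17, 20, 21, 22, 23, 26] (by decide +kernel)
theorem S_iW : iW (apd w17 tG) = wd ts := iW_of17 (by decide +kernel)

noncomputable abbrev P1 : Subgroup (U ≃ₗ[ℝ] U) := GG ⊓ Ce (wd tx)
noncomputable abbrev P0 : Subgroup (U ≃ₗ[ℝ] U) := P1 ⊓ Ce (wd ts)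

instance : Finite GG := Nat.finite_of_card_ne_zero (by rw [card_GG]; norm_num)
instance : Finite P1 := Finite.of_injective _ (inclusion_injective inf_le_left)
instance : Finite P0 := Finite.of_injective _ (inclusion_injective inf_le_left)

theorem mem_Q0 {x : U ≃ₗ[ℝ] U} (h1 : x ∈ QQ) (h2 : x ∈ Ce (wd tx)) : x ∈ QA (spL tB) := by
  obtain ⟨t, c, rfl⟩ := mem_QQ.1 h1
  rw [X_eq, mem_Fx, Fx_tx] at h2
  exact qe_mem_QA.2 h2

theorem Q0_le : QA (spL tB) ≤ P0 := by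
  rintro _ ⟨t, c, hc, rfl⟩
  refine ⟨⟨⟨_, rfl⟩, ?_⟩, ?_⟩
  · rw [X_eq]; exact mem_Fx.2 (Fx_tx ▸ hc)
  · rw [S_eq]; exact mem_Fx.2 (spL_Fx (by decide +kernel) hc)

theorem card_Q0 : Nat.card (QA (spL tB)) = 512 := by rw [card_QA, card_V0]

theorem card_P1 : Nat.card P1 ≤ 544320 * 512 := by
  rw [card_kr (piG.comp (inclusion (inf_le_left : P1 ≤ GG)))]
  refine Nat.mul_le_mul ?_ ?_
  · have c := card_kr ((QuotientGroup.mk' (center G0)).domRestrict DD)
    rw [MonoidHom.domRestrict_range, MonoidHom.ker_domRestrict, QuotientGroup.ker_mk',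
      Nat.card_congr (subgroupOfEquivOfLe (K := DD) (center_le_centralizer _)).toEquiv, card_center] at c
    have := card_DD
    have : Finite (G0 ⧸ center G0) := Nat.finite_of_card_ne_zero (by rw [card_Co1]; norm_num)
    refine (card_le_of_le (K := DD.map (QuotientGroup.mk' (center G0))) ?_).trans (by omega)
    rintro _ ⟨⟨_, ⟨g, rfl⟩, hg⟩, rfl⟩
    refine ⟨co g, ?_, (piG_rho g).symm⟩
    have e := mem_centralizer_singleton_iff.1 hg
    rw [X_eq, ← map_mul, ← map_mul, rho_eq_rho] at e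
    rcases e with e | e <;> replace e := congrArg co e <;> simp only [map_mul, co_m1] at e
    · exact mem_centralizer_singleton_iff.2 e
    · have o : co (gw tx) ^ 3 = 1 := by
        rw [co_tx, ← map_pow, show π0 ^ 3 = 1 from
          Subtype.ext (pm_pow_eq_one cπ_v (by decide +kernel)), map_one]
      have : co g * co (gw tx) * (co g)⁻¹ = co (gw tx) * neg1 := by
        rw [e, mul_assoc _ (co g), neg1_comm, ← mul_assoc, mul_inv_cancel_right]
      replace this := congrArg (· ^ 3) this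
      simp only [conj_pow, Commute.mul_pow (neg1_comm _), o, mul_one, mul_inv_cancel, one_mul] at this
      rw [pow_three', neg1_mul_self, one_mul] at this
      exact absurd this.symm neg1_ne_one
  · rw [← card_Q0]
    have : Finite (QA (spL tB)) := Finite.of_injective _ (inclusion_injective Q0_le)
    exact Nat.card_le_card_of_injective (fun x => ⟨x.1.1, mem_Q0 
      (mem_subgroupOf.1 (ker_piG.le (x.2 : piG _ = 1))) x.1.2.2⟩) fun a b e =>
        Subtype.ext (Subtype.ext (Subtype.mk.inj e))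

/-- The members of the spread. -/
noncomputable def Wi (i : Fin 9) : AddSubgroup C := spL (nth [] tW i)

theorem Wi_le (i : Fin 9) : Wi i ≤ spL tB :=
  spL_le fun j hj => by
    have : ∀ i : Fin 9, ∀ j < (nth [] tW i).length, ∃ m < 2 ^ tB.length,
      apC tB m = nth 0 (nth [] tW i) j := by decide +kernel
    obtain ⟨m, h1, h2⟩ := this i j hj
    exact ⟨m, h1, congrArg dec h2⟩

noncomputable def ΓM : Submonoid (P0 × Equiv.Perm (Fin 9)) where
  carrier := {a | ∃ g, rho g = a.1.1 ∧ ∀ i, ∀ c ∈ Wi i, co g • c ∈ Wi (a.2 i)}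
  one_mem' := ⟨1, map_one _, fun i c h => by rwa [map_one, one_smul]⟩
  mul_mem' := fun ⟨g, h1, h2⟩ ⟨k, h3, h4⟩ => ⟨g * k, by rw [map_mul, h1, h3]; rfl, fun i c h => by
    rw [map_mul, mul_smul]; exact h2 _ _ (h4 i c h)⟩

noncomputable def Γ : Subgroup (P0 × Equiv.Perm (Fin 9)) :=
  { ΓM with
    inv_mem' := fun {a} ha => Submonoid.powers_le.2 ha
      ((isOfFinOrder_of_finite a).mem_powers_iff_mem_zpowers.2 (inv_mem (mem_zpowers a))) }

theorem fix_Γ {p : P0} {g : GT} (h : rho g = p) (e : ∀ c ∈ spL tB, co g • c = c) : (p, 1) ∈ Γ :=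
  ⟨g, h, fun i c hc => by rwa [e c (Wi_le i hc)]⟩

theorem wd_Γ {w : List ℕ} {σ : Equiv.Perm (Fin 9)} (h0 : noT w = true) (h1 : wd w ∈ P0)
    (h : ∀ i : Fin 9, ∀ j < (nth [] tW i).length, ∃ m < 2 ^ (nth [] tW (σ i)).length,
      apC (nth [] tW (σ i)) m = apL w (nth 0 (nth [] tW i) j)) : σ ∈ Γ.map (MonoidHom.snd _ _) :=
  ⟨(⟨_, h1⟩, σ), ⟨gw w, (wd_gw h0).symm, fun i => spL_le (A := (Wi (σ i)).comap
    (DistribMulAction.toAddMonoidHom C (co (gw w)))) fun j hj => by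
      obtain ⟨m, h1, h2⟩ := h i j hj
      exact ⟨m, h1, (congrArg dec h2).trans (dec_apL _ _)⟩⟩, rfl⟩

theorem wd_P0 {w : List ℕ} (h0 : noT w = true) (h1 : cmS tx w = true) (h2 : cmS ts w = true) :
    wd w ∈ P0 := ⟨⟨⟨_, (wd_gw h0).symm⟩, mem_Ce.2 (cmS_true h1)⟩, mem_Ce.2 (cmS_true h2)⟩

theorem th1_mem : wd th1 ∈ P0 := wd_P0 (by decide +kernel) (by decide +kernel) (by decide +kernel)
theorem th2_mem : wd th2 ∈ P0 := wd_P0 (by decide +kernel) (by decide +kernel) (by decide +kernel)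

theorem X_mem : wd tx ∈ P1 := ⟨⟨_, X_eq.symm⟩, mem_Ce.2 (Commute.refl _)⟩

theorem exists_ψ : ∃ ψ : P0 →* Equiv.Perm (Fin 9), ψ.ker = (QA (spL tB)).subgroupOf P0 ∧
    ψ.range = alternatingGroup (Fin 9) ∧ (∀ p, (p, 1) ∈ Γ → ψ p = 1) ∧
    ∀ p ∈ P1, ∃ a ∈ zpowers (wd tx), ∃ q ∈ P0, a * q = p := by
  obtain ⟨d1, d2⟩ := dec3 X_mem oX SX
  change 3 * Nat.card P0 ≤ _ at d1
  change _ ≤ 3 * Nat.card P0 → _ at d2
  have c1 := card_P1
  have c2 : Nat.card (alternatingGroup (Fin 9)) * Nat.card ((QA (spL tB)).subgroupOf P0) =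
      181440 * 512 := by
    rw [Nat.card_congr (subgroupOfEquivOfLe Q0_le).toEquiv, card_Q0, nat_card_alternatingGroup]
    simp [Nat.factorial]
  obtain ⟨ψ, h1, h2, h3, h4⟩ := exists_psi Γ (Q := (QA (spL tB)).subgroupOf P0)
    (R := alternatingGroup (Fin 9)) (fun σ ⟨g, e1, e2⟩ => Equiv.ext fun i => by
      have : ∀ i j : Fin 9, ∀ m < 2 ^ (nth [] tW j).length,
        dec (apC (nth [] tW j) m) = dec (apC (nth [] tW i) 1) → j = i := by decide +kernel
      obtain ⟨m, h1, h2⟩ := e2 i _ ⟨1, (by decide : ∀ i : Fin 9, 1 < 2 ^ (nth [] tW i).length) i, rfl⟩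
      refine this i (σ i) m h1 (h2.trans ?_)
      rcases rho_eq_one.1 e1 with rfl | rfl
      exacts [by rw [map_one, one_smul], by rw [co_m1, neg1_smul_C]])
    (fun q ⟨t, c, _, e⟩ => fix_Γ e fun d _ => by rw [co_qe, one_smul])
    (alt_le (wd_Γ (by decide +kernel) th1_mem (by decide +kernel))
      (wd_Γ (by decide +kernel) th2_mem (by decide +kernel))) (by omega)
  exact ⟨ψ, h1, h2, h4, d2 (by omega)⟩

/-- The centraliser of the group `⟨tx, ts⟩`. -/
noncomputable abbrev KT : Subgroup (U ≃ₗ[ℝ] U) := MM tau ⊓ Ce (wd tx) ⊓ Ce (wd ts)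

theorem P0_le : P0 ≤ KT := inf_le_inf_right _ (inf_le_inf_right _ (GG_le_MM _))

theorem zz_Q0 : zz ∈ QA (spL tB) := qe_mem_QA.2 (zero_mem _)

theorem Om_V0 : Om ∈ spL tB := ⟨1, by decide, dec_Om⟩

theorem th_K {G : Type*} [Group G] [Finite G] (κ : KT →* G) (hκ : Function.Injective κ)
    (hr : ∀ g, g * κ ⟨zz, P0_le (Q0_le zz_Q0)⟩ = κ ⟨zz, P0_le (Q0_le zz_Q0)⟩ * g →
      ∃ p : KT, p.1 ∈ GG ∧ κ p = g) : IsTh G := by
  obtain ⟨ψ, h1, h2, h3, -⟩ := exists_ψ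
  have rQ : ∀ {A : Subgroup (U ≃ₗ[ℝ] U)}, A ≤ P0 → A ≤ P0.subtype.range := fun h => by
    rwa [range_subtype]
  let τ : KT := ⟨tau, ⟨tau_mem_MM _, mem_Ce.2 tauX.symm⟩, mem_Ce.2 tauS.symm⟩
  have k : ∀ {a b : P0}, tau * a * tau⁻¹ = b → κ τ * κ.comp (inclusion P0_le) a * (κ τ)⁻¹ =
      κ.comp (inclusion P0_le) b := fun e => by
    rw [MonoidHom.comp_apply, ← map_inv, ← map_mul, ← map_mul]
    exact congrArg κ (Subtype.ext e)
  refine th_of (κ.comp (inclusion P0_le)) (hκ.comp (inclusion_injective _))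
    (z := ⟨zz, Q0_le zz_Q0⟩) (y := ⟨xO, Q0_le (qe_mem_QA.2 Om_V0)⟩) ψ h2 ?_ ?_ ?_ ?_ ?_ ?_
    (τ := κ τ) (k tri_tau.zz_conj) (by rw [← map_mul]; exact k tri_tau.xO_conj) ?_
  · ext g
    rw [mem_centralizer_singleton_iff]
    constructor
    · rintro ⟨p, rfl⟩
      rw [← map_mul, ← map_mul]
      exact congrArg _ (Subtype.ext (GG_zz p.2.1.1).symm)
    · intro h
      obtain ⟨p, h4, rfl⟩ := hr g h
      exact ⟨⟨p, ⟨h4, p.2.1.2⟩, p.2.2⟩, rfl⟩
  · rw [h1]
    refine xs_comap P0.subtype_injective (xs_QA ?_) (rQ Q0_le)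
    rintro _ ⟨m, hm, rfl⟩ e
    have : ∀ m < 2 ^ tB.length, (∀ j < 8, bt (bbN (apC tB m) (apC tB (2 ^ j))) 0 +
      bt (bbN (apC tB (2 ^ j)) (apC tB m)) 0 = 0) → dec (apC tB m) = 0 := by decide +kernel
    exact this m hm fun j hj => by
      rw [bt_bbN, bt_bbN]; exact e _ ⟨_, Nat.pow_lt_pow_right (by norm_num) hj, rfl⟩
  · rw [h1, Nat.card_congr (subgroupOfEquivOfLe Q0_le).toEquiv, card_Q0]; norm_num
  · have l : QA (Wi 0) ≤ QA (spL tB) := fun _ ⟨t, c, h, e⟩ => ⟨t, c, Wi_le 0 h, e⟩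
    have b : ∀ c ∈ Wi 0, ∀ d ∈ Wi 0, bb c d = bb d c ∧ bb c c = 0 := by
      rintro _ ⟨m, hm, rfl⟩ _ ⟨n, hn, rfl⟩
      simp only [← bt_bbN]
      revert m n
      decide +kernel
    refine ⟨(QA (Wi 0)).subgroupOf P0, h1 ▸ comap_mono l, ⟨⟨⟨?_⟩⟩, ?_⟩, ?_⟩
    · rintro ⟨a, s, c, hc, e⟩ ⟨a', t, d, hd, e'⟩
      refine Subtype.ext (Subtype.ext ?_)
      change a.1 * a'.1 = a'.1 * a.1
      rw [← show rho _ = a.1 from e, ← show rho _ = a'.1 from e', ← map_mul, ← map_mul, qe_mul,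
        qe_mul, (b c hc d hd).1, add_comm s, add_comm c]
    · rintro a ⟨s, c, hc, e⟩
      refine Subtype.ext ?_
      change a.1 ^ 2 = 1
      rw [← show rho _ = a.1 from e, sq, ← map_mul, qe_mul, (b c hc c hc).2, add_zero, two_zmod,
        two_zmod, rho_qe_zero]
    · rw [Nat.card_congr (subgroupOfEquivOfLe (l.trans Q0_le)).toEquiv, card_QA, Wi,
        card_spL (by decide +kernel)]
      rfl
  · intro p hp
    obtain ⟨g, e⟩ := p.2.1.1
    refine h3 p (fix_Γ e fun c hc => (comm_qe ?_).2)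
    rw [e]
    exact (congrArg Subtype.val
      (hp ⟨_, Q0_le ((qe_mem_QA (t := 0)).2 hc)⟩ (by rw [h1]; exact qe_mem_QA.2 hc))).symm
  · intro N hN hz hy
    have hz' : zz ∈ N.map P0.subtype := ⟨_, hz, rfl⟩
    have a : ∀ {w}, noT w = true → wd w ∈ P0 → ∀ {n m}, apL w n = m →
        dec n ∈ Wc (N.map P0.subtype) hz' → dec m ∈ Wc (N.map P0.subtype) hz' :=
      fun {w} h0 hw {n m} e h => by
        rw [← e, dec_apL]
        refine smul_mem_Wc ?_ h
        rintro _ ⟨n, hn, rfl⟩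
        rw [← wd_gw h0]
        exact ⟨_, hN.conj_mem n hn ⟨_, hw⟩, rfl⟩
    have a1 := @a th1 (by decide +kernel) th1_mem
    have a2 := @a th2 (by decide +kernel) th2_mem
    have b0 : dec 2048 ∈ Wc (N.map P0.subtype) hz' := by rw [dec_Om]; exact ⟨_, hy, rfl⟩
    have b1 := a1 (m := 7563370) (by decide +kernel) b0
    have b2 := a2 (m := 135) (by decide +kernel) b0
    have b3 := a2 (m := 12078805) (by decide +kernel) b1
    have b4 := a1 (m := 697312) (by decide +kernel) b2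
    have l : spL tB ≤ Wc (N.map P0.subtype) hz' := spL_le fun j hj => by
      change j < 8 at hj
      interval_cases j
      exacts [b0, b1, b2, b3, b4, a2 (by decide +kernel) b2, a1 (by decide +kernel) b3,
        a2 (by decide +kernel) b3]
    rw [h1]
    rintro q ⟨t, c, hc, e⟩
    obtain ⟨n, hn, e'⟩ := qe_mem_of_zz hz' (l hc) t
    exact (Subtype.ext (e'.trans e) : n = q) ▸ hn
  · have hq : rho (qe 0 (dec 7563370)) ∈ QA (spL tB) := qe_mem_QA.2 ⟨2, by decide, rfl⟩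
    have hq' : tau * rho (qe 0 (dec 7563370)) * tau⁻¹ ∈ KT :=
      mul_mem (mul_mem τ.2 (P0_le (Q0_le hq))) (inv_mem τ.2)
    have c1 : Commute (zz * xO) (rho (qe 0 (dec 7563370))) :=
      (GG_zz ⟨_, rfl⟩).mul_left (commutatorElement_eq_one_iff_commute.1 (by
        rw [xO, qe_commutator, ← rho_qe_zero, ← dec_Om, ← bt_bbN, ← bt_bbN]
        exact congrArg (fun t => rho (qe t 0)) (by decide +kernel)))
    have c2 := c1.conj tau
    rw [pre_tau.zx_conj] at c2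
    refine ⟨⟨_, Q0_le hq⟩, h1 ▸ hq, ⟨_, ⟨mem_GG_of_comm (MM_le_Aut tri_tau hq'.1.1) c2.symm,
      hq'.1.2⟩, hq'.2⟩, fun h => ?_, k rfl⟩
    rw [h1] at h
    obtain ⟨t, c, -, e⟩ := h
    have e1 := qe_commutator 0 0 (dec 7563370) c0.1
    have e2 := qe_commutator t 0 c c0.1
    rw [show bb (dec 7563370) c0.1 + bb c0.1 (dec 7563370) = 1 by rw [c0_dec]; decide +kernel] at e1
    rw [show rho (qe t c) = tau * rho (qe 0 (dec 7563370)) * tau⁻¹ from e, ← tt_eq,
      ← mul_inv_eq_iff_eq_mul.2 tau_tt.eq, ← conjugate_commutatorElement, tt_eq, e1, ← zz,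
      tri_tau.zz_conj] at e2
    exact Om_ne_zero (rho_qe_inj e2).2

theorem th_KT [Finite (MM tau)] : IsTh KT := by
  have : Finite KT := Finite.of_injective _ (inclusion_injective (inf_le_left.trans inf_le_left))
  exact th_K (MonoidHom.id _) Function.injective_id fun g hg =>
    ⟨g, mem_GG_of_comm (MM_le_Aut tri_tau g.2.1.1) (congrArg Subtype.val hg), rfl⟩

theorem card_quot {G : Type} [Group G] {C K H : Subgroup G} [Finite C] (hKC : K ≤ C) {x z : G}
    (hx : x ∈ C) (hc : ∀ g ∈ C, Commute x g) (o : orderOf x = 3) (hz : z ∈ K) (z2 : z * z = 1)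
    (hK : ∀ a ∈ zpowers x, a ∈ K → a = 1)
    (hd : ∀ g ∈ C, g * z = z * g → ∃ a ∈ zpowers x, ∃ q ∈ K, q ∈ H ∧ a * q = g) {n : ℕ}
    (th : ∀ {Q : Type} [Group Q] [Finite Q] (κ : K →* Q), Function.Injective κ →
      (∀ g, g * κ ⟨z, hz⟩ = κ ⟨z, hz⟩ * g → ∃ p : K, p.1 ∈ H ∧ κ p = g) → Nat.card Q = n) :
    Nat.card C = n * 3 := by
  have cm : ∀ g ∈ C, ∀ a ∈ zpowers x, Commute a g := fun g hg a ⟨k, e⟩ => e ▸ (hc g hg).zpow_left k
  have hN : ((zpowers x).subgroupOf C).Normal := ⟨fun a ha g => by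
    rw [mem_subgroupOf, coe_mul, coe_mul, ← (cm g g.2 a ha).eq, coe_inv, mul_inv_cancel_right]
    exact ha⟩
  have := th ((QuotientGroup.mk' ((zpowers x).subgroupOf C)).comp (inclusion hKC))
    ((injective_iff_map_eq_one _).2 fun a ha => Subtype.ext (hK _
      (mem_subgroupOf.1 ((QuotientGroup.eq_one_iff (inclusion hKC a)).1 ha)) a.2)) fun g hg => by
      obtain ⟨g, rfl⟩ := QuotientGroup.mk'_surjective _ g
      rw [MonoidHom.comp_apply, ← map_mul, ← map_mul] at hg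
      have h1 : (g.1 * z)⁻¹ * (z * g.1) ∈ zpowers x := mem_subgroupOf.1 (QuotientGroup.eq.1 hg)
      have h3 := one_of_23 (o ▸ pow_orderOf_eq_one x) h1 (sq_of_comm z2 (cm z (hKC hz) _ h1))
      obtain ⟨a, ha, q, hq, hq', e⟩ := hd g g.2 (inv_mul_eq_one.1 h3)
      refine ⟨⟨q, hq⟩, hq', QuotientGroup.eq.2 ?_⟩
      change q⁻¹ * g.1 ∈ zpowers x
      rw [← e, (cm q (hKC hq) a ha).eq, inv_mul_cancel_left]
      exact ha
  rw [card_eq_card_quotient_mul_card_subgroup ((zpowers x).subgroupOf C), this,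
    Nat.card_congr (subgroupOfEquivOfLe (zpowers_le.2 hx)).toEquiv, Nat.card_zpowers, o]

theorem card_CX [Finite (MM tau)] : Nat.card ↥(MM tau ⊓ Ce (wd tx)) = 90745943887872000 * 3 := by
  obtain ⟨-, -, -, -, hd⟩ := exists_ψ
  have : Finite ↥(MM tau ⊓ Ce (wd tx)) := Finite.of_injective _ (inclusion_injective inf_le_left)
  refine card_quot (K := KT) inf_le_left ⟨wd_mem _, X_mem.2⟩ (fun g hg => mem_Ce.1 hg.2) oX _
    zz_mul_self (fun a ha h => zp_cent X3 SX ha h.2) (fun g hg e => ?_)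
    fun κ h1 h2 => (th_K κ h1 h2).2
  obtain ⟨a, ha, q, hq, e⟩ := hd g ⟨mem_GG_of_comm (MM_le_Aut tri_tau hg.1) e, hg.2⟩
  exact ⟨a, ha, q, P0_le hq, hq.1.1, e⟩

theorem exists_Th [Finite (MM tau)] : ∃ x : MM tau, orderOf x = 3 ∧
    Nat.card (centralizer ({x} : Set (MM tau))) = 272237831663616000 ∧
    ∃ K : Subgroup (MM tau), K ≤ centralizer ({x} : Set (MM tau)) ∧ IsTh K := by
  have e : centralizer ({⟨wd tx, wd_mem _⟩} : Set (MM tau)) =
      (MM tau ⊓ Ce (wd tx)).subgroupOf (MM tau) := by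
    ext g
    rw [mem_subgroupOf, mem_inf, mem_centralizer_singleton_iff, mem_centralizer_singleton_iff,
      Subtype.ext_iff]
    exact (and_iff_right g.2).symm
  have f := subgroupOfEquivOfLe (inf_le_left.trans inf_le_left : KT ≤ MM tau)
  have := th_KT.1
  refine ⟨⟨wd tx, wd_mem _⟩, (orderOf_mk _ _).trans oX, ?_, KT.subgroupOf _,
    e ▸ comap_mono inf_le_left, f.isSimpleGroup, (Nat.card_congr f.toEquiv).trans th_KT.2⟩
  rw [e, Nat.card_congr (subgroupOfEquivOfLe inf_le_left).toEquiv, card_CX]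

end H10.Mon.MS
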