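import Mathlib
import Cfsg.Prelude.Def_Spor_Fi23
import Cfsg.Agent.H29.Planes

/-!
# Braid moves; the relations of `Fi23`
-/

set_option autoImplicit false
set_option linter.all false
set_option maxRecDepth 100000

namespace H10.Mon.MS

open Cfsg H29 Cfsg.Spor

section Cox

variable {G : Type*} [Group G]

/-- The value of a word. -/
def ev (F : ℕ → G) : List ℕ → G
  | [] => 1
  | x :: l => F x * ev F l

theorem ev_app (F : ℕ → G) : ∀ u v : List ℕ, ev F (u ++ v) = ev F u * ev F v
  | [], v => (one_mul _).symm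
  | x :: u, v => by rw [List.cons_append, ev, ev, ev_app F u v, mul_assoc]

def rep (w : List ℕ) : ℕ → List ℕ
  | 0 => []
  | n + 1 => w ++ rep w n

theorem ev_rep (F : ℕ → G) (w : List ℕ) : ∀ n, ev F (rep w n) = ev F w ^ n
  | 0 => (pow_zero _).symm
  | n + 1 => by rw [rep, ev_app, ev_rep F w n, pow_succ']

theorem ev_sub {F : ℕ → G} {a : ℕ} {K : List ℕ} (h : ev F K = F a) :
    ∀ w : List ℕ, ev F (w.flatMap fun x => if x = a then K else [x]) = ev F w
  | [] => rfl
  | x :: w => by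
    rw [List.flatMap_cons, ev_app, ev_sub h w, ev]
    split_ifs with e
    · rw [h, e]
    · rw [ev, ev, mul_one]

/-- The letters are involutions; `0xmxy` in `L` stands for `(x y) ^ m = 1`. -/
structure Cx (F : ℕ → G) (L : List ℕ) : Prop where
  zero : F 0 = 1
  sq : ∀ x, F x * F x = 1
  rel : ∀ n ∈ L, (F (n / 16 % 16) * F (n % 16)) ^ (n / 256) = 1

noncomputable def hasR (L : List ℕ) (m x y : ℕ) : Bool :=
  lit (256 * m + 16 * x + y) fun a => lit (256 * m + 16 * y + x) fun b =>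
    !H29.allL L fun n => !(Nat.beq n a || Nat.beq n b)

theorem swap_pow' {x y : G} {n : ℕ} (h : (x * y) ^ n = 1) : (y * x) ^ n = 1 := by
  rw [show y * x = x⁻¹ * (x * y) * x⁻¹⁻¹ by group, conj_pow, h]; group

theorem comm_sq {x y : G} (hx : x * x = 1) (hy : y * y = 1) : (x * y) ^ 2 = 1 ↔ Commute x y := by
  rw [pow_two, mul_eq_one_iff_eq_inv, _root_.mul_inv_rev, inv_eq_of_mul_eq_one_right hx,
    inv_eq_of_mul_eq_one_right hy]
  rfl

theorem braid_cube {x y : G} (hx : x * x = 1) (hy : y * y = 1) :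
    (x * y) ^ 3 = 1 ↔ x * y * x = y * x * y := by
  rw [show (x * y) ^ 3 = x * y * x * (y * x * y) by rw [pow_three']; group, mul_eq_one_iff_eq_inv,
    _root_.mul_inv_rev, _root_.mul_inv_rev, inv_eq_of_mul_eq_one_right hx,
    inv_eq_of_mul_eq_one_right hy, ← mul_assoc]

variable {F : ℕ → G} {L : List ℕ}

theorem Cx.pw (h : Cx F L) {m x y : ℕ} (hx : x < 16) (hy : y < 16) (e : hasR L m x y = true) :
    (F x * F y) ^ m = 1 := by
  simp only [hasR, lit_eq, Bool.not_eq_true', ← Bool.not_eq_true, allL_true, Bool.or_eq_true,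
    H29.beq_true, not_forall, not_not] at e
  obtain ⟨n, hn, rfl | rfl⟩ := e
  · have := h.rel _ hn
    rwa [show (256 * m + 16 * x + y) / 16 % 16 = x by omega,
      show (256 * m + 16 * x + y) % 16 = y by omega,
      show (256 * m + 16 * x + y) / 256 = m by omega] at this
  · have := h.rel _ hn
    rw [show (256 * m + 16 * y + x) / 16 % 16 = y by omega,
      show (256 * m + 16 * y + x) % 16 = x by omega,
      show (256 * m + 16 * y + x) / 256 = m by omega] at this
    exact swap_pow' this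

theorem Cx.cm (h : Cx F L) {x y : ℕ} (hx : x < 16 := by decide) (hy : y < 16 := by decide)
    (e : hasR L 2 x y = true := by decide +kernel) : Commute (F x) (F y) :=
  (comm_sq (h.sq x) (h.sq y)).1 (h.pw hx hy e)

theorem Cx.br (h : Cx F L) {x y : ℕ} (hx : x < 16 := by decide) (hy : y < 16 := by decide)
    (e : hasR L 3 x y = true := by decide +kernel) : F x * F y * F x = F y * F x * F y :=
  (braid_cube (h.sq x) (h.sq y)).1 (h.pw hx hy e)

theorem Cx.inv (h : Cx F L) (x : ℕ) : (F x)⁻¹ = F x := inv_eq_of_mul_eq_one_right (h.sq x)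

theorem Cx.ev_rev (h : Cx F L) : ∀ w : List ℕ, ev F w.reverse = (ev F w)⁻¹
  | [] => inv_one.symm
  | x :: w => by
    rw [List.reverse_cons, ev_app, h.ev_rev w, ev, ev, ev, mul_one, _root_.mul_inv_rev, h.inv]

theorem Cx.add (h : Cx F L) {L' : List ℕ}
    (h' : ∀ n ∈ L', (F (n / 16 % 16) * F (n % 16)) ^ (n / 256) = 1) : Cx F (L' ++ L) :=
  ⟨h.zero, h.sq, fun n hn => (List.mem_append.1 hn).elim (h' n) (h.rel n)⟩

/-- The word of the digits in base 16. -/
def evN (F : ℕ → G) (n : ℕ) : G := ev F (Nat.digits 16 n)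

theorem Cx.evN_eq (h : Cx F L) (n : ℕ) : evN F n = F (n % 16) * evN F (n / 16) := by
  rcases n.eq_zero_or_pos with rfl | hn
  · rw [h.zero, one_mul]
  · rw [evN, Nat.digits_def' (by norm_num) hn]; rfl

theorem Cx.evN_add (h : Cx F L) {x : ℕ} (hx : x < 16) (n : ℕ) :
    evN F (x + 16 * n) = F x * evN F n := by
  rw [h.evN_eq, show (x + 16 * n) % 16 = x by omega, show (x + 16 * n) / 16 = n by omega]

theorem Cx.evN_lo (h : Cx F L) {a b : ℕ} (e : evN F a = evN F b) :
    ∀ p r, r < 16 ^ p → evN F (r + 16 ^ p * a) = evN F (r + 16 ^ p * b)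
  | 0, r, hr => by rwa [show r = 0 by omega, pow_zero, one_mul, one_mul, zero_add, zero_add]
  | p + 1, r, hr => by
    have k : ∀ c, r + 16 ^ (p + 1) * c = r % 16 + 16 * (r / 16 + 16 ^ p * c) := fun c => by
      rw [pow_succ', mul_assoc]; omega
    rw [k, k, h.evN_add (Nat.mod_lt _ (by norm_num)), h.evN_add (Nat.mod_lt _ (by norm_num)),
      h.evN_lo e p _ (by rw [pow_succ'] at hr; omega)]

/-- One move at the beginning of a word. -/
noncomputable def mv1 (L : List ℕ) (n : ℕ) : ℕ :=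
  lit (n % 16) fun x => lit (n / 16 % 16) fun y => lit (n / 256) fun t =>
    Bool.rec (Bool.rec (Bool.rec n (y + 16 * (x + 16 * (y + 16 * (t / 16))))
      (and2 (Nat.beq (t % 16) x) (hasR L 3 x y))) (y + 16 * (x + 16 * t)) (hasR L 2 x y)) t
      (Nat.beq x y)

theorem Cx.mv1 (h : Cx F L) (n : ℕ) : evN F (mv1 L n) = evN F n := by
  have hx : n % 16 < 16 := Nat.mod_lt _ (by norm_num)
  have hy : n / 16 % 16 < 16 := Nat.mod_lt _ (by norm_num)
  have e : evN F n = F (n % 16) * F (n / 16 % 16) * evN F (n / 256) := by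
    rw [h.evN_eq, h.evN_eq (n / 16), Nat.div_div_eq_div_mul, mul_assoc]
  simp only [MS.mv1, lit_eq]
  cases h1 : Nat.beq (n % 16) (n / 16 % 16)
  · cases h2 : hasR L 2 (n % 16) (n / 16 % 16)
    · cases h3 : and2 (Nat.beq (n / 256 % 16) (n % 16)) (hasR L 3 (n % 16) (n / 16 % 16))
      · rfl
      · obtain ⟨h4, h5⟩ := and2_true.1 h3
        dsimp only
        rw [e, h.evN_eq (n / 256), H29.beq_true.1 h4, h.evN_add hy, h.evN_add hx, h.evN_add hy,
          ← mul_assoc, ← mul_assoc, ← mul_assoc, h.br hx hy h5]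
    · dsimp only
      rw [e, h.evN_add hy, h.evN_add hx, ← mul_assoc, (h.cm hx hy h2).eq]
  · dsimp only
    rw [e, ← H29.beq_true.1 h1, h.sq, one_mul]

/-- The moves at the positions given by the digits of `s` in base 256. -/
noncomputable def coxR (L : List ℕ) (k : ℕ) : ℕ → ℕ → ℕ :=
  Nat.rec (fun _ r => r) (fun _ ih s r => lit (16 ^ (s % 256)) fun q =>
    lit (r % q + q * lit (r / q) (mv1 L)) fun r' => lit (s / 256) fun s' => ih s' r') k

theorem Cx.coxR (h : Cx F L) : ∀ k s r, evN F (coxR L k s r) = evN F r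
  | 0, _, _ => rfl
  | k + 1, s, r => by
    refine (h.coxR k _ _).trans ?_
    rw [lit_eq, h.evN_lo (h.mv1 _) _ _ (Nat.mod_lt _ (by positivity)), Nat.mod_add_div]

theorem Cx.one (h : Cx F L) (w : List ℕ) (k s : ℕ)
    (e : (∀ x ∈ w, x < 16) ∧ MS.coxR L k s (w.foldr (fun x r => x + 16 * r) 0) = 0) :
    ev F w = 1 := by
  have : ∀ w : List ℕ, (∀ x ∈ w, x < 16) → evN F (w.foldr (fun x r => x + 16 * r) 0) = ev F w := by
    intro w hw
    induction w with
    | nil => rfl
    | cons x w ih =>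
      rw [List.foldr_cons, h.evN_add (hw x (by simp)), ih fun y hy => hw y (by simp [hy]), ev]
  rw [← this w e.1, ← h.coxR k s, e.2]; rfl

end Cox

def cK : List ℕ := [7, 4, 3, 2, 5, 4, 3, 6, 5, 4, 7, 4, 5, 6, 3, 4, 5, 2, 3, 4, 7]
def cv : List ℕ := [4, 3, 7, 2, 4, 9, 3, 7, 4]
def cx : List ℕ := [7, 9, 4, 7, 5, 4, 6, 5]
def cR1 : List ℕ := [6, 9, 7, 3, 1, 9, 2, 1, 4, 7, 9, 3, 2, 1, 4, 7, 3, 2, 4]
def cR2 : List ℕ := [7, 4, 3, 2, 8, 9]
def cx2 : List ℕ := [8, 5, 4, 7, 3]
def cE7 : List ℕ := [1, 2, 3, 4, 5, 6, 7]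
def csp : List ℕ := [4, 3, 2, 4, 5, 6, 4, 7, 8]
def st1 : ℕ := 0x102030405060708090a0b0c0d0e0f0e0f1011121314161718191a1c15161718190f1011121314161718191b1c1d101112131416111212131416181a1b1c1e1f212223241d1e17151614151618191b1c15161718191a1b1c1d1c1d1e1f2021222425262728292a232425262728291d1e1f20212224231e1f2021221f2020212224262523242223242627292a2b2d2e303132333536342c2d252627292b2d2e2f3031322a28292324252627282924252627282925262627282a2c2d2b2928292a2b2d2f313335363738393a3b3c3d3e4042444648494a4b4c4d4543444142433f4041423230312e2f302c2d2e2f292a2b2c2d2e2f30313334353638393b3d3e4041424344464748494b4d4e4f5051523a2b2c2d2c2d2d2e2f303132333537393a3b3d3e3f404243454647494a4c4d4e50515253555657595a5b584b4c4e4f50515354555648494a4b38393b3c3d3e40414243454748494b4c4d4e4f515253545556585a575846443637393a3b3c3e3f404142434446484745463435363132333435323334353334353435353637393b3d3f41424344454748494a4c4d4f515254555657585a5b5c5d5f6162605e5f595a5b5c5d5e50515254555658595a5c5758594e4b4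c4d4e50515254565758595a555653544f505152464748494a4b4c4d4e4f50515254565857555653545540414243454647494b4c4d4e4f515254555658595a5b5c5e5f605d5e5f505148444546473e3f404143444647484942433c3d3a3b3c3d3f414243444647494a4c4d4f50515254555658595a5c5d5f605e5b5c53545556585a5b5c5d59574e4b4c484a4c4d4e4f505152535455565759584b4c4945464748403e38393a3b3c3d3e404244464748494a4c4d4f5152535456585a5b5c5d5e5f57585a5b5550515254555657585a4e4f50525354555657584b4c4d4e5051525354555657454647484a4c4d4e4f504943414243454648494a4c4d4e504b4c4d3f404142434546484a4b4d4e4f494a4748494445464748373838393a3b3c3d3f404142433e3f404142393a3b3c3d3a3b3c3d3f404243444647484a4b4c4e4f505153545557585a5b5c5d5f606163646567686a6b6c6d6e66675e5f61626364656656574d454648494a4b3e4041424344464748494a4b4d4f505153555657585a5b5d5e5f606264656667686a6b6c696a6b63615c5d5e606162595a5b5c5d5e54524e4f5051525456585a5b5c5d5e5f6062636566646561626364595a5b5758595556575354554c4d4e4f50515253545557595b5d5e6062646566676963646567686162636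566675f6061636465665c5e5f5a5b5c5e58595a5b5c565758595a5b3b3c3d3f414243454748494a4c4e4f505152545657585a5b5c5d534d4b4c4647484a444546474840414344454748494a4c4d4f505253545657585a5b4e4f505254555657514b4c4d4e4f503e3f404143444547484a4c4e4f5051525355565758545556574b4c4e4f505153494a4b4648494a4b4c4e4f514d4e4243444546483d3e3f4041424344454647484a4c4e505152535557595a5b5d5f61636465666768696a6c6d6e6f7172747678797a757374707172735e5c5d58595b5c565758595b5455565758594d4b4c494a4b3e3f414244454748494a4b4d4e4f5153545557585a5b5c5d5f616263646567686a6b6c6d6f70717273757677797b78747576774041494a4b4d4e4f515253555758595a5c5d5f60616364656768696a6c6d6e6f717273757678797a7b7475626365666768696a6c6d6e6f71737475767879777872705b5d5e5f6061636465666768696a6c6d6e6f7072747678777573747172736b6c6d6e6f7071544a4b4c4d4f505153555657595a5c5d5e606263646567686a6b6c6e6f70716667616263656667686a6b6c6e645f6061625b5c5e5f6062636465666768616258595a5b5c5e5f52535557595a5b5c5d5e5f606263656768696a6b6c646162635859565754554e4f50515253545557595b5c5d5e6062636465675f5856575c5d5e5d5e5f606263646667696a6566636465666768696a6c6d6f707273757778797a7b7d7e7f8081827674717374756e6f70716b6c6d6e6f70666768696a6c6e70717273747577787a7b7c7d7f808179767778797b7c7a7b6f6d6b6c696a6c6d6e6f7173747577797a7b7c7d7e7f787677787a797273757670717273757677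
def st2 : ℕ := 0x1020304050607090b08070809090a0b0c0d0a0b0c0d0e0b0c0d0f1012130e0f0d0e0f100f1012131415161112111213141516181917151617161718191b1a17181819191a1a1b1c1d1f1b1c1d1f20211e1f201d1e1f20212224212223222324252627282a2b2c2d2e292a2728292a28292a2b2c2e302f2d2e292a2a2b2b2c2c2d2e2f312d2e2f3132333031322f303132333436333435343536373637383738393a3b3c3e3f40393a3b3a3b3c3d3f404244413e3f403b3c3d3c3d3d3e3f3e3f3f404141424344454648494a454647464748494a4b4c4e4f505152544d4e4b4c4d4e4c4d4e4f50525456575351524d4e4f5051525455535152535253545557565354545555565757585859595a5b5c5a5b5c5d5b5c5d5e5c5d5d5e5f5f60616261626263646566686a6c6d6e6f7172747678797a7b7c7d7e7f808183848688898a8b8d8f909192949697999a9b9c9d9fa0a2a3a5a6a7a9aaacadaeb0b2b4b5b6b7b8b9babbbcbdb1b2b4b5afb0b1abacaeafb0b1b2a8a9aaabacaea1a2a3a5a7a8a9abacadaeafb0b1a6a49e9fa0a1a2a3a4a6a8a9abaca7a8a5a6a7938c85828384757678797a7374757678707172737475766b6c6d6f7172736e696a6b6d6e6f716768696a6b6d6f706c656668696a6c6d6e6f707273757778797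a7c7e7f808183858687888a8b8d8e8f919294959698999b9c9d9fa1a3a4a5a6a7a8a9aaabacaeafb1b3b4b5b7b9babbbcbdbfb8b6b7b2b3b5b0b1b2b3a0a1a3a49e9fa09a9b9d9e9fa0a19798999a9b9d909192949697989a9b9c9d9e9fa09593898b8c8d8e8f909192939597989a9b9697949596827b747172736667686a6b6c6e6f707274757677797a7c7d7e808183848587888a8b8c8e9092939495969798999a9b9d9ea0a2a3a4a6a8a9aaabacaeafb1b2b4b5b6b7b9babcbdbfc0a7a5a6a1a2a49fa0a1a28f9092938d8e8f90898a8c8d8e868788898a8c7f808183858788898a8b8c8d8e8f868784858283787a7b7c7d7e7f808182838587898a868485716768696a6c6d6e707273747677797a7b7d7f8182838485868788898a8c8d8f919293959798999a9b9d9ea0a1a3a4a5a6a8a9abacaeafb0b1b3b4b6b7b9babcbdbfc0c19694959091938e8f90917e7c7d78797b7c75767778797b6f707274767778797a7b7c7576737471726b6c6d6e6f707172747678797573747a7b7c7d94959697aeafb0b1c8c9cacb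

/-- Relations inside `2^(1+24).Co1`; the letters are `a b c d e f h i k j t u e' g`. -/
def cL0 : List ℕ := [0x312, 0x323, 0x334, 0x347, 0x378, 0x379, 0x213, 0x214, 0x216, 0x217, 0x218,
  0x21a, 0x21b, 0x21c, 0x224, 0x226, 0x227, 0x228, 0x229, 0x22a, 0x22b, 0x22c, 0x236, 0x237, 0x238,
  0x239, 0x23a, 0x23b, 0x23c, 0x246, 0x248, 0x249, 0x24a, 0x24b, 0x267, 0x268, 0x269, 0x26a, 0x26b,
  0x27a, 0x27b, 0x27c, 0x28a, 0x28b, 0x28c, 0x2ab, 0x2bc]
/-- Relations of `e`. -/
def cL1 : List ℕ := [0x354, 0x356, 0x215, 0x225, 0x235, 0x275, 0x285, 0x295, 0x2a5, 0x2b5]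
def cL2 : List ℕ := [0x35d, 0x3da, 0x2d6]
def cL3 : List ℕ := [0x3e6, 0x3ea, 0x2e5, 0x21e, 0x22e, 0x23e, 0x24e, 0x27e, 0x28e, 0x2be]

/-- The letters of the generators. -/
noncomputable def fI (x : Fi23.Gen) : ℕ := Fi23.Gen.rec (motive := fun _ => ℕ) 1 2 3 4 5 6 14 10 7 8 x

theorem fi_alg {G : Type*} [Group G] {F : ℕ → G} (h : Cx F (cL1 ++ cL0))
    (h13 : F 13 = F 12 * F 5 * F 12) (h14 : F 14 = F 6 * F 5 * F 13 * F 5 * F 6)
    (huf : F 12 * F 6 * F 12 = F 10) (hn : Commute ((ev F cv)⁻¹ * F 6) (F 5))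
    (hu : Commute (F 12) (F 5 * F 13 * F 5)) (hd : Commute (F 4) (F 5 * F 13 * F 5))
    (r1 : ev F cR1 = 1) (r2 : ev F cR2 ^ 5 = 1) :
    (∀ x, Commute (F 11) (F (fI x))) ∧
    (∀ x y, (F (fI x) * F (fI y)) ^ coxLabel Fi23.edges x y = 1) ∧
      ∀ r ∈ Fi23.extra, FreeGroup.lift (fun x => F (fI x)) r = 1 := by
  have u2 := h.sq 12
  have cj : ∀ x, F 12 * (F 12 * x * F 12) * F 12 = x := fun x => by
    rw [← mul_assoc, ← mul_assoc, u2, one_mul, mul_assoc, u2, mul_one]
  have cp : ∀ {x y m}, (x * y) ^ m = 1 → (F 12 * x * F 12 * (F 12 * y * F 12)) ^ m = 1 :=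
    fun {x y m} e => by
      rw [show F 12 * x * F 12 * (F 12 * y * F 12) = F 12 * (x * (F 12 * F 12) * y) * (F 12)⁻¹ by
        rw [h.inv]; group, u2, mul_one, conj_pow, e, mul_one, mul_inv_cancel]
  have h2 : Cx F (cL2 ++ (cL1 ++ cL0)) := h.add (by
    simp only [cL2, List.mem_cons, List.not_mem_nil, or_false, forall_eq_or_imp, forall_eq,
      Nat.reduceDiv, Nat.reduceMod]
    refine ⟨(braid_cube (h.sq _) (h.sq _)).2 ?_, ?_, ?_⟩
    · calc _ = F 12 * (F 5 * F 13 * F 5) * F 12 := by rw [hu.eq, mul_assoc _ (F 12), u2, mul_one]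
        _ = _ := by simp only [h13, mul_assoc]
    · rw [h13, ← huf]; exact cp (h.pw (x := 5) (y := 6) (by norm_num) (by norm_num) (by decide +kernel))
    · rw [h13, ← cj (F 6), huf]
      exact cp (h.pw (x := 5) (y := 10) (by norm_num) (by norm_num) (by decide +kernel)))
  have g : ∀ {x}, Commute (F x) (F 5) → Commute (F x) (F 6) → Commute (F x) (F 12) →
      (F x * F 14) ^ 2 = 1 := fun a b c => (comm_sq (h.sq _) (h.sq _)).2 (by
    rw [h14, h13]
    exact (((b.mul_right a).mul_right ((c.mul_right a).mul_right c)).mul_right a).mul_right b)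
  have w : ∀ x m, (F 14 * F x) ^ m = ev F (rep [6, 5, 13, 5, 6, x] m) := fun x m => by
    simp only [ev_rep, ev, h14, mul_assoc, mul_one]
  have h3 : Cx F (cL3 ++ (cL2 ++ (cL1 ++ cL0))) := h2.add (by
    simp only [cL3, List.mem_cons, List.not_mem_nil, or_false, forall_eq_or_imp, forall_eq,
      Nat.reduceDiv, Nat.reduceMod, w]
    refine ⟨h2.one _ 16 0x1020304060406070807080a0b0b10 (by decide +kernel),
      h2.one _ 16 0x102030405060708090b0c090a0a0b (by decide +kernel),
      h2.one _ 9 0x102030405060809 (by decide +kernel), g h.cm h.cm h.cm, g h.cm h.cm h.cm,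
      g h.cm h.cm h.cm, (comm_sq (h.sq _) (h.sq _)).2 ?_, g h.cm h.cm h.cm, g h.cm h.cm h.cm,
      g h.cm h.cm h.cm⟩
    rw [h14, mul_assoc (F 6), mul_assoc (F 6)]
    exact ((h.cm (y := 6)).mul_right hd).mul_right h.cm)
  have k : ev F cK = F 9 := by
    have a := h.one (cx ++ [6] ++ cx.reverse ++ [9]) 13 0x102030405060708090b0d0f (by decide +kernel)
    have b := h.one (cx ++ [5] ++ cv ++ [5] ++ cv.reverse ++ [5] ++ cx.reverse ++ cK.reverse) 65
      0x10203030405060506070809070a0b0c0d0e0c0d0e0f0d0e0f0f10101112131416141516151617181819191a1b1c1b1c1e1f2021222324252021222324222324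
      (by decide +kernel)
    simp only [ev_app, h.ev_rev, ev, mul_one] at a b
    have c : ev F cv * F 5 * (ev F cv)⁻¹ = F 5 * F 6 * F 5 := by
      calc _ = ev F cv * ((ev F cv)⁻¹ * F 6 * F 5 * ((ev F cv)⁻¹ * F 6)⁻¹) * (ev F cv)⁻¹ := by
            rw [hn.eq, mul_inv_cancel_right]
        _ = F 6 * F 5 * (F 6)⁻¹ := by group
        _ = _ := by rw [h.inv, h.br]
    rw [mul_inv_eq_one] at b
    rw [← b, ← h.inv 9, ← mul_eq_one_iff_eq_inv.1 a]
    calc _ = ev F cx * (F 5 * (ev F cv * F 5 * (ev F cv)⁻¹) * F 5) * (ev F cx)⁻¹ := by group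
      _ = _ := by rw [c, ← mul_assoc (F 5), ← mul_assoc (F 5), h.sq, one_mul, mul_assoc (F 6), h.sq,
        mul_one]
  refine ⟨fun x => by cases x <;> exact h3.cm, fun x y => ?_, ?_⟩
  · by_cases e : x = y
    · rw [e, coxLabel, if_pos rfl, pow_one, h.sq]
    · refine h3.pw (by cases x <;> decide) (by cases y <;> decide) ?_
      revert e
      cases x <;> cases y <;> decide +kernel
  · simp only [Fi23.extra, List.mem_cons, List.not_mem_nil, or_false, forall_eq_or_imp, forall_eq,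
      map_mul, map_pow, FreeGroup.lift_apply_of]
    have a := h.one (rep cE7 9 ++ (cR1.flatMap fun x => if x = 9 then cK else [x]).reverse) 1575 st1
      (by decide +kernel)
    have b := h.one (cx2 ++ rep csp 10 ++ cx2.reverse ++
      (rep (cR2.flatMap fun x => if x = 9 then cK else [x]) 5).reverse) 872 st2 (by decide +kernel)
    simp only [ev_app, h.ev_rev, ev_rep, ev_sub k, r1, r2, inv_one, mul_one, conj_eq_one_iff] at a b
    simp only [cE7, csp, ev, mul_one, ← mul_assoc] at a b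
    exact ⟨b, a⟩

end H10.Mon.MS
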