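import Mathlib
import Cfsg.Agent.H19.MS3
import Cfsg.Agent.H19.MS7
import Cfsg.Agent.S1697

/-!
# The Fischer group `Fi23` in the centraliser of an involution
-/

set_option autoImplicit false
set_option linter.all false
set_option maxRecDepth 100000
set_option Elab.async false

namespace H10.Mon.MS

open Cfsg H9 H29 Matrix Cfsg.Spor

def fm : List ℕ := [12, 16, 0, 16, 53, 3, 16, 8, 16, 8, 16, 28, 30, 31, 33, 34, 36, 37, 38, 39, 40, 41, 42, 43, 45, 49, 50, 53, 21, 39]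
def fa : List ℕ := [21, 23, 25, 28, 30, 33, 34, 36, 37]
def fb : List ℕ := [1, 2, 11, 10, 14, 10, 7, 12, 18, 19, 16, 29, 31, 33, 37, 38, 40, 42, 45, 49, 51, 52]
def fc : List ℕ := [2, 0, 3, 3, 8, 2, 12, 8, 18, 19, 16, 12, 6, 29, 35, 36, 41, 42, 43, 45, 46, 47, 49, 50]
def fd : List ℕ := [17, 32, 37, 39, 52]
def ff : List ℕ := [32, 33, 34, 39]
def fh : List ℕ := [8, 4, 11, 1, 11, 7, 13, 18, 19, 16, 3, 0, 4, 28, 31, 32, 33, 34, 37, 39, 41, 44, 46, 49, 52]
def fi : List ℕ := [19, 33, 36, 38]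
def fk : List ℕ := [1, 6, 10, 15, 4, 4, 5, 11, 20, 24, 26, 27, 16, 0, 1, 16, 0, 10, 12, 16, 28, 29, 30, 33, 34, 36, 39, 42, 43, 45, 50]
def fj : List ℕ := [33, 34, 35, 36, 37]
def ft : List ℕ := [32, 35, 36, 37, 39, 52]
def fu : List ℕ := [0, 12, 12, 14, 4, 5, 5, 5, 33, 34, 36, 39, 40, 42, 48, 49, 52]
def fn : List ℕ := [2, 11, 0, 6, 10, 6, 17, 18, 19, 20, 24, 25, 26, 16, 0, 1, 16, 15, 6, 10, 30, 32, 34, 35, 36, 37, 40, 41, 42, 44, 45, 46, 50, 51, 52]
def fG : List ℕ := [28, 41, 45, 47, 50]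
def fWf : List ℕ := [0, 0, 21]
def fWt : List ℕ := [0, 13, 7, 44]
def fr : List ℕ := [2, 7, 1, 3, 0, 10, 0, 10, 17, 22, 23, 24, 25, 27, 16, 6, 11, 12, 16, 10, 28, 30, 32, 33, 35, 39, 41, 42, 46, 47]
def fw : List (List ℕ) := [[], fa, fb, fc, fd, [], ff, fh, fi, fk, fj, ft, fu]

attribute [local irreducible] wd

theorem fi_b : Hd (aW fm) rt5 := Hd.ax1.run fm (by decide +kernel)

theorem fi_fix {w : List ℕ} (h : (runW mv w rt5).beq rt5 = true) : Commute (wd w) (iW fm) :=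
  comm_iW (wd_mem _) (fi_b.fix h)

theorem fi_a : Commute (wd fa) (iW fm) := fi_fix (by decide +kernel)
theorem fi_b' : Commute (wd fb) (iW fm) := fi_fix (by decide +kernel)
theorem fi_c : Commute (wd fc) (iW fm) := fi_fix (by decide +kernel)
theorem fi_h : Commute (wd fh) (iW fm) := fi_fix (by decide +kernel)
theorem fi_i : Commute (wd fi) (iW fm) := fi_fix (by decide +kernel)
theorem fi_k : Commute (wd fk) (iW fm) := fi_fix (by decide +kernel)
theorem fi_j : Commute (wd fj) (iW fm) := fi_fix (by decide +kernel)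
theorem fi_t : Commute (wd ft) (iW fm) := fi_fix (by decide +kernel)
theorem fi_n : Commute (wd fn) (iW fm) := fi_fix (by decide +kernel)

theorem fi_br {W x : List ℕ} (h1 : iW W = wd x)
    (h2 : eq2 (apd W (apd (ivW fm) (apd qA fm))) (stAx 1) x rt5 = true) :
    (iW fm * wd x) ^ 3 = 1 := by
  have x2 : wd x * wd x = 1 := h1 ▸ iW_mul_self W
  rw [braid_cube (iW_mul_self _) x2]
  nth_rw 2 [← iW_inv]
  nth_rw 3 [← inv_eq_of_mul_eq_one_right x2]
  rw [← iW_apd, ← h1]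
  refine conj_iW (iW_mem _) ?_
  rw [← wd_aW, iW_wd, aW, ← LinearEquiv.mul_apply, wd_mul]
  exact Hd.ax1.eq2 fi_b h2

theorem fi_d : (iW fm * wd fd) ^ 3 = 1 :=
  fi_br (W := apd w17 fG) (iW_of17 (by decide +kernel)) (by decide +kernel)

theorem fi_f : (iW fm * wd ff) ^ 3 = 1 :=
  fi_br (W := fWf) (iW_of (by decide +kernel)) (by decide +kernel)

theorem fi_y : ∀ w ∈ [fu, fd],
    Commute (wd w) (iW (apd (apd fm fu) (apd (ivW fm) (apd qA fm)))) := fxA_true (by decide +kernel)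

/-- The values of the letters. -/
noncomputable def fF (x : ℕ) : U ≃ₗ[ℝ] U :=
  if x = 5 then iW fm else if x = 13 then wd fu * iW fm * wd fu
  else if x = 14 then wd ff * iW fm * (wd fu * iW fm * wd fu) * iW fm * wd ff else wd (nth [] fw x)

theorem fF_wd {x : ℕ} (h : x ≠ 5 ∧ x ≠ 13 ∧ x ≠ 14) : fF x = wd (nth [] fw x) := by
  rw [fF, if_neg h.1, if_neg h.2.1, if_neg h.2.2]

theorem ev_fF : ∀ {w : List ℕ}, (∀ x ∈ w, x ≠ 5 ∧ x ≠ 13 ∧ x ≠ 14) →
    ev fF w.reverse = wd (sbW fw w)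
  | [], _ => wd_nil.symm
  | x :: w, h => by
    rw [List.reverse_cons, ev_app, ev_fF fun y hy => h y (List.mem_cons_of_mem _ hy), ev, ev,
      mul_one, fF_wd (h x List.mem_cons_self), wd_mul]
    rfl

theorem fi_sq (x : ℕ) : wd (nth [] fw x) * wd (nth [] fw x) = 1 := by
  by_cases h : x < 13
  · have : allN 13 (fun x => eqS (apd (nth [] fw x) (nth [] fw x)) []) = true := by decide +kernel
    rw [wd_mul]; exact one_of_eqS (allN_true.1 this x h)
  · rw [nth_default _ (not_lt.1 h), wd_nil, mul_one]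

theorem fi_L0 : ∀ n ∈ cL0, (fF (n / 16 % 16) * fF (n % 16)) ^ (n / 256) = 1 := by
  have a : ∀ n ∈ cL0, (n / 16 % 16 ≠ 5 ∧ n / 16 % 16 ≠ 13 ∧ n / 16 % 16 ≠ 14) ∧
    n % 16 ≠ 5 ∧ n % 16 ≠ 13 ∧ n % 16 ≠ 14 := by decide +kernel
  have b : H29.allL cL0 (fun n => eqS (pwW (apd (nth [] fw (n % 16)) (nth [] fw (n / 16 % 16)))
    (n / 256)) []) = true := by decide +kernel
  intro n hn
  rw [fF_wd (a n hn).1, fF_wd (a n hn).2, wd_mul, wd_pow]
  exact one_of_eqS (allL_true.1 b n hn)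

theorem fi_cx : Cx fF (cL1 ++ cL0) := by
  have e2 := iW_mul_self fm
  have c : ∀ {x y : U ≃ₗ[ℝ] U}, x * x = 1 → y * y = 1 → x * y * x * (x * y * x) = 1 :=
    fun {x y} a b => by
      rw [show x * y * x * (x * y * x) = x * (y * (x * x) * y) * x by group, a, mul_one, b, mul_one, a]
  have s : ∀ x, fF x * fF x = 1 := fun x => by
    unfold fF
    split_ifs
    · exact e2
    · exact c (fi_sq 12) e2
    · rw [mul_assoc (wd ff), mul_assoc (wd ff)]; exact c (fi_sq 6) (c e2 (c (fi_sq 12) e2))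
    · exact fi_sq x
  refine Cx.add ⟨wd_nil, s, fi_L0⟩ ?_
  simp only [cL1, List.mem_cons, List.not_mem_nil, or_false, forall_eq_or_imp, forall_eq,
    Nat.reduceDiv, Nat.reduceMod, comm_sq (s _) (s _)]
  exact ⟨fi_d, fi_f, fi_a, fi_b', fi_c, fi_h, fi_i, fi_k, fi_j, fi_t⟩

theorem fF_mem (x : ℕ) : fF x ∈ MM tau := by
  have a := mul_mem (mul_mem (wd_mem fu) (iW_mem fm)) (wd_mem fu)
  unfold fF
  split_ifs
  exacts [iW_mem _, a, mul_mem (mul_mem (mul_mem (mul_mem (wd_mem _) (iW_mem _)) a) (iW_mem _))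
    (wd_mem _), wd_mem _]

theorem exists_Fi : ∃ K : Subgroup (MM tau),
    K ≤ Subgroup.centralizer {(⟨iW fWt, iW_mem _⟩ : MM tau)} ∧ IsFi23 K := by
  have y : iW (apd (apd fm fu) (apd (ivW fm) (apd qA fm))) = fF 5 * fF 13 * fF 5 := by
    rw [iW_apd, iW_apd, ← iW_wd, iW_inv, inv_eq_of_mul_eq_one_right (a := wd fu) (fi_sq 12)]
    rfl
  obtain ⟨h1, h2, h3⟩ := fi_alg fi_cx rfl rfl
    (show wd fu * wd ff * wd fu = wd fj by rw [wd_mul, wd_mul]; exact eqS_true (by decide +kernel))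
    (by
      have := ev_fF (w := 6 :: cv) (by decide)
      rw [List.reverse_cons, ev_app, fi_cx.ev_rev, ev, ev, mul_one] at this
      rw [this, ← eqS_true (u := fn) (by decide +kernel)]
      exact fi_n)
    (y ▸ fi_y fu (by simp)) (y ▸ fi_y fd (by simp))
    ((ev_fF (w := cR1.reverse) (by decide)).trans (one_of_eqS (by decide +kernel)))
    (by
      rw [show ev fF cR2 = _ from ev_fF (w := cR2.reverse) (by decide),
        ← eqS_true (u := fr) (by decide +kernel), wd_pow]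
      exact one_of_eqS (by decide +kernel))
  refine sub_of_pres Cfsg.Agent.S1697.result (fun x => fF (fI x)) (fun _ => fF_mem _) (iW_mem _)
    (fun x => ?_) (fun x _ y _ => h2 x y) h3 ⟨.a, ne_one_of (w := fa) 16 (by decide +kernel)⟩
  rw [iW_of (u := ft) (by decide +kernel)]
  exact h1 x

end H10.Mon.MS
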