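import Mathlib
import Cfsg.Agent.H19.MS2
import Cfsg.Agent.S1701

/-!
# The Harada–Norton group in the centraliser of an element of order 5
-/

set_option autoImplicit false
set_option linter.all false
set_option maxRecDepth 100000
set_option Elab.async false

namespace H10.Mon.MS

open Cfsg H9 H29 Matrix Cfsg.Spor

def hx : List ℕ := [1, 4, 13, 14, 13, 8, 1, 4, 20, 24, 16, 0, 1, 16, 14, 15, 3, 28, 29, 32, 33, 34, 35, 36, 37, 39, 40, 44, 45, 46, 47, 49, 50, 51]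
def hy : List ℕ := [13, 0, 1, 3, 14, 0, 0, 17, 20, 23, 25, 26, 16, 0, 0, 13, 16, 15, 3, 28, 29, 31, 32, 34, 36, 38, 39, 40, 41, 43, 44, 48, 50, 51]
def hz : List ℕ := [1, 7, 11, 12, 10, 8, 7, 1, 17, 24, 16, 0, 1, 16, 14, 15, 3, 28, 29, 34, 35, 38, 43, 44, 46, 47, 51, 52]
def hq : List ℕ := [30, 31, 32, 33, 34, 37, 40, 42, 43, 44, 49]
def hm : List ℕ := [12, 16, 0, 16, 53, 3, 43, 44, 45, 47, 49, 50, 52, 16, 11, 16, 53, 16, 21, 16, 0, 12, 31, 42, 43, 44, 47, 48, 49, 51, 52, 14, 16, 2, 16, 53, 2, 25, 4, 2, 7, 10, 16, 29, 30, 31, 34, 35, 37, 38, 43, 44, 45, 47, 49, 51]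
def hA : List ℕ := [32, 33, 34, 35, 36, 38, 39]
def hi : List ℕ := [32, 33, 34, 35, 36, 38, 39, 52]
def hWi : List ℕ := [3, 6, 15, 21, 44]
def hG : List ℕ := [41, 46, 51, 1, 16, 0, 3, 16, 0, 10, 4]

attribute [local irreducible] wd

theorem hn_b : Hd (aW hm) rt9 := Hd.ax1.run hm (by decide +kernel)
theorem hn_x : Commute (wd hx) (iW hm) := comm_iW (wd_mem _) (hn_b.fix (by decide +kernel))
theorem hn_y : Commute (wd hy) (iW hm) := comm_iW (wd_mem _) (hn_b.fix (by decide +kernel))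
theorem hn_z : Commute (wd hz) (iW hm) := comm_iW (wd_mem _) (hn_b.fix (by decide +kernel))

theorem hn_4 : Commute (iW hm) (wd hq * iW hm * (wd hq)⁻¹) := by
  rw [← iW_apd]
  refine comm_iW (iW_mem _) ?_
  rw [← wd_aW, iW, LinearEquiv.mul_apply, LinearEquiv.mul_apply, ← LinearEquiv.eq_symm_apply,
    ← wd_qA, ← LinearEquiv.coe_inv, wd_ivW, ← LinearEquiv.mul_apply, ← LinearEquiv.mul_apply,
    ← LinearEquiv.mul_apply, wd_mul, wd_mul, wd_mul]
  exact hn_b.eq2 hn_b (by decide +kernel)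

theorem hn_5 : iW hm * wd hi * (iW hm)⁻¹ = (wd hq)⁻¹ * wd hA * (wd hx)⁻¹ * wd hq * iW hm *
    ((wd hq)⁻¹ * wd hA * (wd hx)⁻¹ * wd hq)⁻¹ := by
  rw [← show iW hWi = wd hi from iW_of (by decide +kernel), wd_ivW hq, wd_ivW hx, wd_mul, wd_mul,
    wd_mul, ← iW_apd]
  refine conj_iW (iW_mem _) ?_
  rw [← wd_aW, iW_wd, aW, ← LinearEquiv.mul_apply, wd_mul]
  exact Hd.ax1.eq2 hn_b (by decide +kernel)

theorem hn_6 : iW hm * ((wd hq)⁻¹ * wd hz * wd hA * wd hq) * (iW hm)⁻¹ =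
    (wd hq)⁻¹ * wd hz * wd hA * wd hq * iW hm * ((wd hq)⁻¹ * wd hz * wd hA * wd hq)⁻¹ := by
  rw [wd_ivW hq, wd_mul, wd_mul, wd_mul, ← iW_apd,
    ← show iW (apd w17 hG) = _ from iW_of17 (by decide +kernel)]
  refine conj_iW (iW_mem _) ?_
  rw [← wd_aW _ hm, iW_wd, aW, ← LinearEquiv.mul_apply, wd_mul]
  exact Hd.ax1.eq2 hn_b (by decide +kernel)

theorem hn_alg {G : Type*} [Group G] {x y z q T A I : G} (x1 : Commute x T) (y1 : Commute y T)
    (z1 : Commute z T) (x2 : Commute x I) (y2 : Commute y I) (z2 : Commute z I) (hA : x * x = A)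
    (A2 : A * A = 1) (T2 : T * T = 1) (q1 : q⁻¹ * I * q = A) (q2 : q * I * q⁻¹ = A)
    (yq : Commute y q) (yA : Commute y A) (u2 : q⁻¹ * z * A * q * (q⁻¹ * z * A * q) = 1)
    (r4 : Commute T (q * T * q⁻¹))
    (r5 : T * I * T⁻¹ = q⁻¹ * A * x⁻¹ * q * T * (q⁻¹ * A * x⁻¹ * q)⁻¹)
    (r6 : T * (q⁻¹ * z * A * q) * T⁻¹ = q⁻¹ * z * A * q * T * (q⁻¹ * z * A * q)⁻¹) :
    let t := q * (I * T) * q⁻¹
    Commute (I * T) x ∧ Commute (I * T) y ∧ Commute (I * T) z ∧ Commute (I * T) t ∧ t ^ 5 = 1 ∧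
      x⁻¹ * t * x * t ^ 2 = 1 ∧ t⁻¹ * y⁻¹ * t * y = 1 ∧ (z * t) ^ 3 = 1 := by
  intro t
  obtain ⟨b, hb⟩ : ∃ b, b = q * T * q⁻¹ := ⟨_, rfl⟩
  have ht : t = A * b := by rw [hb, ← q2]; simp only [t]; group
  have AT : Commute A T := hA ▸ x1.mul_left x1
  have AI : Commute A I := hA ▸ x2.mul_left x2
  have xA : Commute x A := hA ▸ (Commute.refl x).mul_right (Commute.refl x)
  have Ib : Commute I b := by
    have := (AT.conj q)
    rwa [← q1, ← hb, show q * (q⁻¹ * I * q) * q⁻¹ = I by group] at this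
  have b2 : b * b = 1 := by rw [hb, conj_mul, T2]; group
  have Ai : A⁻¹ = A := inv_eq_of_mul_eq_one_right A2
  have bi : b⁻¹ = b := inv_eq_of_mul_eq_one_right b2
  have Ti : T⁻¹ = T := inv_eq_of_mul_eq_one_right T2
  have k5 : A * x⁻¹ * b * x * A = b * A * b := by
    calc A * x⁻¹ * b * x * A = q * (q⁻¹ * A * x⁻¹ * q * T * (q⁻¹ * A * x⁻¹ * q)⁻¹) * q⁻¹ := by
          rw [hb]; nth_rw 2 [← Ai]; group
      _ = b * A * b⁻¹ := by rw [← r5, hb, ← q2]; group
      _ = _ := by rw [bi]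
  have r12 : x⁻¹ * t * x * t ^ 2 = 1 := by
    calc x⁻¹ * t * x * t ^ 2 = A * x⁻¹ * b * x * A * (b * A * b) := by
          rw [ht, ← mul_assoc x⁻¹, xA.inv_left.eq, pow_two]; group
      _ = b * A * (b * b) * A * b := by rw [k5]; group
      _ = 1 := by rw [b2, mul_one, mul_assoc b, A2, mul_one, b2]
  refine ⟨(x2.mul_right x1).symm, (y2.mul_right y1).symm, (z2.mul_right z1).symm, ?_, ?_, r12, ?_, ?_⟩
  · rw [ht]
    exact (AI.symm.mul_right Ib).mul_left (AT.symm.mul_right (hb ▸ r4))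
  · have e1 : x⁻¹ * t * x = (t ^ 2)⁻¹ := eq_inv_of_mul_eq_one_left r12
    have e2 : A⁻¹ * t * A = t ^ 4 := by
      calc A⁻¹ * t * A = x⁻¹ * (x⁻¹ * t * x) * x := by rw [← hA]; group
        _ = ((x⁻¹ * t * x) ^ 2)⁻¹ := by
          conv_lhs => rw [e1]
          rw [pow_two (x⁻¹ * t * x)]; group
        _ = _ := by rw [e1]; group
    rw [pow_succ, ← e2, ht, Ai]
    calc A * (A * b) * A * (A * b) = A * A * b * (A * A) * b := by group
      _ = 1 := by rw [A2, one_mul, mul_one, b2]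
  · have : Commute y t := by
      rw [ht, hb]; exact yA.mul_right ((yq.mul_right y1).mul_right yq.inv_right)
    rw [mul_assoc, ← this.eq]; group
  · obtain ⟨u, hu⟩ : ∃ u, u = q⁻¹ * z * A * q := ⟨_, rfl⟩
    rw [← hu] at u2 r6
    rw [Ti, inv_eq_of_mul_eq_one_right u2] at r6
    have : z * t = q * (u * T) * q⁻¹ := by rw [ht, hb, hu]; group
    rw [this, conj_pow, pow_three', show u * T * (u * T) * (u * T) = u * T * u * (T * u * T) by group,
      r6, show u * T * u * (u * T * u) = u * T * (u * u) * T * u by group, u2, mul_one,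
      mul_assoc u, T2, mul_one, u2]
    group

theorem hn_rel : ∀ r ∈ HN.extra.take 10, ∀ t, FreeGroup.lift
    (fun a => HN.Gen.rec (motive := fun _ => U ≃ₗ[ℝ] U) (wd hx) (wd hy) (wd hz) t a) r = 1 := by
  simp only [HN.extra, List.take_succ_cons, List.take_zero, List.mem_cons, List.not_mem_nil,
    or_false, forall_eq_or_imp, forall_eq, map_mul, map_pow, map_inv, FreeGroup.lift_apply_of,
    wd_ivW, wd_pow, wd_mul, forall_const]
  refine ⟨?_, ?_, ?_, ?_, ?_, ?_, ?_, ?_, ?_, ?_⟩ <;> exact one_of_eqS (by decide +kernel)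

theorem exists_HN : ∃ w : MM tau, orderOf w = 5 ∧
    ∃ K : Subgroup (MM tau), K ≤ Subgroup.centralizer {w} ∧ IsHN K := by
  have u2 : (wd hq)⁻¹ * wd hz * wd hA * wd hq * ((wd hq)⁻¹ * wd hz * wd hA * wd hq) = 1 := by
    simp only [wd_ivW, wd_mul]; exact one_of_eqS (by decide +kernel)
  obtain ⟨c1, c2, c3, c4, r1, r2, r3, r4⟩ := hn_alg (I := wd hi) (A := wd hA) hn_x hn_y hn_z
    (cmS_true (by decide +kernel)) (cmS_true (by decide +kernel)) (cmS_true (by decide +kernel))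
    (by rw [wd_mul]; exact eqS_true (by decide +kernel))
    (by rw [wd_mul]; exact one_of_eqS (by decide +kernel)) (iW_mul_self _)
    (by simp only [wd_ivW, wd_mul]; exact eqS_true (by decide +kernel))
    (by simp only [wd_ivW, wd_mul]; exact eqS_true (by decide +kernel))
    (cmS_true (by decide +kernel)) (cmS_true (by decide +kernel)) u2 hn_4 hn_5 hn_6
  have hw : wd hi * iW hm ∈ MM tau := mul_mem (wd_mem _) (iW_mem _)
  have hz1 : wd hz ≠ 1 := ne_one_of 1 (by decide +kernel)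
  refine ⟨⟨_, hw⟩, ?_, sub_of_pres Cfsg.Agent.S1701.result
    (fun a => HN.Gen.rec (motive := fun _ => U ≃ₗ[ℝ] U) (wd hx) (wd hy) (wd hz)
      (wd hq * (wd hi * iW hm) * (wd hq)⁻¹) a) ?_ hw ?_ ?_ ?_ ⟨.z, hz1⟩⟩
  · have : Fact (Nat.Prime 5) := ⟨by norm_num⟩
    rw [conj_pow, conj_eq_one_iff] at r1
    refine orderOf_eq_prime (Subtype.ext r1) fun e => hz1 ?_
    have e : wd hi * iW hm = 1 := congrArg Subtype.val e
    have z2 : wd hz * wd hz = 1 := by rw [wd_mul]; exact one_of_eqS (by decide +kernel)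
    rwa [e, mul_one, mul_inv_cancel, mul_one, pow_three', z2, one_mul] at r4
  · rintro ⟨⟩
    exacts [wd_mem hx, wd_mem hy, wd_mem hz,
      mul_mem (mul_mem (wd_mem hq) hw) (inv_mem (wd_mem hq))]
  · rintro ⟨⟩
    exacts [c1, c2, c3, c4]
  · simp [coxNodes, HN.edges]
  · intro r hr
    rw [← List.take_append_drop 10 HN.extra, List.mem_append] at hr
    rcases hr with hr | hr
    · exact hn_rel r hr _
    · simp only [HN.extra, List.drop_succ_cons, List.drop_zero, List.mem_cons, List.not_mem_nil,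
        or_false] at hr
      rcases hr with rfl | rfl | rfl | rfl <;>
        simp only [map_mul, map_pow, map_inv, FreeGroup.lift_apply_of]
      exacts [r1, r2, r3, r4]

end H10.Mon.MS
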