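import Mathlib
import Cfsg.Agent.H10.MMain
import Cfsg.Agent.H19.MSHN
import Cfsg.Agent.H19.MS6
import Cfsg.Agent.H19.MS8

/-!
# Sporadic subgroups of the Baby Monster
-/

set_option autoImplicit false
set_option linter.all false
set_option maxRecDepth 100000
set_option Elab.async false

namespace H10.Mon.MS

open Cfsg H9 H29 Cfsg.Spor Subgroup

attribute [local irreducible] wd

theorem exists_HN' : ∃ K : Subgroup (MM tau),
    K ≤ centralizer {(⟨iW hm, iW_mem _⟩ : MM tau)} ∧ IsHN K := by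
  have u2 : (wd hq)⁻¹ * wd hz * wd hA * wd hq * ((wd hq)⁻¹ * wd hz * wd hA * wd hq) = 1 := by
    simp only [wd_ivW, wd_mul]; exact one_of_eqS (by decide +kernel)
  have hA' : wd hx * wd hx = wd hA := by rw [wd_mul]; exact eqS_true (by decide +kernel)
  have q2 : wd hq * wd hi * (wd hq)⁻¹ = wd hA := by
    simp only [wd_ivW, wd_mul]; exact eqS_true (by decide +kernel)
  obtain ⟨-, -, -, -, r1, r2, r3, r4⟩ := hn_alg (I := wd hi) (A := wd hA) hn_x hn_y hn_z
    (cmS_true (by decide +kernel)) (cmS_true (by decide +kernel)) (cmS_true (by decide +kernel)) hA'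
    (by rw [wd_mul]; exact one_of_eqS (by decide +kernel)) (iW_mul_self _)
    (by simp only [wd_ivW, wd_mul]; exact eqS_true (by decide +kernel)) q2
    (cmS_true (by decide +kernel)) (cmS_true (by decide +kernel)) u2 hn_4 hn_5 hn_6
  refine sub_of_pres Cfsg.Agent.S1701.result
    (fun a => HN.Gen.rec (motive := fun _ => U ≃ₗ[ℝ] U) (wd hx) (wd hy) (wd hz)
      (wd hq * (wd hi * iW hm) * (wd hq)⁻¹) a) ?_ (iW_mem _) ?_ ?_ ?_
      ⟨.z, ne_one_of (w := hz) 1 (by decide +kernel)⟩
  · rintro ⟨⟩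
    exacts [wd_mem hx, wd_mem hy, wd_mem hz,
      mul_mem (mul_mem (wd_mem hq) (mul_mem (wd_mem _) (iW_mem _))) (inv_mem (wd_mem hq))]
  · rintro ⟨⟩
    · exact hn_x.symm
    · exact hn_y.symm
    · exact hn_z.symm
    · dsimp only
      rw [← conj_mul, q2, ← hA']
      exact (hn_x.symm.mul_right hn_x.symm).mul_right hn_4
  · simp [coxNodes, HN.edges]
  · intro r hr
    rw [← List.take_append_drop 10 HN.extra, List.mem_append] at hr
    rcases hr with hr | hr
    · exact hn_rel r hr _
    · simp only [HN.extra, List.drop_succ_cons, List.drop_zero, List.mem_cons, List.not_mem_nil,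
        or_false] at hr
      rcases hr with rfl | rfl | rfl | rfl <;>
        simp only [map_mul, map_pow, map_inv, FreeGroup.lift_apply_of]
      exacts [r1, r2, r3, r4]

theorem exists_Th' [Finite (MM tau)] : ∃ K : Subgroup (MM tau),
    K ≤ centralizer {(⟨iW (apd w17 tG), iW_mem _⟩ : MM tau)} ∧ IsTh K := by
  have f := subgroupOfEquivOfLe (inf_le_left.trans inf_le_left : KT ≤ MM tau)
  have := th_KT.1
  refine ⟨KT.subgroupOf _, fun g hg => mem_centralizer_singleton_iff.2 (Subtype.ext ?_),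
    f.isSimpleGroup, (Nat.card_congr f.toEquiv).trans th_KT.2⟩
  change g.1 * iW _ = iW _ * g.1
  rw [S_iW]
  exact mem_centralizer_singleton_iff.1 (mem_subgroupOf.1 hg).2

theorem sub_quot {G : Type*} [Group G] {C Z : Subgroup G} [Finite G] [(Z.subgroupOf C).Normal]
    (hZ : Nat.card Z = 2) {t m : G} (hC : centralizer {t} ≤ C) {K : Subgroup G} {n : ℕ} (hn : 2 < n)
    (h1 : K ≤ centralizer {m * t * m⁻¹}) (h2 : IsSimpleGroup K ∧ Nat.card K = n) :
    ∃ K' : Subgroup (C ⧸ Z.subgroupOf C), IsSimpleGroup K' ∧ Nat.card K' = n := by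
  have := h2.1
  let f : K →* G := (MulAut.conj m⁻¹).toMonoidHom.comp K.subtype
  have hf : Function.Injective f := (MulAut.conj m⁻¹).injective.comp K.subtype_injective
  let φ := (QuotientGroup.mk' (Z.subgroupOf C)).comp (f.codRestrict C fun k => hC
    (mem_centralizer_singleton_iff.2 (by
      have := mem_centralizer_singleton_iff.1 (h1 k.2)
      change m⁻¹ * k * m⁻¹⁻¹ * t = t * (m⁻¹ * k * m⁻¹⁻¹)
      calc _ = m⁻¹ * (k * (m * t * m⁻¹)) * m := by group
        _ = _ := by rw [this]; group)))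
  have hφ : Function.Injective φ := by
    rw [← MonoidHom.ker_eq_bot_iff]
    refine (IsSimpleGroup.eq_bot_or_eq_top_of_normal φ.ker inferInstance).resolve_right fun h => ?_
    have := Nat.card_le_card_of_injective (fun k : K => (⟨f k, mem_subgroupOf.1
      ((QuotientGroup.eq_one_iff _).1 (h.ge (mem_top k) : φ k = 1))⟩ : Z))
      fun a b e => hf (Subtype.mk.inj e)
    omega
  have e := MonoidHom.ofInjective hφ
  exact ⟨φ.range, e.symm.isSimpleGroup, (Nat.card_congr e.toEquiv).symm.trans h2.2⟩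

theorem s0474 : ∃ (G : Type) (_ : Group G) (_ : Finite G), IsB G ∧ (∃ K : Subgroup G, IsTh K) ∧
    (∃ K : Subgroup G, IsHN K) ∧ (∃ K : Subgroup G, IsFi23 K) := by
  have h := tri_tau
  have hc := card_M
  haveI : Finite (MM tau) := Nat.finite_of_card_ne_zero (by rw [hc]; norm_num)
  haveI : Finite (HH tau) := Finite.of_injective _ (inclusion_injective HH_le)
  have h1 : (centralizer ({tM tau} : Set (MM tau))).index = 97239461142009186000 := by
    rw [← ncard_axes, ← MulAction.index_stabilizer, cent_tM]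
    congr 1
    ext x
    rw [mem_subgroupOf, mem_HH, and_iff_right x.2]
    exact ⟨fix_M _ x.2, conj_tv (MM_le_Aut h x.2)⟩
  have h2 := (centralizer ({tM tau} : Set (MM tau))).index_mul_card
  rw [h1, hc] at h2
  have hne : ∀ g ∈ MM tau, g * zz * g⁻¹ ≠ tv 1 c0 := fun g hg e => by
    obtain ⟨f⟩ := centralizer_equiv_of_conj (a := zM tau) (d := tM tau)
      (isConj_iff.2 ⟨⟨g, hg⟩, Subtype.ext e⟩)
    rw [← Nat.card_congr f.toEquiv, cent_zM h,
      Nat.card_congr (subgroupOfEquivOfLe (GG_le_MM tau)).toEquiv, card_GG] at h2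
    norm_num at h2
  let e : centralizer ({tM tau} : Set (MM tau)) ≃* HH tau :=
    (MulEquiv.subgroupCongr cent_tM).trans (subgroupOfEquivOfLe HH_le)
  haveI : ((zpowers (tv 1 c0)).subgroupOf (HH tau)).Normal := center_HH h ▸ inferInstance
  have o : orderOf (tM tau) = 2 := (orderOf_coe _).symm.trans orderOf_tt
  have hm : tM tau ∈ centralizer ({tM tau} : Set (MM tau)) := mem_centralizer_singleton_iff.2 rfl
  haveI : ((zpowers (tM tau)).subgroupOf (centralizer ({tM tau} : Set (MM tau)))).Normal :=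
    ⟨fun a ha g => by
      obtain ⟨k, hk⟩ := mem_subgroupOf.1 ha
      have : Commute g.1 (tM tau ^ k) :=
        Commute.zpow_right (mem_centralizer_singleton_iff.1 g.2) k
      rw [mem_subgroupOf, coe_mul, coe_mul, ← show tM tau ^ k = a from hk, this.eq, coe_inv,
        mul_inv_cancel_right]
      exact ⟨k, rfl⟩⟩
  have h3 : Nat.card (zpowers (tM tau)) = 2 := by rw [Nat.card_zpowers, o]
  have h4 := card_eq_card_quotient_mul_card_subgroup
    ((zpowers (tM tau)).subgroupOf (centralizer ({tM tau} : Set (MM tau))))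
  rw [Nat.card_congr (subgroupOfEquivOfLe (zpowers_le.2 hm)).toEquiv, h3] at h4
  have h5 := simple_quot tt_mem_HH (fun a => by
    have : Finite (zpowers (tv 1 c0)) :=
      Finite.of_injective _ (inclusion_injective (zpowers_le.2 (tt_mem_HH (τ := tau))))
    have := card_le_of_le a
    rw [Nat.card_zpowers, orderOf_tt, ← Nat.card_congr e.toEquiv] at this
    omega) fun N => normal_HH h hne
  have k : ∀ W {n}, 2 < n → (∃ K : Subgroup (MM tau), K ≤ centralizer {⟨iW W, iW_mem _⟩} ∧
      IsSimpleGroup K ∧ Nat.card K = n) → ∃ K : Subgroup (_ ⧸ (zpowers (tM tau)).subgroupOf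
        (centralizer ({tM tau} : Set (MM tau)))), IsSimpleGroup K ∧ Nat.card K = n :=
    fun W n hn ⟨K, a, b⟩ => sub_quot h3 (m := ⟨wd W, wd_mem W⟩) le_rfl hn a b
  refine ⟨_ ⧸ (zpowers (tM tau)).subgroupOf (centralizer ({tM tau} : Set (MM tau))), inferInstance,
    inferInstance, ⟨(QuotientGroup.congr _ ((zpowers (tv 1 c0)).subgroupOf (HH tau)) e ?_).isSimpleGroup,
      by omega⟩,
    k _ (by norm_num) exists_Th', k _ (by norm_num) exists_HN', k _ (by norm_num) exists_Fi⟩
  ext x
  constructor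
  · rintro ⟨y, ⟨j, hj⟩, rfl⟩
    exact ⟨j, congrArg Subtype.val hj⟩
  · rintro ⟨j, hj⟩
    exact ⟨e.symm x, ⟨j, Subtype.ext hj⟩, e.apply_symm_apply x⟩

end H10.Mon.MS
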