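import Mathlib
import Cfsg.Agent.H19.MS3
import Cfsg.Agent.S1695

/-!
# The Held group in the centraliser of an element of order 7
-/

set_option autoImplicit false
set_option linter.all false
set_option maxRecDepth 100000
set_option Elab.async false

namespace H10.Mon.MS

open Cfsg H9 H29 Matrix Cfsg.Spor

def eG : List ℕ := [27, 23, 21, 20, 19, 17, 16, 15, 16, 12, 8, 13, 16, 15, 16, 40]
def ec : List ℕ := [7, 13, 15, 13, 1, 15, 0, 2, 32, 39, 33, 35, 37, 38]
def ed : List ℕ := [7, 12, 2, 12, 14, 10, 0, 28, 30]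
def ef : List ℕ := [3, 3, 15, 14, 7, 6, 7, 5, 28, 30, 31, 33, 34, 39]
def eg : List ℕ := [0, 0, 6, 10, 14, 12, 10, 14, 28, 32, 39, 33, 36]
def kc : List ℕ := [7, 13, 15, 13, 1, 15, 0, 2, 20, 21, 23, 25, 26]
def kc' : List ℕ := [0, 4, 8, 11, 13, 2, 6, 0, 16, 21, 22, 24, 25, 26]
def kd : List ℕ := [7, 12, 2, 12, 14, 10, 0, 16, 18]
def kd' : List ℕ := [3, 13, 10, 0, 13, 12, 12, 3, 16, 22, 23, 24, 25]
def kf : List ℕ := [3, 3, 15, 14, 7, 6, 7, 5, 16, 18, 19, 21, 22]
def kf' : List ℕ := [1, 10, 10, 3, 7, 2, 13, 7, 16, 18, 21, 22, 23]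
def kg : List ℕ := [0, 0, 6, 10, 14, 12, 10, 14, 16, 20, 21, 24]
def kg' : List ℕ := [0, 3, 2, 3, 4, 1, 12, 5, 16, 20, 23, 26]
def eG1 : List ℕ := [12, 8, 16, 11, 12, 13, 16, 6, 12]
def ek : List ℕ := [29, 20, 24, 25, 26, 27]
def eG2 : List ℕ := [16, 2, 13, 12, 16]
def ea1 : List ℕ := [32, 33, 34, 35, 37, 39, 52]
def eb1 : List ℕ := [0, 2, 3, 10, 5, 0, 10, 12, 12, 19, 16, 0, 15, 16, 7, 12, 5, 28, 29, 32, 35, 38, 39, 40, 43, 45, 46, 49, 50, 51, 52]
def ec1 : List ℕ := [17, 18, 19, 22, 23, 27, 28, 32, 34, 35, 37]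
def eWa : List ℕ := [3, 14, 15, 21, 44]
def eGb : List ℕ := [47, 51, 13, 12, 16, 11, 10, 16, 12, 5, 2]
def eGc1 : List ℕ := [28, 41, 45, 50, 15, 0]
def eGc : List ℕ := [28, 41, 51, 10, 5, 16, 10, 4, 16, 6, 12]
noncomputable def ee : List ℕ := pwW (apd eg ef) 2
noncomputable def em : List ℕ := mZ eG1 eG2
noncomputable def eW : List ℕ := apd (apd w17 eGb) (ivW em)
noncomputable def ew : List ℕ := apd [52] (apd (cjW eG [53]) [53])

attribute [local irreducible] wd

theorem he_b : iW eW = (wd em)⁻¹ * wd eb1 * wd em := by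
  rw [eW, iW_apd, ← wd_ivW, inv_inv, iW_of17 (u := eb1) (by decide +kernel)]

theorem he_a : wd em * wd qA * (wd em)⁻¹ = wd ea1 := by
  rw [← iW_nil, ← iW_of (g := eWa) (u := ea1) (by decide +kernel)]
  exact conj_wd (by decide +kernel)

theorem he_c : wd em * wd ec * (wd em)⁻¹ = wd ec1 := by
  rw [← iW_of17 (g := eGc) (u := ec) (by decide +kernel),
    ← iW_of17 (g := eGc1) (u := ec1) (by decide +kernel)]
  exact conj_wd (by decide +kernel)

theorem he_e : wd em * wd ee * (wd em)⁻¹ = zz :=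
  mZ_conj ek (by decide +kernel) (by decide +kernel)

theorem he_fix : ∀ w ∈ [ed, ef, eg, ew], Commute (wd w) (iW eW) := fxA_true (by decide +kernel)

theorem he_w {x : List ℕ} (k k' : List ℕ) (h0 : noT x = true) (h1 : eqS x (sbW ctT k) = true)
    (h2 : eqS (cjW (ivW eG) x) (sbW ctT k') = true) : Commute (wd ew) (wd x) := by
  rw [ew, ← wd_mul, ← wd_mul, ← wd_cjW, wd_tau, wd_zz]
  refine ((ct_of k h1).mul_left (comm_cj ?_)).mul_left (noT_zz h0)
  rw [wd_ivW eG, wd_cjW]
  exact ct_of k' h2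

theorem Hd.ax0 : Hd (ax 0 c0) (stAx 0) := Φ_ax0

theorem he_7 : (wd ew ^ 7) (ax 0 c0) = ax 0 c0 := by
  rw [wd_pow]; exact Hd.ax0.fix (by decide +kernel)

theorem he_1 : wd ew (ax 0 c0) ≠ ax 0 c0 := fun e =>
  (Hd.ax0.run' ew).zz_ne (p := 16384) (by decide +kernel) (by rw [e, zz_ax])

/-- The words of the generators other than `b`. -/
noncomputable def eL (x : He.Gen) : List ℕ :=
  He.Gen.rec (motive := fun _ => List ℕ) qA [] ec ed ee ef eg x

noncomputable def eF (x : He.Gen) : U ≃ₗ[ℝ] U := if x = .b then iW eW else wd (eL x)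

theorem he_cox : ∀ x ∈ [He.Gen.a, .c, .d, .e, .f, .g], ∀ y ∈ [He.Gen.a, .c, .d, .e, .f, .g],
    (wd (eL x) * wd (eL y)) ^ coxLabel He.edges x y = 1 := by
  have : H29.allL [He.Gen.a, .c, .d, .e, .f, .g] (fun x => H29.allL [He.Gen.a, .c, .d, .e, .f, .g]
    fun y => eqS (pwW (apd (eL y) (eL x)) (coxLabel He.edges x y)) []) = true := by decide +kernel
  intro x hx y hy
  rw [wd_mul, wd_pow]
  exact one_of_eqS (allL_true.1 (allL_true.1 this x hx) y hy)

theorem swap_pow {G : Type*} [Group G] {x y : G} {n : ℕ} (h : (x * y) ^ n = 1) : (y * x) ^ n = 1 := by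
  rw [show y * x = x⁻¹ * (x * y) * x⁻¹⁻¹ by group, conj_pow, h]; group

theorem comm_pow {G : Type*} [Group G] {x y : G} (h : Commute x y) (hx : (x * x) ^ 1 = 1)
    (hy : y * y = 1) : (x * y) ^ 2 = 1 := by
  rw [h.mul_pow, pow_two, pow_two, hy, mul_one, ← pow_one (x * x), hx]

theorem he_alg {G : Type*} [Group G] {m a b c e a1 b1 c1 z : G} (ha : m * a * m⁻¹ = a1)
    (hb : b = m⁻¹ * b1 * m) (hc : m * c * m⁻¹ = c1) (he : m * e * m⁻¹ = z) (h1 : (a1 * b1) ^ 4 = 1)
    (h2 : (c1 * b1) ^ 3 = 1) (h3 : z * ((a1 * b1 * c1) ^ 3)⁻¹ = 1) :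
    (a * b) ^ 4 = 1 ∧ (c * b) ^ 3 = 1 ∧ e * ((a * b * c) ^ 3)⁻¹ = 1 := by
  obtain rfl : b1 = m * b * m⁻¹ := by rw [hb]; group
  subst ha hc he
  simp only [conj_mul, conj_pow, conj_inv, conj_eq_one_iff] at h1 h2 h3
  exact ⟨h1, h2, h3⟩

theorem exists_He [Finite (MM tau)] : ∃ w : MM tau, orderOf w = 7 ∧
    ∃ K : Subgroup (MM tau), K ≤ Subgroup.centralizer {w} ∧ IsHe K := by
  obtain ⟨k, hk⟩ := exists_pow_ord (wd_mem ew) (by norm_num) he_7 he_1
  have bd := he_fix ed (by simp)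
  have bf := he_fix ef (by simp)
  have bg := he_fix eg (by simp)
  have bw := he_fix ew (by simp)
  have hee : wd ee = (wd ef * wd eg) ^ 2 := by rw [wd_mul, wd_pow]; rfl
  have haa : wd qA = (wd ec * wd ed) ^ 5 := by
    rw [wd_mul, wd_pow]; exact eqS_true (by decide +kernel)
  have be : Commute (wd ee) (iW eW) := hee ▸ (bf.mul_left bg).pow_left 2
  have wc := he_w (x := ec) kc kc' (by decide +kernel) (by decide +kernel) (by decide +kernel)
  have wd' := he_w (x := ed) kd kd' (by decide +kernel) (by decide +kernel) (by decide +kernel)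
  have wf := he_w (x := ef) kf kf' (by decide +kernel) (by decide +kernel) (by decide +kernel)
  have wg := he_w (x := eg) kg kg' (by decide +kernel) (by decide +kernel) (by decide +kernel)
  have wa : Commute (wd ew) (wd qA) := haa ▸ (wc.mul_right wd').pow_right 5
  have we : Commute (wd ew) (wd ee) := hee ▸ (wf.mul_right wg).pow_right 2
  obtain ⟨r1, r2, r3⟩ := he_alg he_a he_b he_c he_e
    (by simp only [wd_mul, wd_pow]; exact one_of_eqS (by decide +kernel))
    (by simp only [wd_mul, wd_pow]; exact one_of_eqS (by decide +kernel))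
    (by simp only [← wd_zz, wd_mul, wd_pow, wd_ivW]; exact one_of_eqS (by decide +kernel))
  have b2 := iW_mul_self eW
  refine ⟨_, hk, sub_of_pres Cfsg.Agent.S1695.result eF ?_ (pow_mem (wd_mem ew) k) ?_ ?_ ?_
    ⟨.d, ne_one_of 1 (by decide +kernel)⟩⟩
  · intro x
    unfold eF
    split_ifs
    exacts [iW_mem _, wd_mem _]
  · intro x
    refine Commute.pow_left ?_ k
    cases x
    exacts [wa, bw, wc, wd', we, wf, wg]
  · have sd := comm_pow bd (he_cox .d (by simp) .d (by simp)) b2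
    have se := comm_pow be (he_cox .e (by simp) .e (by simp)) b2
    have sf := comm_pow bf (he_cox .f (by simp) .f (by simp)) b2
    have sg := comm_pow bg (he_cox .g (by simp) .g (by simp)) b2
    intro x _ y _
    by_cases hx : x = .b
    · subst hx
      cases y
      exacts [swap_pow r1, (pow_one _).trans b2, swap_pow r2, swap_pow sd, swap_pow se,
        swap_pow sf, swap_pow sg]
    · by_cases hy : y = .b
      · subst hy
        cases x
        exacts [r1, absurd rfl hx, r2, sd, se, sf, sg]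
      · rw [eF, eF, if_neg hx, if_neg hy]
        exact he_cox x (by cases x <;> simp at hx ⊢) y (by cases y <;> simp at hy ⊢)
  · simp only [He.extra, List.mem_cons, List.not_mem_nil, or_false, forall_eq_or_imp, forall_eq,
      map_mul, map_pow, map_inv, FreeGroup.lift_apply_of]
    refine ⟨mul_inv_eq_one.2 hee, r3, mul_inv_eq_one.2 haa, ?_⟩
    change (wd ec * wd ed * wd ef * wd eg) ^ 4 = 1
    simp only [wd_mul, wd_pow]; exact one_of_eqS (by decide +kernel)

end H10.Mon.MS
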