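import Mathlib
import Cfsg.Agent.H19.Form
import Cfsg.Agent.H19.CertB2

/-! The five-dimensional representation of type B₂ and the isomorphism with `PΩ₅`. -/

set_option autoImplicit false
set_option maxRecDepth 100000

namespace H19
open Cfsg Cfsg.Lie H20 Matrix
open scoped commutatorElement

def cO5 : Coding (Unit ⊕ (Fin 2 ⊕ Fin 2)) where
  N := 5
  cd := Sum.elim (fun _ => 0) (Sum.elim (fun i => 1 + i) (fun i => 3 + i))
  dc c := if c = 0 then .inl () else if c = 1 then .inr (.inl 0) else if c = 2 then .inr (.inl 1)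
    else if c = 3 then .inr (.inr 0) else .inr (.inr 1)
  cd_lt := by decide
  dc_cd := by decide
  cd_dc := by decide

def tabO5 : List (List (List (ℕ × ℤ × ℕ))) := [[[(0, 1, 0)], [(1, 1, 0)], [(2, 1, 0)], [(3, 1, 0), (2, -1, 1)], [(4, 1, 0), (1, 1, 1)]], [[(0, 1, 0), (1, -1, 1)], [(1, 1, 0)], [(2, 1, 0)], [(3, 1, 0), (0, 2, 1), (1, -1, 2)], [(4, 1, 0)]], [[(0, 1, 0), (2, -1, 1)], [(1, 1, 0)], [(2, 1, 0)], [(3, 1, 0)], [(4, 1, 0), (0, 2, 1), (2, -1, 2)]], [[(0, 1, 0)], [(1, 1, 0)], [(2, 1, 0), (1, 1, 1)], [(3, 1, 0), (4, -1, 1)], [(4, 1, 0)]], [[(0, 1, 0)], [(1, 1, 0), (2, 1, 1)], [(2, 1, 0)], [(3, 1, 0)], [(4, 1, 0), (3, -1, 1)]], [[(0, 1, 0), (4, 1, 1)], [(1, 1, 0)], [(2, 1, 0), (0, -2, 1), (4, -1, 2)], [(3, 1, 0)], [(4, 1, 0)]], [[(0, 1, 0), (3, 1, 1)], [(1, 1, 0), (0, -2, 1), (3, -1, 2)], [(2, 1, 0)], [(3, 1, 0)], [(4, 1, 0)]], [[(0, 1, 0)], [(1, 1, 0), (4, 1, 1)], [(2, 1, 0), (3,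 -1, 1)], [(3, 1, 0)], [(4, 1, 0)]]]

def tO5 : RT := fun r i => (tabO5.getD r []).getD i []

def qO5 : QL := [(1, 0, 0), (1, 1, 3), (1, 2, 4)]

def stepsO5 : List Step := [
  ⟨1, [], [(1, []), (2, [(4, [(1, 0)]), (3, [(-1, 0)]), (4, [(1, 0)])]), (3, [(6, [(1, 0)]), (1, [(-1, 0)]), (6, [(1, 0)])]), (4, [(7, [(1, 0)]), (0, [(-1, 0)]), (7, [(1, 0)])])], [(0, [(1, [(1, 1)])]), (2, [(3, [(1, 1)])]), (4, [(0, [(1, 1)])])]⟩,
  ⟨3, [], [(3, [])], [(0, [(6, [(1, 1)])]), (2, [(7, [(1, 1)])]), (4, [(4, [(1, 1)])])]⟩,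
  ⟨2, [(1, 3, 0), (3, 1, 0)], [(2, []), (4, [(5, [(1, 0)]), (2, [(-1, 0)]), (5, [(1, 0)])])], [(0, [(2, [(1, 1)])])]⟩,
  ⟨4, [(1, 3, 0), (3, 1, 0)], [(4, [])], [(0, [(5, [(1, 1)])])]⟩,
  ⟨0, [(1, 3, 0), (2, 4, 0), (3, 1, 0), (4, 2, 0)], [(0, [])], []⟩]

def kO5 (j a : ℕ) : ℤ := (([[0, 1, 0, -1, 0], [0, 0, 1, 0, -1], [1, 1, 1, 1, 1]] : List (List ℤ)).getD j []).getD a 0

def rhoO5 (j r : ℕ) : ℤ := (([[-1, -1, 0, -1, 1, 0, 1, 1], [-1, 0, -1, 1, -1, 1, 0, 1], [0, 0, 0, 0, 0, 0, 0, 0]] : List (List ℤ)).getD j []).getD r 0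

theorem repChkO5 : (recOf chevB2).RepChk fastB2.eta cO5.N tO5 := by
  rw [agreeB2.recOf_eq]
  exact ⟨by decide +kernel, by decide +kernel, by decide +kernel, by decide +kernel, by decide +kernel⟩

theorem formO5 : ∀ r < 8, formChk cO5.N tO5 (qO5.map fun e => (e.1, [e.2.1, e.2.2])) r = true := by
  decide +kernel

theorem chainO5 : chainChk cO5.N tO5 8 1 (fun _ => qO5) (fun _ _ _ => false) stepsO5 [] = true := by
  decide +kernel

theorem hQO5 {F : Type*} [Field F] (v : Unit ⊕ (Fin 2 ⊕ Fin 2) → F) : quadFormOdd 2 F v = qv (cO5.xc v) qO5 := by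
  simp [quadFormOdd, qv, qO5, Coding.xc, cO5, Fin.sum_univ_two, sq]

theorem st_perfectB2 (F : Type*) [Field F] (hF : ∃ a : F, a ≠ 0 ∧ a ≠ 1) :
    commutator (chevB2.SteinbergGroup F) = ⊤ := by
  obtain ⟨a, h0, h1⟩ := hF
  refine st_perfect_of (matB2 F) fun i t => ?_
  have hi : i = ⟨0, by decide⟩ ∨ i = ⟨1, by decide⟩ := by revert i; decide
  rcases hi with rfl | rfl
  · exact x_mem_comm_of_torus _ (s := goodB2.rs.sim ⟨1, by decide⟩) (by decide +kernel) h0 h1 t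
  · exact x_mem_comm_of_two' (Y := stRel chevB2 F) (fun _ _ => rfl) (k' := ⟨2, by decide⟩) (r := 6) (s := 0)
      (by decide) (by decide) (by decide) (by decide) (e := 1) (e' := 1) (by decide) (by decide +kernel)
      (x_mem_comm_of_torus _ (s := ⟨0, by decide⟩) (by decide +kernel) h0 h1) t

theorem isoB2 (F : Type*) [Field F] (hF : ∃ a : F, a ≠ 0 ∧ a ≠ 1) :
    Nonempty (chevB2.group F ≃* POmega F (quadFormOdd 2 F)) := by
  obtain ⟨R⟩ := tabB2.exists_repRel (C := cO5) (T := tO5) repChkO5 F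
  obtain ⟨ψ, hψ⟩ := R.exists_psi goodB2
  have hperf := range_le_commutator (st_perfectB2 F hF) ψ
  have hr : ∀ r < 8, ∀ t : F, ∃ γ ∈ ψ.range, (γ : Matrix _ _ F) = cO5.Y tO5 r t :=
    fun r hr t => ⟨_, ⟨_, rfl⟩, hψ r hr t⟩
  have hle : ψ.range ≤ isometryGroup F (quadFormOdd 2 F) := st_range_le goodB2 ψ fun r hr t =>
    mem_isom_of_formChk hQO5 (formO5 r hr) (hψ r hr t)
  let A : Set (GL (Unit ⊕ (Fin 2 ⊕ Fin 2)) F) :=
    {a | ∃ j < 3, ∃ c, (j = 2 → c = -1) ∧ a = cO5.dg (kO5 j) c}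
  have hA : A ⊆ isometryGroup F (quadFormOdd 2 F) := by
    rintro _ ⟨j, hj, c, hc, rfl⟩
    refine dg_mem_isom hQO5 fun e he => ?_
    have : ∀ j < 3, ∀ e ∈ qO5, kO5 j e.2.1 + kO5 j e.2.2 = if j = 2 then 2 else 0 := by decide +kernel
    rw [this j hj e he]
    split_ifs with h
    · rw [hc h]; norm_num
    · rw [zpow_zero]
  refine pomega_equiv (matB2 F) (asm_simple (matB2 F) treeB2 (perfectB2 F hF)) ψ
    (commutator_eq_of (A := A) hle hA (fun g hg => ?_) ?_ ?_ hperf)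
    (not_comm_of_perfect hperf ⟨chevB2.stGen F 4 1, rfl⟩ fun h => ?_)
  · have hle' : ψ.range ⊔ Subgroup.closure A ≤ isometryGroup F (quadFormOdd 2 F) :=
      sup_le hle ((Subgroup.closure_le _).2 hA)
    obtain ⟨γ, hγ, h1⟩ := (qf_quad hQO5).exists_diag hle' (T := tO5) (nl := 8) (fun r hr' t => by
      obtain ⟨γ, h1, h2⟩ := hr r hr' t
      exact ⟨γ, Subgroup.mem_sup_left h1, h2⟩) stepsO5 chainO5 (by decide +kernel) g hg
    obtain ⟨β, hβ, h5, h6⟩ : ∃ β ∈ ψ.range ⊔ Subgroup.closure A, (∀ s < cO5.N, cO5.FixL (β * (γ * g)) s) ∧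
        cO5.ent (β * (γ * g)) 0 0 = 1 := by
      have h7 := isom_sq hQO5 (mul_mem (hle' hγ) hg) (s := 0) (by
        simp [qv, qO5, Coding.xc_e' (C := cO5) (F := F) (s := 0) (by decide)]) (h1 0 (by decide))
      rcases sq_eq_one_iff.1 h7 with h8 | h8
      · exact ⟨1, one_mem _, by simpa using h1, by simpa using h8⟩
      · refine ⟨cO5.dg (kO5 2) (-1), Subgroup.mem_sup_right (Subgroup.subset_closure
          ⟨2, by decide, -1, fun _ => rfl, rfl⟩), fun s hs => (h1 s hs).dg_mul _ _, ?_⟩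
        rw [Coding.ent_dg_mul, h8, show kO5 2 0 = 1 from rfl]; simp
    obtain ⟨δ, hδ, h2, h3⟩ := scale_sound (C := cO5) (Γ := ψ.range ⊔ Subgroup.closure A)
      [(1, kO5 0), (2, kO5 1)] (by
        intro p hp
        simp only [List.mem_cons, List.not_mem_nil, or_false] at hp
        rcases hp with rfl | rfl <;> exact ⟨by decide, fun c =>
          Subgroup.mem_sup_right (Subgroup.subset_closure ⟨_, by decide, c, by simp, rfl⟩)⟩)
      [0] (by decide +kernel) (β * (γ * g)) h5 (by simpa using h6)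
    have hm : δ * (β * (γ * g)) ∈ isometryGroup F (quadFormOdd 2 F) :=
      mul_mem (hle' hδ) (mul_mem (hle' hβ) (mul_mem (hle' hγ) hg))
    have h4 : δ * (β * (γ * g)) = 1 := Coding.eq_one_of_diag h2 (prop_sound
      (tri := fun a _ c => Nat.blt a 5 && Nat.blt c 5 && unitL (pl qO5 a) c)
      (d := fun a => cO5.ent (δ * (β * (γ * g))) a a)
      (fun a b c h ha _ => by
        simp only [Bool.and_eq_true, Nat.blt_eq] at h
        have := isom_pair hQO5 hm h.1.1 h.1.2 h.2 (h2 a h.1.1) (h2 c h.1.2)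
        rwa [ha, one_mul] at this)
      [(1, 1, 3), (2, 2, 4)] _ (by decide +kernel) h3)
    have : g = γ⁻¹ * β⁻¹ * δ⁻¹ := by rw [← mul_one δ⁻¹, ← h4]; group
    rw [this]
    exact mul_mem (mul_mem (inv_mem hγ) (inv_mem hβ)) (inv_mem hδ)
  · rintro _ ⟨j, hj, c, -, rfl⟩
    have : ∀ j < 3, allB chevB2.nroots (fun r => allB cO5.N fun i => (tO5 r i).all fun e =>
        kO5 j i == (e.2.2 : ℤ) * rhoO5 j r + kO5 j e.1) = true := by decide +kernel
    exact dg_mem_normalizer goodB2 hψ (rhoO5 j) (this j hj) c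
  · rintro _ ⟨j, hj, c, -, rfl⟩ _ ⟨j', hj', c', -, rfl⟩
    rw [commutatorElement_def, Coding.dg_comm]; simp
  · refine Y_ne_one (C := cO5) (T := tO5) (F := F) (r := 4) (a := 1) (b := 2) (ε := 1) (by decide) (by decide) (by decide)
      (Or.inl rfl) (by decide +kernel) ?_
    rw [← hψ 4 (by decide), h, Units.val_one]

end H19
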