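import Mathlib
import Cfsg.Agent.H19.Form
import Cfsg.Agent.H19.CertD4

/-! The eight-dimensional representation of type D₄ and the isomorphism with `PΩ₈⁺`. -/

set_option autoImplicit false
set_option maxRecDepth 100000

namespace H19
open Cfsg Cfsg.Lie H20 Matrix
open scoped commutatorElement

def cO8 : Coding (Fin 4 ⊕ Fin 4) where
  N := 8
  cd := Sum.elim (fun i => i) (fun i => 4 + i)
  dc c := if h : c < 4 then .inl ⟨c, h⟩ else .inr ⟨(c - 4) % 4, Nat.mod_lt _ (by decide)⟩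
  cd_lt := by decide
  dc_cd := by decide
  cd_dc := by decide

def tabO8 : List (List (List (ℕ × ℤ × ℕ))) := [[[(0, 1, 0)], [(1, 1, 0)], [(2, 1, 0)], [(3, 1, 0)], [(4, 1, 0), (1, -1, 1)], [(5, 1, 0), (0, 1, 1)], [(6, 1, 0)], [(7, 1, 0)]], [[(0, 1, 0)], [(1, 1, 0)], [(2, 1, 0)], [(3, 1, 0)], [(4, 1, 0), (2, -1, 1)], [(5, 1, 0)], [(6, 1, 0), (0, 1, 1)], [(7, 1, 0)]], [[(0, 1, 0)], [(1, 1, 0)], [(2, 1, 0)], [(3, 1, 0), (0, 1, 1)], [(4, 1, 0), (7, -1, 1)], [(5, 1, 0)], [(6, 1, 0)], [(7, 1, 0)]], [[(0, 1, 0)], [(1, 1, 0)], [(2, 1, 0)], [(3, 1, 0)], [(4, 1, 0), (3, -1, 1)], [(5, 1, 0)], [(6, 1, 0)], [(7, 1, 0), (0, 1, 1)]], [[(0, 1, 0)], [(1, 1, 0)], [(2, 1, 0), (0, -1, 1)], [(3, 1, 0)], [(4, 1, 0), (6, 1, 1)], [(5, 1, 0)], [(6, 1, 0)], [(7, 1, 0)]], [[(0, 1, 0)], [(1, 1, 0), (0, 1, 1)], [(2, 1, 0)], [(3, 1, 0)], [(4, 1, 0), (5,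 -1, 1)], [(5, 1, 0)], [(6, 1, 0)], [(7, 1, 0)]], [[(0, 1, 0)], [(1, 1, 0)], [(2, 1, 0)], [(3, 1, 0)], [(4, 1, 0)], [(5, 1, 0), (2, 1, 1)], [(6, 1, 0), (1, -1, 1)], [(7, 1, 0)]], [[(0, 1, 0)], [(1, 1, 0)], [(2, 1, 0)], [(3, 1, 0), (1, -1, 1)], [(4, 1, 0)], [(5, 1, 0), (7, 1, 1)], [(6, 1, 0)], [(7, 1, 0)]], [[(0, 1, 0)], [(1, 1, 0)], [(2, 1, 0)], [(3, 1, 0)], [(4, 1, 0)], [(5, 1, 0), (3, 1, 1)], [(6, 1, 0)], [(7, 1, 0), (1, -1, 1)]], [[(0, 1, 0)], [(1, 1, 0)], [(2, 1, 0), (1, 1, 1)], [(3, 1, 0)], [(4, 1, 0)], [(5, 1, 0), (6, -1, 1)], [(6, 1, 0)], [(7, 1, 0)]], [[(0, 1, 0)], [(1, 1, 0)], [(2, 1, 0)], [(3, 1, 0), (2, 1, 1)], [(4, 1, 0)], [(5, 1, 0)], [(6, 1, 0), (7, -1, 1)], [(7, 1, 0)]], [[(0, 1, 0)], [(1, 1, 0)], [(2, 1, 0)], [(3, 1, 0)], [(4, 1, 0)], [(5, 1, 0)], [(6, 1, 0), (3, -1, 1)], [(7, 1, 0), (2, 1, 1)]], [[(0, 1, 0)],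 [(1, 1, 0)], [(2, 1, 0), (7, 1, 1)], [(3, 1, 0), (6, -1, 1)], [(4, 1, 0)], [(5, 1, 0)], [(6, 1, 0)], [(7, 1, 0)]], [[(0, 1, 0)], [(1, 1, 0)], [(2, 1, 0), (3, 1, 1)], [(3, 1, 0)], [(4, 1, 0)], [(5, 1, 0)], [(6, 1, 0)], [(7, 1, 0), (6, -1, 1)]], [[(0, 1, 0)], [(1, 1, 0), (2, 1, 1)], [(2, 1, 0)], [(3, 1, 0)], [(4, 1, 0)], [(5, 1, 0)], [(6, 1, 0), (5, -1, 1)], [(7, 1, 0)]], [[(0, 1, 0)], [(1, 1, 0), (7, -1, 1)], [(2, 1, 0)], [(3, 1, 0), (5, 1, 1)], [(4, 1, 0)], [(5, 1, 0)], [(6, 1, 0)], [(7, 1, 0)]], [[(0, 1, 0)], [(1, 1, 0), (3, -1, 1)], [(2, 1, 0)], [(3, 1, 0)], [(4, 1, 0)], [(5, 1, 0)], [(6, 1, 0)], [(7, 1, 0), (5, 1, 1)]], [[(0, 1, 0)], [(1, 1, 0), (6, -1, 1)], [(2, 1, 0), (5, 1, 1)], [(3, 1, 0)], [(4, 1, 0)], [(5, 1, 0)], [(6, 1, 0)], [(7, 1, 0)]], [[(0, 1, 0), (1, 1, 1)], [(1, 1, 0)], [(2, 1, 0)], [(3, 1, 0)], [(4, 1, 0)],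 [(5, 1, 0), (4, -1, 1)], [(6, 1, 0)], [(7, 1, 0)]], [[(0, 1, 0), (2, -1, 1)], [(1, 1, 0)], [(2, 1, 0)], [(3, 1, 0)], [(4, 1, 0)], [(5, 1, 0)], [(6, 1, 0), (4, 1, 1)], [(7, 1, 0)]], [[(0, 1, 0), (7, 1, 1)], [(1, 1, 0)], [(2, 1, 0)], [(3, 1, 0), (4, -1, 1)], [(4, 1, 0)], [(5, 1, 0)], [(6, 1, 0)], [(7, 1, 0)]], [[(0, 1, 0), (3, 1, 1)], [(1, 1, 0)], [(2, 1, 0)], [(3, 1, 0)], [(4, 1, 0)], [(5, 1, 0)], [(6, 1, 0)], [(7, 1, 0), (4, -1, 1)]], [[(0, 1, 0), (6, 1, 1)], [(1, 1, 0)], [(2, 1, 0), (4, -1, 1)], [(3, 1, 0)], [(4, 1, 0)], [(5, 1, 0)], [(6, 1, 0)], [(7, 1, 0)]], [[(0, 1, 0), (5, 1, 1)], [(1, 1, 0), (4, -1, 1)], [(2, 1, 0)], [(3, 1, 0)], [(4, 1, 0)], [(5, 1, 0)], [(6, 1, 0)], [(7, 1, 0)]], [[(0, 1, 0)], [(1, 1, 0)], [(2, 1, 0)], [(7, 1, 0)], [(4, 1, 0)], [(5, 1, 0)], [(6, 1, 0)], [(3, 1, 0)]]]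

def tO8 : RT := fun r i => (tabO8.getD r []).getD i []

def qO8 : QL := [(1, 0, 4), (1, 1, 5), (1, 2, 6), (1, 3, 7)]

def stepsO8 : List Step := [
  ⟨0, [], [(0, []), (1, [(18, [(1, 0)]), (5, [(-1, 0)]), (18, [(1, 0)])]), (2, [(19, [(1, 0)]), (4, [(-1, 0)]), (19, [(1, 0)])]), (3, [(21, [(1, 0)]), (2, [(-1, 0)]), (21, [(1, 0)])]), (4, [(18, [(1, 0)]), (5, [(-1, 0)]), (18, [(1, 0)]), (23, [(1, 0)]), (0, [(-1, 0)]), (23, [(1, 0)])]), (5, [(23, [(1, 0)]), (0, [(-1, 0)]), (23, [(1, 0)])]), (6, [(22, [(1, 0)]), (1, [(-1, 0)]), (22, [(1, 0)])]), (7, [(20, [(1, 0)]), (3, [(-1, 0)]), (20, [(1, 0)])])], [(1, [(5, [(1, 1)])]), (2, [(4, [(1, 1)])]), (3, [(2, [(1, 1)])]), (5, [(0, [(1, 1)])]), (6, [(1, [(1, 1)])]), (7, [(3, [(1, 1)])])]⟩,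
  ⟨4, [], [(4, [])], [(1, [(23, [(1, 1)])]), (2, [(22, [(1, 1)])]), (3, [(20, [(1, 1)])]), (5, [(18, [(1, 1)])]), (6, [(19, [(1, 1)])]), (7, [(21, [(1, 1)])])]⟩,
  ⟨1, [(0, 4, 0), (4, 0, 0)], [(1, []), (2, [(14, [(1, 0)]), (9, [(-1, 0)]), (14, [(1, 0)])]), (3, [(16, [(1, 0)]), (7, [(-1, 0)]), (16, [(1, 0)])]), (5, [(14, [(1, 0)]), (9, [(-1, 0)]), (14, [(1, 0)]), (17, [(1, 0)]), (6, [(-1, 0)]), (17, [(1, 0)])]), (6, [(17, [(1, 0)]), (6, [(-1, 0)]), (17, [(1, 0)])]), (7, [(15, [(1, 0)]), (8, [(-1, 0)]), (15, [(1, 0)])])], [(2, [(9, [(1, 1)])]), (3, [(7, [(1, 1)])]), (6, [(6, [(1, 1)])]), (7, [(8, [(1, 1)])])]⟩,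
  ⟨5, [(0, 4, 0), (4, 0, 0)], [(5, [])], [(2, [(17, [(1, 1)])]), (3, [(15, [(1, 1)])]), (6, [(14, [(1, 1)])]), (7, [(16, [(1, 1)])])]⟩,
  ⟨2, [(0, 4, 0), (1, 5, 0), (4, 0, 0), (5, 1, 0)], [(2, []), (3, [(13, [(1, 0)]), (10, [(-1, 0)]), (13, [(1, 0)])]), (6, [(12, [(1, 0)]), (11, [(-1, 0)]), (12, [(1, 0)]), (13, [(1, 0)]), (10, [(-1, 0)]), (13, [(1, 0)])]), (7, [(12, [(1, 0)]), (11, [(-1, 0)]), (12, [(1, 0)])])], [(3, [(10, [(1, 1)])]), (7, [(11, [(1, 1)])])]⟩,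
  ⟨6, [(0, 4, 0), (1, 5, 0), (4, 0, 0), (5, 1, 0)], [(6, [])], [(3, [(12, [(1, 1)])]), (7, [(13, [(1, 1)])])]⟩,
  ⟨3, [(0, 4, 0), (1, 5, 0), (2, 6, 0), (4, 0, 0), (5, 1, 0), (6, 2, 0)], [(3, []), (7, [(24, [(1, 0)])])], []⟩,
  ⟨7, [(0, 4, 0), (1, 5, 0), (2, 6, 0), (4, 0, 0), (5, 1, 0), (6, 2, 0)], [(7, [])], []⟩]

def kO8 (j a : ℕ) : ℤ := (([[1, 0, 0, 0, -1, 0, 0, 0], [0, 1, 0, 0, 0, -1, 0, 0], [0, 0, 1, 0, 0, 0, -1, 0], [0, 0, 0, 1, 0, 0, 0, -1]] : List (List ℤ)).getD j []).getD a 0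

def rhoO8 (j r : ℕ) : ℤ := (([[-1, -1, -1, -1, -1, -1, 0, 0, 0, 0, 0, 0, 0, 0, 0, 0, 0, 0, 1, 1, 1, 1, 1, 1], [-1, 0, 0, 0, 0, 1, -1, -1, -1, -1, 0, 0, 0, 0, 1, 1, 1, 1, -1, 0, 0, 0, 0, 1], [0, -1, 0, 0, 1, 0, -1, 0, 0, 1, -1, -1, 1, 1, -1, 0, 0, 1, 0, -1, 0, 0, 1, 0], [0, 0, 1, -1, 0, 0, 0, 1, -1, 0, 1, -1, 1, -1, 0, 1, -1, 0, 0, 0, 1, -1, 0, 0]] : List (List ℤ)).getD j []).getD r 0

def piO8 (r : ℕ) : ℕ := ([0, 1, 3, 2, 4, 5, 6, 8, 7, 9, 11, 10, 13, 12, 14, 16, 15, 17, 18, 19, 21, 20, 22, 23] : List ℕ).getD r 0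

def epsO8 (r : ℕ) : ℤ := ([1, 1, 1, 1, 1, 1, 1, 1, 1, 1, 1, 1, 1, 1, 1, 1, 1, 1, 1, 1, 1, 1, 1, 1] : List ℤ).getD r 0

def sigO8 (a : ℕ) : ℕ := ([0, 1, 2, 7, 4, 5, 6, 3] : List ℕ).getD a 0

def wO8 (j : ℕ) : List (ℕ × List (ℤ × ℤ)) := if j = 3 then [(12, [(1, -1)]), (11, [(-1, 1)]), (12, [(1, -1)]), (12, [(-1, 0)]), (11, [(1, 0)]), (12, [(-1, 0)]), (13, [(1, 1)]), (10, [(-1, -1)]), (13, [(1, 1)]), (13, [(-1, 0)]), (10, [(1, 0)]), (13, [(-1, 0)])] else []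

theorem repChkO8 : (recOf chevD4).RepChk fastD4.eta cO8.N tO8 := by
  rw [agreeD4.recOf_eq]
  exact ⟨by decide +kernel, by decide +kernel, by decide +kernel, by decide +kernel, by decide +kernel⟩

theorem formO8 : ∀ r < 25, formChk cO8.N tO8 (qO8.map fun e => (e.1, [e.2.1, e.2.2])) r = true := by
  decide +kernel

theorem chainO8 : chainChk cO8.N tO8 25 1 (fun _ => qO8) (fun _ _ _ => false) stepsO8 [] = true := by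
  decide +kernel

theorem sigConjO8 : ∀ r < 24, piO8 r < 24 ∧
    rweq cO8.N tO8 0 [(24, []), (r, [(1, (1 : ℕ))])] [(piO8 r, [(epsO8 r, 1)]), (24, [])] = true := by
  decide +kernel

theorem hQO8 {F : Type*} [Field F] (v : Fin 4 ⊕ Fin 4 → F) : quadFormPlus 4 F v = qv (cO8.xc v) qO8 := by
  simp [quadFormPlus, qv, qO8, Coding.xc, cO8, Fin.sum_univ_four, add_assoc]

theorem isoD4 (F : Type*) [Field F] : Nonempty (chevD4.group F ≃* POmega F (quadFormPlus 4 F)) := by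
  obtain ⟨R⟩ := tabD4.exists_repRel (C := cO8) (T := tO8) repChkO8 F
  obtain ⟨ψ, hψ⟩ := R.exists_psi goodD4
  have hperf := range_le_commutator (st_perfect_of_one (matD4 F) [(6, 22), (1, 23), (3, 22), (2, 22)]
    (by decide +kernel)) ψ
  have ev1 : ∀ (t : F) (w₁ w₂ : Word), rweq cO8.N tO8 0 w₁ w₂ = true →
      cO8.W tO8 (evW (fun a : ℕ => t ^ a) w₁) = cO8.W tO8 (evW (fun a : ℕ => t ^ a) w₂) := fun t w₁ w₂ h =>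
    Coding.W_eq_of_rweq (by simp) (fun a b => pow_add t a b) (p := 0) (by simp) h
  have hσ2 : cO8.Y tO8 24 (0 : F) * cO8.Y tO8 24 0 = 1 := by
    simpa [evW, evP, Coding.W_cons, Coding.W_nil] using ev1 0 [(24, []), (24, [])] [] (by decide +kernel)
  have hσt : ∀ t : F, cO8.Y tO8 24 0 = cO8.Y tO8 24 t := fun t => by
    simpa [evW, evP, Coding.W_cons, Coding.W_nil] using ev1 t [(24, [])] [(24, [(1, 1)])] (by decide +kernel)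
  let σ : GL (Fin 4 ⊕ Fin 4) F := ⟨cO8.Y tO8 24 0, cO8.Y tO8 24 0, hσ2, hσ2⟩
  have hσi : σ⁻¹ = σ := rfl
  have hr : ∀ r < 24, ∀ t : F, ∃ γ ∈ ψ.range, (γ : Matrix _ _ F) = cO8.Y tO8 r t :=
    fun r hr t => ⟨_, ⟨_, rfl⟩, hψ r hr t⟩
  have hle : ψ.range ≤ isometryGroup F (quadFormPlus 4 F) := st_range_le goodD4 ψ fun r hr t =>
    mem_isom_of_formChk hQO8 (formO8 r (Nat.lt_succ_of_lt hr)) (hψ r hr t)
  let A : Set (GL (Fin 4 ⊕ Fin 4) F) := {a | a = σ ∨ ∃ j < 4, ∃ c, a = cO8.dg (kO8 j) c}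
  have hA : A ⊆ isometryGroup F (quadFormPlus 4 F) := by
    rintro _ (rfl | ⟨j, hj, c, rfl⟩)
    · exact mem_isom_of_formChk hQO8 (formO8 24 (by decide)) rfl
    · refine dg_mem_isom hQO8 fun e he => ?_
      have : ∀ j < 4, ∀ e ∈ qO8, kO8 j e.2.1 + kO8 j e.2.2 = 0 := by decide +kernel
      rw [this j hj e he, zpow_zero]
  have hστ : ∀ j < 4, ∀ c, ⁅σ, cO8.dg (kO8 j) c⁆ ∈ ψ.range := by
    intro j hj c
    have h1 : ∀ j < 4, allB cO8.N (fun i => (tO8 24 i).all fun e =>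
        kO8 j (sigO8 i) == (e.2.2 : ℤ) * 0 + kO8 j e.1) = true ∧ ((wO8 j).all fun a => Nat.blt a.1 24) = true ∧
        allB cO8.N (fun i => veq 0 (rowW cO8.N tO8 0 (wO8 j) i) [(i, 1, kO8 j (sigO8 i) + -kO8 j i)]) = true := by
      decide +kernel
    have h2 : σ * cO8.dg (kO8 j) c = cO8.dg (fun i => kO8 j (sigO8 i)) c * σ := by
      apply Units.ext
      have := Coding.dg_mul_Y (C := cO8) (k := fun i => kO8 j (sigO8 i)) (h1 j hj).1 c (0 : F)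
      rw [mul_zero] at this
      exact this.symm
    rw [commutatorElement_def, h2, mul_inv_cancel_right, Coding.dg_neg, Coding.dg_mul_dg]
    exact Coding.dg_mem_of_word hr (wO8 j) (h1 j hj).2.1 (h1 j hj).2.2 c
  refine pomega_equiv (matD4 F) (asm_simple (matD4 F) treeD4 (perfectD4 F)) ψ
    (commutator_eq_of (A := A) hle hA (fun g hg => ?_) ?_ ?_ hperf)
    (not_comm_of_perfect hperf ⟨chevD4.stGen F 18 1, rfl⟩ fun h => ?_)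
  · have hle' : ψ.range ⊔ Subgroup.closure A ≤ isometryGroup F (quadFormPlus 4 F) :=
      sup_le hle ((Subgroup.closure_le _).2 hA)
    obtain ⟨γ, hγ, h1⟩ := (qf_quad hQO8).exists_diag hle' (T := tO8) (nl := 25) (fun r hr' t => by
      rcases Nat.lt_succ_iff_lt_or_eq.1 hr' with h | rfl
      · obtain ⟨γ, h1, h2⟩ := hr r h t
        exact ⟨γ, Subgroup.mem_sup_left h1, h2⟩
      · exact ⟨σ, Subgroup.mem_sup_right (Subgroup.subset_closure (Or.inl rfl)), hσt t⟩)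
      stepsO8 chainO8 (by decide +kernel) g hg
    obtain ⟨δ, hδ, h2, h3⟩ := scale_sound (C := cO8) (Γ := ψ.range ⊔ Subgroup.closure A)
      [(0, kO8 0), (1, kO8 1), (2, kO8 2), (3, kO8 3)] (by
        intro p hp
        simp only [List.mem_cons, List.not_mem_nil, or_false] at hp
        rcases hp with rfl | rfl | rfl | rfl <;> exact ⟨by decide, fun c =>
          Subgroup.mem_sup_right (Subgroup.subset_closure (Or.inr ⟨_, by decide, c, rfl⟩))⟩)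
      [] (by decide +kernel) (γ * g) h1 (by simp)
    have hm : δ * (γ * g) ∈ isometryGroup F (quadFormPlus 4 F) := mul_mem (hle' hδ) (mul_mem (hle' hγ) hg)
    have h4 : δ * (γ * g) = 1 := Coding.eq_one_of_diag h2 (prop_sound
      (tri := fun a _ c => Nat.blt a 8 && Nat.blt c 8 && unitL (pl qO8 a) c) (d := fun a => cO8.ent (δ * (γ * g)) a a)
      (fun a b c h ha _ => by
        simp only [Bool.and_eq_true, Nat.blt_eq] at h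
        have := isom_pair hQO8 hm h.1.1 h.1.2 h.2 (h2 a h.1.1) (h2 c h.1.2)
        rwa [ha, one_mul] at this)
      [(0, 0, 4), (1, 1, 5), (2, 2, 6), (3, 3, 7)] _ (by decide +kernel) h3)
    have : g = γ⁻¹ * δ⁻¹ := by rw [← mul_one δ⁻¹, ← h4]; group
    rw [this]
    exact mul_mem (inv_mem hγ) (inv_mem hδ)
  · rintro _ (rfl | ⟨j, hj, c, rfl⟩)
    · have key : ∀ r < chevD4.nroots, ∀ t, σ * ψ (chevD4.stGen F r t) * σ⁻¹ ∈ ψ.range := by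
        intro r hr t
        refine ⟨chevD4.stGen F (piO8 r) ((epsO8 r : F) * t), ?_⟩
        rw [eq_mul_inv_iff_mul_eq]
        apply Units.ext
        rw [Units.val_mul, Units.val_mul, hψ r hr, hψ _ (sigConjO8 r hr).1]
        simpa [evW, evP, Coding.W_cons, Coding.W_nil] using (ev1 t _ _ (sigConjO8 r hr).2).symm
      exact mem_normalizer_range goodD4 ψ key key
    · have : ∀ j < 4, allB chevD4.nroots (fun r => allB cO8.N fun i => (tO8 r i).all fun e =>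
          kO8 j i == (e.2.2 : ℤ) * rhoO8 j r + kO8 j e.1) = true := by decide +kernel
      exact dg_mem_normalizer goodD4 hψ (rhoO8 j) (this j hj) c
  · rintro _ (rfl | ⟨j, hj, c, rfl⟩) _ (rfl | ⟨j', hj', c', rfl⟩)
    · simp
    · exact hστ j' hj' c'
    · rw [← commutatorElement_inv]; exact inv_mem (hστ j hj c)
    · rw [commutatorElement_def, Coding.dg_comm]; simp
  · refine Y_ne_one (C := cO8) (T := tO8) (F := F) (r := 18) (a := 0) (b := 1) (ε := 1) (by decide) (by decide) (by decide)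
      (Or.inl rfl) (by decide +kernel) ?_
    rw [← hψ 18 (by decide), h, Units.val_one]

end H19
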