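import Mathlib
import Cfsg.Agent.H19.Form
import Cfsg.Agent.H19.CertE6

/-! The 27-dimensional representation of type E₆: tables and kernel checks. -/

set_option autoImplicit false
set_option maxRecDepth 100000

namespace H19
open Cfsg Cfsg.Lie H20 Matrix

def c27 : Coding I27 where
  N := 27
  cd p := 9 * p.1 + 3 * p.2.1 + p.2.2
  dc c := (⟨c / 9 % 3, Nat.mod_lt _ (by decide)⟩, ⟨c / 3 % 3, Nat.mod_lt _ (by decide)⟩,
    ⟨c % 3, Nat.mod_lt _ (by decide)⟩)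
  cd_lt := by decide
  dc_cd := by decide
  cd_dc := by decide

def tab27 : ℕ := 0xc0400000000000000028b400000000170240000000000000000000000248a000000f0002400030000000000000000000006165000000003c00090000c000000000301000002ecc00000000004c080000000000400f000000000a00cc0000000016021000000109000000000000000aaf0000170240000000000008000000008c0000001000100b40030000000000021000900000000000001000127000a800000000005000000005c00c0006000000000b400300000000150006000000000c0006000000027000a80000000d0002e000a000000000000000000050c1000000000000000109000030d400000130200000000000000000ca000000000a80d400005808400000000000000007c0022000001000100033000d80000000000000013000583000180000000000cc0036000000036000c0002a0000000000000050c1000000000250000000000000000025b000000000000006008e0000000023000000000340010000000ac002e000840024000000000000000340010000025000a0001400000001700000f000480000000000000ac00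2e54001800000000000f000480000000000025000a34000b8002800000000000000000000044f340000bedac000000000090001e0006000000000000000299e500000000000090001e0006000000000000000803400000000000000000009ee00001d900000005012000000000028b40000000000000018740000000000000250000000af20000000000000005007c000028f00000000002503200000000000001502200001f000880000000340010000000031000d000000004c00160003c0012000000000000000c4003401f000000024000000008000240ac0000000c0000088002300000000000000800026500000002a0000000000000000000000000248a03400070000400005000000005c000900030000000002c00000002f015000600000000009000300000000980000000a40000000030bac01f00064001300000000000000000002aa260000000210006c001500000000000000000000000100e000000000bb300000069f00000000000100e00000000000002703400001c8400000000000000000006165000000000000110002c000500000000018046dd000000000000000004da000000000180440000a00cc00000000000000157000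000021c0000000000000000000aaf7a300000000000018b00000000002abc000000000061d00000000000068000000074008000000014002d000c0000000001c000740000000040000000180a000290000000000007c00220000001c000a000c80000000d4000000001400054028000b000000000031000000036000000000d73c60000680014000000000000000000000d73c4000088001c000580000000000000000036000c0002a0000000000000002c91c0000000000000000000087000000000c3501a7c000000000000000008700000000000002903672100000000000000000000018bc3500000000000051900000000000000018b0000290360000000000166c000000000000000068001b040000000180000d00035000000c8002c00098000000000000000000000000044f348340000000000000000000026ac000000001e8c03110000000000009ab00000000000000000001875900000001e00000d00000001200000002c000b406c001e00000000000e000000011000000940028000c8002c00098000000000000000000000000b24700000000020d00000000002cc4000000000069f00000020d000000000000000940c8000000001c84000000000031102cc40000000000000000000014640000311000000940c8000000000000000000059b00001900070000e000000011000000000c4003400064000000078000700000000c000ac0000000c0001b00078000000000800000000b02600000002900000000000000000000000079c68034000700004000000000000001e71a0000000000110002c00050000000190007002000000002c0000c80000000d40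

def dec27 (v : ℕ) : List (ℕ × ℤ × ℕ) :=
  bif Nat.beq v 0 then [] else [(Nat.div (Nat.sub v 1) 2, bif Nat.beq (Nat.mod v 2) 1 then 1 else -1, 1)]

def t27 : RT := fun r i => (i, 1, 0) :: dec27 (fld (fld tab27 162 r) 6 i)

def cub27 : CL := [(1, 0, 4, 8), (-1, 0, 5, 7), (-1, 1, 3, 8), (1, 1, 5, 6), (1, 2, 3, 7), (-1, 2, 4, 6), (1, 9, 13, 17), (-1, 9, 14, 16), (-1, 10, 12, 17), (1, 10, 14, 15), (1, 11, 12, 16), (-1, 11, 13, 15), (1, 18, 22, 26), (-1, 18, 23, 25), (-1, 19, 21, 26), (1, 19, 23, 24), (1, 20, 21, 25), (-1, 20, 22, 24), (-1, 0, 9, 18), (-1, 0, 10, 21), (-1, 0, 11, 24), (-1, 1, 12, 18), (-1, 1, 13, 21), (-1, 1, 14, 24), (-1, 2, 15, 18), (-1, 2, 16, 21), (-1, 2, 17, 24), (-1, 3, 9, 19), (-1, 3, 10, 22), (-1, 3, 11, 25), (-1, 4, 12, 19), (-1, 4, 13, 22), (-1, 4, 14, 25), (-1, 5, 15, 19), (-1, 5, 16, 22), (-1, 5, 17, 25), (-1, 6, 9, 20), (-1, 6, 10, 23), (-1, 6, 11, 26),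 (-1, 7, 12, 20), (-1, 7, 13, 23), (-1, 7, 14, 26), (-1, 8, 15, 20), (-1, 8, 16, 23), (-1, 8, 17, 26)]

def qlT27 : List QL := [[(1, 4, 8), (-1, 5, 7), (-1, 9, 18), (-1, 10, 21), (-1, 11, 24)], [(-1, 3, 8), (1, 5, 6), (-1, 12, 18), (-1, 13, 21), (-1, 14, 24)], [(1, 3, 7), (-1, 4, 6), (-1, 15, 18), (-1, 16, 21), (-1, 17, 24)], [(-1, 1, 8), (1, 2, 7), (-1, 9, 19), (-1, 10, 22), (-1, 11, 25)], [(1, 0, 8), (-1, 2, 6), (-1, 12, 19), (-1, 13, 22), (-1, 14, 25)], [(-1, 0, 7), (1, 1, 6), (-1, 15, 19), (-1, 16, 22), (-1, 17, 25)], [(1, 1, 5), (-1, 2, 4), (-1, 9, 20), (-1, 10, 23), (-1, 11, 26)], [(-1, 0, 5), (1, 2, 3), (-1, 12, 20), (-1, 13, 23), (-1, 14, 26)], [(1, 0, 4), (-1, 1, 3), (-1, 15, 20), (-1, 16, 23), (-1, 17, 26)], [(1, 13, 17), (-1, 14, 16), (-1, 0, 18), (-1, 3, 19), (-1, 6, 20)], [(-1, 12, 17), (1, 14, 15), (-1, 0, 21), (-1, 3, 22), (-1, 6, 23)], [(1, 12, 16), (-1, 13, 15),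 (-1, 0, 24), (-1, 3, 25), (-1, 6, 26)], [(-1, 10, 17), (1, 11, 16), (-1, 1, 18), (-1, 4, 19), (-1, 7, 20)], [(1, 9, 17), (-1, 11, 15), (-1, 1, 21), (-1, 4, 22), (-1, 7, 23)], [(-1, 9, 16), (1, 10, 15), (-1, 1, 24), (-1, 4, 25), (-1, 7, 26)], [(1, 10, 14), (-1, 11, 13), (-1, 2, 18), (-1, 5, 19), (-1, 8, 20)], [(-1, 9, 14), (1, 11, 12), (-1, 2, 21), (-1, 5, 22), (-1, 8, 23)], [(1, 9, 13), (-1, 10, 12), (-1, 2, 24), (-1, 5, 25), (-1, 8, 26)], [(1, 22, 26), (-1, 23, 25), (-1, 0, 9), (-1, 1, 12), (-1, 2, 15)], [(-1, 21, 26), (1, 23, 24), (-1, 3, 9), (-1, 4, 12), (-1, 5, 15)], [(1, 21, 25), (-1, 22, 24), (-1, 6, 9), (-1, 7, 12), (-1, 8, 15)], [(-1, 19, 26), (1, 20, 25), (-1, 0, 10), (-1, 1, 13), (-1, 2, 16)], [(1, 18, 26), (-1, 20, 24), (-1, 3, 10), (-1, 4, 13), (-1, 5, 16)], [(-1, 18, 25), (1, 19, 24), (-1, 6, 10), (-1, 7, 13), (-1, 8, 16)], [(1, 19, 23), (-1, 20, 22), (-1, 0, 11), (-1,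 1, 14), (-1, 2, 17)], [(-1, 18, 23), (1, 20, 21), (-1, 3, 11), (-1, 4, 14), (-1, 5, 17)], [(1, 18, 22), (-1, 19, 21), (-1, 6, 11), (-1, 7, 14), (-1, 8, 17)]]

def ql27 (j : ℕ) : QL := qlT27.getD j []

def steps27 : List Step := [
  ⟨0, [], [(0, []), (1, [(69, [(1, 0)]), (2, [(-1, 0)]), (69, [(1, 0)])]), (2, [(39, [(1, 0)]), (32, [(-1, 0)]), (39, [(1, 0)])]), (3, [(61, [(1, 0)]), (10, [(-1, 0)]), (61, [(1, 0)])]), (4, [(37, [(1, 0)]), (34, [(-1, 0)]), (37, [(1, 0)]), (45, [(1, 0)]), (26, [(-1, 0)]), (45, [(1, 0)])]), (5, [(37, [(1, 0)]), (34, [(-1, 0)]), (37, [(1, 0)]), (64, [(1, 0)]), (7, [(-1, 0)]), (64, [(1, 0)])]), (6, [(56, [(1, 0)]), (15, [(-1, 0)]), (56, [(1, 0)])]), (7, [(42, [(1, 0)]), (29, [(-1, 0)]), (42, [(1, 0)]), (55, [(1, 0)]), (16, [(-1, 0)]), (55, [(1, 0)])]), (8, [(39, [(1, 0)]), (32, [(-1, 0)]), (39, [(1, 0)]), (56, [(1, 0)]), (15, [(-1, 0)]), (56, [(1, 0)])]),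 (9, [(38, [(1, 0)]), (33, [(-1, 0)]), (38, [(1, 0)]), (42, [(1, 0)]), (29, [(-1, 0)]), (42, [(1, 0)])]), (10, [(37, [(1, 0)]), (34, [(-1, 0)]), (37, [(1, 0)]), (42, [(1, 0)]), (29, [(-1, 0)]), (42, [(1, 0)])]), (11, [(37, [(1, 0)]), (34, [(-1, 0)]), (37, [(1, 0)]), (52, [(1, 0)]), (19, [(-1, 0)]), (52, [(1, 0)])]), (12, [(64, [(1, 0)]), (7, [(-1, 0)]), (64, [(1, 0)])]), (13, [(65, [(1, 0)]), (6, [(-1, 0)]), (65, [(1, 0)])]), (14, [(58, [(1, 0)]), (13, [(-1, 0)]), (58, [(1, 0)])]), (15, [(45, [(1, 0)]), (26, [(-1, 0)]), (45, [(1, 0)])]), (16, [(44, [(1, 0)]), (27, [(-1, 0)]), (44, [(1, 0)])]), (17, [(55, [(1, 0)]), (16, [(-1, 0)]), (55, [(1, 0)])]), (18, [(37, [(1, 0)]), (34, [(-1, 0)]), (37, [(1, 0)]), (56, [(1, 0)]), (15, [(-1, 0)]), (56, [(1, 0)])]), (19, [(51, [(1, 0)]), (20, [(-1, 0)]), (51, [(1, 0)])]), (20, [(37, [(1, 0)]), (34, [(-1, 0)]), (37, [(1, 0)])]), (21, [(38, [(1,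 0)]), (33, [(-1, 0)]), (38, [(1, 0)]), (56, [(1, 0)]), (15, [(-1, 0)]), (56, [(1, 0)])]), (22, [(52, [(1, 0)]), (19, [(-1, 0)]), (52, [(1, 0)])]), (23, [(38, [(1, 0)]), (33, [(-1, 0)]), (38, [(1, 0)])]), (24, [(42, [(1, 0)]), (29, [(-1, 0)]), (42, [(1, 0)]), (61, [(1, 0)]), (10, [(-1, 0)]), (61, [(1, 0)])]), (25, [(42, [(1, 0)]), (29, [(-1, 0)]), (42, [(1, 0)])]), (26, [(47, [(1, 0)]), (24, [(-1, 0)]), (47, [(1, 0)])])], [(1, [(2, [(1, 1)])]), (2, [(39, [(1, 1)])]), (3, [(61, [(1, 1)])]), (6, [(56, [(1, 1)])]), (12, [(64, [(1, 1)])]), (13, [(65, [(1, 1)])]), (14, [(58, [(1, 1)])]), (15, [(26, [(1, 1)])]), (16, [(27, [(1, 1)])]), (17, [(16, [(1, 1)])]), (19, [(20, [(1, 1)])]), (20, [(34, [(1, 1)])]), (22, [(19, [(1, 1)])]), (23, [(33, [(1, 1)])]), (25, [(29, [(1, 1)])]), (26, [(47, [(1, 1)])])]⟩,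
  ⟨4, [], [(4, []), (5, [(70, [(1, 0)]), (1, [(-1, 0)]), (70, [(1, 0)])]), (7, [(50, [(1, 0)]), (21, [(-1, 0)]), (50, [(1, 0)])]), (8, [(40, [(1, 0)]), (31, [(-1, 0)]), (40, [(1, 0)]), (60, [(1, 0)]), (11, [(-1, 0)]), (60, [(1, 0)])]), (9, [(40, [(1, 0)]), (31, [(-1, 0)]), (40, [(1, 0)])]), (10, [(41, [(1, 0)]), (30, [(-1, 0)]), (41, [(1, 0)])]), (11, [(46, [(1, 0)]), (25, [(-1, 0)]), (46, [(1, 0)])]), (18, [(60, [(1, 0)]), (11, [(-1, 0)]), (60, [(1, 0)])]), (21, [(59, [(1, 0)]), (12, [(-1, 0)]), (59, [(1, 0)])]), (24, [(66, [(1, 0)]), (5, [(-1, 0)]), (66, [(1, 0)])])], [(1, [(10, [(1, 1)])]), (3, [(69, [(1, 1)])]), (5, [(70, [(1, 1)])]), (7, [(21, [(1, 1)])]), (9, [(40, [(1, 1)])]), (10, [(41, [(1, 1)])]), (11, [(25, [(1, 1)])]), (15, [(37, [(1, 1)])]), (16, [(38, [(1, 1)])]), (17, [(24, [(1, 1)])]), (18, [(60, [(1, 1)])]), (20, [(45, [(1, 1)])]), (21, [(59, [(1, 1)])]), (23, [(44,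 [(1, 1)])]), (24, [(66, [(1, 1)])]), (26, [(55, [(1, 1)])])]⟩,
  ⟨8, [], [(8, [])], [(2, [(15, [(1, 1)])]), (5, [(50, [(1, 1)])]), (6, [(32, [(1, 1)])]), (7, [(1, [(1, 1)])]), (9, [(11, [(1, 1)])]), (10, [(12, [(1, 1)])]), (11, [(5, [(1, 1)])]), (12, [(51, [(1, 1)])]), (13, [(52, [(1, 1)])]), (14, [(42, [(1, 1)])]), (18, [(31, [(1, 1)])]), (19, [(7, [(1, 1)])]), (21, [(30, [(1, 1)])]), (22, [(6, [(1, 1)])]), (24, [(46, [(1, 1)])]), (25, [(13, [(1, 1)])])]⟩,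
  ⟨5, [(0, 8, 4), (1, 8, 3), (2, 4, 6), (3, 8, 1), (4, 8, 0), (6, 4, 2), (8, 4, 0), (12, 4, 19), (13, 4, 22), (14, 4, 25), (15, 8, 20), (16, 8, 23), (17, 8, 26), (19, 4, 12), (20, 8, 15), (22, 4, 13), (23, 8, 16), (25, 4, 14), (26, 8, 17)], [(5, []), (7, [(43, [(1, 0)]), (28, [(-1, 0)]), (43, [(1, 0)]), (71, [(1, 0)]), (0, [(-1, 0)]), (71, [(1, 0)])]), (9, [(68, [(1, 0)]), (3, [(-1, 0)]), (68, [(1, 0)])]), (10, [(67, [(1, 0)]), (4, [(-1, 0)]), (67, [(1, 0)])]), (11, [(71, [(1, 0)]), (0, [(-1, 0)]), (71, [(1, 0)])]), (18, [(53, [(1, 0)]), (18, [(-1, 0)]), (53, [(1, 0)])]), (21, [(54, [(1, 0)]), (17, [(-1, 0)]), (54, [(1, 0)])]), (24, [(43, [(1, 0)]), (28, [(-1, 0)]), (43, [(1, 0)])])], [(9, [(3, [(1, 1)])]), (10, [(4, [(1, 1)])]), (11, [(0, [(1, 1)])]), (18, [(18, [(1, 1)])]), (21, [(17, [(1, 1)])]), (24, [(28, [(1, 1)])])]⟩,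
  ⟨7, [(0, 8, 4), (1, 8, 3), (2, 4, 6), (3, 8, 1), (4, 8, 0), (6, 4, 2), (8, 4, 0), (12, 4, 19), (13, 4, 22), (14, 4, 25), (15, 8, 20), (16, 8, 23), (17, 8, 26), (19, 4, 12), (20, 8, 15), (22, 4, 13), (23, 8, 16), (25, 4, 14), (26, 8, 17)], [(7, [])], [(9, [(53, [(1, 1)])]), (10, [(54, [(1, 1)])]), (11, [(43, [(1, 1)])]), (18, [(68, [(1, 1)])]), (21, [(67, [(1, 1)])]), (24, [(71, [(1, 1)])])]⟩,
  ⟨9, [(0, 7, 5), (1, 5, 6), (2, 7, 3), (3, 7, 2), (4, 8, 0), (5, 7, 0), (6, 5, 1), (7, 5, 0), (8, 4, 0), (12, 7, 20), (13, 7, 23), (14, 7, 26), (15, 5, 19), (16, 5, 22), (17, 5, 25), (19, 5, 15), (20, 7, 12), (22, 5, 16), (23, 7, 13), (25, 5, 17), (26, 7, 14)], [(9, []), (10, [(36, [(1, 0)]), (35, [(-1, 0)]), (36, [(1, 0)])]), (11, [(48, [(1, 0)]), (23, [(-1, 0)]), (48, [(1, 0)])]), (18, [(36, [(1, 0)]), (35, [(-1, 0)]), (36, [(1, 0)]), (57, [(1, 0)]), (14, [(-1, 0)]), (57, [(1, 0)])]),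 (21, [(57, [(1, 0)]), (14, [(-1, 0)]), (57, [(1, 0)])]), (24, [(63, [(1, 0)]), (8, [(-1, 0)]), (63, [(1, 0)])])], [(10, [(36, [(1, 1)])]), (11, [(23, [(1, 1)])]), (21, [(57, [(1, 1)])]), (24, [(63, [(1, 1)])])]⟩,
  ⟨18, [(0, 7, 5), (1, 5, 6), (2, 7, 3), (3, 7, 2), (4, 8, 0), (5, 7, 0), (6, 5, 1), (7, 5, 0), (8, 4, 0), (12, 7, 20), (13, 7, 23), (14, 7, 26), (15, 5, 19), (16, 5, 22), (17, 5, 25), (19, 5, 15), (20, 7, 12), (22, 5, 16), (23, 7, 13), (25, 5, 17), (26, 7, 14)], [(18, [])], [(10, [(14, [(1, 1)])]), (11, [(8, [(1, 1)])]), (21, [(35, [(1, 1)])]), (24, [(48, [(1, 1)])])]⟩,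
  ⟨10, [(0, 18, 9), (1, 18, 12), (2, 18, 15), (3, 9, 19), (4, 8, 0), (5, 7, 0), (6, 9, 20), (7, 5, 0), (8, 4, 0), (9, 18, 0), (12, 18, 1), (13, 9, 17), (14, 9, 16), (15, 18, 2), (16, 9, 14), (17, 9, 13), (18, 9, 0), (19, 9, 3), (20, 9, 6), (22, 18, 26), (23, 18, 25), (25, 18, 23), (26, 18, 22)], [(10, []), (11, [(49, [(1, 0)]), (22, [(-1, 0)]), (49, [(1, 0)])]), (21, [(49, [(1, 0)]), (22, [(-1, 0)]), (49, [(1, 0)]), (62, [(1, 0)]), (9, [(-1, 0)]), (62, [(1, 0)])]), (24, [(62, [(1, 0)]), (9, [(-1, 0)]), (62, [(1, 0)])])], [(11, [(22, [(1, 1)])]), (24, [(62, [(1, 1)])])]⟩,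
  ⟨21, [(0, 18, 9), (1, 18, 12), (2, 18, 15), (3, 9, 19), (4, 8, 0), (5, 7, 0), (6, 9, 20), (7, 5, 0), (8, 4, 0), (9, 18, 0), (12, 18, 1), (13, 9, 17), (14, 9, 16), (15, 18, 2), (16, 9, 14), (17, 9, 13), (18, 9, 0), (19, 9, 3), (20, 9, 6), (22, 18, 26), (23, 18, 25), (25, 18, 23), (26, 18, 22)], [(21, [])], [(11, [(9, [(1, 1)])]), (24, [(49, [(1, 1)])])]⟩,
  ⟨1, [(0, 10, 21), (2, 7, 3), (3, 10, 22), (4, 0, 8), (5, 7, 0), (6, 10, 23), (7, 0, 5), (8, 4, 0), (9, 0, 18), (10, 0, 21), (11, 0, 24), (12, 10, 17), (13, 9, 17), (14, 10, 15), (15, 10, 14), (16, 9, 14), (17, 10, 12), (18, 9, 0), (19, 9, 3), (20, 9, 6), (21, 10, 0), (22, 10, 3), (23, 10, 6), (24, 0, 11), (25, 4, 14), (26, 7, 14)], [(1, [])], []⟩,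
  ⟨2, [(0, 10, 21), (1, 5, 6), (3, 1, 8), (4, 8, 0), (5, 1, 6), (6, 1, 5), (7, 5, 0), (8, 1, 3), (9, 0, 18), (10, 0, 21), (11, 0, 24), (12, 1, 18), (13, 1, 21), (14, 1, 24), (15, 10, 14), (16, 9, 14), (17, 10, 12), (18, 1, 12), (19, 9, 3), (20, 9, 6), (21, 1, 13), (22, 10, 3), (23, 10, 6), (24, 1, 14), (25, 5, 17), (26, 8, 17)], [(2, [])], []⟩,
  ⟨3, [(0, 21, 10), (1, 21, 13), (2, 21, 16), (4, 0, 8), (5, 0, 7), (6, 5, 1), (7, 5, 0), (8, 4, 0), (9, 18, 0), (10, 21, 0), (11, 0, 24), (12, 18, 1), (13, 21, 1), (14, 4, 25), (15, 18, 2), (16, 21, 2), (17, 5, 25), (18, 0, 9), (19, 21, 26), (20, 21, 25), (21, 0, 10), (22, 18, 26), (23, 18, 25), (24, 0, 11), (25, 21, 20), (26, 21, 19)], [(3, [])], []⟩,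
  ⟨6, [(0, 21, 10), (1, 3, 8), (2, 3, 7), (3, 7, 2), (4, 8, 0), (5, 7, 0), (7, 3, 2), (8, 3, 1), (9, 3, 19), (10, 3, 22), (11, 3, 25), (12, 18, 1), (13, 21, 1), (14, 7, 26), (15, 18, 2), (16, 21, 2), (17, 8, 26), (18, 0, 9), (19, 3, 9), (20, 21, 25), (21, 0, 10), (22, 3, 10), (23, 18, 25), (24, 0, 11), (25, 3, 11), (26, 21, 19)], [(6, [])], []⟩,
  ⟨12, [(0, 21, 10), (1, 6, 5), (2, 6, 4), (3, 2, 7), (4, 6, 2), (5, 6, 1), (6, 2, 4), (7, 3, 2), (8, 3, 1), (9, 6, 20), (10, 6, 23), (11, 6, 26), (13, 21, 1), (14, 9, 16), (15, 2, 18), (16, 2, 21), (17, 2, 24), (18, 2, 15), (19, 3, 9), (20, 6, 9), (21, 2, 16), (22, 3, 10), (23, 6, 10), (24, 2, 17), (25, 3, 11), (26, 6, 11)], [(12, [])], []⟩,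
  ⟨13, [(0, 10, 21), (1, 12, 18), (2, 6, 4), (3, 2, 7), (4, 12, 19), (5, 6, 1), (6, 2, 4), (7, 12, 20), (8, 3, 1), (9, 6, 20), (10, 12, 17), (11, 12, 16), (12, 10, 17), (14, 10, 15), (15, 2, 18), (16, 12, 11), (17, 12, 10), (18, 12, 1), (19, 12, 4), (20, 12, 7), (21, 2, 16), (22, 3, 10), (23, 6, 10), (24, 2, 17), (25, 3, 11), (26, 6, 11)], [(13, [])], []⟩,
  ⟨14, [(0, 21, 10), (1, 13, 21), (2, 6, 4), (3, 2, 7), (4, 13, 22), (5, 6, 1), (6, 2, 4), (7, 13, 23), (8, 3, 1), (9, 13, 17), (10, 12, 17), (11, 13, 15), (12, 18, 1), (13, 21, 1), (15, 13, 11), (16, 12, 11), (17, 13, 9), (18, 12, 1), (19, 12, 4), (20, 12, 7), (21, 13, 1), (22, 13, 4), (23, 13, 7), (24, 2, 17), (25, 3, 11), (26, 6, 11)], [(14, [])], []⟩,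
  ⟨15, [(0, 21, 10), (1, 12, 18), (2, 6, 4), (3, 1, 8), (4, 12, 19), (5, 6, 1), (6, 1, 5), (7, 12, 20), (8, 3, 1), (9, 6, 20), (10, 12, 17), (11, 12, 16), (12, 1, 18), (13, 1, 21), (14, 1, 24), (16, 12, 11), (17, 12, 10), (18, 12, 1), (19, 12, 4), (20, 12, 7), (21, 1, 13), (22, 3, 10), (23, 6, 10), (24, 1, 14), (25, 3, 11), (26, 6, 11)], [(15, [])], []⟩,
  ⟨16, [(0, 10, 21), (1, 13, 21), (2, 15, 18), (3, 1, 8), (4, 13, 22), (5, 15, 19), (6, 1, 5), (7, 13, 23), (8, 15, 20), (9, 13, 17), (10, 15, 14), (11, 15, 13), (12, 1, 18), (13, 15, 11), (14, 15, 10), (15, 13, 11), (17, 13, 9), (18, 15, 2), (19, 15, 5), (20, 15, 8), (21, 13, 1), (22, 13, 4), (23, 13, 7), (24, 1, 14), (25, 3, 11), (26, 6, 11)], [(16, [])], []⟩,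
  ⟨17, [(0, 21, 10), (1, 14, 24), (2, 16, 21), (3, 1, 8), (4, 14, 25), (5, 16, 22), (6, 1, 5), (7, 14, 26), (8, 16, 23), (9, 16, 14), (10, 15, 14), (11, 16, 12), (12, 16, 11), (13, 15, 11), (14, 16, 9), (15, 14, 10), (16, 14, 9), (18, 15, 2), (19, 15, 5), (20, 15, 8), (21, 16, 2), (22, 16, 5), (23, 16, 8), (24, 14, 1), (25, 14, 4), (26, 14, 7)], [(17, [])], []⟩,
  ⟨19, [(0, 10, 21), (1, 14, 24), (2, 17, 24), (3, 2, 7), (4, 14, 25), (5, 17, 25), (6, 2, 4), (7, 14, 26), (8, 17, 26), (9, 17, 13), (10, 17, 12), (11, 16, 12), (12, 17, 10), (13, 17, 9), (14, 16, 9), (15, 14, 10), (16, 14, 9), (17, 13, 9), (18, 2, 15), (20, 6, 9), (21, 16, 2), (22, 16, 5), (23, 16, 8), (24, 17, 2), (25, 17, 5), (26, 17, 8)], [(19, [])], []⟩,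
  ⟨20, [(0, 10, 21), (1, 14, 24), (2, 17, 24), (3, 19, 9), (4, 19, 12), (5, 19, 15), (6, 2, 4), (7, 14, 26), (8, 17, 26), (9, 19, 3), (10, 17, 12), (11, 16, 12), (12, 19, 4), (13, 17, 9), (14, 16, 9), (15, 19, 5), (16, 14, 9), (17, 13, 9), (18, 2, 15), (19, 3, 9), (21, 19, 26), (22, 16, 5), (23, 19, 24), (24, 19, 23), (25, 17, 5), (26, 19, 21)], [(20, [])], []⟩,
  ⟨22, [(0, 21, 10), (1, 14, 24), (2, 17, 24), (3, 19, 9), (4, 19, 12), (5, 19, 15), (6, 2, 4), (7, 14, 26), (8, 17, 26), (9, 19, 3), (10, 17, 12), (11, 15, 13), (12, 19, 4), (13, 17, 9), (14, 15, 10), (15, 19, 5), (16, 14, 9), (17, 12, 10), (18, 15, 2), (19, 15, 5), (20, 15, 8), (21, 19, 26), (23, 19, 24), (24, 19, 23), (25, 17, 5), (26, 19, 21)], [(22, [])], []⟩,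
  ⟨23, [(0, 21, 10), (1, 14, 24), (2, 17, 24), (3, 22, 10), (4, 22, 13), (5, 22, 16), (6, 20, 9), (7, 20, 12), (8, 20, 15), (9, 20, 6), (10, 22, 3), (11, 15, 13), (12, 20, 7), (13, 22, 4), (14, 15, 10), (15, 20, 8), (16, 22, 5), (17, 12, 10), (18, 22, 26), (19, 15, 5), (20, 22, 24), (21, 20, 25), (22, 20, 24), (24, 22, 20), (25, 20, 21), (26, 22, 18)], [(23, [])], []⟩,
  ⟨25, [(0, 10, 21), (1, 13, 21), (2, 16, 21), (3, 22, 10), (4, 22, 13), (5, 22, 16), (6, 2, 4), (7, 13, 23), (8, 16, 23), (9, 19, 3), (10, 22, 3), (11, 16, 12), (12, 19, 4), (13, 22, 4), (14, 16, 9), (15, 19, 5), (16, 22, 5), (17, 13, 9), (18, 22, 26), (19, 15, 5), (20, 22, 24), (21, 19, 26), (22, 16, 5), (23, 19, 24), (24, 22, 20), (26, 22, 18)], [(25, [])], []⟩,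
  ⟨26, [(0, 10, 21), (1, 13, 21), (2, 16, 21), (3, 25, 11), (4, 25, 14), (5, 25, 17), (6, 23, 10), (7, 23, 13), (8, 23, 16), (9, 20, 6), (10, 23, 6), (11, 25, 3), (12, 20, 7), (13, 23, 7), (14, 25, 4), (15, 20, 8), (16, 23, 8), (17, 25, 5), (18, 25, 23), (19, 23, 24), (20, 25, 21), (21, 25, 20), (22, 20, 24), (23, 25, 18), (24, 23, 19), (25, 23, 18)], [(26, [])], []⟩,
  ⟨11, [(0, 21, 10), (1, 14, 24), (2, 17, 24), (3, 22, 10), (4, 22, 13), (5, 22, 16), (6, 23, 10), (7, 23, 13), (8, 23, 16), (9, 20, 6), (10, 23, 6), (12, 20, 7), (13, 23, 7), (14, 1, 24), (15, 20, 8), (16, 23, 8), (17, 2, 24), (18, 23, 25), (19, 23, 24), (20, 22, 24), (21, 20, 25), (22, 20, 24), (23, 19, 24), (24, 23, 19), (25, 23, 18), (26, 22, 18)], [(11, [])], []⟩,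
  ⟨24, [(0, 21, 10), (1, 13, 21), (2, 16, 21), (3, 25, 11), (4, 25, 14), (5, 25, 17), (6, 26, 11), (7, 26, 14), (8, 26, 17), (9, 16, 14), (10, 15, 14), (11, 26, 6), (12, 16, 11), (13, 15, 11), (14, 26, 7), (15, 13, 11), (16, 12, 11), (17, 26, 8), (18, 26, 22), (19, 26, 21), (20, 25, 21), (21, 26, 19), (22, 26, 18), (23, 25, 18), (25, 3, 11), (26, 6, 11)], [(24, [])], []⟩]

def k27 (j a : ℕ) : ℤ := (([[1, 1, 0, 0, 0, -1, 0, 0, -1, 0, -1, 0, 0, -1, 0, 1, 0, 1, -1, 0, 0, 0, 1, 1, -1, 0, 0], [0, 1, 0, -1, 0, -1, 0, 1, 0, 0, 0, 1, -1, -1, 0, 0, 0, 1, 0, 1, 0, 0, 1, 0, -1, 0, -1], [0, 0, 1, -1, -1, 0, 0, 0, 1, 0, 0, 1, 0, 0, 1, -1, -1, 0, 0, 1, 0, 0, 1, 0, -1, 0, -1], [0, 0, 0, 1, 1, 1, -1, -1, -1, 0, 0, 0, 0, 0, 0, 0, 0, 0, 0, -1, 1, 0, -1, 1, 0, -1, 1], [0, 0, 0, 0, 0, 0, 0, 0, 0, 1, -1, 0, 1, -1, 0, 1, -1, 0, -1, -1, -1, 1, 1, 1, 0, 0, 0], [0, 0, 0, 0, 0, 0, 0, 0, 0, 0, 1, -1, 0, 1,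 -1, 0, 1, -1, 0, 0, 0, -1, -1, -1, 1, 1, 1]] : List (List ℤ)).getD j []).getD a 0

def w27 (j : ℕ) : List (ℕ × List (ℤ × ℤ)) := ([[(6, [(1, 1)]), (65, [(-1, -1)]), (6, [(1, 1)]), (6, [(-1, 0)]), (65, [(1, 0)]), (6, [(-1, 0)])], [(0, [(1, 1)]), (71, [(-1, -1)]), (0, [(1, 1)]), (0, [(-1, 0)]), (71, [(1, 0)]), (0, [(-1, 0)])], [(25, [(1, 1)]), (46, [(-1, -1)]), (25, [(1, 1)]), (25, [(-1, 0)]), (46, [(1, 0)]), (25, [(-1, 0)])], [(50, [(1, 1)]), (21, [(-1, -1)]), (50, [(1, 1)]), (50, [(-1, 0)]), (21, [(1, 0)]), (50, [(-1, 0)])], [(35, [(1, 1)]), (36, [(-1, -1)]), (35, [(1, 1)]), (35, [(-1, 0)]), (36, [(1, 0)]), (35, [(-1, 0)])], [(49, [(1, 1)]), (22, [(-1, -1)]), (49, [(1, 1)]), (49, [(-1, 0)]), (22, [(1, 0)]), (49, [(-1, 0)])]] : List (List (ℕ × List (ℤ × ℤ)))).getD j []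

theorem rZero27 : fastE6.toRec.rZero 27 t27 = true := by decide +kernel
theorem rAdd27 : fastE6.toRec.rAdd 27 t27 = true := by decide +kernel
theorem rN27 : ∀ i < 6, fastE6.toRec.rN fastE6.eta 27 t27 i = true := by decide +kernel
theorem rComm27 : fastE6.toRec.rComm 27 t27 = true := by decide +kernel
theorem rH27 : fastE6.toRec.rH 27 t27 = true := by decide +kernel

theorem repChk27 : (recOf chevE6).RepChk fastE6.eta c27.N t27 := by
  rw [agreeE6.recOf_eq]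
  exact ⟨rZero27, rAdd27, rN27, rComm27, rH27⟩

theorem form27 : ∀ r < 72, formChk c27.N t27 (cub27.map fun e => (e.1, [e.2.1, e.2.2.1, e.2.2.2])) r = true := by
  decide +kernel

theorem ql27_eq : ∀ j < c27.N, ql27 j = qlOf cub27 j := by decide +kernel

theorem chain27 : chainChk c27.N t27 72 c27.N ql27 (triB c27.N ql27) steps27 [] = true := by
  decide +kernel

theorem word27 : ∀ j < 6, ((w27 j).all fun a => Nat.blt a.1 72) = true ∧
    allB c27.N (fun i => veq 0 (rowW c27.N t27 0 (w27 j) i) [(i, 1, k27 j i)]) = true := by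
  decide +kernel

theorem hT27 {F : Type*} [Field F] (v : I27 → F) : cubicT v = cv (c27.xc v) cub27 := by
  simp [cubicT, mat3, det_fin_three, trace, mul_apply, Fin.sum_univ_three, cv, cub27, Coding.xc, c27]
  ring

theorem isoE6 (F : Type*) [Field F] (hF : ∃ a : F, a ≠ 0 ∧ a ≠ 1) : Nonempty (E6 F ≃* chevE6.group F) := by
  obtain ⟨R⟩ := tabE6.exists_repRel (C := c27) (T := t27) repChk27 F
  obtain ⟨ψ, hψ⟩ := R.exists_psi goodE6
  have hperf := range_le_commutator (st_perfect_of_one (matE6 F)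
    [(16, 66), (1, 71), (5, 69), (2, 70), (3, 69), (4, 68)] (by decide +kernel)) ψ
  have hr : ∀ r < 72, ∀ t : F, ∃ γ ∈ ψ.range, (γ : Matrix _ _ F) = c27.Y t27 r t :=
    fun r hr t => ⟨_, ⟨_, rfl⟩, hψ r hr t⟩
  have hle : ψ.range ≤ funStab F cubicT := st_range_le goodE6 ψ fun r hr t =>
    mem_stab_of_formChk hT27 (form27 r hr) (hψ r hr t)
  have Q := qf_cubic (F := F) hT27 hF ql27_eq
  refine stab_equiv (matE6 F) (asm_simple (matE6 F) treeE6 (perfectE6 F)) ψ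
    (le_antisymm (fun g hg => ?_) hle) (not_comm_of_perfect hperf ⟨chevE6.stGen F 56 1, rfl⟩ fun h => ?_)
  · obtain ⟨γ, hγ, h1⟩ := Q.exists_diag hle hr steps27 chain27 (by decide +kernel) g hg
    obtain ⟨δ, hδ, h2, h3⟩ := scale_sound (C := c27) (Γ := ψ.range)
      [(0, k27 0), (1, k27 1), (2, k27 2), (3, k27 3), (9, k27 4), (10, k27 5)] (by
        intro p hp
        simp only [List.mem_cons, List.not_mem_nil, or_false] at hp
        rcases hp with rfl | rfl | rfl | rfl | rfl | rfl <;> exact ⟨by decide, fun c =>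
          Coding.dg_mem_of_word hr _ (word27 _ (by decide)).1 (word27 _ (by decide)).2 c⟩)
      [] (by decide +kernel) (γ * g) h1 (by simp)
    have hm : δ * (γ * g) ∈ funStab F cubicT := mul_mem (hle hδ) (mul_mem (hle hγ) hg)
    have h4 : δ * (γ * g) = 1 := Coding.eq_one_of_diag h2 (prop_sound
      (tri := triB c27.N ql27) (d := fun a => c27.ent (δ * (γ * g)) a a)
      (fun a b c h ha hb => by
        have h' := h
        simp only [triB, Bool.and_eq_true, Nat.blt_eq] at h'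
        have := Q.tri _ hm a b c h (h2 a h'.1.1.1.1) (h2 b h'.1.1.1.2)
        rwa [ha, hb, one_mul, one_mul] at this)
      [(1, 3, 8), (2, 3, 7), (0, 9, 18), (0, 10, 21), (1, 18, 12), (1, 21, 13), (2, 18, 15), (2, 21, 16), (3, 9, 19), (3, 10, 22), (12, 19, 4), (15, 19, 5), (7, 12, 20), (7, 13, 23), (1, 5, 6), (9, 13, 17), (9, 16, 14), (12, 16, 11), (18, 22, 26), (18, 23, 25), (19, 23, 24)] _ (by decide +kernel) h3)
    have : g = γ⁻¹ * δ⁻¹ := by rw [← mul_one δ⁻¹, ← h4]; group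
    rw [this]
    exact mul_mem (inv_mem hγ) (inv_mem hδ)
  · refine Y_ne_one (C := c27) (T := t27) (F := F) (r := 56) (a := 6) (b := 0) (ε := 1) (by decide) (by decide)
      (by decide) (by decide) (by decide +kernel) ?_
    rw [← hψ 56 (by decide), h, Units.val_one]

end H19
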