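import Mathlib
import Cfsg.Agent.H19.GQ22

/-!
# The strongly regular graph with parameters (77, 16, 0, 4): local structure
-/

set_option autoImplicit false
set_option linter.unusedSectionVars false

namespace H19.SRG77
open Finset

variable {V : Type*} [Fintype V] [DecidableEq V] (G : SimpleGraph V) [DecidableRel G.Adj]

/-- The adjacency operator. -/
def op (f : V → ℤ) (u : V) : ℤ := ∑ w, if G.Adj u w then f w else 0

/-- Indicator functions. -/
def ind (S : Finset V) (u : V) : ℤ := if u ∈ S then 1 else 0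

/-- The neighbours. -/
def nb (x : V) : Finset V := univ.filter (G.Adj x)

/-- The common neighbours. -/
def cn (x y : V) : Finset V := univ.filter fun w => G.Adj x w ∧ G.Adj y w

/-- The number of common neighbours of three vertices. -/
def t3 (x y z : V) : ℕ := (univ.filter fun w => G.Adj x w ∧ G.Adj y w ∧ G.Adj z w).card

/-- The vertices at distance two. -/
def Far (x y : V) : Prop := x ≠ y ∧ ¬ G.Adj x y

instance instDecFar (x y : V) : Decidable (Far G x y) := by unfold Far; infer_instance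

/-- The vector of a block. -/
def F (x B u : V) : ℤ := 2 * ind {B} u + ind (cn G x B) u

/-- The squared distance of two blocks. -/
def s0 (x B u : V) : ℤ := op G (F G x B) u - 2 * F G x B u

variable {G}

@[simp] theorem mem_nb {x u : V} : u ∈ nb G x ↔ G.Adj x u := by simp [nb]
@[simp] theorem mem_cn {x y u : V} : u ∈ cn G x y ↔ G.Adj x u ∧ G.Adj y u := by simp [cn]

theorem sum_ind_mul (S : Finset V) (g : V → ℤ) : ∑ u, ind S u * g u = ∑ u ∈ S, g u := by
  simp [ind]

theorem sum_ind (S : Finset V) : ∑ u, ind S u = S.card := by simp [ind]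

theorem op_ind (S : Finset V) (u : V) : op G (ind S) u = (S.filter (G.Adj u)).card := by
  rw [op, card_filter]
  push_cast
  refine Eq.trans ?_ (sum_ind_mul S fun i => if G.Adj u i then 1 else 0)
  exact sum_congr rfl fun w _ => by split_ifs <;> simp

theorem dc (S T : Finset V) :
    ∑ p ∈ S, (T.filter (G.Adj p)).card = ∑ q ∈ T, (S.filter (G.Adj q)).card := by
  simp only [card_filter]
  rw [sum_comm]
  simp only [G.adj_comm]

theorem op_adj (f g : V → ℤ) : ∑ u, g u * op G f u = ∑ u, f u * op G g u := by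
  simp only [op, mul_sum]
  rw [sum_comm]
  refine sum_congr rfl fun u _ => sum_congr rfl fun w _ => ?_
  by_cases h : G.Adj u w
  · simp [h, h.symm, mul_comm]
  · simp [h, mt G.adj_symm h]

theorem op_sum {ι : Type*} (S : Finset ι) (c : ι → ℤ) (f : ι → V → ℤ) (u : V) :
    op G (fun w => ∑ i ∈ S, c i * f i w) u = ∑ i ∈ S, c i * op G (f i) u := by
  simp only [op, mul_sum]
  rw [sum_comm]
  refine sum_congr rfl fun w _ => ?_
  split_ifs <;> simp

theorem op_F (x B u : V) : op G (F G x B) u = 2 * (if G.Adj u B then 1 else 0) + t3 G x B u := by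
  have : op G (F G x B) u = 2 * op G (ind {B}) u + op G (ind (cn G x B)) u := by
    simp only [op, F, mul_sum, ← sum_add_distrib]
    exact sum_congr rfl fun w _ => by split_ifs <;> simp
  rw [this, op_ind, op_ind, filter_singleton, cn, filter_filter, t3]
  simp only [and_assoc]
  split_ifs <;> simp

theorem t3_comm (x y z : V) : t3 G x y z = t3 G x z y := by
  unfold t3; congr 1; ext w; simp; tauto

theorem t3_eq (x y z : V) : t3 G x y z = ((cn G x y).filter (G.Adj z)).card := by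
  rw [cn, filter_filter, t3]; simp only [and_assoc]

section
variable (h : G.IsSRGWith 77 16 0 4)
include h

theorem card_nb (x : V) : (nb G x).card = 16 := by
  rw [← h.regular x, ← G.card_neighborFinset_eq_degree]; congr 1; ext; simp

theorem card_cn_eq (x y : V) : (cn G x y).card = Fintype.card (G.commonNeighbors x y) := by
  rw [← Set.toFinset_card]; congr 1; ext; simp [SimpleGraph.mem_commonNeighbors]

theorem card_cn {x y : V} (hxy : Far G x y) : (cn G x y).card = 4 := by
  rw [card_cn_eq h, h.of_not_adj hxy.1 hxy.2]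

theorem tri {x y z : V} (h1 : G.Adj x y) (h2 : G.Adj x z) : ¬ G.Adj y z := fun h3 => by
  have := card_cn_eq h x y
  rw [h.of_adj x y h1, card_eq_zero] at this
  exact notMem_empty z (this ▸ mem_cn.2 ⟨h2, h3⟩)

theorem sum_op (f : V → ℤ) : ∑ u, op G f u = 16 * ∑ u, f u := by
  have := op_adj (G := G) f (ind univ)
  simp only [op_ind] at this
  simp only [ind, mem_univ, if_true, one_mul] at this
  rw [this, mul_sum]
  exact sum_congr rfl fun u _ => by rw [← nb, card_nb h, mul_comm]; rfl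

theorem op_op (f : V → ℤ) (u : V) : op G (op G f) u = 12 * f u - 4 * op G f u + 4 * ∑ w, f w := by
  have e : op G (op G f) u = ∑ w, (cn G u w).card * f w := by
    simp only [op, cn, card_filter]
    push_cast
    simp only [sum_mul]
    rw [sum_comm]
    refine sum_congr rfl fun w _ => ?_
    split_ifs with h1
    · exact sum_congr rfl fun v _ => by simp [h1, G.adj_comm]
    · simp [h1]
  have e2 : 12 * f u = ∑ w, if u = w then 12 * f w else 0 := by simp
  rw [e, e2, op, mul_sum, mul_sum, ← sum_sub_distrib, ← sum_add_distrib]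
  refine sum_congr rfl fun w _ => ?_
  by_cases h1 : u = w
  · subst h1
    rw [show cn G u u = nb G u by ext; simp, card_nb h]; simp; ring
  by_cases h2 : G.Adj u w
  · rw [card_cn_eq h, h.of_adj u w h2]; simp [h1, h2]
  · rw [card_cn h ⟨h1, h2⟩]; simp [h1, h2]

theorem sum_sq (f : V → ℤ) : ∑ u, op G f u * op G f u =
    12 * ∑ u, f u * f u - 4 * ∑ u, f u * op G f u + 4 * (∑ u, f u) * ∑ u, f u := by
  rw [← op_adj]
  simp only [op_op h, mul_sub, mul_add, sum_sub_distrib, sum_add_distrib, ← sum_mul]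
  simp only [mul_sum]
  congr 1
  · congr 1 <;> exact sum_congr rfl fun u _ => by ring
  · simp only [← mul_sum]; ring

theorem ker {f : V → ℤ} (h1 : ∑ u, f u = 0) (h2 : ∑ u, f u * (op G f u - 2 * f u) = 0) (u : V) :
    op G f u - 2 * f u = 0 := by
  have e : ∑ u, (op G f u - 2 * f u) ^ 2 = 0 := by
    have a : ∀ u, (op G f u - 2 * f u) ^ 2 =
        op G f u * op G f u - 4 * (f u * op G f u) + 4 * (f u * f u) := fun u => by ring
    have b : ∀ u, f u * (op G f u - 2 * f u) = f u * op G f u - 2 * (f u * f u) := fun u => by ring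
    simp only [a, b, sum_add_distrib, sum_sub_distrib, ← mul_sum, sum_sq h, h1] at h2 ⊢
    linarith
  exact pow_eq_zero_iff two_ne_zero |>.1
    ((sum_eq_zero_iff_of_nonneg fun u _ => sq_nonneg _).1 e u (mem_univ u))

theorem sum_quad (S : Finset V) (a b : ℤ) :
    ∑ u, (op G (ind S) u - a) * (op G (ind S) u - b) = 12 * S.card - 4 * ∑ u ∈ S, op G (ind S) u +
      4 * S.card * S.card - (a + b) * (16 * S.card) + 77 * (a * b) := by
  have e : ∀ u, (op G (ind S) u - a) * (op G (ind S) u - b) =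
      op G (ind S) u * op G (ind S) u - (a + b) * op G (ind S) u + a * b := fun u => by ring
  simp only [e, sum_add_distrib, sum_sub_distrib, ← mul_sum, sum_sq h, sum_op h, sum_ind_mul, sum_ind,
    sum_const, card_univ, h.card]
  rw [sum_congr rfl fun u hu => show ind S u = 1 from if_pos hu]
  simp only [sum_const, nsmul_eq_mul]
  push_cast
  ring

theorem t3_le {x y z : V} (h1 : x ≠ y) (h2 : x ≠ z) (h3 : y ≠ z) : t3 G x y z ≤ 2 := by
  by_contra hc
  obtain ⟨Y, hY, hY3⟩ := exists_subset_card_eq (show 3 ≤ t3 G x y z by omega)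
  have hX3 : ({x, y, z} : Finset V).card = 3 := card_eq_three.2 ⟨x, y, z, h1, h2, h3, rfl⟩
  generalize hX : ({x, y, z} : Finset V) = X at hX3
  have hXY : ∀ a ∈ X, ∀ b ∈ Y, G.Adj a b := fun a ha b hb => by
    have := hY hb
    rw [← hX] at ha
    simp only [mem_filter, mem_univ, true_and, mem_insert, mem_singleton] at this ha
    rcases ha with rfl | rfl | rfl <;> tauto
  obtain ⟨a0, ha0⟩ := card_pos.1 (show 0 < X.card by omega)
  obtain ⟨b0, hb0⟩ := card_pos.1 (show 0 < Y.card by omega)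
  have hd : Disjoint X Y := disjoint_left.2 fun a ha hb => G.irrefl (hXY a ha a hb)
  have h6 : (X ∪ Y).card = 6 := by rw [card_union_of_disjoint hd, hX3, hY3]
  have hm : ∀ u ∈ X ∪ Y, op G (ind (X ∪ Y)) u = 3 := fun u hu => by
    rw [op_ind]
    rcases mem_union.1 hu with hu | hu
    · rw [show (X ∪ Y).filter (G.Adj u) = Y from ?_, hY3]; · rfl
      ext w
      simp only [mem_filter, mem_union]
      exact ⟨fun ⟨a, b⟩ => a.resolve_left fun c => tri h (hXY u hu b0 hb0).symm (hXY w c b0 hb0).symm b,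
        fun a => ⟨Or.inr a, hXY u hu w a⟩⟩
    · rw [show (X ∪ Y).filter (G.Adj u) = X from ?_, hX3]; · rfl
      ext w
      simp only [mem_filter, mem_union]
      exact ⟨fun ⟨a, b⟩ => a.resolve_right fun c => tri h (hXY a0 ha0 u hu) (hXY a0 ha0 w c) b,
        fun a => ⟨Or.inl a, (hXY w a u hu).symm⟩⟩
  have e := sum_quad h (X ∪ Y) 1 2
  rw [sum_congr rfl hm, sum_const, h6] at e
  have : ∑ u ∈ X ∪ Y, (op G (ind (X ∪ Y)) u - 1) * (op G (ind (X ∪ Y)) u - 2) ≤
      ∑ u, (op G (ind (X ∪ Y)) u - 1) * (op G (ind (X ∪ Y)) u - 2) :=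
    sum_le_sum_of_subset_of_nonneg (subset_univ _) fun u _ _ => by
      generalize op G (ind (X ∪ Y)) u = m
      rcases le_or_gt m 1 with a | a <;> nlinarith
  rw [e, sum_congr rfl fun u hu => by rw [hm u hu], sum_const, h6] at this
  norm_num at this

theorem t3_adj {x y z : V} (h1 : G.Adj x z ∨ G.Adj y z) : t3 G x y z = 0 := by
  rw [t3, card_eq_zero, filter_eq_empty_iff]
  rintro w - ⟨a, b, c⟩
  rcases h1 with h1 | h1
  · exact tri h h1 a c
  · exact tri h h1 b c

theorem s0_self {x B : V} (hB : Far G x B) : s0 G x B B = 0 := by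
  rw [s0, op_F, t3_eq, filter_true_of_mem fun w hw => (mem_cn.1 hw).2, card_cn h hB]
  simp [F, ind]

omit h in
theorem s0_ne {x B C : V} (hC : Far G x C) (hne : B ≠ C) :
    s0 G x B C = 2 * (if G.Adj C B then 1 else 0) + t3 G x B C := by
  rw [s0, op_F]
  simp [F, ind, hne.symm, hC.2]

theorem s0_nb {x B p : V} (hB : Far G x B) (hp : G.Adj x p) : s0 G x B p = 0 := by
  have : p ≠ B := fun e => hB.2 (e ▸ hp)
  rw [s0, op_F, t3_adj h (Or.inl hp)]
  simp [F, ind, this, hp, G.adj_comm]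

theorem s0_comm {x B C : V} (hB : Far G x B) (hC : Far G x C) : s0 G x B C = s0 G x C B := by
  by_cases e : B = C
  · rw [e]
  · rw [s0_ne hC e, s0_ne hB (Ne.symm e), t3_comm]; simp only [G.adj_comm]

theorem sum_F_mul {x B C : V} (hC : Far G x C) : ∑ u, F G x B u * s0 G x C u = 2 * s0 G x C B := by
  simp only [F, add_mul, sum_add_distrib, mul_assoc, ← mul_sum, sum_ind_mul, sum_singleton]
  rw [sum_eq_zero fun p hp => s0_nb h hC (mem_cn.1 hp).1, add_zero]

theorem sum_F {x B : V} (hB : Far G x B) : ∑ u, F G x B u = 6 := by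
  simp only [F, sum_add_distrib, ← mul_sum, sum_ind, card_cn h hB]; simp

theorem ker2 {ι : Type*} {x : V} (S : Finset ι) (c : ι → ℤ) (B : ι → V) (hB : ∀ i ∈ S, Far G x (B i))
    (h1 : ∑ i ∈ S, c i = 0) (h2 : ∑ i ∈ S, c i * ∑ j ∈ S, c j * s0 G x (B j) (B i) = 0) (u : V) :
    ∑ i ∈ S, c i * s0 G x (B i) u = 0 := by
  have e : ∀ u, op G (fun w => ∑ i ∈ S, c i * F G x (B i) w) u - 2 * ∑ i ∈ S, c i * F G x (B i) u =
      ∑ i ∈ S, c i * s0 G x (B i) u := fun u => by
    rw [op_sum, mul_sum, ← sum_sub_distrib]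
    exact sum_congr rfl fun i _ => by rw [s0]; ring
  rw [← e]
  refine ker h (f := fun w => ∑ i ∈ S, c i * F G x (B i) w) ?_ ?_ u
  · rw [sum_comm, sum_congr rfl fun i hi => by rw [← mul_sum, sum_F h (hB i hi)], ← sum_mul, h1,
      zero_mul]
  · simp only [e, sum_mul]
    rw [sum_comm, ← mul_zero 2, ← h2, mul_sum]
    refine sum_congr rfl fun i _ => ?_
    simp only [mul_sum]
    rw [sum_comm]
    refine sum_congr rfl fun j hj => ?_
    rw [show 2 * (c i * (c j * s0 G x (B j) (B i))) = c i * c j * (2 * s0 G x (B j) (B i)) by ring,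
      ← sum_F_mul h (hB j hj), mul_sum]
    exact sum_congr rfl fun u _ => by ring

end

variable (G) in
/-- The parallel class of a block. -/
def cls (x B : V) : Finset V := univ.filter fun C => Far G x C ∧ s0 G x B C = 0

@[simp] theorem mem_cls {x B C : V} : C ∈ cls G x B ↔ Far G x C ∧ s0 G x B C = 0 := by simp [cls]

section
variable (h : G.IsSRGWith 77 16 0 4)
include h

theorem card_cls {x B : V} (hB : Far G x B) : (cls G x B).card = 4 := by
  have e := sum_quad h (cn G x B) 1 2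
  have h0 : ∀ u ∈ cn G x B, op G (ind (cn G x B)) u = 0 := fun u hu => by
    rw [op_ind, ← t3_eq, t3_adj h (Or.inl (mem_cn.1 hu).1)]; rfl
  rw [sum_eq_zero h0, card_cn h hB] at e
  have key : ∀ u, (op G (ind (cn G x B)) u - 1) * (op G (ind (cn G x B)) u - 2) =
      6 * ind {x} u + 4 * ind {B} u + 2 * ind (nb G x) u + 2 * ind (nb G B) u - 2 * ind (cn G x B) u +
        2 * ind (cls G x B) u := fun u => by
    rw [op_ind, ← t3_eq]
    by_cases h1 : u = x
    · subst h1
      rw [t3_eq, filter_true_of_mem fun w hw => (mem_cn.1 hw).1, card_cn h hB]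
      simp [ind, hB.1, Far, mt G.adj_symm hB.2]
    by_cases h2 : u = B
    · subst h2
      rw [t3_eq, filter_true_of_mem fun w hw => (mem_cn.1 hw).2, card_cn h hB]
      simp [ind, h1, hB, hB.2, s0_self h hB]
    by_cases h3 : G.Adj x u
    · rw [t3_adj h (Or.inl h3)]
      simp [ind, h1, h2, h3, Far]
    have hu : Far G x u := ⟨Ne.symm h1, h3⟩
    have h5 := s0_ne hu (Ne.symm h2)
    by_cases h4 : G.Adj B u
    · rw [t3_adj h (Or.inr h4)] at h5 ⊢
      simp [ind, h1, h2, h3, h4, h4.symm, h5]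
    have h6 := t3_le h hB.1 (Ne.symm h1) (Ne.symm h2)
    simp only [ind, h1, h2, h3, h4, mt G.adj_symm h4, h5, hu, mem_singleton, mem_nb, mem_cn, mem_cls]
    interval_cases t3 G x B u <;> simp
  simp only [key, sum_add_distrib, sum_sub_distrib, ← mul_sum, sum_ind, card_nb h, card_cn h hB,
    card_singleton] at e
  omega

theorem s0_cls {x B C : V} (hB : Far G x B) (hC : C ∈ cls G x B) (u : V) :
    s0 G x C u = s0 G x B u := by
  obtain ⟨h1, h2⟩ := mem_cls.1 hC
  have := ker2 h (x := x) univ ![1, -1] ![C, B] (by simp [Fin.forall_fin_two, h1, hB]) (by simp)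
    (by simp [s0_self h, h1, hB, h2, s0_comm h h1 hB]) u
  simp at this
  linarith

theorem self_cls {x B : V} (hB : Far G x B) : B ∈ cls G x B := mem_cls.2 ⟨hB, s0_self h hB⟩

theorem s0_cls2 {x B C B' C' : V} (hB : Far G x B) (hC : Far G x C) (h1 : B' ∈ cls G x B)
    (h2 : C' ∈ cls G x C) : s0 G x B' C' = s0 G x B C := by
  rw [s0_cls h hB h1, s0_comm h hB (mem_cls.1 h2).1, s0_cls h hC h2, s0_comm h hC hB]

theorem cls_uniq {x B C D p : V} (hB : Far G x B) (hp : G.Adj x p) (hC : C ∈ cls G x B)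
    (hD : D ∈ cls G x B) (h1 : G.Adj C p) (h2 : G.Adj D p) : C = D := by
  by_contra e
  have := s0_cls2 h hB hB hC hD
  rw [s0_self h hB, s0_ne (mem_cls.1 hD).1 e] at this
  have h3 : 0 < t3 G x C D := card_pos.2 ⟨p, by simp [hp, h1, h2]⟩
  split_ifs at this <;> omega

theorem cls_one {x B p : V} (hB : Far G x B) (hp : G.Adj x p) :
    ((cls G x B).filter (G.Adj p)).card = 1 := by
  have h1 : ∀ p ∈ nb G x, ((cls G x B).filter (G.Adj p)).card ≤ 1 := fun p hp =>
    card_le_one.2 fun C hC D hD => cls_uniq h hB (mem_nb.1 hp) (mem_filter.1 hC).1 (mem_filter.1 hD).1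
      (mem_filter.1 hC).2.symm (mem_filter.1 hD).2.symm
  have h2 : ∑ p ∈ nb G x, ((cls G x B).filter (G.Adj p)).card = ∑ _p ∈ nb G x, 1 := by
    rw [dc, sum_congr rfl (g := fun _ => 4) fun C hC => ?_]
    · simp [card_cls h hB, card_nb h]
    · rw [← card_cn h (mem_cls.1 hC).1]; congr 1; ext; simp
  exact (sum_eq_sum_iff_of_le h1).1 h2 p (mem_nb.2 hp)

theorem cls_adj {x B C : V} (hB : Far G x B) (hC : Far G x C) (h2 : s0 G x C B = 2) :
    ∃ D ∈ cls G x C, G.Adj B D := by
  by_contra! hn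
  have e := dc (G := G) (cls G x C) (cn G x B)
  rw [sum_congr rfl (g := fun _ => 2) fun D hD => ?_,
    sum_congr rfl (g := fun _ => 1) fun p hp => cls_one h hC (mem_cn.1 hp).1] at e
  · simp [card_cls h hC, card_cn h hB] at e
  · have a := s0_cls h hC hD B
    have hne : D ≠ B := fun e => by
      rw [e, s0_self h hB] at a; omega
    rw [h2, s0_ne hB hne, if_neg (hn D hD), t3_comm] at a
    rw [← t3_eq]; omega

section
variable {x p : V} (hp : G.Adj x p)
include hp

theorem far_of {Y : V} (hY : Y ∈ (nb G p).erase x) : Far G x Y :=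
  ⟨(mem_erase.1 hY).1.symm, tri h hp.symm (mem_nb.1 (mem_erase.1 hY).2)⟩

theorem s0_R {Y Z : V} (hY : Y ∈ (nb G p).erase x) (hZ : Z ∈ (nb G p).erase x) (hne : Y ≠ Z) :
    s0 G x Y Z = t3 G x Y Z ∧ 1 ≤ t3 G x Y Z ∧ t3 G x Y Z ≤ 2 ∧
      (t3 G x Y Z = 2 ↔ ∃ q ∈ (nb G x).erase p, G.Adj q Y ∧ G.Adj q Z) := by
  have a := mem_nb.1 (mem_erase.1 hY).2
  have b := mem_nb.1 (mem_erase.1 hZ).2
  have h1 := t3_le h (far_of h hp hY).1 (far_of h hp hZ).1 hne
  have hm : p ∈ univ.filter fun w => G.Adj x w ∧ G.Adj Y w ∧ G.Adj Z w := by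
    simp [hp, a.symm, b.symm]
  have h2 : 1 ≤ t3 G x Y Z := card_pos.2 ⟨p, hm⟩
  refine ⟨by rw [s0_ne (far_of h hp hZ) hne, if_neg (tri h b a)]; simp, h2, h1, fun e => ?_,
    fun ⟨q, hq, c, d⟩ => le_antisymm h1 (one_lt_card.2 ⟨q, ?_, p, hm, (mem_erase.1 hq).1⟩)⟩
  · obtain ⟨q, hq, hqp⟩ := exists_mem_ne (show 1 < t3 G x Y Z by omega) p
    simp only [mem_filter, mem_univ, true_and] at hq
    exact ⟨q, by simp [hqp, hq.1], hq.2.1.symm, hq.2.2.symm⟩
  · simp [mem_nb.1 (mem_erase.1 hq).2, c.symm, d.symm]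

theorem card_line {q : V} (hq : q ∈ (nb G x).erase p) :
    (((nb G p).erase x).filter (G.Adj q)).card = 3 := by
  have a := mem_nb.1 (mem_erase.1 hq).2
  have : ((nb G p).erase x).filter (G.Adj q) = (cn G p q).erase x := by
    ext; simp [and_assoc]
  rw [this, card_erase_of_mem (by simp [hp.symm, a.symm]),
    card_cn h ⟨(mem_erase.1 hq).1.symm, tri h hp a⟩]

theorem card_R : ((nb G p).erase x).card = 15 := by
  rw [card_erase_of_mem (mem_nb.2 hp.symm), card_nb h]

theorem sum_R {Y : V} (hY : Y ∈ (nb G p).erase x) : ∑ Z ∈ (nb G p).erase x, s0 G x Z Y = 20 := by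
  have hY' := far_of h hp hY
  have a := mem_nb.1 (mem_erase.1 hY).2
  have e := dc (G := G) ((nb G p).erase x) (cn G x Y)
  have hpm : p ∈ cn G x Y := mem_cn.2 ⟨hp, a.symm⟩
  rw [← add_sum_erase _ _ hpm, ← add_sum_erase _ _ hY,
    sum_congr rfl (s₁ := (cn G x Y).erase p) (g := fun _ => 3) fun q hq => card_line h hp (by
      simp only [mem_erase, mem_cn, mem_nb] at hq ⊢; exact ⟨hq.1, hq.2.1⟩),
    filter_true_of_mem fun w hw => (mem_cn.1 hw).2,
    filter_true_of_mem fun w hw => mem_nb.1 (mem_erase.1 hw).2, card_R h hp, sum_const,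
    card_erase_of_mem hpm, card_cn h hY'] at e
  rw [← add_sum_erase _ _ hY, s0_self h hY', sum_congr rfl
    (g := fun Z => (((cn G x Y).filter (G.Adj Z)).card : ℤ)) fun Z hZ => by
      rw [(s0_R h hp (mem_erase.1 hZ).2 hY (mem_erase.1 hZ).1).1, t3_comm, t3_eq]]
  rw [← Nat.cast_sum]
  simp only [smul_eq_mul] at e
  omega

theorem sum_line {q Y : V} (hq : q ∈ (nb G x).erase p) (hY : Y ∈ (nb G p).erase x) :
    ∑ Z ∈ ((nb G p).erase x).filter (G.Adj q), s0 G x Z Y = 4 := by
  generalize hR : (nb G p).erase x = R at hY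
  generalize hL : R.filter (G.Adj q) = L
  have hLR : L ⊆ R := hL ▸ filter_subset _ _
  have hL3 : L.card = 3 := by rw [← hL, ← hR, card_line h hp hq]
  have hf : ∀ Z ∈ R, Far G x Z := fun Z hZ => far_of h hp (hR ▸ hZ)
  have hs : ∀ Z ∈ R, ∑ W ∈ R, s0 G x W Z = 20 := fun Z hZ => hR ▸ sum_R h hp (hR ▸ hZ)
  have hc : ∀ g : V → ℤ, ∑ W ∈ R, (5 * ind L W - 1) * g W = 5 * ∑ W ∈ L, g W - ∑ W ∈ R, g W :=
    fun g => by
      simp only [sub_mul, sum_sub_distrib, one_mul, mul_assoc, ← mul_sum]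
      congr 2
      simp only [ind, ite_mul, one_mul, zero_mul]
      rw [sum_ite_mem, inter_eq_right.2 hLR]
  have h4 : ∀ Z ∈ L, ∑ W ∈ L, s0 G x W Z = 4 := fun Z hZ => by
    rw [← add_sum_erase _ _ hZ, s0_self h (hf Z (hLR hZ)), sum_congr rfl (g := fun _ => 2), sum_const,
      card_erase_of_mem hZ, hL3]
    · rfl
    · intro W hW
      obtain ⟨a, -, -, b⟩ := s0_R h hp (hR ▸ hLR (mem_erase.1 hW).2) (hR ▸ hLR hZ) (mem_erase.1 hW).1
      rw [a, b.2 ⟨q, hq, (mem_filter.1 (hL ▸ (mem_erase.1 hW).2)).2, (mem_filter.1 (hL ▸ hZ)).2⟩]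
      rfl
  have := ker2 h (x := x) R (fun W => 5 * ind L W - 1) id hf (by
      have := hc fun _ => 1
      simp only [mul_one, sum_const, hL3] at this
      rw [this, ← hR, card_R h hp]; simp) (by
      simp only [id, hc]
      rw [sum_congr rfl (s₁ := L) (g := fun _ => 0) fun Z hZ => by rw [h4 Z hZ, hs Z (hLR hZ)]; rfl,
        sum_sub_distrib, sum_congr rfl hs, ← mul_sum, sum_comm, sum_congr rfl (s₁ := L)
        (g := fun _ => 20) fun Z hZ => (sum_congr rfl fun W hW =>
          s0_comm h (hf Z (hLR hZ)) (hf W hW)).trans (hs Z (hLR hZ))]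
      simp only [sum_const, hL3]
      rw [← hR, card_R h hp]; simp) Y
  simp only [id, hc, hs Y hY] at this
  omega

theorem gq {q Y : V} (hq : q ∈ (nb G x).erase p) (hY : Y ∈ (nb G p).erase x) (hn : ¬ G.Adj q Y) :
    ((((nb G p).erase x).filter (G.Adj q)).filter fun Z => t3 G x Z Y = 2).card = 1 := by
  have e := sum_line h hp hq hY
  rw [sum_congr rfl (g := fun Z => 1 + if t3 G x Z Y = 2 then 1 else 0) fun Z hZ => ?_,
    sum_add_distrib, sum_const, card_line h hp hq, sum_boole] at e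
  · simp only [nsmul_eq_mul] at e
    omega
  · obtain ⟨a, b, c, -⟩ := s0_R h hp (mem_filter.1 hZ).1 hY fun e => hn (e ▸ (mem_filter.1 hZ).2)
    rw [a]
    split_ifs <;> omega

theorem spreads {B : V} (hB : B ∈ (nb G p).erase x) :
    (((nb G p).erase x).powerset.filter fun O =>
      B ∈ O ∧ O.card = 5 ∧ ∀ y ∈ O, ∀ z ∈ O, y ≠ z → t3 G x y z ≠ 2).card = 2 := by
  have hsub : ∀ (S : Finset V) (r : V → Prop) [DecidablePred r],
      (univ.filter fun y : S => r y.1).card = (S.filter r).card := fun S r _ => by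
    rw [← card_map (Function.Embedding.subtype _)]
    congr 1; ext; simp [and_comm]
  let I : (nb G p).erase x → (nb G x).erase p → Prop := fun y l => G.Adj l.1 y.1
  have hcol : ∀ {y z : (nb G p).erase x}, y ≠ z → (GQ22.Col I y z ↔ t3 G x y z = 2) :=
    fun {y z} hyz => by
      rw [(s0_R h hp y.2 z.2 fun e => hyz (Subtype.ext e)).2.2.2]
      exact ⟨fun ⟨m, a⟩ => ⟨m.1, m.2, a⟩, fun ⟨m, b, a⟩ => ⟨⟨m, b⟩, a⟩⟩
  have key := GQ22.ovoids (I := I) (by rw [Fintype.card_coe, card_R h hp])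
    (fun y => by
      rw [← card_line h hp.symm y.2, ← hsub]; congr 1; ext; simp [I, G.adj_comm])
    (fun l => by rw [← card_line h hp l.2, ← hsub])
    (fun {y z l m} hyz a b c d => by
      by_contra e
      have := (s0_R h hp y.2 z.2 fun e => hyz (Subtype.ext e)).2.2.1
      refine absurd (two_lt_card_iff.2 ⟨l.1, m.1, p, ?_, ?_, ?_, fun e' => e (Subtype.ext e'),
        (mem_erase.1 l.2).1, (mem_erase.1 m.2).1⟩) (not_lt.2 this)
      · simpa using ⟨mem_nb.1 (mem_erase.1 l.2).2, a.symm, b.symm⟩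
      · simpa using ⟨mem_nb.1 (mem_erase.1 m.2).2, c.symm, d.symm⟩
      · simpa using ⟨hp, (mem_nb.1 (mem_erase.1 y.2).2).symm, (mem_nb.1 (mem_erase.1 z.2).2).symm⟩)
    (fun y l hn => by
      obtain ⟨z, hz⟩ := card_eq_one.1 (gq h hp l.2 y.2 hn)
      have hz' := mem_filter.1 (hz ▸ mem_singleton_self z)
      have hz2 := mem_filter.1 hz'.1
      refine ⟨⟨z, hz2.1⟩, ⟨hz2.2, (hcol fun e => hn (by rw [e]; exact hz2.2)).2
        ((t3_comm x y z).trans hz'.2)⟩,
        fun w hw => Subtype.ext (mem_singleton.1 (hz ▸ mem_filter.2 ⟨mem_filter.2 ⟨w.2, hw.1⟩, ?_⟩))⟩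
      rw [t3_comm]
      exact (hcol fun e => hn (by rw [e]; exact hw.1)).1 hw.2) ⟨B, hB⟩
  refine Eq.trans (Eq.symm ?_) key
  refine card_bij (fun S _ => S.map (Function.Embedding.subtype _)) (fun S hS => ?_)
    (fun S _ S' _ e => map_injective _ e) (fun O hO => ?_)
  · simp only [mem_filter, mem_univ, true_and, mem_powerset, card_map, forall_mem_map] at hS ⊢
    refine ⟨fun y hy => ?_, mem_map.2 ⟨_, hS.1, rfl⟩, hS.2.1, fun y hy z hz hyz e => ?_⟩
    · obtain ⟨y, -, rfl⟩ := mem_map.1 hy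
      exact y.2
    · have : y ≠ z := fun e => hyz (congrArg _ e)
      exact hS.2.2 y hy z hz this ((hcol this).2 e)
  · simp only [mem_filter, mem_powerset] at hO
    have e := subtype_map_of_mem (p := (· ∈ (nb G p).erase x)) fun y hy => hO.1 hy
    refine ⟨O.subtype _, ?_, e⟩
    simp only [mem_filter, mem_univ, true_and]
    refine ⟨mem_subtype.2 hO.2.1, by rw [← hO.2.2.1, ← card_map (Function.Embedding.subtype _), e],
      fun y hy z hz hyz c => hO.2.2.2 _ (mem_subtype.1 hy) _ (mem_subtype.1 hz)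
        (fun e => hyz (Subtype.ext e)) ((hcol hyz).1 c)⟩

end
end
end H19.SRG77
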