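import Mathlib
import Cfsg.Agent.H19.SRG77
import Cfsg.Agent.S0410

/-!
# The strongly regular graph with parameters (77, 16, 0, 4): the Steiner system
-/

set_option autoImplicit false
set_option linter.unusedSectionVars false

namespace H19.SRG77
open Finset

variable {V : Type*} [Fintype V] [DecidableEq V] {G : SimpleGraph V} [DecidableRel G.Adj]

variable (G) in
/-- The large cocliques. -/
def Co (K : Finset V) : Prop := K.card = 21 ∧ ∀ u ∈ K, ∀ v ∈ K, ¬ G.Adj u v

instance instDecCo (K : Finset V) : Decidable (Co G K) := by unfold Co; infer_instance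

variable (G) in
/-- The block of a vertex. -/
def blk (u : V) : Finset {K : Finset V // Co G K} := univ.filter fun K => u ∈ K.1

variable (h : G.IsSRGWith 77 16 0 4)
include h

theorem co_op {K : Finset V} (hK : Co G K) (u : V) : op G (ind K) u = 6 - 6 * ind K u := by
  have h0 : ∀ u ∈ K, op G (ind K) u = 0 := fun u hu => by
    rw [op_ind, filter_eq_empty_iff.2 fun v hv => hK.2 u hu v hv]; rfl
  by_cases hu : u ∈ K
  · rw [h0 u hu]; simp [ind, hu]
  have e := sum_quad h K 6 6
  rw [sum_eq_zero h0, hK.1, ← sum_add_sum_compl K,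
    sum_congr rfl (s₁ := K) (g := fun _ => 36) fun u hu => by rw [h0 u hu]; rfl, sum_const, hK.1] at e
  have e2 : ∑ u ∈ Kᶜ, (op G (ind K) u - 6) * (op G (ind K) u - 6) = 0 := by
    simp only [nsmul_eq_mul] at e
    push_cast at e
    linarith
  have := (sum_eq_zero_iff_of_nonneg fun u _ => mul_self_nonneg _).1 e2 u (mem_compl.2 hu)
  simp only [ind, hu, if_false]
  nlinarith

theorem co_cls {K : Finset V} (hK : Co G K) {x B C : V} (hx : x ∈ K) (hB : Far G x B)
    (hC : C ∈ cls G x B) : C ∈ K ↔ B ∈ K := by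
  have key : ∀ B, Far G x B → ∑ u, ind K u * s0 G x B u = 36 - 16 * ind K B := fun B hB => by
    have e : ∑ u, F G x B u * ind K u = 2 * ind K B := by
      simp only [F, add_mul, sum_add_distrib, mul_assoc, ← mul_sum, sum_ind_mul, sum_singleton]
      rw [sum_eq_zero (f := ind K) fun p hp => if_neg fun hpK => hK.2 x hx p hpK (mem_cn.1 hp).1,
        add_zero]
    simp only [s0, mul_sub, sum_sub_distrib]
    rw [op_adj]
    simp only [co_op h hK]
    rw [← sum_sub_distrib, sum_congr rfl
      (g := fun u => 6 * F G x B u - 8 * (F G x B u * ind K u)) fun u _ => by ring]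
    simp only [sum_sub_distrib, ← mul_sum, e, sum_F h hB]
    ring
  have e := key C (mem_cls.1 hC).1
  simp only [s0_cls h hB hC, key B hB] at e
  unfold ind at e
  split_ifs at e <;> simp_all

theorem two_co {x B : V} (hB : Far G x B) :
    (univ.filter fun K : Finset V => Co G K ∧ x ∈ K ∧ B ∈ K).card = 2 := by
  obtain ⟨p, hp⟩ := card_pos.1 (show 0 < (cn G x B).card by rw [card_cn h hB]; norm_num)
  obtain ⟨hp, hpB⟩ := mem_cn.1 hp
  have hBR : B ∈ (nb G p).erase x := mem_erase.2 ⟨hB.1.symm, mem_nb.2 hpB.symm⟩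
  refine Eq.trans ?_ (spreads h hp hBR)
  have hrep : ∀ {u}, Far G x u → ∃ Y ∈ (nb G p).erase x, Y ∈ cls G x u ∧ u ∈ cls G x Y :=
    fun {u} hu => by
      obtain ⟨Y, hY⟩ := card_pos.1 (show 0 < _ by rw [cls_one h hu hp]; norm_num)
      obtain ⟨a, b⟩ := mem_filter.1 hY
      have c := (mem_cls.1 a).1
      exact ⟨Y, mem_erase.2 ⟨c.1.symm, mem_nb.2 b⟩, a,
        mem_cls.2 ⟨hu, (s0_comm h c hu).trans (mem_cls.1 a).2⟩⟩
  refine card_nbij' (fun K => ((nb G p).erase x).filter (· ∈ K))
    (fun O => insert x (O.biUnion (cls G x))) (fun K hK => ?_) (fun O hO => ?_) (fun K hK => ?_)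
    (fun O hO => ?_)
  · simp only [coe_filter, mem_univ, true_and, Set.mem_ofPred_eq, mem_powerset] at hK ⊢
    obtain ⟨hK, hx, hBK⟩ := hK
    refine ⟨filter_subset _ _, mem_filter.2 ⟨hBR, hBK⟩, ?_, fun y hy z hz hyz e => ?_⟩
    · have := co_op h hK p
      rw [op_ind, ind, if_neg fun hpK => hK.2 x hx p hpK hp] at this
      rw [show ((nb G p).erase x).filter (· ∈ K) = (K.filter (G.Adj p)).erase x by
        ext; simp; tauto, card_erase_of_mem (mem_filter.2 ⟨hx, hp.symm⟩)]
      omega
    · obtain ⟨y1, y2⟩ := mem_filter.1 hy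
      obtain ⟨z1, z2⟩ := mem_filter.1 hz
      obtain ⟨D, hD, a⟩ := cls_adj h (far_of h hp z1) (far_of h hp y1)
        (by rw [(s0_R h hp y1 z1 hyz).1, e]; rfl)
      exact hK.2 z z2 D ((co_cls h hK hx (far_of h hp y1) hD).2 y2) a
  · simp only [coe_filter, mem_univ, true_and, Set.mem_ofPred_eq, mem_powerset] at hO ⊢
    obtain ⟨hO, hBO, h5, hO2⟩ := hO
    have hf : ∀ y ∈ O, Far G x y := fun y hy => far_of h hp (hO hy)
    have h1 : ∀ y ∈ O, ∀ z ∈ O, y ≠ z → s0 G x y z = 1 := fun y hy z hz hyz => by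
      obtain ⟨a, b, c, -⟩ := s0_R h hp (hO hy) (hO hz) hyz
      have := hO2 y hy z hz hyz
      omega
    have hx : x ∉ O.biUnion (cls G x) := fun a => by
      obtain ⟨y, -, a⟩ := mem_biUnion.1 a
      exact (mem_cls.1 a).1.1 rfl
    refine ⟨⟨?_, ?_⟩, mem_insert_self _ _,
      mem_insert_of_mem (mem_biUnion.2 ⟨B, hBO, self_cls h hB⟩)⟩
    · rw [card_insert_of_notMem hx, card_biUnion, sum_congr rfl fun y hy => card_cls h (hf y hy),
        sum_const, h5]
      · rfl
      · intro y hy z hz hyz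
        refine disjoint_left.2 fun u a b => ?_
        have := s0_cls2 h (hf y hy) (hf z hz) a b
        rw [s0_self h (mem_cls.1 a).1, h1 y hy z hz hyz] at this
        omega
    · simp only [forall_mem_insert, mem_biUnion]
      refine ⟨⟨G.irrefl, fun v ⟨y, _, a⟩ => (mem_cls.1 a).1.2⟩, fun u ⟨y, hy, a⟩ =>
        ⟨fun b => (mem_cls.1 a).1.2 b.symm, fun v ⟨z, hz, b⟩ c => ?_⟩⟩
      have := s0_cls2 h (hf y hy) (hf z hz) a b
      rw [s0_ne (mem_cls.1 b).1 c.ne, if_pos c.symm] at this
      by_cases e : y = z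
      · rw [e, s0_self h (hf z hz)] at this; omega
      · rw [h1 y hy z hz e] at this; omega
  · simp only [coe_filter, mem_univ, true_and, Set.mem_ofPred_eq] at hK
    obtain ⟨hK, hx, -⟩ := hK
    ext u
    simp only [mem_insert, mem_biUnion, mem_filter]
    constructor
    · rintro (rfl | ⟨y, ⟨a, b⟩, c⟩)
      · exact hx
      · exact (co_cls h hK hx (far_of h hp a) c).2 b
    · intro hu
      by_cases e : u = x
      · exact Or.inl e
      have hu' : Far G x u := ⟨Ne.symm e, hK.2 x hx u hu⟩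
      obtain ⟨Y, a, b, c⟩ := hrep hu'
      exact Or.inr ⟨Y, ⟨a, (co_cls h hK hx hu' b).2 hu⟩, c⟩
  · simp only [coe_filter, Set.mem_ofPred_eq, mem_powerset] at hO
    ext u
    simp only [mem_insert, mem_biUnion, mem_filter]
    constructor
    · rintro ⟨a, rfl | ⟨y, hy, c⟩⟩
      · exact absurd rfl (mem_erase.1 a).1
      · have hy' := far_of h hp (hO.1 hy)
        rwa [cls_uniq h hy' hp c (self_cls h hy') (mem_nb.1 (mem_erase.1 a).2).symm
          (mem_nb.1 (mem_erase.1 (hO.1 hy)).2).symm]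
    · exact fun hu => ⟨hO.1 hu, Or.inr ⟨u, hu, self_cls h (far_of h hp (hO.1 hu))⟩⟩

theorem blk_far {x y : V} (hxy : Far G x y) : (blk G x ∩ blk G y).card = 2 := by
  rw [← two_co h hxy, ← card_map (Function.Embedding.subtype _)]
  congr 1; ext K; simp [blk]; tauto

omit h in
theorem blk_adj {x y : V} (hxy : G.Adj x y) : Disjoint (blk G x) (blk G y) :=
  disjoint_left.2 fun K a b => K.2.2 x (mem_filter.1 a).2 y (mem_filter.1 b).2 hxy

omit h in
theorem sum_blk (S : Finset {K : Finset V // Co G K}) : ∑ y, (S ∩ blk G y).card = 21 * S.card := by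
  have : ∀ y, (S ∩ blk G y).card = ∑ K ∈ S, if y ∈ K.1 then 1 else 0 := fun y => by
    rw [← card_filter]; congr 1; ext; simp [blk]
  simp only [this]
  rw [sum_comm, sum_congr rfl (g := fun _ => 21) fun K _ => by simp [K.2.1]]
  simp [mul_comm]

theorem card_blk (x : V) : (blk G x).card = 6 := by
  have e := sum_blk (blk G x)
  have : ∀ y, ((blk G x ∩ blk G y).card : ℤ) =
      ((blk G x).card - 2) * ind {x} y - 2 * ind (nb G x) y + 2 := fun y => by
    by_cases h1 : y = x
    · simp [h1, ind]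
    by_cases h2 : G.Adj x y
    · rw [disjoint_iff_inter_eq_empty.1 (blk_adj h2)]; simp [h1, h2, ind]
    · rw [blk_far h ⟨Ne.symm h1, h2⟩]; simp [h1, h2, ind]
  zify at e
  simp only [this, sum_add_distrib, sum_sub_distrib, ← mul_sum, sum_ind, card_nb h, card_singleton,
    sum_const, card_univ, h.card] at e
  simp only [nsmul_eq_mul] at e
  omega

theorem card_pts : Fintype.card {K : Finset V // Co G K} = 22 := by
  have e := sum_blk (G := G) univ
  simp only [univ_inter, card_blk h, sum_const, card_univ, h.card, smul_eq_mul] at e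
  omega

theorem blk_le {x y : V} (hxy : x ≠ y) : (blk G x ∩ blk G y).card ≤ 2 := by
  by_cases h2 : G.Adj x y
  · rw [disjoint_iff_inter_eq_empty.1 (blk_adj h2)]; simp
  · rw [blk_far h ⟨hxy, h2⟩]

theorem blk_inj : Function.Injective (blk G) := fun x y e => by
  by_contra hxy
  have := blk_le h hxy
  rw [e, inter_self, card_blk h] at this
  omega

theorem adj_iff {x y : V} : G.Adj x y ↔ Disjoint (blk G x) (blk G y) := by
  refine ⟨blk_adj, fun hd => ?_⟩
  by_contra hn
  by_cases e : x = y
  · have := card_blk h y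
    rw [e, disjoint_self] at hd
    rw [hd] at this
    simp at this
  · have := blk_far h ⟨e, hn⟩
    rw [disjoint_iff_inter_eq_empty.1 hd] at this
    simp at this

theorem steiner : Cfsg.IsSteinerSystem 3 6 (Set.range (blk G)) := by
  have uniq : ∀ {s : Finset {K : Finset V // Co G K}} {x y}, s.card = 3 → s ⊆ blk G x → s ⊆ blk G y →
      x = y := fun {s x y} hs a b => by
    by_contra e
    have := (card_le_card (subset_inter a b)).trans (blk_le h e)
    omega
  refine ⟨by rintro _ ⟨x, rfl⟩; exact card_blk h x, fun s hs => ?_⟩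
  have : univ.biUnion (fun x => (blk G x).powersetCard 3) = powersetCard 3 univ :=
    eq_of_subset_of_card_le (fun s hs => by
      obtain ⟨x, -, a⟩ := mem_biUnion.1 hs
      exact mem_powersetCard.2 ⟨subset_univ _, (mem_powersetCard.1 a).2⟩) (by
      rw [card_biUnion fun x _ y _ hxy => disjoint_left.2 fun s a b => hxy
        (uniq (mem_powersetCard.1 a).2 (mem_powersetCard.1 a).1 (mem_powersetCard.1 b).1)]
      simp only [card_powersetCard, card_blk h, card_univ, card_pts h, sum_const, h.card]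
      decide)
  obtain ⟨x, -, a⟩ := mem_biUnion.1 (this ▸ mem_powersetCard.2 ⟨subset_univ s, hs⟩)
  refine ⟨blk G x, ⟨⟨x, rfl⟩, (mem_powersetCard.1 a).1⟩, ?_⟩
  rintro _ ⟨⟨y, rfl⟩, b⟩
  rw [uniq hs b (mem_powersetCard.1 a).1]

theorem iso {W : Type*} [Fintype W] [DecidableEq W] {H : SimpleGraph W} [DecidableRel H.Adj]
    (h' : H.IsSRGWith 77 16 0 4) : Nonempty (G ≃g H) := by
  obtain ⟨e, he⟩ := Cfsg.Agent.S0410.result (card_pts h) (card_pts h') (steiner h) (steiner h')
  have : ∀ x, ∃ y, blk H y = (blk G x).image e := fun x => by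
    have : (blk G x).image e ∈ Set.range (blk H) := he ▸ ⟨_, ⟨x, rfl⟩, rfl⟩
    exact this
  choose f hf using this
  have finj : Function.Injective f := fun x y a =>
    blk_inj h (image_injective e.injective (by rw [← hf, ← hf, a]))
  refine ⟨⟨Equiv.ofBijective f ((Fintype.bijective_iff_injective_and_card f).2
    ⟨finj, by rw [h.card, h'.card]⟩), fun {x y} => ?_⟩⟩
  rw [Equiv.ofBijective_apply, Equiv.ofBijective_apply, adj_iff h, adj_iff h', hf, hf,
    disjoint_image e.injective]

end H19.SRG77
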