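import Mathlib
import Cfsg.Agent.H29.Ext

set_option autoImplicit false
set_option maxRecDepth 100000
set_option Elab.async false
set_option linter.all false

namespace H19.ThT2
open H29

noncomputable def n0 : Net := ben 6 [(nat_lit 0x540010fc0),
 (nat_lit 0x3003110),
 (nat_lit 0x48800),
 (nat_lit 0x80),
 (nat_lit 0x0),
 (nat_lit 0x0)]
noncomputable def t0 : List ℕ := [(nat_lit 0x3cab8002e),
 (nat_lit 0x30ffcfa2c),
 (nat_lit 0xfcffcf100),
 (nat_lit 0xc30000000)]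
noncomputable def d0 : ℕ := (nat_lit 0x20480)
noncomputable def n1 : Net := ben 6 [(nat_lit 0x9547f0130),
 (nat_lit 0x9f0a000b0),
 (nat_lit 0x3f450008),
 (nat_lit 0xc3c30000),
 (nat_lit 0x3c003),
 (nat_lit 0x3)]
noncomputable def t1 : List ℕ := [(nat_lit 0xa25149802),
 (nat_lit 0x1a6221004),
 (nat_lit 0xa27272c80),
 (nat_lit 0xb80000000)]
noncomputable def d1 : ℕ := (nat_lit 0x410880250)
noncomputable def n2 : Net := ben 6 [(nat_lit 0x209c10004),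
 (nat_lit 0x503505500),
 (nat_lit 0x440b00),
 (nat_lit 0x6d60040),
 (nat_lit 0x60006),
 (nat_lit 0x6)]
noncomputable def t2 : List ℕ := [(nat_lit 0x890e88992),
 (nat_lit 0xe023023b0),
 (nat_lit 0xc807b0080),
 (nat_lit 0x30800000)]
noncomputable def d2 : ℕ := (nat_lit 0x144005008)
noncomputable def n3 : Net := ben 6 [(nat_lit 0x553cc0fc),
 (nat_lit 0x300663572),
 (nat_lit 0xfa1104),
 (nat_lit 0xe1e10010),
 (nat_lit 0xe100),
 (nat_lit 0x0)]
noncomputable def t3 : List ℕ := [(nat_lit 0x530024150),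
 (nat_lit 0x53c900d80),
 (nat_lit 0xc024e80),
 (nat_lit 0x500000000)]
noncomputable def d3 : ℕ := (nat_lit 0x882650024)
noncomputable def n4 : Net := ben 6 [(nat_lit 0x556695701),
 (nat_lit 0x5aa330500),
 (nat_lit 0x66246600),
 (nat_lit 0x6ff0060),
 (nat_lit 0x60006),
 (nat_lit 0x6)]
noncomputable def t4 : List ℕ := [(nat_lit 0x16860254),
 (nat_lit 0x180000018),
 (nat_lit 0xd84020080),
 (nat_lit 0xc00000000)]
noncomputable def d4 : ℕ := (nat_lit 0x22910a902)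
def ivl : List ℕ := [0, 1, 2, 3, 4, 6, 5, 8, 7, 10, 9]
def cols : List ℕ := [0, 1, 2, 3, 4]
def hcols : List ℕ := [0, 1, 2, 3]
def G0 : List (List ℕ) := [[0, 1, 0, 1, 0, 1],
 [0, 4, 0, 4],
 [1, 2, 1, 2, 1, 2],
 [1, 3, 1, 3],
 [1, 4, 1, 4],
 [0, 3, 2, 3, 2, 3, 2, 3, 2],
 [2, 4, 2, 4],
 [3, 4, 3, 4, 3, 4],
 [1, 2, 3, 4, 1, 2, 3, 4, 1, 2, 3, 4, 1, 2, 3, 4, 1, 2, 3, 4, 1, 2, 3, 4, 1, 2, 3, 4, 1, 2, 3, 4]]
def R0 : List (List ℕ) := G0
theorem hii : ∀ c, ivOf ivl (ivOf ivl c) = c := ivOf_ivOf (by decide +kernel)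
theorem der : Derives (ivOf ivl) R0 R0 := Derives.refl _ _
noncomputable def nl : List Net := [n0, n1, n2, n3, n4]
noncomputable def T : TCData := ⟨36, 36, 6, 4, nth Net.nil nl, ivOf ivl, cols, hcols, R0,
  nth [] [t0, t1, t2, t3, t4], nth 0 [d0, d1, d2, d3, d4]⟩
theorem hn : NetsOK 36 (nth Net.nil nl) := netsOK_of_all (by decide +kernel)
theorem hiv : IvOK (sg (nth Net.nil nl)) (ivOf ivl) :=
  ivOK_of_chk (k := 6) hn (by decide) (n := 11) (by decide) (by decide) (allN_true.1 (by decide +kernel))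
theorem hb : T.Basic := TCData.basic_of_chk hn hiv (by decide +kernel)
theorem hG0 : ∀ r ∈ G0, ev (sg (nth Net.nil nl)) r = 1 :=
  rels_of_chk (k := 6) hn (by decide) hiv (allN_true.1 (by decide +kernel))
noncomputable def s0 : List TCData.Step := [.pts 0 0 0 7 [19, 20, 21, 23],
 .pts 0 0 0 8 [29],
 .all 1 0 0,
 .all 5 0 0]
noncomputable def s1 : List TCData.Step := [.pts 0 1 0 4 [7, 10],
 .pts 0 1 0 5 [11],
 .pts 0 1 0 13 [33],
 .pts 2 0 0 3 [12],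
 .pts 2 0 0 4 [13],
 .pts 2 0 0 10 [31],
 .all 3 0 0,
 .all 4 0 0]
noncomputable def s2 : List TCData.Step := [.all 2 1 0,
 .pts 5 4 0 2 [5],
 .pts 5 4 0 7 [35],
 .pts 5 6 0 5 [31],
 .pts 5 8 0 4 [16],
 .pts 5 8 0 7 [7],
 .all 6 0 0,
 .pts 8 1 0 9 [23]]
noncomputable def s3 : List TCData.Step := [.all 3 1 0,
 .pts 5 1 0 6 [7, 11],
 .pts 5 7 0 5 [17],
 .pts 7 0 0 3 [8, 28],
 .pts 7 0 0 6 [26]]
noncomputable def s4 : List TCData.Step := [.pts 1 1 0 4 [7],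
 .pts 4 1 0 1 [6, 23],
 .pts 4 1 0 3 [4],
 .all 6 1 0,
 .pts 7 1 0 1 [2, 18],
 .pts 7 1 0 12 [34]]
theorem hR0 : ∀ r ∈ R0, ev (sg (nth Net.nil nl)) r = 1 := hG0
theorem col0 : T.ColOK 0 := TCData.colOK_of_chk (U := (T.stepsMask 0 s0 (T.mask0 0))) (V := (T.stepsMask 0 s0 (T.mask0 0))) hb (TCData.cov_stepsMask hb (by decide) s0 _ (T.cov_mask0 0)) (TCData.cov_stepsMask hb (by decide) s0 _ (T.cov_mask0 0)) (by decide +kernel)
theorem col1 : T.ColOK 1 := TCData.colOK_of_chk (U := (T.stepsMask 1 s1 (T.mask0 1))) (V := (T.stepsMask 1 s1 (T.mask0 1))) hb (TCData.cov_stepsMask hb (by decide) s1 _ (T.cov_mask0 1)) (TCData.cov_stepsMask hb (by decide) s1 _ (T.cov_mask0 1)) (by decide +kernel)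
theorem col2 : T.ColOK 2 := TCData.colOK_of_chk (U := (T.stepsMask 2 s2 (T.mask0 2))) (V := (T.stepsMask 2 s2 (T.mask0 2))) hb (TCData.cov_stepsMask hb (by decide) s2 _ (T.cov_mask0 2)) (TCData.cov_stepsMask hb (by decide) s2 _ (T.cov_mask0 2)) (by decide +kernel)
theorem col3 : T.ColOK 3 := TCData.colOK_of_chk (U := (T.stepsMask 3 s3 (T.mask0 3))) (V := (T.stepsMask 3 s3 (T.mask0 3))) hb (TCData.cov_stepsMask hb (by decide) s3 _ (T.cov_mask0 3)) (TCData.cov_stepsMask hb (by decide) s3 _ (T.cov_mask0 3)) (by decide +kernel)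
theorem col4 : T.ColOK 4 := TCData.colOK_of_chk (U := (T.stepsMask 4 s4 (T.mask0 4))) (V := (T.stepsMask 4 s4 (T.mask0 4))) hb (TCData.cov_stepsMask hb (by decide) s4 _ (T.cov_mask0 4)) (TCData.cov_stepsMask hb (by decide) s4 _ (T.cov_mask0 4)) (by decide +kernel)
theorem ok : T.OK := ⟨hb, TCData.treeOK_of_chk hn (by decide +kernel), (List.forall_mem_cons.2 ⟨col0, (List.forall_mem_cons.2 ⟨col1, (List.forall_mem_cons.2 ⟨col2, (List.forall_mem_cons.2 ⟨col3, (List.forall_mem_cons.2 ⟨col4, (fun _ h => absurd h List.not_mem_nil)⟩)⟩)⟩)⟩)⟩), der _ _ hiv hR0⟩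
theorem bd {G : Type} [Group G] {e : ℕ → G} (h1 : IvOK e (ivOf ivl)) (h2 : ∀ r ∈ R0, ev e r = 1)
    {m : ℕ} (h : Bd (gen e hcols) m) : Bd (gen e cols) (36 * m) := ok.bd h1 (der G e h1 h2) h
theorem cm {G : Type} [Group G] {e : ℕ → G} (h1 : IvOK e (ivOf ivl)) (h2 : ∀ r ∈ R0, ev e r = 1)
    (h3 : gen e cols = ⊤) {ρ : G →* Equiv.Perm ℕ} (h4 : ∀ c, ρ (e c) = sg (nth Net.nil nl) c) :
    CosetModel ρ (gen e hcols) 36 := ok.cosetModel h1 (der G e h1 h2) h3 fun c _ => h4 c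

end H19.ThT2
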