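import Mathlib
import Cfsg.Agent.H19.MC
import Cfsg.Agent.H19.Mat

/-!
# Multiplying a code over the field with three elements by root elements of a Chevalley group
-/

set_option autoImplicit false

namespace H19
open H29 Finset Cfsg Cfsg.Lie Matrix

namespace T3

/-- Add the planes `u`, `v` to the planes `x`, `y`. -/
noncomputable def add2 (u v x y : ℕ) (k : ℕ → ℕ → ℕ) : ℕ :=
  seqN u fun u => seqN v fun v =>
  seqN (Nat.xor (Nat.lor x v) (Nat.lor y u)) fun t =>
  seqN (Nat.xor t (Nat.lor y v)) fun x' => seqN (Nat.xor t (Nat.lor x u)) fun y' => k x' y'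

variable (P : T3)

/-- Row `c`, moved to row `i`. -/
def rsh (A c i : ℕ) : ℕ := Nat.shiftLeft (P.row A c) (Nat.mul P.n i)

/-- A list of row operations. -/
noncomputable def rops (A0 A1 : ℕ) (L : List (ℕ × ℕ × ℤ)) : ℕ → ℕ → ℕ :=
  List.rec (motive := fun _ => ℕ → ℕ → ℕ) (fun x y => Nat.lor x (Nat.shiftLeft y P.N))
    (fun e _ ih x y =>
      Bool.rec
        (Bool.rec (ih x y) (add2 (P.rsh A1 e.2.1 e.1) (P.rsh A0 e.2.1 e.1) x y ih)
          (and2 (Nat.blt e.1 P.n) (decide (e.2.2 % 3 = 2))))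
        (add2 (P.rsh A0 e.2.1 e.1) (P.rsh A1 e.2.1 e.1) x y ih)
        (and2 (Nat.blt e.1 P.n) (decide (e.2.2 % 3 = 1)))) L

/-- The entries of a root element off the diagonal. -/
def xl (R : Rec) (r : ℕ) (t : ℤ) : List (ℕ × ℕ × ℤ) :=
  (List.range P.n).flatMap fun c => (R.col r c).tail.map fun e => (e.1, c, e.2.1 * t ^ e.2.2)

/-- The product of a root element and a code. -/
noncomputable def xmul (R : Rec) (r : ℕ) (t : ℤ) (A : ℕ) : ℕ :=
  seqN (Nat.land A P.NM) fun A0 => seqN (Nat.shiftRight A P.N) fun A1 =>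
    P.rops A0 A1 (P.xl R r t) A0 A1

/-- Root elements applied one after the other. -/
noncomputable def xmulW (R : Rec) (w : List (ℕ × ℤ)) : ℕ → ℕ :=
  List.rec (motive := fun _ => ℕ → ℕ) (fun A => A)
    (fun e _ ih A => seqN (P.xmul R e.1 e.2 A) ih) w

variable {P}

theorem add_bits : ∀ u v x y : Bool, (u && v) = false → (x && y) = false →
    let t := (x || v) ^^ (y || u)
    ((t ^^ (y || v)) && (t ^^ (x || u))) = false ∧
      val (t ^^ (y || v)) (t ^^ (x || u)) = val x y + val u v := by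
  decide

theorem add2_spec {u v x y : ℕ} (k : ℕ → ℕ → ℕ) (hu : ∀ t, (u.testBit t && v.testBit t) = false)
    (hx : ∀ t, (x.testBit t && y.testBit t) = false) : ∃ X Y, add2 u v x y k = k X Y ∧ ∀ t,
      (X.testBit t && Y.testBit t) = false ∧
      val (X.testBit t) (Y.testBit t) =
        val (x.testBit t) (y.testBit t) + val (u.testBit t) (v.testBit t) := by
  have key := fun t => add_bits _ _ _ _ (hu t) (hx t)
  simp only [← Nat.testBit_or, ← Nat.testBit_xor] at key
  refine ⟨_, _, ?_, key⟩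
  rw [add2, seqN_eq, seqN_eq, seqN_eq, seqN_eq, seqN_eq]
  rfl

theorem OK.rsh_bit (h : P.OK) (A c i t : ℕ) : (P.rsh A c i).testBit t =
    (decide (t / P.n = i) && A.testBit (c * P.n + t % P.n)) := by
  have hn := h.n_pos
  rw [rsh, show Nat.shiftLeft (P.row A c) (Nat.mul P.n i) = P.row A c <<< (P.n * i) from rfl,
    Nat.testBit_shiftLeft, row, land_eq, Nat.testBit_and, h.RM, testBit_ones,
    show Nat.shiftRight A (Nat.mul P.n c) = A >>> (P.n * c) from rfl, Nat.testBit_shiftRight]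
  have e := Nat.div_add_mod t P.n
  have e2 := Nat.mod_lt t hn
  by_cases h1 : t / P.n = i
  · rw [h1] at e
    rw [show t - P.n * i = t % P.n by omega, mul_comm P.n c]
    simp [h1, e2]; omega
  · by_cases h2 : t ≥ P.n * i
    · have : ¬ t - P.n * i < P.n := fun h3 => h1 (by
        rw [Nat.div_eq_iff hn, mul_comm i]; omega)
      simp [h1, this]
    · simp [h1, h2]

theorem val_swap : ∀ a b : Bool, val b a = - val a b := by decide

theorem OK.rops_spec (h : P.OK) {A0 A1 : ℕ} (hA : ∀ t, (A0.testBit t && A1.testBit t) = false) :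
    ∀ (L : List (ℕ × ℕ × ℤ)) (x y : ℕ), (∀ t, (x.testBit t && y.testBit t) = false) → ∃ X Y : ℕ,
      P.rops A0 A1 L x y = X ||| Y <<< P.N ∧ ∀ t, (X.testBit t && Y.testBit t) = false ∧
        val (X.testBit t) (Y.testBit t) = val (x.testBit t) (y.testBit t) +
          (L.map fun e => if t / P.n = e.1 ∧ e.1 < P.n then (e.2.2 : ZMod 3) *
            val (A0.testBit (e.2.1 * P.n + t % P.n)) (A1.testBit (e.2.1 * P.n + t % P.n)) else 0).sum
  | [], x, y, hx => ⟨x, y, rfl, fun t => ⟨hx t, by simp⟩⟩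
  | e :: L, x, y, hx => by
    have h01 : ∀ t, ((P.rsh A0 e.2.1 e.1).testBit t && (P.rsh A1 e.2.1 e.1).testBit t) = false :=
      fun t => by
        rw [h.rsh_bit, h.rsh_bit]
        cases decide (t / P.n = e.1) <;> simp only [Bool.false_and, Bool.true_and, hA]
    have hv : ∀ t, val ((P.rsh A0 e.2.1 e.1).testBit t) ((P.rsh A1 e.2.1 e.1).testBit t) =
        if t / P.n = e.1 then val (A0.testBit (e.2.1 * P.n + t % P.n))
          (A1.testBit (e.2.1 * P.n + t % P.n)) else 0 := fun t => by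
      rw [h.rsh_bit, h.rsh_bit]
      split_ifs with h1 <;> simp [h1, val]
    have hc : ((e.2.2 : ℤ) : ZMod 3) = ((e.2.2 % 3 : ℤ) : ZMod 3) :=
      (ZMod.intCast_mod e.2.2 3).symm
    have e0 : P.rops A0 A1 (e :: L) x y = Bool.rec
        (Bool.rec (P.rops A0 A1 L x y)
          (add2 (P.rsh A1 e.2.1 e.1) (P.rsh A0 e.2.1 e.1) x y (P.rops A0 A1 L))
          (and2 (Nat.blt e.1 P.n) (decide (e.2.2 % 3 = 2))))
        (add2 (P.rsh A0 e.2.1 e.1) (P.rsh A1 e.2.1 e.1) x y (P.rops A0 A1 L))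
        (and2 (Nat.blt e.1 P.n) (decide (e.2.2 % 3 = 1))) := rfl
    rw [e0]
    by_cases h1 : e.1 < P.n ∧ e.2.2 % 3 = 1
    · obtain ⟨X, Y, e1, hX⟩ := add2_spec (P.rops A0 A1 L) h01 hx
      obtain ⟨X', Y', e2, hX'⟩ := OK.rops_spec h hA L X Y fun t => (hX t).1
      refine ⟨X', Y', ?_, fun t => ⟨(hX' t).1, ?_⟩⟩
      · rw [show and2 (Nat.blt e.1 P.n) (decide (e.2.2 % 3 = 1)) = true by
          simp [and2_true, h1.1, h1.2, Nat.blt_eq]]
        exact e1.trans e2
      · rw [(hX' t).2, (hX t).2, hv, List.map_cons, List.sum_cons, hc, h1.2, add_assoc]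
        simp [h1.1]
    rw [show and2 (Nat.blt e.1 P.n) (decide (e.2.2 % 3 = 1)) = false by
      rw [← Bool.not_eq_true]; simpa [and2_true, Nat.blt_eq] using h1]
    by_cases h2 : e.1 < P.n ∧ e.2.2 % 3 = 2
    · obtain ⟨X, Y, e1, hX⟩ := add2_spec (u := P.rsh A1 e.2.1 e.1) (v := P.rsh A0 e.2.1 e.1)
        (P.rops A0 A1 L) (fun t => by rw [Bool.and_comm, h01]) hx
      obtain ⟨X', Y', e2, hX'⟩ := OK.rops_spec h hA L X Y fun t => (hX t).1
      refine ⟨X', Y', ?_, fun t => ⟨(hX' t).1, ?_⟩⟩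
      · rw [show and2 (Nat.blt e.1 P.n) (decide (e.2.2 % 3 = 2)) = true by
          simp [and2_true, h2.1, h2.2, Nat.blt_eq]]
        exact e1.trans e2
      · rw [(hX' t).2, (hX t).2, val_swap ((P.rsh A0 e.2.1 e.1).testBit t), hv, List.map_cons,
          List.sum_cons, hc, h2.2, add_assoc, show (((2 : ℤ)) : ZMod 3) = -1 by decide]
        split_ifs with h3 h4 h4 <;> simp_all
    rw [show and2 (Nat.blt e.1 P.n) (decide (e.2.2 % 3 = 2)) = false by
      rw [← Bool.not_eq_true]; simpa [and2_true, Nat.blt_eq] using h2]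
    obtain ⟨X', Y', e2, hX'⟩ := OK.rops_spec h hA L x y hx
    refine ⟨X', Y', e2, fun t => ⟨(hX' t).1, ?_⟩⟩
    rw [(hX' t).2, List.map_cons, List.sum_cons, hc]
    split_ifs with h3
    · rw [show e.2.2 % 3 = 0 by omega]; simp
    · simp

theorem col_cons (R : Rec) (r : ℕ) {c : ℕ} (hc : c < R.l + R.n) :
    R.col r c = (c, 1, 0) :: (R.col r c).tail := by
  unfold Rec.col
  cases Nat.blt r R.n
  · rfl
  by_cases h1 : c < R.l
  · rw [blt_true h1]; rfl
  rw [blt_false h1, blt_true (show Nat.sub c R.l < R.n by change c - R.l < _; omega)]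
  cases Nat.beq (Nat.sub c R.l) r
  · cases Nat.beq (Nat.sub c R.l) (R.neg r) <;> rfl
  · rfl

variable {D : ChevalleyDatum} {η : ℕ → ℕ → ℤ}

/-- The numbering of the basis. -/
def eps (e : D.rank + D.nroots = P.n) : D.Idx ≃ Fin P.n := finSumFinEquiv.trans (finCongr e)

theorem bv_eps (e : D.rank + D.nroots = P.n) (F : Type*) [Field F] (c : ℕ) (i : D.Idx) :
    bv D F c i = if (eps e i : ℕ) = c then 1 else 0 := by
  unfold bv
  rcases i with i | i
  · have := i.2
    have h0 : (eps e (Sum.inl i) : ℕ) = i := by simp [eps]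
    rw [h0]
    split_ifs with h1 h2 h2
    · simp [hv, h2]
    · simp [hv, h2]
    · omega
    · simp [er]
  · have := i.2
    have h0 : (eps e (Sum.inr i) : ℕ) = D.rank + i := by simp [eps]
    rw [h0]
    split_ifs with h1 h2 h2
    · omega
    · simp [hv]
    · simp [er]; omega
    · simp [er]; omega

theorem list_sum_apply {α I R : Type*} [AddMonoid R] (L : List α) (f : α → I → R) (i : I) :
    (L.map f).sum i = (L.map fun a => f a i).sum := by
  induction L with
  | nil => rfl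
  | cons a L ih => rw [List.map_cons, List.sum_cons, Pi.add_apply, ih, List.map_cons, List.sum_cons]

theorem sum_flatMap_range {α R : Type*} [AddCommMonoid R] (f : ℕ → List α) (g : α → R) (n : ℕ) :
    (((List.range n).flatMap f).map g).sum = ∑ c : Fin n, ((f c).map g).sum := by
  rw [Fin.sum_univ_eq_sum_range (fun c => ((f c).map g).sum)]
  induction n with
  | zero => rfl
  | succ n ih => rw [List.range_succ, List.flatMap_append, List.map_append, List.sum_append, ih,
      sum_range_succ, List.flatMap_singleton]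

theorem x_entry (hT : Tab0 D) (e : D.rank + D.nroots = P.n) (r : ℕ) (t : ℤ) (i c : Fin P.n) :
    D.x (ZMod 3) r (t : ZMod 3) ((eps e).symm i) ((eps e).symm c) = (if i = c then 1 else 0) +
      (((recOf D).col r c).tail.map fun q =>
        if (i : ℕ) = q.1 then ((q.2.1 * t ^ q.2.2 : ℤ) : ZMod 3) else 0).sum := by
  have h1 := congrFun (col_spec hT r c (t : ZMod 3)) ((eps e).symm i)
  have h2 : bv D (ZMod 3) c = Pi.single ((eps e).symm c) 1 := by
    funext j
    rw [bv_eps e, Pi.single_apply]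
    simp only [Equiv.eq_symm_apply, Fin.ext_iff]
  rw [h2, mulVec_single_one, col_cons _ _ (show (c : ℕ) < D.rank + D.nroots by rw [e]; exact c.2),
    List.map_cons, List.sum_cons, Pi.add_apply, list_sum_apply] at h1
  refine h1.trans ?_
  congr 1
  · simp [bv_eps e, Fin.ext_iff]
  · congr 1
    refine List.map_congr_left fun q _ => ?_
    simp [bv_eps e]

theorem OK.xmul_spec (h : P.OK) (hT : Tab0 D) (e : D.rank + D.nroots = P.n) (r : ℕ) (t : ℤ) {A : ℕ}
    (hA : P.Red A) : P.Red (P.xmul (recOf D) r t A) ∧ h.mc.dec (P.xmul (recOf D) r t A) =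
      reindex (eps e) (eps e) (D.x (ZMod 3) r (t : ZMod 3)) * h.mc.dec A := by
  have lo : ∀ (c t : ℕ), (Nat.land c P.NM).testBit t = (c.testBit t && decide (t < P.N)) :=
    fun c t => by rw [land_eq, Nat.testBit_and, h.NM, testBit_ones]
  have hi : ∀ (c t : ℕ), (Nat.shiftRight c P.N).testBit t = c.testBit (P.N + t) := fun c t =>
    Nat.testBit_shiftRight c
  have hA' : ∀ t, ((Nat.land A P.NM).testBit t && (Nat.shiftRight A P.N).testBit t) = false :=
    fun t => by
      rw [lo, hi]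
      by_cases ht : t < P.N
      · simpa [ht] using hA.2 t ht
      · simp [ht]
  obtain ⟨X, Y, e1, hX⟩ := h.rops_spec hA' (P.xl (recOf D) r t) _ _ hA'
  have e2 : P.xmul (recOf D) r t A = X ||| Y <<< P.N := by rw [xmul, seqN_eq, seqN_eq, e1]
  have z : ∀ t, X.testBit (P.N + t) = false ∧ Y.testBit (P.N + t) = false := fun t =>
    val_inj _ _ false false (hX _).1 rfl (by
      rw [(hX _).2, lo, hi, ← add_assoc, hA.1, List.sum_eq_zero]
      · simp
      · intro a ha
        obtain ⟨q, -, rfl⟩ := List.mem_map.1 ha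
        refine if_neg fun h3 => ?_
        have := h3.2
        rw [← h3.1, Nat.div_lt_iff_lt_mul h.n_pos, ← h.N] at this
        omega)
  have b1 : ∀ t < P.N, (X ||| Y <<< P.N).testBit t = X.testBit t := fun t ht => by
    rw [Nat.testBit_or, Nat.testBit_shiftLeft]; simp [not_le.2 ht]
  have b2 : ∀ t, (X ||| Y <<< P.N).testBit (P.N + t) = Y.testBit t := fun t => by
    rw [Nat.testBit_or, Nat.testBit_shiftLeft, (z t).1]; simp
  rw [e2]
  refine ⟨⟨fun t => by rw [add_assoc, b2, (z t).2], fun t ht => by rw [b1 t ht, b2, (hX t).1]⟩, ?_⟩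
  ext i j
  have hlt : ∀ c : Fin P.n, (c : ℕ) * P.n + j < P.N := fun c => by
    have := c.2
    have := j.2
    rw [h.N]; nlinarith
  have hen : ∀ c : Fin P.n, val ((Nat.land A P.NM).testBit (c * P.n + j))
      ((Nat.shiftRight A P.N).testBit (c * P.n + j)) = h.mc.dec A c j := fun c => by
    rw [lo, hi, decide_eq_true (hlt c), Bool.and_true]; rfl
  have d1 : ((i : ℕ) * P.n + j) / P.n = i := by
    rw [mul_comm, Nat.mul_add_div h.n_pos, Nat.div_eq_of_lt j.2, add_zero]
  have d2 : ((i : ℕ) * P.n + j) % P.n = j := by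
    rw [mul_comm, Nat.mul_add_mod, Nat.mod_eq_of_lt j.2]
  change val _ _ = _
  rw [b1 _ (hlt i), b2, (hX _).2, hen, d1, d2, mul_apply]
  simp only [reindex_apply, submatrix_apply, x_entry hT e, add_mul, sum_add_distrib]
  congr 1
  · simp
  · rw [xl, sum_flatMap_range]
    refine sum_congr rfl fun c _ => ?_
    rw [List.map_map, ← List.sum_map_mul_right]
    congr 1
    refine List.map_congr_left fun q _ => ?_
    simp only [Function.comp_apply, hen]
    by_cases h1 : (i : ℕ) = q.1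
    · rw [if_pos ⟨h1, h1 ▸ i.2⟩, if_pos h1]
    · rw [if_neg fun h2 => h1 h2.1, if_neg h1, zero_mul]

/-- The code `b` comes from the code `a` by multiplying by an element of the Chevalley group. -/
def OK.XRel (h : P.OK) (e : D.rank + D.nroots = P.n) (a b : ℕ) : Prop :=
  P.Red b ∧ ∃ g ∈ D.group (ZMod 3), reindex (eps e) (eps e) g.val * h.mc.dec a = h.mc.dec b

theorem exists_x (hT : Tab D η) {F : Type*} [Field F] (r : ℕ) (t : F) :
    ∃ g ∈ D.group F, g.val = D.x F r t := by
  by_cases hr : r < D.nroots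
  · exact ⟨⟨_, _, hT.x_mul_neg r t, hT.x_neg_mul r t⟩,
      Subgroup.subset_closure ⟨⟨r, hr⟩, t, dif_pos hr⟩, rfl⟩
  · exact ⟨1, one_mem _, (x_of_le (not_lt.1 hr) t).symm⟩

theorem OK.XRel.refl (h : P.OK) (e : D.rank + D.nroots = P.n) {a : ℕ} (ha : P.chk a = true) :
    h.XRel e a a := ⟨h.mc.red_of_chk ha, 1, one_mem _, by simp⟩

theorem OK.XRel.word {h : P.OK} (hT : Tab D η) {T : Fast} (hA : Agree D T)
    {e : D.rank + D.nroots = P.n} {a : ℕ} : ∀ (w : List (ℕ × ℤ)) {b : ℕ}, h.XRel e a b →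
      h.XRel e a (P.xmulW T.toRec w b)
  | [], _, hb => hb
  | q :: w, b, ⟨hb, g, hg, eg⟩ => by
    rw [show P.xmulW T.toRec (q :: w) b = seqN (P.xmul T.toRec q.1 q.2 b) (P.xmulW T.toRec w) from rfl,
      seqN_eq]
    refine OK.XRel.word hT hA w ?_
    obtain ⟨x, hx, ex⟩ := exists_x hT q.1 ((q.2 : ℤ) : ZMod 3)
    rw [← hA.recOf_eq]
    obtain ⟨h1, h2⟩ := h.xmul_spec hT.toTab0 e q.1 q.2 hb
    refine ⟨h1, x * g, mul_mem hx hg, ?_⟩
    rw [h2, ← eg, ← ex, Units.val_mul, ← mul_assoc]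
    simp [submatrix_mul_equiv]

theorem OK.XRel.step {h : P.OK} (hT : Tab D η) {T : Fast} (hA : Agree D T)
    {e : D.rank + D.nroots = P.n} {a b c : ℕ} (hb : h.XRel e a b) {w : List (ℕ × ℤ)}
    (hc : Nat.beq (P.xmulW T.toRec w b) c = true) : h.XRel e a c := by
  rw [← H29.beq_true.1 hc]; exact hb.word hT hA w

/-- Renumbering the basis. -/
def regl (e : D.rank + D.nroots = P.n) : GL (Fin P.n) (ZMod 3) ≃* GL D.Idx (ZMod 3) :=
  Units.mapEquiv (reindexAlgEquiv (ZMod 3) (ZMod 3) (eps e).symm).toMulEquiv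

theorem OK.XRel.mem {h : P.OK} {e : D.rank + D.nroots = P.n} {p g : GL (Fin P.n) (ZMod 3)} {a m : ℕ}
    (hp : h.mc.codes.Rep p a) (hg : h.mc.codes.Rep g m) (hr : h.XRel e a (P.mul a m)) :
    regl e (p * g * p⁻¹) ∈ D.group (ZMod 3) := by
  obtain ⟨-, x, hx, ex⟩ := hr
  have h1 : h.mc.dec (P.mul a m) = (p * g).val := (h.mc.codes.rep_mul hp hg).2.symm
  rw [h1, ← hp.2] at ex
  have : regl e (p * g * p⁻¹) = x := by
    refine Units.ext ?_
    change reindex _ _ (p * g * p⁻¹).val = _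
    rw [Units.val_mul, ← ex, mul_assoc, Units.mul_inv, mul_one]
    simp
  rwa [this]

end T3
end H19
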