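import Mathlib
import Cfsg.Agent.H19.Z0
import Cfsg.Agent.H8.ZR1

/-!
# Uniqueness of the Monster: rigidity of the even cocode and of `Om^⊥ / Om`
-/

set_option autoImplicit false
set_option linter.all false

namespace H10.Mon.MG

namespace R9

open H29 LS H10.Mon.LFt H11.M24I

theorem span1 (W : AddSubgroup C) (h : ∀ j < 23, dec (2 ^ j) ∈ W) {c : C} (hc : c.1 11 = 0) :
    c ∈ W := by
  let ψ : C →+ C := AddMonoidHom.mk' (fun c => c + c.1 11 • dec (2 ^ 23)) fun a b => by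
    rw [Prod.fst_add, Pi.add_apply, add_smul]; abel
  have e : ∀ j < 24, (dec (2 ^ j)).1 11 = if j = 23 then 1 else 0 := by decide +kernel
  have := dec_basis (W.comap ψ) (fun j hj => by
    change dec (2 ^ j) + (dec (2 ^ j)).1 11 • dec (2 ^ 23) ∈ W
    rw [e j hj]
    split_ifs with h1
    · rw [h1, one_smul, cc2]; exact zero_mem _
    · rw [zero_smul, add_zero]; exact h j (by omega)) c
  change c + c.1 11 • dec (2 ^ 23) ∈ W at this
  rwa [hc, zero_smul, add_zero] at this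

theorem span0 (W : AddSubgroup C) (h : ∀ j < 12, dec (2 ^ j) ∈ W) {c : C} (hc : c.1 = 0) :
    c ∈ W := by
  have e : ∀ j : Fin 12, ((0, Pi.single j 1) : C) = dec (2 ^ (j : ℕ)) := by decide +kernel
  have := C_basis (W.comap ((AddMonoidHom.inr K K).comp (AddMonoidHom.snd K K)))
    (fun j => W.zero_mem) (fun j => by
      change ((0, Pi.single j 1) : C) ∈ W
      rw [e]; exact h j j.2) c
  rwa [show c = (0, c.2) from Prod.ext hc rfl]

/-- A sum of powers. -/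
noncomputable def Pw (u : G0) : List ℕ → C →+ C
  | [] => 0
  | r :: R => DistribSMul.toAddMonoidHom C (u ^ r) + Pw u R

theorem Pw_cons (u : G0) (r : ℕ) (R : List ℕ) (c : C) : Pw u (r :: R) c = u ^ r • c + Pw u R c := rfl

noncomputable def pwN (U : List ℕ) (n : ℕ) (R : List ℕ) : ℕ :=
  List.rec 0 (fun r _ ih => Nat.xor (pN U n r) ih) R

theorem dec_pwN {u : G0} {U : List ℕ} (h : Cols u U) (n : ℕ) :
    ∀ R, dec (pwN U n R) = Pw u R (dec n)
  | [] => dec_zero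
  | r :: R => by rw [Pw_cons, ← dec_pwN h n R, ← dec_pN h, ← dec_xor]; rfl

def RR : List ℕ := [1, 2, 3, 4, 6, 8, 9, 12, 13, 16, 18]

theorem exists_proj : ∃ u ∈ N0, (∀ c : C, u ^ 23 • c = c) ∧ ∃ R, (∀ c : C, c.1 11 = 0 → (Pw u R c).1 = 0) ∧
    ∀ c : C, c.1 = 0 → Eo (Pw u R c) c := by
  have h := gl_cols 0
  refine ⟨co (gl 0), fix_Om.1 ?_, fun c => ?_, RR, fun c hc => ?_, fun c hc => ?_⟩
  · rw [← dec_Om, ← h.ap]
    exact congrArg dec (H29.beq_true.1 (by decide +kernel))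
  · have k : allN 24 (fun j => Nat.beq (pN (lt 0).C (Nat.pow 2 j) 23) (Nat.pow 2 j)) = true := by
      decide +kernel
    exact add_eq_zero_C.1 (dec_basis (DistribSMul.toAddMonoidHom C (co (gl 0) ^ 23) +
      AddMonoidHom.id C).ker (fun j hj => by
        change co (gl 0) ^ 23 • dec (2 ^ j) + dec (2 ^ j) = 0
        rw [← dec_pN h, show pN (lt 0).C (2 ^ j) 23 = 2 ^ j from
          H29.beq_true.1 (allN_true.1 k j hj), two_zmod]) c)
  · have k : allN 23 (fun j => Nat.beq (Nat.shiftRight (pwN (lt 0).C (Nat.pow 2 j) RR) 12) 0) = true := by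
      decide +kernel
    exact span1 ((AddMonoidHom.fst K K).comp (Pw (co (gl 0)) RR)).ker (fun j hj => by
      change (Pw _ _ (dec (2 ^ j))).1 = 0
      rw [← dec_pwN h]
      exact fst_zero (allN_true.1 k j hj)) hc
  · have k : allN 12 (fun j => lit (pwN (lt 0).C (Nat.pow 2 j) RR) fun m =>
        ou (eqD m (Nat.pow 2 j)) (eqD m (Nat.xor (Nat.pow 2 j) 2048))) = true := by
      decide +kernel
    refine (span0 (agr negC (fun _ => True) trivial (fun _ _ => trivial) (Pw (co (gl 0)) RR)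
      (fun c d _ _ => .inl (map_add _ _ _)) (AddMonoidHom.id C) (AddMonoidHom.id C))
      (fun j hj => ⟨trivial, ?_⟩) hc).2
    change Eo (Pw _ _ (dec (2 ^ j))) (dec (2 ^ j))
    have := allN_true.1 k j hj
    rw [lit_eq, ou_true, eqD_iff, eqD_iff] at this
    rw [← dec_pwN h, Eo, ← dec_Om, ← dec_xor]
    exact this

theorem perpW {e : C} (h : ∀ c : C, c.1 = 0 → pl e c = 0) : e.1 = 0 := funext fun j => by
  have := h (0, Pi.single j 1) rfl
  unfold pl bb at this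
  rwa [zero_dotProduct, add_zero, dotProduct_single, mul_one] at this

theorem pl_eo {c d e : C} (hc : c.1 11 = 0) (h : Eo d e) : pl c d = pl c e := by
  rcases h with rfl | rfl
  exacts [rfl, by rw [pl_add, pl_Om, hc, add_zero]]

theorem odd0 {c : C} (h : c.1 = 0) : c.1 11 = 0 := by rw [h]; rfl

theorem odd2 {c d : C} (h : c.1 11 = 0) (h' : d.1 11 = 0) : (c + d).1 11 = 0 := by
  rw [Prod.fst_add, Pi.add_apply, h, h', add_zero]

/-- The elements of `N0` that act trivially on the even cocode. -/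
def TT (ε : G0) : Prop := ε ∈ N0 ∧ ∀ c : C, c.1 = 0 → Eo (ε • c) c

theorem TT.fst {ε : G0} (h : TT ε) {c : C} (hc : c.1 11 = 0) : (ε • c + c).1 = 0 :=
  perpW fun d hd => by
    rw [pl_add', ← pl_eo (c := ε • c) (by rw [odd_smul h.1, hc]) (h.2 d hd), pl_smul, zz2]

theorem TT.mul {ε η : G0} (h : TT ε) (k : TT η) : TT (ε * η) :=
  ⟨mul_mem h.1 k.1, fun c hc => by rw [mul_smul]; exact ((k.2 c hc).smul h.1).trans (h.2 c hc)⟩

theorem TT.add {ε η : G0} (h : TT ε) (k : TT η) {c : C} (hc : c.1 11 = 0) :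
    Eo (ε • c + c + (η • c + c)) ((ε * η) • c + c) := by
  have := (Eo.rfl (a := ε • c + c)).add (h.2 _ (k.fst hc)).symm
  rwa [smul_add, ← mul_smul, show ε • c + c + ((ε * η) • c + ε • c) =
    (ε * η) • c + c + (ε • c + ε • c) by abel, cc2, add_zero] at this

theorem lr1 (f : C → C) (add : ∀ c d, c.1 11 = 0 → d.1 11 = 0 → Eo (f (c + d)) (f c + f d))
    (mem : ∀ c, c.1 11 = 0 → (f c).1 11 = 0) (id0 : ∀ c, c.1 = 0 → Eo (f c) c)
    (hp : ∀ c d, c.1 11 = 0 → d.1 11 = 0 → pl (f c) (f d) = pl c d)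
    (nm : ∀ l ∈ N0, ∃ l' ∈ N0, ∀ c, c.1 11 = 0 → Eo (f (l • c)) (l' • f c)) :
    ∃ h ∈ N0, ∀ c, c.1 11 = 0 → Eo (f c) (h • c) := by
  obtain ⟨u, u1, u2, R, p1, p2⟩ := exists_proj
  obtain ⟨δ, hδ⟩ : ∃ δ : C → C, ∀ c, δ c = f c + c := ⟨_, fun _ => rfl⟩
  have d0 : ∀ c, c.1 11 = 0 → (δ c).1 = 0 := fun c hc => perpW fun d hd => by
    rw [hδ, pl_add', ← pl_eo (mem c hc) (id0 d hd), hp c d hc (odd0 hd), zz2]
  have d1 : ∀ l ∈ N0, ∃ ε, TT ε ∧ ∀ c, c.1 11 = 0 → Eo (l⁻¹ • δ (l • c)) (δ c + (ε • c + c)) :=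
    fun l hl => by
      obtain ⟨l', h1, h2⟩ := nm l hl
      have t : TT (l⁻¹ * l') := ⟨mul_mem (inv_mem hl) h1, fun c hc => by
        have := ((((id0 c hc).smul h1).symm.trans (h2 c (odd0 hc)).symm).trans
          (id0 _ (fst_smul_zero hl hc))).smul (inv_mem hl)
        rwa [inv_smul_smul, ← mul_smul] at this⟩
      refine ⟨_, t, fun c hc => ?_⟩
      have e1 := ((h2 c hc).smul (inv_mem hl)).add (Eo.rfl (a := c))
      have e2 := (t.2 _ (d0 c hc)).add (Eo.rfl (a := (l⁻¹ * l') • c + c))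
      rw [hδ (l • c), smul_add, inv_smul_smul]
      refine e1.trans ?_
      rwa [← add_assoc, ← smul_add, show δ c + c = f c by
        rw [hδ, add_assoc, cc2, add_zero], mul_smul] at e2
  obtain ⟨S, hS⟩ : ∃ S : ℕ → C → C, ∀ m c, S m c = ∑ i ∈ Finset.range m, (u ^ i)⁻¹ • δ (u ^ i • c) :=
    ⟨_, fun _ _ => rfl⟩
  have d2 : ∀ m, ∃ A, TT A ∧ ∀ c, c.1 11 = 0 → Eo (S m c) (m • δ c + (A • c + c)) := fun m => by
    induction m with
    | zero => exact ⟨1, ⟨one_mem _, fun c _ => .inl (one_smul _ _)⟩, fun c _ => .inl (by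
        rw [zero_smul, one_smul, cc2, add_zero, hS, Finset.sum_range_zero])⟩
    | succ m ih =>
      obtain ⟨A, a1, a2⟩ := ih
      obtain ⟨ε, e1, e2⟩ := d1 _ (pow_mem u1 m)
      refine ⟨_, a1.mul e1, fun c hc => ?_⟩
      rw [hS, Finset.sum_range_succ, ← hS, succ_nsmul]
      refine ((a2 c hc).add (e2 c hc)).trans ?_
      rw [add_add_add_comm]
      exact Eo.rfl.add (a1.add e1 hc)
  obtain ⟨A, a1, a2⟩ := d2 23
  have s1 : ∀ c, S 23 (u • c) = u • S 23 c := fun c => by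
    have e1 := Finset.sum_range_succ' (fun i => (u ^ i)⁻¹ • δ (u ^ i • c)) 23
    rw [Finset.sum_range_succ, u2, inv_smul_eq_iff.2 (u2 _).symm, pow_zero, inv_one, one_smul,
      one_smul, add_left_inj] at e1
    rw [hS, hS, e1, Finset.smul_sum]
    refine Finset.sum_congr rfl fun i _ => ?_
    rw [pow_succ, mul_inv_rev, mul_smul, mul_smul, smul_inv_smul]
  obtain ⟨Δ, hΔ⟩ : ∃ Δ : C → C, ∀ c, Δ c = f c + A • c := ⟨_, fun _ => rfl⟩
  have e7 : ∀ c, δ c + (A • c + c) = Δ c := fun c => by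
    rw [hδ, hΔ, add_comm (A • c), add_assoc, ← add_assoc c, cc2, zero_add]
  have e0 : ∀ c, c.1 11 = 0 → Eo (S 23 c) (Δ c) := fun c hc => by
    have := a2 c hc
    rwa [show 23 • δ c = δ c by rw [show 23 = 2 * 11 + 1 from rfl, succ_nsmul, mul_nsmul, two_nsmul,
      cc2, smul_zero, zero_add], e7] at this
  have e1 : ∀ c, c.1 11 = 0 → Eo (Δ (u • c)) (u • Δ c) := fun c hc =>
    (e0 _ (by rw [odd_smul u1, hc])).symm.trans (s1 c ▸ (e0 c hc).smul u1)
  have e2 : ∀ (r : ℕ) c, c.1 11 = 0 → Eo (Δ (u ^ r • c)) (u ^ r • Δ c) := fun r c hc => by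
    induction r with
    | zero => rw [pow_zero, one_smul, one_smul]; exact Eo.rfl
    | succ r ih =>
      rw [pow_succ', mul_smul, mul_smul]
      exact (e1 _ (by rw [odd_smul (pow_mem u1 r), hc])).trans (ih.smul u1)
  have e3 : ∀ c d, c.1 11 = 0 → d.1 11 = 0 → Eo (Δ (c + d)) (Δ c + Δ d) := fun c d hc hd => by
    rw [hΔ, hΔ, hΔ, smul_add, add_add_add_comm (f c)]
    exact (add c d hc hd).add Eo.rfl
  have e4 : ∀ c, c.1 = 0 → Eo (Δ c) 0 := fun c hc => by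
    rw [hΔ, ← cc2 c]; exact (id0 c hc).add (a1.2 c hc)
  have e5 : ∀ R c, c.1 11 = 0 → (Pw u R c).1 11 = 0 ∧ Eo (Δ (Pw u R c)) (Pw u R (Δ c)) :=
    fun R c hc => by
      induction R with
      | nil => exact ⟨rfl, e4 0 rfl⟩
      | cons r R ih =>
        have h := (odd_smul (pow_mem u1 r) c).trans hc
        rw [Pw_cons, Pw_cons]
        exact ⟨odd2 h ih.1, (e3 _ _ h ih.1).trans ((e2 r c hc).add ih.2)⟩
  refine ⟨A, a1.1, fun c hc => ?_⟩
  have e6 : (Δ c).1 = 0 := e7 c ▸ fst_add (d0 c hc) (a1.fst hc)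
  have := (((p2 _ e6).symm.trans (e5 R c hc).2.symm).trans (e4 _ (p1 c hc))).add
    (Eo.rfl (a := A • c))
  rwa [zero_add, hΔ, add_assoc, cc2, add_zero] at this

end R9

/-- Rigidity of the even cocode. -/
theorem LRW (f : C → C) (add : ∀ c d, c.1 = 0 → d.1 = 0 → Eo (f (c + d)) (f c + f d))
    (inj : ∀ c, c.1 = 0 → Eo (f c) 0 → Eo c 0) (sh : ∀ c, Sh0 c → Sh0 (f c)) :
    ∃ h ∈ N0, ∀ c, c.1 = 0 → Eo (f c) (h • c) := R9.lrw f add inj sh

/-- Rigidity of `Om^⊥ / Om`. -/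
theorem LR1 (f : C → C) (add : ∀ c d, c.1 11 = 0 → d.1 11 = 0 → Eo (f (c + d)) (f c + f d))
    (mem : ∀ c, c.1 11 = 0 → (f c).1 11 = 0) (inj : ∀ c, c.1 11 = 0 → Eo (f c) 0 → Eo c 0)
    (sh : ∀ c, Sh0 c → Sh0 (f c))
    (hp : ∀ c d, c.1 11 = 0 → d.1 11 = 0 → pl (f c) (f d) = pl c d)
    (nm : ∀ l ∈ N0, ∃ l' ∈ N0, ∀ c, c.1 11 = 0 → Eo (f (l • c)) (l' • f c)) :
    ∃ h ∈ N0, ∀ c, c.1 11 = 0 → Eo (f c) (h • c) := by
  obtain ⟨h, h1, h2⟩ := LRW f (fun c d hc hd => add c d (R9.odd0 hc) (R9.odd0 hd))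
    (fun c hc => inj c (R9.odd0 hc)) sh
  obtain ⟨A, a1, a2⟩ := R9.lr1 (fun c => h⁻¹ • f c)
    (fun c d hc hd => smul_add h⁻¹ (f c) (f d) ▸ (add c d hc hd).smul (inv_mem h1))
    (fun c hc => (odd_smul (inv_mem h1) _).trans (mem c hc))
    (fun c hc => by simpa only [inv_smul_smul] using (h2 c hc).smul (inv_mem h1))
    (fun c d hc hd => (pl_smul _ _ _).trans (hp c d hc hd)) fun l hl => by
      obtain ⟨l', l1, l2⟩ := nm l hl
      exact ⟨h⁻¹ * l' * h, mul_mem (mul_mem (inv_mem h1) l1) h1, fun c hc => by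
        simpa only [mul_smul, smul_inv_smul] using (l2 c hc).smul (inv_mem h1)⟩
  exact ⟨h * A, mul_mem h1 a1, fun c hc => by
    simpa only [mul_smul, smul_inv_smul] using (a2 c hc).smul h1⟩

end H10.Mon.MG
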