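import Mathlib
import Cfsg.Agent.H19.Z0
import Cfsg.Agent.H6.MZ2

set_option autoImplicit false
set_option linter.all false

namespace H10.Mon.MG

variable {G : Type*} [Group G] {y : G} {q : ZMod 2 → C → G}

/-- `y` is not weakly closed in `Q`. -/
theorem Sit.nwc [Finite G] [IsSimpleGroup G] (H : Sit y q) :
    ∃ g t c, c ≠ 0 ∧ g * y * g⁻¹ = q t c := by
  have := Fact.mk Nat.prime_two
  have := simple_Co1
  have z0 : ∀ t, q t 0 ∈ Subgroup.zpowers y := fun t => by
    rcases H.q0 t with e | e <;> rw [e]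
    exacts [one_mem _, Subgroup.mem_zpowers _]
  have ce : ∀ g, (∀ x ∈ H.Q, g * x = x * g) → g = 1 ∨ g = y := fun g h =>
    H.cent g fun t c => h _ ⟨t, c, rfl⟩
  have xs : H3.XS 2 y H.Q :=
    ⟨H.ord, ⟨1, 0, H.one.symm⟩, by rintro _ ⟨t, c, rfl⟩; exact (H.cm t c).symm,
      by
        rintro _ ⟨s, c, rfl⟩ _ ⟨t, d, rfl⟩
        rw [commutatorElement_def, H.cj, H.q_inv, H.mul, cc2]; exact z0 _,
      by rintro _ ⟨t, c, rfl⟩; rw [pow_two, H.sq]; exact z0 _,
      fun x _ h => by
        rcases ce x h with rfl | rfl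
        exacts [one_mem _, Subgroup.mem_zpowers _]⟩
  obtain ⟨κ, hκ⟩ := H.kappa (Subgroup.centralizer {y}) fun p hp =>
    Subgroup.mem_centralizer_singleton_iff.1 hp
  obtain ⟨g, g1, t, c, g2⟩ := H6.MZ.nwc xs (fun g h => by
      rcases ce g h with rfl | rfl
      exacts [one_mem _, xs.mem]) κ hκ (a := 2 ^ 25) (by rw [H.card, card_Co1])
    (by
      refine (Nat.card_le_card_of_surjective (fun p : ZMod 2 × C => (⟨q p.1 p.2, p.1, p.2, rfl⟩ : H.Q))
        fun ⟨_, t, c, e⟩ => ⟨(t, c), Subtype.ext e.symm⟩).trans ?_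
      rw [Nat.card_prod, Nat.card_zmod, card_C]
      norm_num)
    (by norm_num) (by rw [card_Co1]; norm_num)
    (((by norm_num : 2 ^ 46 ∣ 2 ^ 25 * 4157776806543360000).trans H.card.symm.dvd).trans
      (Subgroup.card_subgroup_dvd_card _))
    (fun d => by
      obtain ⟨P, hP⟩ := Sylow.exists_subgroup_card_pow_prime 2 d
      obtain ⟨n, hn⟩ := H.syl (IsPGroup.of_card hP)
      have k : P.map (MulAut.conj n).toMonoidHom ≤ Subgroup.centralizer {y} := by
        rintro _ ⟨p, hp, rfl⟩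
        exact Subgroup.mem_centralizer_singleton_iff.2 (hn p hp)
      have := Subgroup.card_dvd_of_le k
      rw [Subgroup.card_map_of_injective (MulAut.conj n).injective, hP, H.card] at this
      norm_num at this)
  refine ⟨g, t, c, ?_, g2⟩
  rintro rfl
  rcases H.q0 t with e | e
  · exact H.y_ne (conj_eq_one_iff.1 (g2.trans e))
  · exact g1 (g2.trans e)

end H10.Mon.MG
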