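import Mathlib
import Cfsg.Agent.H19.Z1
import Cfsg.Agent.H19.Z1R
import Cfsg.Agent.H19.MG3

/-!
# Uniqueness of the Monster: the centralisers of the four-groups correspond
-/

set_option autoImplicit false
set_option linter.all false

namespace H10.Mon.MG

theorem fm_all {h : G0} (hh : h ∈ N0) (f : ∀ d : C, d.1 11 = 0 → Fm h d) : Ac h 1 := by
  obtain ⟨eO, eD, s0, L⟩ := exists_LF
  have a : ∀ s ∈ [eO, eD], ∀ u ∈ N0, ¬ Ac (u * h * u⁻¹) s := fun s hs u hu e => by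
    obtain ⟨c, c1, c2⟩ := L.oE s hs
    refine c2 ?_
    rw [Fm, ← e, mul_smul, mul_smul]
    rcases f (u⁻¹ • c) (by rw [odd_smul (inv_mem hu), c1]) with h | h <;> rw [h]
    · exact .inl (smul_inv_smul _ _)
    · exact .inr (by rw [smul_add, smul_inv_smul, fix_Om.2 hu])
  rcases L.sgn _ hh fun c hc => f c (by rw [hc.2]; rfl) with h | ⟨u, hu, h⟩ | ⟨u, hu, h⟩
  exacts [h, (a _ (by simp) u hu h).elim, (a _ (by simp) u hu h).elim]

/-- No invariant subgroup of index 2 that contains `Om`. -/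
theorem inv23 (p : C → Prop) (V : AddSubgroup C) (hp : ∀ c, p c → c.1 11 = 0)
    (hi : ∀ h ∈ N0, ∀ c, p c → p (h • c)) (hV : ∀ h ∈ N0, ∀ c ∈ V, h • c ∈ V) (hO : Om ∈ V)
    (two : ∀ a b, p a → p b → a ∉ V → b ∉ V → a + b ∈ V) {c : C} (hc : p c) : c ∈ V := by
  obtain ⟨u, u1, u2, u3⟩ := ord23
  by_contra hn
  have n : ∀ h ∈ N0, h • c ∉ V := fun h hh e => hn (by simpa using hV _ (inv_mem hh) _ e)
  have a := two c _ hc (hi u u1 c hc) hn (n u u1)
  have k : ∀ j : ℕ, LS.T u (2 * j + 1) c + c ∈ V ∧ (LS.T u (2 * j + 1) c).1 11 = 0 := fun j => by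
    induction j with
    | zero =>
      rw [LS.T_succ, show LS.T u (2 * 0) c = 0 from rfl, smul_zero, add_zero, cc2]
      exact ⟨V.zero_mem, hp c hc⟩
    | succ j ih =>
      rw [show 2 * (j + 1) + 1 = 2 * j + 1 + 1 + 1 by ring, LS.T_succ, LS.T_succ]
      generalize LS.T u (2 * j + 1) c = s at *
      refine ⟨?_, by
        rw [Prod.fst_add, Pi.add_apply, odd_smul u1, Prod.fst_add, Pi.add_apply, odd_smul u1, ih.2,
          hp c hc]; rfl⟩
      have := hV u u1 _ (V.add_mem a (hV u u1 _ (V.add_mem ih.1 (V.zero_mem))))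
      rw [add_zero, smul_add u s, add_comm (u • s), ← add_assoc, add_assoc c, cc2, add_zero] at this
      rwa [add_right_comm, cc2, zero_add]
  have f : ∀ m : ℕ, u • LS.T u m c + c = LS.T u m c + u ^ m • c := fun m => by
    induction m with
    | zero => rw [show LS.T u 0 c = 0 from rfl, smul_zero, pow_zero, one_smul]
    | succ m ih =>
      rw [LS.T_succ, pow_succ', mul_smul]
      conv_lhs => rw [add_comm c, ih, smul_add]
      abel
  have g := f 23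
  rw [u2, one_smul, add_left_inj] at g
  have := (k 11).1
  rcases u3 _ (k 11).2 g with e | e <;> rw [e] at this
  · exact hn (by rwa [zero_add] at this)
  · exact hn (by simpa [← add_assoc, cc2] using V.add_mem hO this)

theorem bb_Om {c : C} (h : c.1 11 = 0) : bb c Om = 0 := by
  rw [← h, ← pl_Om, pl, bb_fst Om_fst, add_zero]

theorem odd_add {c d : C} (h : c.1 11 = 0) (h' : d.1 11 = 0) : (c + d).1 11 = 0 := by
  rw [Prod.fst_add, Pi.add_apply, h, h', add_zero]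

theorem odd_of {c : C} (h : c.1 = 0) : c.1 11 = 0 := by rw [h]; rfl

variable {G G' : Type*} [Group G] [Group G'] {x y : G} {q p : ZMod 2 → C → G} {γ : G} {x' y' : G'}
  {q' p' : ZMod 2 → C → G'} {γ' : G'}

/-- Two extraspecial groups in symmetric position. -/
structure Pr (y : G) (q p : ZMod 2 → C → G) : Prop where
  s : Sit y q
  v : Sit (q 0 Om) p
  o : p 0 Om = y

theorem Two.pr (H : Two x y q γ) : Pr y q (vw q γ) := ⟨H.s, H.view.s, H.gO⟩

theorem Two.shared0' (H : Two x y q γ) (s : ZMod 2) {c : C} (hc : c.1 = 0) :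
    ∃ t d, d.1 = 0 ∧ γ * q s c * γ⁻¹ = q t d := by
  obtain ⟨t, d, hd, e⟩ := H.shared0 s hc
  obtain ⟨k, hk, h⟩ := H.gg
  exact ⟨_, _, fst_smul_zero h hd, by rw [← hk t d, e]; group⟩

/-- The same action on the first extraspecial groups. -/
def Sm (q p : ZMod 2 → C → G) (q' p' : ZMod 2 → C → G') (t : ZMod 2) (c : C) (t' : ZMod 2) (c' : C) :
    Prop := ∃ k, Rel q (p t c) k ∧ Rel q' (p' t' c') k

theorem Sm.symm {t t' : ZMod 2} {c c' : C} : Sm q p q' p' t c t' c' → Sm q' p' q p t' c' t c :=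
  fun ⟨k, a, b⟩ => ⟨k, b, a⟩

theorem Pr.mulO (P : Pr y q p) (t : ZMod 2) {c : C} (h : c.1 11 = 0) : p t c * y = p t (c + Om) := by
  rw [← P.o, P.v.mul, bb_Om h, add_zero, add_zero]

theorem Pr.odd (P : Pr y q p) {t : ZMod 2} {c : C} {k : GT} (h : Rel q (p t c) k) : c.1 11 = 0 := by
  have := (P.v.cm_q (P.v.rel_q t c) (t := 0) (c := Om) (by rw [P.o, P.s.rel_cm h])).2
  rwa [ep_qe, ← odd_eq] at this

/-- Transfer of the property of lying in `C(y, z)`. -/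
theorem Pr.trN (P : Pr y q p) (P' : Pr y' q' p') {a : G} {a' : G'} {k : GT} (h : Rel q a k)
    (h' : Rel q' a' k) (e : a * q 0 Om = q 0 Om * a) : ∃ l', Rel p' a' l' ∧ co l' ∈ N0 := by
  obtain ⟨e1, e2⟩ := P.s.cm_q h e
  obtain ⟨l, hl⟩ := P'.v.up a' (mul_inv_eq_iff_eq_mul.1 (by rw [h', e1, e2, add_zero]))
  exact ⟨l, hl, P'.v.mem_N0 hl (by rw [P'.o, P'.s.rel_cm h'])⟩

section

variable (P : Pr y q p) (P' : Pr y' q' p')
include P P'

theorem Sm.uniq {t s s' : ZMod 2} {c d d' : C} (a : Sm q p q' p' t c s d) (b : Sm q p q' p' t c s' d') :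
    s' = s ∧ Eo d' d := by
  obtain ⟨k, a1, a2⟩ := a
  obtain ⟨l, b1, b2⟩ := b
  rcases P'.s.eq_or a2 (b2.congr (P.s.rel_uniq b1 a1)) with e | e
  · exact ⟨(P'.v.inj e).1, .inl (P'.v.inj e).2⟩
  · rw [P'.mulO _ (P'.odd a2)] at e
    exact ⟨(P'.v.inj e).1, .inr (P'.v.inj e).2⟩

theorem Sm.mul {t s t' s' : ZMod 2} {c d c' d' : C} (a : Sm q p q' p' t c t' c')
    (b : Sm q p q' p' s d s' d') : Sm q p q' p' (t + s + bb c d) (c + d) (t' + s' + bb c' d') (c' + d') := by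
  obtain ⟨k, a1, a2⟩ := a
  obtain ⟨l, b1, b2⟩ := b
  exact ⟨_, P.v.mul _ _ _ _ ▸ a1.mul b1, P'.v.mul _ _ _ _ ▸ a2.mul b2⟩

theorem Sm.z (t : ZMod 2) : Sm q p q' p' t 0 t 0 := by
  rcases z2 t with rfl | rfl
  · exact ⟨1, P.v.zero ▸ Rel.one, P'.v.zero ▸ Rel.one⟩
  · exact ⟨_, P.v.one ▸ P.s.rel_q 0 Om, P'.v.one ▸ P'.s.rel_q 0 Om⟩

theorem Sm.sh {t t' : ZMod 2} {c c' : C} (a : Sm q p q' p' t c t' c') (s : ZMod 2) :
    Sm q p q' p' (t + s) c (t' + s) c' := by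
  simpa only [bb_zero_right, add_zero] using Sm.mul P P' a (Sm.z P P' s)

theorem Sm.eo {t t' : ZMod 2} {c c' d : C} (a : Sm q p q' p' t c t' c') (e : Eo c' d) :
    Sm q p q' p' t c t' d := by
  obtain ⟨k, a1, a2⟩ := a
  rcases e.symm with rfl | rfl
  exacts [⟨k, a1, a2⟩, ⟨k, a1, P'.mulO _ (P'.odd a2) ▸ P'.s.rel_y a2⟩]

theorem Sm.conj {t t' : ZMod 2} {c c' : C} (h : Sm q p q' p' t c t' c') {a : G} {a' : G'} {k l l' : GT}
    (h1 : Rel q a k) (h2 : Rel q' a' k) (h3 : Rel p a l) (h4 : Rel p' a' l') :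
    Sm q p q' p' (t + ep l c) (co l • c) (t' + ep l' c') (co l' • c') := by
  obtain ⟨m, a1, a2⟩ := h
  exact ⟨_, h3 t c ▸ h1.conj a1, h4 t' c' ▸ h2.conj a2⟩

/-- Elements with the same action on the first groups act alike on `Om^⊥` in the second groups. -/
theorem act_eq (S : ∀ t c, c.1 11 = 0 → Sm q p q' p' t c t c) {a : G} {a' : G'} {k l l' : GT}
    (h1 : Rel q a k) (h2 : Rel q' a' k) (h3 : Rel p a l) (h4 : Rel p' a' l') :
    (∀ c : C, c.1 11 = 0 → ep l c = ep l' c) ∧ Ac (co l) (co l') := by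
  have n : co l ∈ N0 := P.v.mem_N0 h3 (by rw [P.o, P.s.rel_cm h1])
  have n' : co l' ∈ N0 := P'.v.mem_N0 h4 (by rw [P'.o, P'.s.rel_cm h2])
  have u := fun (c : C) (hc : c.1 11 = 0) => Sm.uniq P P' ((S 0 c hc).conj P P' h1 h2 h3 h4)
    (S _ _ (by rw [odd_smul n, hc]))
  refine ⟨fun c hc => by simpa using (u c hc).1, fun c => ?_⟩
  have := fm_all (mul_mem (inv_mem n') n) (fun d hd => by
    have := ((u d hd).2.smul (inv_mem n'))
    rwa [inv_smul_smul, ← mul_smul] at this) c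
  rwa [mul_smul, one_smul, inv_smul_eq_iff] at this

end

theorem exists_sm (H : Two x y q γ) (H' : Two x' y' q' γ') {c : C} (hc : c.1 11 = 0) :
    ∃ t' c', Sm q (vw q γ) q' (vw q' γ') 0 c t' c' := by
  obtain ⟨k, hk⟩ := H.s.up _ (H.ev_cm 0 hc)
  obtain ⟨u, hu⟩ := H'.s.down k
  obtain ⟨l, hl, -⟩ := H.pr.trN H'.pr hk hu (H.view.s.cm 0 c)
  obtain ⟨t', c', rfl⟩ := H'.view.s.inQ hl (fixW fun d hd => by
    obtain ⟨s, e, e1, e2⟩ := H'.shared0' 0 hd
    obtain ⟨t, f, -, f2⟩ := H.shared0 s e1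
    have a := hk s e
    have b := hl 0 d
    simp only [vw] at b
    rw [e2, hu] at b
    rw [f2, show γ * q 0 c * γ⁻¹ * (γ * q t f * γ⁻¹) * (γ * q 0 c * γ⁻¹)⁻¹ = _ from
      H.view.s.cj 0 t f c] at a
    rcases H.view.s.or_y (t + pl c f) t f with g | g <;> beta_reduce at g <;> rw [g, ← f2] at a
    · rw [← (H.s.inj a).1, ← (H.s.inj a).2, ← e2] at b
      exact (H'.view.s.inj b).2.symm
    · rw [H.s.mul] at a
      rw [← (H.s.inj a).1, ← (H.s.inj a).2, ← H'.s.mul, ← e2] at b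
      exact (H'.view.s.inj ((H'.view.s.mul_y 0 d).symm.trans b)).2.symm)
  exact ⟨t', c', k, hk, hu⟩

theorem exists_h (H : Two x y q γ) (H' : Two x' y' q' γ') :
    ∃ h ∈ N0, ∀ c : C, c.1 11 = 0 → ∃ t', Sm q (vw q γ) q' (vw q' γ') 0 c t' (h • c) := by
  have P := H.pr
  have P' := H'.pr
  choose! τ f hf using fun (c : C) (hc : c.1 11 = 0) => exists_sm H H' hc
  have m : ∀ c d : C, c.1 11 = 0 → d.1 11 = 0 → τ (c + d) + bb c d = τ c + τ d + bb (f c) (f d) ∧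
      Eo (f (c + d)) (f c + f d) := fun c d hc hd =>
    Sm.uniq P P' (by simpa only [zero_add] using (hf c hc).mul P P' (hf d hd))
      (by simpa only [zero_add] using (hf _ (odd_add hc hd)).sh P P' (bb c d))
  obtain ⟨h, hh, e⟩ := LR1 f (fun c d hc hd => (m c d hc hd).2)
    (fun c hc => P'.odd (hf c hc).choose_spec.2)
    (fun c hc e => (Sm.uniq P' P (Sm.z P' P _) ((hf c hc).eo P P' e).symm).2)
    (fun c hc => by
      obtain ⟨s, e, e1, e2⟩ := H.shared' 0 hc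
      obtain ⟨t, d, d1, d2⟩ := H'.shared s e1
      rcases (Sm.uniq P P' ⟨_, by rw [vw, e2]; exact H.s.rel_q s e, by
        rw [vw, ← d2]; exact H'.s.rel_q s e⟩ (hf c (odd_of hc.2))).2 with g | g <;> rw [g]
      exacts [d1, sh0_Om d1])
    (fun c d hc hd => by
      have a := (m c d hc hd).1
      have b := (m d c hd hc).1
      rw [add_comm d c] at b
      unfold pl
      linear_combination (exp := 1) -a - b + zz2 (τ (c + d)) - zz2 (τ c) - zz2 (τ d))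
    fun l hl => by
      obtain ⟨a, m, a1, rfl, a2⟩ := P.v.liftN hl
      rw [P.o] at a2
      obtain ⟨k, hk⟩ := H.s.up a a2
      obtain ⟨a', ha'⟩ := H'.s.down k
      obtain ⟨l', h1, h2⟩ := P.trN P' hk ha' (P.v.rel_cm a1)
      exact ⟨_, h2, fun c hc => (Sm.uniq P P' ((hf c hc).conj P P' hk ha' a1 h1)
        ((hf _ (by rw [odd_smul hl, hc])).sh P P' (ep m c))).2⟩
  exact ⟨h, hh, fun c hc => ⟨_, (hf c hc).eo P P' (e c hc)⟩⟩

theorem Pr.tw (P : Pr y q p) {n : G} (h : n * y = y * n) (h' : n * q 0 Om = q 0 Om * n) :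
    Pr y q (vw p n) :=
  ⟨P.s, by simpa only [mul_inv_eq_iff_eq_mul.2 h'] using P.v.view n, by
    rw [vw, P.o, mul_inv_eq_iff_eq_mul.2 h]⟩

theorem exists_sgn (P : Pr y q p) (P' : Pr y' q' p')
    (h : ∀ c : C, c.1 11 = 0 → ∃ t', Sm q p q' p' 0 c t' c) :
    ∃ e : C, e.1 11 = 0 ∧ ∀ t c, c.1 11 = 0 → Sm q (vw p (p 0 e)) q' p' t c t c := by
  choose! μ hμ using h
  have m : ∀ c d : C, c.1 11 = 0 → d.1 11 = 0 → μ (c + d) = μ c + μ d := fun c d hc hd => by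
    have := (Sm.uniq P P' (by simpa only [zero_add] using (hμ c hc).mul P P' (hμ d hd))
      (by simpa only [zero_add] using (hμ _ (odd_add hc hd)).sh P P' (bb c d))).1
    exact add_right_cancel this
  let κ : C := (Pi.single 11 1, 0)
  have k1 : ∀ c : C, (c + c.1 11 • κ).1 11 = 0 := fun c => by
    simp only [κ, Prod.fst_add, Pi.add_apply, Prod.smul_fst, Pi.smul_apply, Pi.single_eq_same,
      smul_eq_mul, mul_one, zz2]
  obtain ⟨e, he⟩ := exists_polar (AddMonoidHom.mk' (fun c => μ (c + c.1 11 • κ)) fun a b => by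
    rw [← m _ _ (k1 a) (k1 b), Prod.fst_add, Pi.add_apply, add_smul, add_add_add_comm])
  have he' : ∀ c : C, c.1 11 = 0 → pl e c = μ c := fun c hc => by
    have := he c
    rw [AddMonoidHom.mk'_apply, hc, zero_smul, add_zero] at this
    exact this.symm
  refine ⟨e, ?_, fun t c hc => ?_⟩
  · rw [← pl_Om, he' _ (odd_of Om_fst)]
    exact (Sm.uniq P P' ⟨1, by rw [P.o, ← one_mul y]; exact P.s.rel_y Rel.one, by
      rw [P'.o, ← one_mul y']; exact P'.s.rel_y Rel.one⟩ (hμ _ (odd_of Om_fst))).1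
  · have := (hμ c hc).sh P P' (t + μ c)
    rw [zero_add, add_comm t, ← add_assoc, zz2, zero_add, add_comm] at this
    rw [Sm, vw, P.v.cj, he' c hc]
    exact this

theorem wcomp (P : Pr y q p) (H' : Two x' y' q' γ')
    (S : ∀ t c, c.1 11 = 0 → Sm q p q' (vw q' γ') t c t c) {d : C} (hd : d.1 = 0) :
    ∀ t s e, vw q' γ' t d = q' s e → p t d = q s e := by
  have P' := H'.pr
  have o : ∀ {d : C}, d.1 = 0 → ∀ {t s e}, vw q' γ' t d = q' s e → p t d = q s e ∨ p t d = q s e * y :=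
    fun hd t s e h => by
      obtain ⟨k, a1, a2⟩ := S t _ (odd_of hd)
      exact P.s.eq_or (P.s.rel_q s e) (a1.congr (H'.s.rel_uniq a2 (h ▸ H'.s.rel_q s e)))
  have one : ∀ {d : C}, d.1 = 0 → ∀ {t s e}, vw q' γ' t d = q' s e → p t d = q s e →
      ∀ t s e, vw q' γ' t d = q' s e → p t d = q s e := fun hd t s e h1 h2 t1 s1 e1 h => by
    rcases z2_or t1 t with rfl | rfl
    · rw [h1] at h
      rw [h2, (H'.s.inj h).1, (H'.s.inj h).2]
    · rw [← P'.v.mul_y, h1, H'.s.mul] at h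
      rw [← P.v.mul_y, h2, P.s.mul, (H'.s.inj h).1, (H'.s.inj h).2]
  have ml : ∀ {a b : C}, a.1 = 0 → ∀ t, t = 0 + t + bb a b := fun h t => by
    rw [bb_fst h, zero_add, add_zero]
  refine (inv23 (fun d => d.1 = 0)
    { carrier := {d | d.1 = 0 ∧ ∀ t s e, vw q' γ' t d = q' s e → p t d = q s e}
      zero_mem' := ⟨rfl, one rfl (P'.v.zero.trans P'.s.zero.symm) (P.v.zero.trans P.s.zero.symm)⟩
      add_mem' := fun {a b} ha hb => ?_
      neg_mem' := fun {a} ha => by rwa [neg_eq_iff_add_eq_zero.2 (cc2 a)] }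
    (fun c => odd_of) (fun h hh c => fst_smul_zero hh) (fun h hh c hc => ?_)
    ⟨Om_fst, one Om_fst (P'.o.trans P'.s.one.symm) (P.o.trans P.s.one.symm)⟩
    (fun a b ha hb na nb => ?_) hd).2
  · obtain ⟨s, e, -, e2⟩ := H'.shared0' 0 ha.1
    obtain ⟨s', e', -, e2'⟩ := H'.shared0' 0 hb.1
    have h0 : (a + b).1 = 0 := by rw [Prod.fst_add, ha.1, hb.1, add_zero]
    refine ⟨h0, one h0 (t := 0 + 0 + bb a b) (by rw [← P'.v.mul, vw, vw, e2, e2', H'.s.mul]) ?_⟩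
    rw [← P.v.mul, ha.2 _ _ _ e2, hb.2 _ _ _ e2', P.s.mul]
  · obtain ⟨a', l', a1, rfl, a2⟩ := P'.v.liftN hh
    rw [P'.o] at a2
    obtain ⟨k, hk⟩ := P'.s.up a' a2
    obtain ⟨a, ha⟩ := P.s.down k
    obtain ⟨l, h1, -⟩ := P'.trN P hk ha (P'.v.rel_cm a1)
    obtain ⟨b1, b2⟩ := act_eq P P' S ha hk h1 a1
    obtain ⟨s, e, -, e2⟩ := H'.shared0' 0 hc.1
    have h0 := fst_smul_zero hh hc.1
    refine ⟨h0, one h0 (t := 0 + ep l' c) (by rw [← a1, vw, e2, hk]) ?_⟩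
    rw [← b1 c (odd_of hc.1), ← b2, ← h1, hc.2 _ _ _ e2, ha]
  · obtain ⟨s, e, -, e2⟩ := H'.shared0' 0 ha
    obtain ⟨s', e', -, e2'⟩ := H'.shared0' 0 hb
    have h0 : (a + b).1 = 0 := by rw [Prod.fst_add, ha, hb, add_zero]
    refine ⟨h0, one h0 (t := 0 + 0 + bb a b) (by rw [← P'.v.mul, vw, vw, e2, e2', H'.s.mul]) ?_⟩
    rw [← P.v.mul, (o ha e2).resolve_left fun h => na ⟨ha, one ha e2 h⟩,
      (o hb e2').resolve_left fun h => nb ⟨hb, one hb e2' h⟩, ← P.s.mul, mul_assoc, ← mul_assoc y,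
      ← P.s.cm, mul_assoc _ y, P.s.yy, mul_one]

theorem exists_g1 (H : Two x y q γ) (H' : Two x' y' q' γ') :
    ∃ γ1, Two x y q γ1 ∧ ∀ t c, c.1 11 = 0 → Sm q (vw q γ1) q' (vw q' γ') t c t c := by
  have P := H.pr
  have P' := H'.pr
  obtain ⟨h, hh, e⟩ := exists_h H H'
  obtain ⟨n, l, n1, n2, n3⟩ := P.v.liftN (inv_mem hh)
  rw [P.o] at n3
  have n4 := P.v.rel_cm n1
  have P1 := P.tw n3 n4
  obtain ⟨e, e1, S⟩ := exists_sgn P1 P' fun c hc => by
    obtain ⟨t', a⟩ := e (h⁻¹ • c) (by rw [odd_smul (inv_mem hh), hc])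
    rw [smul_inv_smul] at a
    refine ⟨t' + ep l c, ?_⟩
    rw [Sm, vw, n1, n2]
    exact a.sh P P' _
  generalize hm : vw (vw q γ) n 0 e = m at S
  have m1 : m * y = y * m := by
    rw [← mul_inv_eq_iff_eq_mul, ← hm, ← P1.o, P1.v.cj, pl_Om, e1, add_zero]
  have m2 : m * q 0 Om = q 0 Om * m := hm ▸ P1.v.cm 0 e
  have ev : vw (vw (vw q γ) n) m = vw q (m * n * γ) := by
    funext t c
    simp only [vw, mul_inv_rev, mul_assoc]
  have P2 := P1.tw m1 m2
  rw [ev] at S P2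
  refine ⟨m * n * γ, ⟨H.s, H.hx, H.nc, ?_, ?_, P2.o⟩, S⟩
  · have := wcomp P2 H' S c0_fst 0 0 c0.1 (by rw [vw, H'.hx, H'.gx])
    rwa [vw, H.hx] at this
  · have := P2.v.one
    rwa [vw, H.s.one] at this

theorem exists_amg (H : Two x y q γ) (H' : Two x' y' q' γ') :
    ∃ γ1, Amg x y q γ1 x' y' q' γ' := by
  obtain ⟨γ, H, S⟩ := exists_g1 H H'
  have P := H.pr
  have P' := H'.pr
  have tot : ∀ g', g' * y' = y' * g' → g' * q' 0 Om = q' 0 Om * g' → ∃ g, Th q γ q' γ' g g' :=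
    fun g' h1 h2 => by
      obtain ⟨k, hk⟩ := H'.s.up g' h1
      obtain ⟨l', hl'⟩ := P'.v.up g' h2
      obtain ⟨g, hg⟩ := H.s.down k
      obtain ⟨l, hl, -⟩ := P'.trN P hk hg h2
      obtain ⟨b1, b2⟩ := act_eq P P' S hg hk hl hl'
      let κ : C := (Pi.single 11 1, 0)
      have k1 : κ.1 11 = 1 := rfl
      have od : ∀ c : C, c.1 11 = 1 → ep l c + ep l' κ = ep l' c + ep l κ := fun c hc => by
        have := b1 (c + κ) (by rw [Prod.fst_add, Pi.add_apply, hc, k1]; rfl)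
        rw [ep_add, ep_add, b2, b2, add_left_inj, add_left_inj] at this
        linear_combination (exp := 1) this + zz2 (ep l' κ) - zz2 (ep l κ)
      rcases z2_or (ep l κ) (ep l' κ) with e | e
      · refine ⟨g, k, l', hg, hk, hl.congr fun c => ⟨?_, b2 c⟩, hl'⟩
        rcases z2 (c.1 11) with h | h
        exacts [b1 c h, add_right_cancel (e ▸ od c h)]
      · refine ⟨g * y, k, l', H.s.rel_y hg, hk,
          (P.o ▸ hl.mul (P.v.rel_q 0 Om)).congr fun c => ⟨?_, ?_⟩, hl'⟩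
        · rw [ep_mul, ep_qe, co_qe, one_smul, add_comm (bb Om c), ← odd_eq]
          rcases z2 (c.1 11) with h | h <;> rw [h]
          · rw [zero_add, b1 c h]
          · have := od c h
            rw [e] at this
            linear_combination (exp := 1) this + z11
        · rw [map_mul, co_qe, mul_one, b2]
  have q1 : ∀ t c, c.1 11 = 0 → Th q γ q' γ' (vw q γ t c) (vw q' γ' t c) := fun t c hc => by
    obtain ⟨k, a1, a2⟩ := S t c hc
    exact ⟨k, _, a1, a2, P.v.rel_q t c, P'.v.rel_q t c⟩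
  have yy : Th q γ q' γ' y y' := by simpa only [P.o, P'.o] using q1 0 Om (odd_of Om_fst)
  have one : ∀ {t c}, Th q γ q' γ' (q t c) (q' t c) → ∀ t, Th q γ q' γ' (q t c) (q' t c) :=
    fun {t c} h s => by
      rcases z2_or s t with rfl | rfl
      exacts [h, by rw [← H.s.mul_y, ← H'.s.mul_y]; exact h.mul yy]
  have o : ∀ {c : C}, c.1 11 = 0 → ¬ Th q γ q' γ' (q 0 c) (q' 0 c) → Th q γ q' γ' (q 0 c * y) (q' 0 c) :=
    fun {c} hc n => by
      obtain ⟨g, hg⟩ := tot (q' 0 c) (H'.s.cm 0 c) (by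
        rw [← mul_inv_eq_iff_eq_mul, H'.s.cj, pl_Om, hc, add_zero])
      obtain ⟨k, -, a1, a2, -⟩ := id hg
      rcases H.s.eq_or (H.s.rel_q 0 c) (a1.congr (H'.s.rel_uniq a2 (H'.s.rel_q 0 c))) with e | e
      exacts [(n (e ▸ hg)).elim, e ▸ hg]
  refine ⟨γ, H, H', tot, fun t c hc => (inv23 (fun d => d.1 11 = 0)
    { carrier := {c | ∀ t, Th q γ q' γ' (q t c) (q' t c)}
      zero_mem' := one (t := 0) (by rw [H.s.zero, H'.s.zero]; exact Th.one)
      add_mem' := fun {a b} ha hb => one (by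
        rw [← H.s.mul 0 a 0 b, ← H'.s.mul]; exact (ha 0).mul (hb 0))
      neg_mem' := fun {a} ha => by rwa [neg_eq_iff_add_eq_zero.2 (cc2 a)] }
    (fun c => id) (fun h hh c hc => by rw [odd_smul hh, hc]) (fun h hh c hc => ?_)
    (one (t := 0) (by simpa only [P.v.one, P'.v.one] using q1 1 0 rfl)) (fun a b ha hb na nb => one (t := 0 + 0 + bb a b) ?_) hc) t, q1⟩
  · obtain ⟨a', k, a1, rfl, a2⟩ := H'.s.liftN hh
    obtain ⟨a, ha⟩ := tot a' (H'.s.rel_cm a1) a2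
    obtain ⟨k', -, b1, b2, -⟩ := id ha
    refine one (t := 0 + ep k c) ?_
    rw [← a1, ← b1.congr (H'.s.rel_uniq b2 a1)]
    exact (ha.mul (hc 0)).mul ha.inv
  · have := (o ha fun h => na (one h)).mul (o hb fun h => nb (one h))
    rwa [mul_assoc, ← mul_assoc y, ← H.s.cm, mul_assoc _ y, H.s.yy, mul_one, H.s.mul, H'.s.mul] at this

end H10.Mon.MG
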