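import Mathlib
import Cfsg.Agent.H19.Z1

/-!
# Uniqueness of the Monster: the isomorphism of the centralisers
-/

set_option autoImplicit false
set_option linter.all false

namespace H10.Mon.MG

variable {G G' : Type*} [Group G] [Group G'] {x y : G} {q : ZMod 2 → C → G} {γ : G} {x' y' : G'}
  {q' : ZMod 2 → C → G'} {γ' : G'}

namespace Z5

theorem qinv (H : Sit y q) (t : ZMod 2) (c : C) : (q t c)⁻¹ = q (t + bb c c) c :=
  inv_eq_of_mul_eq_one_right (by rw [H.mul, cc2, ← add_assoc, zz2, zero_add, zz2, H.zero])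

theorem mv (H : Sit y q) {b : G} {k : GT} (hk : Rel q b k) (a : G) (t s : ZMod 2) (c d : C) :
    a * q t c * (b * q s d) =
      a * b * q (t + ep k⁻¹ c + s + bb (co k⁻¹ • c) d) (co k⁻¹ • c + d) := by
  rw [← H.mul, ← hk.inv]; group

theorem mi (H : Sit y q) {a : G} {k : GT} (hk : Rel q a k) (t : ZMod 2) (c : C) :
    (a * q t c)⁻¹ = a⁻¹ * q (t + bb c c + ep k c) (co k • c) := by
  rw [← hk, ← qinv H]; group

variable (q q') in
/-- Pairs with the same action. -/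
def D : Subgroup (G × G') where
  carrier := {p | ∃ k, Rel q p.1 k ∧ Rel q' p.2 k}
  mul_mem' := fun ⟨_, a, b⟩ ⟨_, c, d⟩ => ⟨_, a.mul c, b.mul d⟩
  one_mem' := ⟨1, Rel.one, Rel.one⟩
  inv_mem' := fun ⟨_, a, b⟩ => ⟨_, a.inv, b.inv⟩

variable (A : Amg x y q γ x' y' q' γ')
include A

def T : Subgroup (D q q') where
  carrier := {p | ∃ t c, Th q γ q' γ' (p.1.1 * q t c) (p.1.2 * q' t c)}
  mul_mem' := fun {a b} ⟨t, c, h1⟩ ⟨s, d, h2⟩ => by
    obtain ⟨k, k1, k2⟩ := b.2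
    have := h1.mul h2
    rw [mv A.two.s k1, mv A.two'.s k2] at this
    exact ⟨_, _, this⟩
  one_mem' := ⟨0, 0, by rw [A.two.s.zero, A.two'.s.zero]; simpa using Th.one⟩
  inv_mem' := fun {a} ⟨t, c, h⟩ => by
    obtain ⟨k, k1, k2⟩ := a.2
    have := h.inv
    rw [mi A.two.s k1, mi A.two'.s k2] at this
    exact ⟨_, _, this⟩

def ze : D q q' := ⟨(y, 1), 1, by simpa using A.two.s.rel_y Rel.one, Rel.one⟩

theorem th_ev {g : G} {t : ZMod 2} {c : C} (h : Th q γ q' γ' g (q' t c)) : g = q t c := by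
  have ⟨_, l, _, _, _, h4⟩ := h
  have := (A.two'.s.cm_q (A.two'.s.rel_q t c) (A.two'.view.s.rel_cm h4)).2
  rw [ep_qe, ← odd_eq] at this
  exact h.uniq A.two A.two' (A.q0 t c this)

theorem ze_T : ze A ∉ T A := fun ⟨t, c, h⟩ => by
  change Th q γ q' γ' (y * _) (1 * _) at h
  rw [one_mul] at h
  exact A.two.s.y_ne (mul_eq_right.1 (th_ev A h))

theorem ze_cm (p : D q q') : p * ze A = ze A * p := by
  obtain ⟨k, k1, -⟩ := p.2
  exact Subtype.ext (Prod.ext (A.two.s.rel_cm k1) (Commute.one_right _).eq)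

theorem ze_sq : ze A * ze A = 1 := Subtype.ext (Prod.ext A.two.s.yy (mul_one _))

theorem tot1 {p : D q q'} {k : GT} (k1 : Rel q p.1.1 k) (k2 : Rel q' p.1.2 k) (h : co k • Om = Om) :
    p * ze A ∈ T A ∨ p ∈ T A := by
  obtain ⟨c, hc⟩ : ∃ c, ep (k * qe 0 c) Om = 0 := by
    simp only [ep_mul, ep_qe, co_qe, one_smul]
    rcases z2 (ep k Om) with e | e <;> rw [e]
    · exact ⟨0, by rw [bb_zero_left, bb_zero_right]; rfl⟩
    · exact (exists_polar_one Om_ne_zero).imp fun c hc => by rw [add_comm (bb c _), hc]; rfl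
  have r1 := k1.mul (A.two.s.rel_q 0 c)
  have r2 := k2.mul (A.two'.s.rel_q 0 c)
  obtain ⟨n, hn⟩ := A.tot _ (A.two'.s.rel_cm r2) (mul_inv_eq_iff_eq_mul.1 (by
    rw [r2, hc, map_mul, co_qe, mul_one, h, add_zero]))
  have ⟨l, _, l1, l2, _⟩ := hn
  rcases A.two.s.eq_or r1 (l1.congr (A.two'.s.rel_uniq l2 r2)) with e | e <;> rw [e] at hn
  · exact .inr ⟨0, c, hn⟩
  · refine .inl ⟨0, c, ?_⟩
    change Th q γ q' γ' (p.1.1 * y * _) (p.1.2 * 1 * _)
    rwa [mul_one, mul_assoc, ← A.two.s.cm, ← mul_assoc]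

theorem chi : ∃ χ : D q q' →* Multiplicative (ZMod 2), χ (ze A) ≠ 1 := by
  classical
  have H := A.two.s
  choose k hk hk' using fun p : D q q' => (p.2 : ∃ k, Rel q p.1.1 k ∧ Rel q' p.1.2 k)
  letI : MulAction (D q q') C :=
    { smul := fun p c => co (k p) • c
      one_smul := fun c => (H.rel_uniq (hk 1) Rel.one c).2.trans (by rw [map_one, one_smul])
      mul_smul := fun a b c => (H.rel_uniq (hk (a * b)) ((hk a).mul (hk b)) c).2.trans (by
        rw [map_mul, mul_smul]; rfl) }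
  let S := MulAction.stabilizer (D q q') Om
  have idx : S.index = 8292375 := by
    rw [MulAction.index_stabilizer, ← ncard_orbit_Om]
    congr 1
    ext c
    refine ⟨fun ⟨p, e⟩ => ⟨co (k p), e⟩, ?_⟩
    rintro ⟨h, rfl⟩
    obtain ⟨l, rfl⟩ := co_surj h
    obtain ⟨g, hg⟩ := H.down l
    obtain ⟨g', hg'⟩ := A.two'.s.down l
    exact ⟨⟨(g, g'), l, hg, hg'⟩, (H.rel_uniq (hk _) hg Om).2⟩
  haveI : S.FiniteIndex := ⟨by rw [idx]; norm_num⟩
  have zS : ze A ∈ S := (H.rel_uniq (hk _) (show Rel q y 1 by simpa using H.rel_y Rel.one) Om).2.trans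
    (by rw [map_one, one_smul])
  have i2 : ((T A).subgroupOf S).index = 2 := Subgroup.index_eq_two_iff_exists_notMem_and.2
    ⟨⟨_, zS⟩, ze_T A, fun b => tot1 A (hk _) (hk' _) b.2⟩
  let χ : S →* Multiplicative (ZMod 2) := MonoidHom.mk'
    (fun p => if p ∈ (T A).subgroupOf S then 1 else Multiplicative.ofAdd 1) fun a b => by
      simp only [Subgroup.mul_mem_iff_of_index_two i2]
      by_cases h1 : a ∈ (T A).subgroupOf S <;> by_cases h2 : b ∈ (T A).subgroupOf S <;>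
        simp only [h1, h2, if_true, if_false, iff_self, iff_false, not_true, false_iff] <;> rfl
  refine ⟨χ.transfer, ?_⟩
  rw [MonoidHom.transfer_eq_pow χ _ fun n g _ => by
    rw [mul_assoc, ← (Commute.pow_right (ze_cm A g) n).eq, inv_mul_cancel_left]]
  have : ze A ^ S.index = ze A := by
    rw [idx, show 8292375 = 2 * 4146187 + 1 from rfl, pow_succ, pow_mul, pow_two, ze_sq, one_pow,
      one_mul]
  simp only [this]
  exact fun h => absurd ((if_neg (ze_T A)).symm.trans h) (by decide)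

def de (t : ZMod 2) (c : C) : D q q' :=
  ⟨(q t c, q' t c), _, A.two.s.rel_q t c, A.two'.s.rel_q t c⟩

theorem de_mul (s t : ZMod 2) (c d : C) : de A s c * de A t d = de A (s + t + bb c d) (c + d) :=
  Subtype.ext (Prod.ext (A.two.s.mul _ _ _ _) (A.two'.s.mul _ _ _ _))

variable (χ : D q q' →* Multiplicative (ZMod 2))

theorem chi_cj (k : GT) (t : ZMod 2) (c : C) :
    χ (de A (t + ep k c) (co k • c)) = χ (de A t c) := by
  obtain ⟨g, hg⟩ := A.two.s.down k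
  obtain ⟨g', hg'⟩ := A.two'.s.down k
  let p : D q q' := ⟨(g, g'), k, hg, hg'⟩
  rw [show de A (t + ep k c) (co k • c) = p * de A t c * p⁻¹ from
    Subtype.ext (Prod.ext (hg t c).symm (hg' t c).symm), map_mul, map_mul, map_inv,
    mul_inv_cancel_comm]

theorem chi_de (t : ZMod 2) (c : C) : χ (de A t c) = 1 := by
  have e0 : ∀ t, χ (de A t 0) = 1 := fun t => by
    obtain ⟨d, hd⟩ := exists_polar_one Om_ne_zero
    have a := chi_cj A χ (qe 0 d) 0 Om
    have b := congrArg χ (de_mul A t 0 0 Om)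
    have c := congrArg χ (de_mul A 0 0 0 Om)
    rw [ep_qe, co_qe, one_smul, add_comm (bb d _), hd, zero_add] at a
    rw [map_mul, bb_zero_left, add_zero, add_zero, zero_add] at b
    rcases z2 t with rfl | rfl
    exacts [mul_eq_right.1 b, mul_eq_right.1 (b.trans a)]
  have e1 : ∀ s t c, χ (de A s c) = χ (de A t c) := fun s t c => by
    have := congrArg χ (de_mul A (s + t) t 0 c)
    rw [map_mul, e0, one_mul, bb_zero_left, add_zero, zero_add, add_assoc, zz2, add_zero] at this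
    exact this.symm
  have e2 : ∀ c d, χ (de A 0 (c + d)) = χ (de A 0 c) * χ (de A 0 d) := fun c d => by
    rw [← map_mul, de_mul]; exact e1 _ _ _
  have e3 : ∀ {c d}, IsS c → IsS d → χ (de A 0 c) = χ (de A 0 d) := fun {c d} hc hd => by
    obtain ⟨h, e⟩ := trans_S (toS c hc) (toS d hd)
    obtain ⟨k, rfl⟩ := co_surj h
    rw [← chi_cj A χ k 0 c, show co k • c = d from congrArg Subtype.val e]
    exact e1 _ _ _
  have s1 := (LFt.sh0_of (n := 1) (by decide +kernel)).1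
  have s8 := (LFt.sh0_of (n := 8) (by decide +kernel)).1
  have s9 := (LFt.sh0_of (n := 1 ^^^ 8) (by decide +kernel)).1
  have := e2 (dec 1) (dec 8)
  rw [← dec_xor, e3 s9 s8, right_eq_mul] at this
  exact (e1 t 0 c).trans (C_induction (p := fun c => χ (de A 0 c) = 1) (e0 0)
    (fun d => (e3 (isS_val d) s1).trans this) (fun a b ha hb => by rw [e2, ha, hb, mul_one]) c)

omit A in
theorem th_D {g : G} {g' : G'} (h : Th q γ q' γ' g g') : (g, g') ∈ D q q' :=
  let ⟨k, _, a, b, _⟩ := h; ⟨k, a, b⟩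

theorem chi_th {g : G} {g' : G'} (h : Th q γ q' γ' g g') : χ ⟨_, th_D h⟩ = 1 := by
  let K : Subgroup G0 :=
    { carrier := {h | ∃ n n' k, ∃ e : Th q γ q' γ' n n', Rel q' n' k ∧ co k = h ∧ χ ⟨_, th_D e⟩ = 1}
      mul_mem' := by
        rintro _ _ ⟨n, n', k, e, a1, rfl, a2⟩ ⟨m, m', l, f, b1, rfl, b2⟩
        exact ⟨_, _, _, e.mul f, a1.mul b1, map_mul _ _ _,
          (χ.map_mul ⟨_, th_D e⟩ ⟨_, th_D f⟩).trans (by rw [a2, b2, mul_one])⟩
      one_mem' := ⟨1, 1, 1, Th.one, Rel.one, map_one _, χ.map_one⟩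
      inv_mem' := by
        rintro _ ⟨n, n', k, e, a1, rfl, a2⟩
        exact ⟨_, _, _, e.inv, a1.inv, map_inv _ _,
          (χ.map_inv ⟨_, th_D e⟩).trans (by rw [a2, inv_one])⟩ }
  have hK : N0 ≤ K := perfN0 K fun a ha b hb => by
    obtain ⟨n', k, a1, rfl, a2⟩ := A.two'.s.liftN ha
    obtain ⟨m', l, b1, rfl, b2⟩ := A.two'.s.liftN hb
    obtain ⟨n, e⟩ := A.tot _ (A.two'.s.rel_cm a1) a2
    obtain ⟨m, f⟩ := A.tot _ (A.two'.s.rel_cm b1) b2
    refine ⟨_, _, _, ((e.mul f).mul e.inv).mul f.inv, (a1.conj b1).mul b1.inv, by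
      simp only [map_mul, map_inv], ?_⟩
    change χ (⟨_, th_D e⟩ * ⟨_, th_D f⟩ * (⟨_, th_D e⟩ : D q q')⁻¹ * (⟨_, th_D f⟩ : D q q')⁻¹) = 1
    rw [map_mul, map_mul, map_mul, map_inv, map_inv, mul_inv_cancel_comm, mul_inv_cancel]
  have ⟨k, _, _, k2, _, k4⟩ := h
  obtain ⟨n, n', l, e, a1, a2, a3⟩ := hK (A.two'.s.mem_N0 k2 (A.two'.view.s.rel_cm k4))
  obtain ⟨t, c, rfl⟩ := A.two'.s.same a1 k2 fun c => by rw [a2]
  have := th_ev A (t := t) (c := c) (by simpa using e.inv.mul h)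
  obtain rfl := inv_mul_eq_iff_eq_mul.1 this
  exact (χ.map_mul ⟨_, th_D e⟩ (de A t c)).trans (by rw [a3, chi_de, mul_one])

end Z5

open Z5 in
theorem Amg.exists_ph (A : Amg x y q γ x' y' q' γ') :
    ∃ φ, Ph q y' q' φ ∧ ∀ g g', Th q γ q' γ' g g' → φ g' = g := by
  classical
  obtain ⟨χ, hχ⟩ := chi A
  let R : G → G' → Prop := fun g g' => ∃ h : (g, g') ∈ D q q', χ ⟨_, h⟩ = 1
  have uq : ∀ {a b g'}, R a g' → R b g' → a = b := by
    rintro a b g' ⟨h1, e1⟩ ⟨h2, e2⟩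
    have ⟨k, k1, k2⟩ := h1
    have ⟨l, l1, l2⟩ := h2
    rcases A.two.s.eq_or k1 (l1.congr (A.two'.s.rel_uniq l2 k2)) with rfl | rfl
    · rfl
    · rw [show (⟨_, h2⟩ : D q q') = ⟨_, h1⟩ * ze A from Subtype.ext (Prod.ext rfl (mul_one _).symm),
        map_mul, e1, one_mul] at e2
      exact (hχ e2).elim
  have ex : ∀ {g' k}, Rel q' g' k → ∃ g, R g g' := fun {g' k} h => by
    obtain ⟨g, hg⟩ := A.two.s.down k
    by_cases e : χ ⟨(g, g'), k, hg, h⟩ = 1
    · exact ⟨g, _, e⟩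
    · have m : (g * y, g') ∈ D q q' := ⟨k, A.two.s.rel_y hg, h⟩
      refine ⟨g * y, m, ?_⟩
      rw [show (⟨_, m⟩ : D q q') = ⟨(g, g'), k, hg, h⟩ * ze A from
        Subtype.ext (Prod.ext rfl (mul_one _).symm), map_mul]
      revert e hχ
      generalize χ _ = u
      generalize χ _ = v
      revert u v
      decide
  let φ : G' → G := fun g' => if h : ∃ g, R g g' then h.choose else 1
  have sp : ∀ {g' k}, Rel q' g' k → R (φ g') g' := fun h => by
    simp only [φ, dif_pos (ex h)]; exact (ex h).choose_spec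
  refine ⟨φ, ⟨fun {a b} ha hb => ?_, fun {a k} h => ?_, fun t c =>
    uq (sp (A.two'.s.rel_q t c)) ⟨(de A t c).2, chi_de A χ t c⟩⟩, fun g g' h => ?_⟩
  · obtain ⟨k, hk⟩ := A.two'.s.up a ha
    obtain ⟨l, hl⟩ := A.two'.s.up b hb
    obtain ⟨h1, e1⟩ := sp hk
    obtain ⟨h2, e2⟩ := sp hl
    exact uq (sp (hk.mul hl)) ⟨mul_mem h1 h2, (χ.map_mul ⟨_, h1⟩ ⟨_, h2⟩).trans (by
      rw [e1, e2, mul_one])⟩
  · obtain ⟨⟨l, l1, l2⟩, -⟩ := sp h
    exact l1.congr (A.two'.s.rel_uniq l2 h)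
  · have ⟨k, _, _, k2, _⟩ := h
    exact uq (sp k2) ⟨_, chi_th A χ h⟩

end H10.Mon.MG
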