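import Mathlib
import Cfsg.Agent.H19.Z1

/-!
# Uniqueness of the Monster: rigidity of the centraliser of a four-group
-/

set_option autoImplicit false
set_option linter.all false

namespace H10.Mon.MG

variable {G G' : Type*} [Group G] [Group G'] {x y : G} {q : ZMod 2 → C → G} {γ : G} {x' y' : G'}
  {q' : ZMod 2 → C → G'} {γ' : G'}

namespace R8

theorem perpO {e : C} (h : ∀ c : C, c.1 11 = 0 → pl e c = 0) : e = 0 ∨ e = Om := by
  obtain ⟨b, hb⟩ := exists_polar_one Om_ne_zero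
  have hb' : b.1 11 = 1 := by rw [← pl_Om, pl_comm]; exact hb
  have k : ∀ d : C, d.1 11 = 1 → pl e d = pl e b := fun d hd => by
    have := h (d + b) (by rw [Prod.fst_add, Pi.add_apply, hd, hb']; rfl)
    rw [pl_add] at this
    linear_combination this - zz2 (pl e b)
  rcases z2 (pl e b) with a | a
  · refine .inl (polar_nondeg fun d => ?_)
    rcases z2 (d.1 11) with a' | a'
    exacts [h d a', (k d a').trans a]
  · refine .inr (add_eq_zero_C.1 (polar_nondeg fun d => ?_))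
    change pl _ _ = 0
    rw [pl_add', pl_comm Om, pl_Om]
    rcases z2 (d.1 11) with a' | a'
    · rw [h d a', a', add_zero]
    · rw [k d a', a, a']; rfl

theorem perpW {e : C} (h : ∀ c : C, c.1 = 0 → pl e c = 0) : e.1 = 0 := funext fun j => by
  have := h (0, Pi.single j 1) rfl
  unfold pl bb at this
  rwa [zero_dotProduct, add_zero, dotProduct_single, mul_one] at this

theorem plW {c d : C} (h1 : c.1 = 0) (h2 : d.1 = 0) : pl c d = 0 := by
  unfold pl; rw [bb_fst h1, bb_fst h2, add_zero]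

/-- The centraliser of `y` and `z`. -/
def NN (y : G) (q : ZMod 2 → C → G) : Subgroup G where
  carrier := {a | a * y = y * a ∧ a * q 0 Om = q 0 Om * a}
  one_mem' := ⟨by simp, by simp⟩
  mul_mem' := fun {a b} ha hb =>
    ⟨((show Commute a y from ha.1).mul_left hb.1), ((show Commute a _ from ha.2).mul_left hb.2)⟩
  inv_mem' := fun {a} ha =>
    ⟨(show Commute a y from ha.1).inv_left, (show Commute a _ from ha.2).inv_left⟩

theorem cmq (H : Sit y q) (s t : ZMod 2) {c d : C} : q s c * q t d = q t d * q s c ↔ pl c d = 0 := by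
  rw [← mul_inv_eq_iff_eq_mul, H.cj]
  exact ⟨fun h => by simpa using (H.inj h).1, fun h => by rw [h, add_zero]⟩

theorem q_mem (H : Sit y q) (s : ZMod 2) {c : C} : q s c ∈ NN y q ↔ c.1 11 = 0 := by
  rw [← pl_Om, ← cmq H s 0]
  exact ⟨fun h => h.2, fun h => ⟨H.cm _ _, h⟩⟩

theorem up (H : Sit y q) {a : G} (ha : a ∈ NN y q) : ∃ k, Rel q a k ∧ co k ∈ N0 :=
  (H.up a ha.1).imp fun _ h => ⟨h, H.mem_N0 h ha.2⟩

theorem cenZ (H : Sit y q) {a : G} (ha : a ∈ NN y q) (s : ZMod 2) {e : C} (he : e = 0 ∨ e = Om) :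
    a * q s e = q s e * a := by
  have h1 : Commute a y := ha.1
  have h2 : Commute a (q 0 Om) := ha.2
  rcases he with rfl | rfl
  · rcases H.q0 s with e | e <;> rw [e]
    exacts [by simp, h1]
  · rcases H.or_y s 0 Om with e | e <;> rw [e]
    exacts [h2, h2.mul_right h1]

theorem inW (H : Sit y q) {g : G} (h : ∀ s c, c.1 = 0 → g * q s c = q s c * g) :
    ∃ s e, e.1 = 0 ∧ g = q s e := by
  obtain ⟨k, hk⟩ := H.up g (H.one ▸ h 1 0 rfl)
  obtain ⟨s, e, rfl⟩ := H.inQ hk (fixW fun c hc => (H.cm_q hk (h 0 c hc)).1)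
  exact ⟨s, e, perpW fun c hc => (cmq H _ _).1 (h 0 c hc), rfl⟩

/-- An endomorphism of `N`. -/
structure En (y : G) (q : ZMod 2 → C → G) (θ : G → G) : Prop where
  mem : ∀ {a}, a ∈ NN y q → θ a ∈ NN y q
  mul : ∀ {a b}, a ∈ NN y q → b ∈ NN y q → θ (a * b) = θ a * θ b

variable {θ : G → G}

theorem En.cj (E : En y q θ) {a v : G} (ha : a ∈ NN y q) (hv : v ∈ NN y q) :
    θ (a * v * a⁻¹) = θ a * θ v * (θ a)⁻¹ := by
  rw [eq_mul_inv_iff_mul_eq, ← E.mul (mul_mem (mul_mem ha hv) (inv_mem ha)) ha, ← E.mul ha hv,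
    inv_mul_cancel_right]

theorem En.cen (E : En y q θ) {a v : G} (ha : a ∈ NN y q) (hv : v ∈ NN y q) (h1 : θ v = v)
    (h2 : θ (a * v * a⁻¹) = a * v * a⁻¹) : a⁻¹ * θ a * v = v * (a⁻¹ * θ a) := by
  rw [E.cj ha hv, h1] at h2
  calc _ = a⁻¹ * (θ a * v * (θ a)⁻¹) * θ a := by group
    _ = _ := by rw [h2]; group

theorem En.inW (E : En y q θ) (H : Sit y q) (hW : ∀ s c, c.1 = 0 → θ (q s c) = q s c) {a : G}
    (ha : a ∈ NN y q) : ∃ s e, e.1 = 0 ∧ θ a = a * q s e := by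
  obtain ⟨k, hk, h0⟩ := up H ha
  obtain ⟨s, e, h1, h2⟩ := R8.inW H (g := a⁻¹ * θ a) fun s c hc =>
    E.cen ha ((q_mem H s).2 (by rw [hc]; rfl)) (hW s c hc)
      (by rw [hk]; exact hW _ _ (fst_smul_zero h0 hc))
  exact ⟨s, e, h1, by rw [← h2, mul_inv_cancel_left]⟩

/-- An endomorphism of `N` that fixes `Q ∩ N` is the identity. -/
theorem En.eq_id (E : En y q θ) (H : Sit y q) (hX : ∀ s c, c.1 11 = 0 → θ (q s c) = q s c) {a : G}
    (ha : a ∈ NN y q) : θ a = a := by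
  have k1 : ∀ {a}, a ∈ NN y q → ∃ z, (∀ b ∈ NN y q, b * z = z * b) ∧ z ∈ NN y q ∧ θ a = a * z :=
    fun {a} ha => by
    obtain ⟨s, e, h0, h1⟩ := E.inW H (fun s c hc => hX s c (by rw [hc]; rfl)) ha
    obtain ⟨k, hk, h2⟩ := up H ha
    refine ⟨q s e, fun b hb => cenZ H hb s (perpO fun c hc => (cmq H s 0).1 ?_),
      (q_mem H s).2 (by rw [h0]; rfl), h1⟩
    have := E.cen ha ((q_mem H 0).2 hc) (hX 0 c hc)
      (by rw [hk]; exact hX _ _ (by rw [odd_smul h2, hc]))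
    rwa [h1, inv_mul_cancel_left] at this
  have k0 : θ 1 = 1 := by
    have := hX 0 0 rfl
    rwa [H.zero] at this
  have ki : ∀ {a}, a ∈ NN y q → θ a⁻¹ = (θ a)⁻¹ := fun {a} ha => by
    rw [eq_inv_iff_mul_eq_one, ← E.mul (inv_mem ha) ha, inv_mul_cancel, k0]
  let K : Subgroup G0 :=
    { carrier := {h | ∃ a ∈ NN y q, ∃ k, Rel q a k ∧ co k = h ∧ θ a = a}
      one_mem' := ⟨1, one_mem _, 1, Rel.one, map_one _, k0⟩
      mul_mem' := by
        rintro _ _ ⟨a, a1, k, a2, rfl, a3⟩ ⟨b, b1, l, b2, rfl, b3⟩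
        exact ⟨_, mul_mem a1 b1, _, a2.mul b2, map_mul _ _ _, by rw [E.mul a1 b1, a3, b3]⟩
      inv_mem' := by
        rintro _ ⟨a, a1, k, a2, rfl, a3⟩
        exact ⟨_, inv_mem a1, _, a2.inv, map_inv _ _, by rw [ki a1, a3]⟩ }
  have hK : N0 ≤ K := perfN0 K fun u hu v hv => by
    obtain ⟨a, k, a1, rfl, a2⟩ := H.liftN hu
    obtain ⟨b, l, b1, rfl, b2⟩ := H.liftN hv
    have a0 : a ∈ NN y q := ⟨H.rel_cm a1, a2⟩
    have b0 : b ∈ NN y q := ⟨H.rel_cm b1, b2⟩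
    refine ⟨_, mul_mem (mul_mem (mul_mem a0 b0) (inv_mem a0)) (inv_mem b0), _,
      (a1.conj b1).mul b1.inv, by simp only [map_mul, map_inv], ?_⟩
    obtain ⟨z, z1, -, z2⟩ := k1 a0
    obtain ⟨w, w1, -, w2⟩ := k1 b0
    rw [E.mul (mul_mem (mul_mem a0 b0) (inv_mem a0)) (inv_mem b0), E.cj a0 b0, ki b0, z2, w2]
    calc _ = a * (z * (b * w) * z⁻¹) * (a⁻¹ * w⁻¹) * b⁻¹ := by group
      _ = a * (b * w) * (w⁻¹ * a⁻¹) * b⁻¹ := by
        rw [← z1 _ (w2 ▸ E.mem b0), mul_inv_cancel_right, ← mul_inv_rev, ← mul_inv_rev, w1 a a0]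
      _ = _ := by group
  obtain ⟨k, hk, h0⟩ := up H ha
  obtain ⟨b, b1, l, b2, b3, b4⟩ := hK h0
  obtain ⟨s, c, rfl⟩ := H.same b2 hk fun c => by rw [b3]
  have : q s c ∈ NN y q := (mul_mem_cancel_left b1).1 ha
  rw [E.mul b1 this, b4, hX s c ((q_mem H s).1 this)]

theorem exists_u {d : C} (d1 : d.1 = 0) (d2 : d ≠ 0) (d3 : d ≠ Om) :
    ∃ u ∈ N0, ∃ c : C, c.1 11 = 0 ∧ pl (u • c) d + pl c d = 1 := by
  obtain ⟨u, u1, u2, u3⟩ := ord23
  refine ⟨u⁻¹, inv_mem u1, ?_⟩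
  by_contra hn
  push Not at hn
  have : u • u • d = d := by
    rcases perpO (e := u • d + d) fun c hc => by
        rw [pl_add', ← pl_smul u⁻¹, inv_smul_smul, pl_comm d, pl_comm d]
        exact (z2 _).resolve_right (hn c hc) with e | e
    · rw [add_eq_zero_C.1 e, add_eq_zero_C.1 e]
    · have e' : u • d = d + Om := by rw [← e, add_comm, add_assoc, cc2, add_zero]
      rw [e', smul_add, e', fix_Om.2 u1, add_OO]
  have h2 : u * u ∈ MulAction.stabilizer G0 d := by rw [MulAction.mem_stabilizer_iff, mul_smul, this]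
  have h3 := pow_mem h2 12
  rw [← pow_two, ← pow_mul, show 2 * 12 = 23 + 1 from rfl, pow_succ, u2, one_mul] at h3
  exact (u3 d (by rw [d1]; rfl) h3).elim d2 d3

/-- On `Q ∩ N` the endomorphism is the identity or conjugation by `w`. -/
theorem En.onX (E : En y q θ) (H : Sit y q) {t : ZMod 2} {d : C} (d1 : d.1 = 0) (d2 : d ≠ 0)
    (d3 : d ≠ Om) (fix : ∀ a ∈ NN y q, a * q t d = q t d * a → θ a = a) :
    ∃ ε : ZMod 2, ∀ s c, c.1 11 = 0 → θ (q s c) = q (s + ε * pl d c) c := by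
  have f0 : ∀ s c, c.1 11 = 0 → pl c d = 0 → θ (q s c) = q s c := fun s c h1 h2 =>
    fix _ ((q_mem H s).2 h1) ((cmq H s t).2 h2)
  have hW : ∀ s c, c.1 = 0 → θ (q s c) = q s c := fun s c h =>
    f0 s c (by rw [h]; rfl) (plW h d1)
  have k1 : ∀ s c, c.1 11 = 0 → ∃ s' e, (e = 0 ∨ e = Om) ∧ (pl c d = 0 → e = 0) ∧
      θ (q s c) = q s c * q s' e := fun s c hc => by
    rcases z2 (pl c d) with a | a
    · exact ⟨0, 0, .inl rfl, fun _ => rfl, by rw [H.zero, mul_one, f0 s c hc a]⟩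
    have m := (q_mem H s).2 hc
    obtain ⟨s', e, e1, e2⟩ := E.inW H hW m
    refine ⟨s', e, perpO fun f hf => ?_, fun h => absurd (h.symm.trans a) (by decide), e2⟩
    have p0 : ∀ f : C, f.1 11 = 0 → pl f d = 0 → pl e f = 0 := fun f h1 h2 => by
      have := E.cen m ((q_mem H 0).2 h1) (f0 0 f h1 h2) (by rw [H.cj]; exact f0 _ f h1 h2)
      rwa [e2, inv_mul_cancel_left, cmq H] at this
    have p1 : pl e c = 0 := by
      have := E.mul m m
      rw [H.sq, hW _ _ rfl, e2, H.mul, H.sq, bb_add_self, bb_fst e1] at this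
      rw [pl_comm]
      linear_combination -(H.inj this).1
    rcases z2 (pl f d) with b | b
    · exact p0 f hf b
    · have := p0 (f + c) (by rw [Prod.fst_add, Pi.add_apply, hf, hc, add_zero])
        (by rw [pl_add', a, b]; rfl)
      rwa [pl_add, p1, add_zero] at this
  obtain ⟨c1, ε, h1, h2, h3⟩ : ∃ (c1 : C) (ε : ZMod 2), c1.1 11 = 0 ∧ pl c1 d = 1 ∧
      ∀ s, θ (q s c1) = q (s + ε) c1 := by
    suffices ∃ (c1 : C) (s ε : ZMod 2), c1.1 11 = 0 ∧ pl c1 d = 1 ∧ θ (q s c1) = q s c1 * q ε 0 by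
      obtain ⟨c1, s0, ε, h1, h2, h3⟩ := this
      refine ⟨c1, ε, h1, h2, fun s => ?_⟩
      have e : q s c1 = q s0 c1 * q (s0 + s) 0 := by
        rw [H.mul, bb_zero_right, add_zero, add_zero, ← add_assoc, zz2, zero_add]
      rw [e, E.mul ((q_mem H _).2 h1) ((q_mem H _).2 rfl), h3, hW _ _ rfl, H.mul, H.mul,
        add_zero, add_zero, bb_zero_right]
      congr 1
      linear_combination zz2 s0
    obtain ⟨u, u1, c, c1, c2⟩ := exists_u d1 d2 d3
    obtain ⟨a, k, a1, rfl, a2⟩ := H.liftN u1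
    have a0 : a ∈ NN y q := ⟨H.rel_cm a1, a2⟩
    obtain ⟨sa, ea, -, e1⟩ := E.inW H hW a0
    obtain ⟨s0, e0, p1, p2, p3⟩ := k1 0 c c1
    obtain ⟨s1, e1', q1, q2, q3⟩ := k1 (0 + ep k c) (co k • c) (by rw [odd_smul u1, c1])
    have := E.cj a0 ((q_mem H 0).2 c1)
    rw [a1, q3, p3, e1, H.mul, H.mul, show ∀ v : G, a * q sa ea * v * (a * q sa ea)⁻¹ =
      a * (q sa ea * v * (q sa ea)⁻¹) * a⁻¹ from fun v => by group, H.cj, a1, smul_add] at this
    have e : e1' = e0 := by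
      rw [add_left_cancel (H.inj this).2]
      rcases p1 with rfl | rfl
      exacts [smul_zero _, fix_Om.2 u1]
    subst e
    rcases z2 (pl c d) with b | b
    · rw [b, add_zero] at c2
      exact ⟨_, _, _, by rw [odd_smul u1, c1], c2, p2 b ▸ q3⟩
    · refine ⟨_, _, _, c1, b, q2 ?_ ▸ p3⟩
      rw [b] at c2
      linear_combination c2
  refine ⟨ε, fun s c hc => ?_⟩
  rw [pl_comm]
  rcases z2 (pl c d) with b | b <;> rw [b]
  · rw [mul_zero, add_zero, f0 s c hc b]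
  · have e : ∀ r, q (s + r) c = q (s + r) c1 * q (bb c1 (c1 + c)) (c1 + c) := fun r => by
      rw [H.mul, add_assoc, zz2, add_zero, ← add_assoc, cc2, zero_add]
    have h4 : (c1 + c).1 11 = 0 := by rw [Prod.fst_add, Pi.add_apply, h1, hc, add_zero]
    rw [mul_one, e, ← add_zero s, e, E.mul ((q_mem H _).2 h1) ((q_mem H _).2 h4), h3,
      f0 _ _ h4 (by rw [pl_add', h2, b]; rfl), add_zero]

theorem En.rig (E : En y q θ) (H : Sit y q) {t : ZMod 2} {d : C} (d1 : d.1 = 0) (d2 : d ≠ 0)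
    (d3 : d ≠ Om) (fix : ∀ a ∈ NN y q, a * q t d = q t d * a → θ a = a) :
    (∀ a ∈ NN y q, θ a = a) ∨ ∀ a ∈ NN y q, θ a = q t d * a * (q t d)⁻¹ := by
  obtain ⟨ε, h⟩ := E.onX H d1 d2 d3 fix
  rcases z2 ε with rfl | rfl
  · exact .inl fun a ha => E.eq_id H (fun s c hc => by rw [h s c hc, zero_mul, add_zero]) ha
  · have m : q t d ∈ NN y q := (q_mem H t).2 (by rw [d1]; rfl)
    have E' : En y q fun a => (q t d)⁻¹ * θ a * q t d :=
      ⟨fun ha => mul_mem (mul_mem (inv_mem m) (E.mem ha)) m, fun ha hb => by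
        rw [E.mul ha hb]; group⟩
    refine .inr fun a ha => ?_
    have := E'.eq_id H (fun s c hc => by rw [h s c hc, one_mul, ← H.cj t]; group) ha
    rw [← mul_left_cancel_iff (a := (q t d)⁻¹), ← mul_right_cancel_iff (a := q t d), this]
    group

end R8

/-- Rigidity of `C(y, z)` relative to the stabiliser of a third point. -/
theorem Two.rig (H : Two x y q γ) {t : ZMod 2} {d : C} (d1 : d.1 = 0) (d2 : d ≠ 0) (d3 : d ≠ Om)
    {K : Type*} [Group K] (α β : G → K)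
    (hα : ∀ a b, a * y = y * a → a * q 0 Om = q 0 Om * a → b * y = y * b → b * q 0 Om = q 0 Om * b →
      α (a * b) = α a * α b ∧ β (a * b) = β a * β b)
    (inj : ∀ a, a * y = y * a → a * q 0 Om = q 0 Om * a → α a = 1 → a = 1)
    (sur : ∀ a, a * y = y * a → a * q 0 Om = q 0 Om * a →
      ∃ b, b * y = y * b ∧ b * q 0 Om = q 0 Om * b ∧ β a = α b)
    (fix : ∀ a, a * y = y * a → a * q 0 Om = q 0 Om * a → a * q t d = q t d * a → α a = β a) :
    (∀ a, a * y = y * a → a * q 0 Om = q 0 Om * a → β a = α a) ∨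
      ∀ a, a * y = y * a → a * q 0 Om = q 0 Om * a → β a = α (q t d * a * (q t d)⁻¹) := by
  classical
  have m : ∀ {a b}, a ∈ R8.NN y q → b ∈ R8.NN y q → α (a * b) = α a * α b := fun ha hb =>
    (hα _ _ ha.1 ha.2 hb.1 hb.2).1
  have i : ∀ {a b}, a ∈ R8.NN y q → b ∈ R8.NN y q → α a = α b → a = b := fun {a b} ha hb e => by
    have h := mul_mem (inv_mem hb) ha
    refine (inv_mul_eq_one.1 (inj _ h.1 h.2 (mul_left_cancel (a := α b) ?_))).symm
    rw [← m hb h, mul_inv_cancel_left, e, mul_one]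
  choose b b1 b2 b3 using sur
  let θ : G → G := fun a => if h : a ∈ R8.NN y q then b a h.1 h.2 else 1
  have t1 : ∀ {a}, a ∈ R8.NN y q → θ a ∈ R8.NN y q ∧ β a = α (θ a) := fun {a} h => by
    simp only [θ, dif_pos h]
    exact ⟨⟨b1 _ _ _, b2 _ _ _⟩, b3 _ _ _⟩
  have E : R8.En y q θ := ⟨fun h => (t1 h).1, fun ha hb =>
    i (t1 (mul_mem ha hb)).1 (mul_mem (t1 ha).1 (t1 hb).1) (by
      rw [m (t1 ha).1 (t1 hb).1, ← (t1 ha).2, ← (t1 hb).2, ← (t1 (mul_mem ha hb)).2,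
        (hα _ _ ha.1 ha.2 hb.1 hb.2).2])⟩
  refine (E.rig H.s (t := t) d1 d2 d3 fun a ha e => i (t1 ha).1 ha ?_).imp (fun h a h1 h2 => ?_)
    fun h a h1 h2 => ?_
  · rw [← (t1 ha).2, fix a ha.1 ha.2 e]
  · rw [(t1 ⟨h1, h2⟩).2, h a ⟨h1, h2⟩]
  · rw [(t1 ⟨h1, h2⟩).2, h a ⟨h1, h2⟩]

end H10.Mon.MG
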