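import Mathlib
import Cfsg.Agent.H19.Z3
import Cfsg.Agent.H19.Z6R

/-!
# Uniqueness of the Monster: compatible maps on the centralisers of the neighbours
-/

set_option autoImplicit false
set_option linter.all false

namespace H10.Mon.MG

variable {G G' : Type*} [Group G] [Group G'] {x y : G} {q : ZMod 2 → C → G} {γ : G} {x' y' : G'}
  {q' : ZMod 2 → C → G'} {γ' : G'}

namespace R8

theorem perpG {e d : C} (hd : d ≠ 0) (h : ∀ c : C, pl c d = 0 → pl e c = 0) : e = 0 ∨ e = d := by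
  obtain ⟨b, hb⟩ := exists_polar_one hd
  have hb' : pl b d = 1 := by rw [pl_comm]; exact hb
  have k : ∀ c : C, pl c d = 1 → pl e c = pl e b := fun c hc => by
    have := h (c + b) (by rw [pl_add', hc, hb']; rfl)
    rw [pl_add] at this
    linear_combination this - zz2 (pl e b)
  rcases z2 (pl e b) with a | a
  · refine .inl (polar_nondeg fun c => ?_)
    rcases z2 (pl c d) with a' | a'
    exacts [h c a', (k c a').trans a]
  · refine .inr (add_eq_zero_C.1 (polar_nondeg fun c => ?_))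
    change pl _ _ = 0
    rw [pl_add', pl_comm d]
    rcases z2 (pl c d) with a' | a'
    · rw [h c a', a', add_zero]
    · rw [k c a', a, a']; rfl

theorem exR (H : Sit y q) (t : ZMod 2) {d : C} (d2 : d ≠ 0) (d3 : d ≠ Om) :
    ∃ r, r * y = y * r ∧ r * q t d = q t d * r ∧ r * q 0 Om * r⁻¹ = y * q 0 Om := by
  obtain ⟨f, f1, f2⟩ : ∃ f, pl f d = 0 ∧ pl f Om = 1 := by
    by_contra hn
    push Not at hn
    exact (perpG d2 fun c hc => by
      rw [pl_comm]; exact (z2 _).resolve_right (hn c hc)).elim Om_ne_zero d3.symm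
  exact ⟨q 0 f, H.cm _ _, (cmq H _ _).2 f1, by rw [H.cj, f2, H.y_mul]⟩

theorem twoConj (H : Two x y q γ) (m : G) :
    Two (m * x * m⁻¹) (m * y * m⁻¹) (vw q m) (m * γ * m⁻¹) where
  s := H.s.view m
  hx := by rw [← H.hx]
  nc h := H.nc ((cj_of rfl).trans (h.trans (cj_of rfl).symm))
  gx := by conv_rhs => rw [← H.gx]
           group
  gy := by change _ = m * _ * m⁻¹; rw [← H.gy]; group
  gO := by change m * γ * m⁻¹ * (m * _ * m⁻¹) * _ = _; rw [← H.gO]; group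

/-- The intersection of the two extraspecial groups. -/
theorem third (H : Two x y q γ) {s s' : ZMod 2} {c c' : C} (e : q s c = γ * q s' c' * γ⁻¹) :
    c.1 = 0 := perpW fun d hd => by
  obtain ⟨t, f, -, e2⟩ := H.shared0 0 hd
  have h1 := H.s.cj s 0 d c
  have h2 := H.view.s.cj s' t f c'
  beta_reduce at h2
  rw [← e, ← e2, h1] at h2
  rcases z2 (pl c d) with a | a
  · exact a
  rw [a, ← H.s.mul_y] at h2
  rcases H.view.s.or_y (t + pl c' f) t f with b | b <;> beta_reduce at b <;> rw [b, ← e2] at h2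
  · exact (H.s.y_ne (by simpa using h2)).elim
  · exact (H.O_ne.2 (mul_left_cancel h2).symm).elim

/-- Two homomorphisms on `N` that agree on `Q ∩ N` and modulo a central element agree. -/
theorem hom_eq (H : Sit y' q') {α β : G' → G} {z : G}
    (ma : ∀ {a b}, a ∈ NN y' q' → b ∈ NN y' q' → α (a * b) = α a * α b)
    (mb : ∀ {a b}, a ∈ NN y' q' → b ∈ NN y' q' → β (a * b) = β a * β b)
    (hz : ∀ {a}, a ∈ NN y' q' → Commute (α a) z ∧ (β a = α a ∨ β a = α a * z))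
    (hX : ∀ s c, c.1 11 = 0 → β (q' s c) = α (q' s c)) {a : G'} (ha : a ∈ NN y' q') :
    β a = α a := by
  have ki : ∀ {α : G' → G}, (∀ {a b}, a ∈ NN y' q' → b ∈ NN y' q' → α (a * b) = α a * α b) →
      ∀ {a}, a ∈ NN y' q' → α a⁻¹ = (α a)⁻¹ := fun {α} m {a} ha => by
    have := m (inv_mem ha) ha
    have h1 := m (one_mem _) (one_mem _)
    rw [mul_one, left_eq_mul] at h1
    rw [inv_mul_cancel, h1] at this
    exact eq_inv_of_mul_eq_one_left this.symm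
  let K : Subgroup G0 :=
    { carrier := {h | ∃ a ∈ NN y' q', ∃ k, Rel q' a k ∧ co k = h ∧ β a = α a}
      one_mem' := ⟨1, one_mem _, 1, Rel.one, map_one _, H.zero ▸ hX 0 0 rfl⟩
      mul_mem' := by
        rintro _ _ ⟨a, a1, k, a2, rfl, a3⟩ ⟨b, b1, l, b2, rfl, b3⟩
        exact ⟨_, mul_mem a1 b1, _, a2.mul b2, map_mul _ _ _, by rw [ma a1 b1, mb a1 b1, a3, b3]⟩
      inv_mem' := by
        rintro _ ⟨a, a1, k, a2, rfl, a3⟩
        exact ⟨_, inv_mem a1, _, a2.inv, map_inv _ _, by rw [ki ma a1, ki mb a1, a3]⟩ }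
  have hK : N0 ≤ K := perfN0 K fun u hu v hv => by
    obtain ⟨a, k, a1, rfl, a2⟩ := H.liftN hu
    obtain ⟨b, l, b1, rfl, b2⟩ := H.liftN hv
    have a0 : a ∈ NN y' q' := ⟨H.rel_cm a1, a2⟩
    have b0 : b ∈ NN y' q' := ⟨H.rel_cm b1, b2⟩
    refine ⟨_, mul_mem (mul_mem (mul_mem a0 b0) (inv_mem a0)) (inv_mem b0), _,
      (a1.conj b1).mul b1.inv, by simp only [map_mul, map_inv], ?_⟩
    rw [ma (mul_mem (mul_mem a0 b0) (inv_mem a0)) (inv_mem b0), ma (mul_mem a0 b0) (inv_mem a0),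
      ma a0 b0, ki ma a0, ki ma b0, mb (mul_mem (mul_mem a0 b0) (inv_mem a0)) (inv_mem b0),
      mb (mul_mem a0 b0) (inv_mem a0), mb a0 b0, ki mb a0, ki mb b0]
    obtain ⟨c1, e1⟩ := hz a0
    obtain ⟨c2, e2⟩ := hz b0
    have k1 : ∀ {u v : G}, Commute v z → u * z * v * (u * z)⁻¹ = u * v * u⁻¹ := fun {u v} c => by
      rw [mul_assoc u, ← c.eq]; group
    have k2 : ∀ {u v : G}, Commute u z → u * (v * z) * u⁻¹ * (v * z)⁻¹ = u * v * u⁻¹ * v⁻¹ :=
      fun {u v} c => by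
        calc _ = u * v * (z * u⁻¹) * z⁻¹ * v⁻¹ := by group
          _ = _ := by rw [← c.inv_left.eq]; group
    rcases e1 with e1 | e1 <;> rcases e2 with e2 | e2 <;> rw [e1, e2]
    · exact k2 c1
    · rw [k1 c2]
    · rw [k1 (c2.mul_left (Commute.refl z)), k2 c1]
  obtain ⟨k, hk, h0⟩ := up H ha
  obtain ⟨b, b1, l, b2, b3, b4⟩ := hK h0
  obtain ⟨s, c, rfl⟩ := H.same b2 hk fun c => by rw [b3]
  have : q' s c ∈ NN y' q' := (mul_mem_cancel_left b1).1 ha
  rw [ma b1 this, mb b1 this, b4, hX s c ((q_mem H s).1 this)]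

section Ph

variable {φ : G' → G}

theorem ph_one (P : Ph q y' q' φ) : φ 1 = 1 := by
  have := P.mul (a := 1) (b := 1) (by simp) (by simp)
  rwa [mul_one, left_eq_mul] at this

theorem ph_inv (P : Ph q y' q' φ) {a : G'} (h : Commute a y') : φ a⁻¹ = (φ a)⁻¹ := by
  have := P.mul h.inv_left.eq h.eq
  rw [inv_mul_cancel, ph_one P] at this
  exact eq_inv_of_mul_eq_one_left this.symm

theorem ph_inj (P : Ph q y' q' φ) (H : Sit y q) (H' : Sit y' q') {a : G'} (h : a * y' = y' * a)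
    (e : φ a = 1) : a = 1 := by
  obtain ⟨k, hk⟩ := H'.up a h
  have := P.rel hk
  rw [e] at this
  rcases H'.eq_or Rel.one (hk.congr (H.rel_uniq this Rel.one)) with e1 | e1
  · exact e1
  · rw [e1, one_mul, ← H'.one, P.hq, H.one] at e
    exact (H.y_ne e).elim

theorem ph_sur (P : Ph q y' q' φ) (H : Sit y q) (H' : Sit y' q') {g : G} (h : g * y = y * g) :
    ∃ a, a * y' = y' * a ∧ φ a = g := by
  obtain ⟨k, hk⟩ := H.up g h
  obtain ⟨a, ha⟩ := H'.down k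
  rcases H.eq_or (P.rel ha) hk with e | e
  · exact ⟨a, H'.rel_cm ha, e.symm⟩
  · exact ⟨a * y', H'.rel_cm (H'.rel_y ha), by
      rw [P.mul (H'.rel_cm ha) rfl, e, ← H'.one, P.hq, H.one]⟩

/-- The map seen from the second involution. -/
def ps (γ : G) (γ' : G') (φ : G' → G) (a : G') : G := γ * φ (γ'⁻¹ * a * γ') * γ⁻¹

theorem ps_ph (P : Ph q y' q' φ) (H' : Two x' y' q' γ') :
    Ph (vw q γ) (q' 0 Om) (vw q' γ') (ps γ γ' φ) := by
  have c : ∀ {a}, a * q' 0 Om = q' 0 Om * a → γ'⁻¹ * a * γ' * y' = y' * (γ'⁻¹ * a * γ') :=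
    fun {a} h => by
      rw [← H'.gy] at h
      calc _ = γ'⁻¹ * (a * (γ' * y' * γ'⁻¹)) * γ' := by group
        _ = _ := by rw [h]; group
  refine ⟨fun {a b} ha hb => ?_, fun {a k} h => ?_, fun t c => ?_⟩
  · unfold ps
    rw [conj_mul, ← P.mul (c ha) (c hb)]
    congr 3; group
  · refine (Rel.view γ).2 ?_
    have := P.rel ((Rel.view γ').1 h)
    unfold ps
    rwa [show γ⁻¹ * (γ * φ (γ'⁻¹ * a * γ') * γ⁻¹) * γ = φ (γ'⁻¹ * a * γ') by group]
  · unfold ps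
    rw [show γ'⁻¹ * vw q' γ' t c * γ' = q' t c by unfold vw; group, P.hq]

theorem ps_eq (A : Amg x y q γ x' y' q' γ') (P : Ph q y' q' φ)
    (h : ∀ g g', Th q γ q' γ' g g' → φ g' = g) {a : G'} (h1 : a * y' = y' * a)
    (h2 : a * q' 0 Om = q' 0 Om * a) : ps γ γ' φ a = φ a := by
  have S := ps_ph (γ := γ) P A.two'
  have m : ∀ {a}, a ∈ NN (q' 0 Om) (vw q' γ') → a * y' = y' * a := fun {a} h => by
    have := h.2
    unfold vw at this
    rwa [A.two'.gO] at this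
  refine hom_eq (z := q 0 Om) A.two'.view.s (fun ha hb => P.mul (m ha) (m hb))
    (fun ha hb => S.mul ha.1 hb.1) (fun {a} ha => ?_) (fun s c hc => ?_) ⟨h2, A.two'.cmO h1⟩
  · obtain ⟨g, hg⟩ := A.tot a (m ha) ha.1
    rw [h _ _ hg]
    obtain ⟨k, l, -, -, h3, h4⟩ := hg
    exact ⟨A.two.view.s.rel_cm h3, A.two.view.s.eq_or h3 (S.rel h4)⟩
  · exact (S.hq s c).trans (h _ _ (A.q1 s c hc)).symm

end Ph

theorem nb_ne (H : Sit y q) {b : G} (h : Nb y q b) : b ≠ y := by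
  rintro rfl
  obtain ⟨g, g1, g2⟩ := h
  have : q 0 Om = b := by
    rw [← mul_left_cancel_iff (a := g), ← mul_right_cancel_iff (a := g⁻¹), g2, g1]; group
  exact Om_ne_zero (H.inj (this.trans H.one.symm)).2

theorem nb_conj {b g : G} (h : Nb y q b) (hg : g * y = y * g) : Nb y q (g * b * g⁻¹) := by
  obtain ⟨a, a1, rfl⟩ := h
  exact ⟨g * a, ((show Commute g y from hg).mul_left a1).eq, by group⟩

theorem nb_z : Nb y q (q 0 Om) := ⟨1, by simp, by simp⟩

theorem cm_conj {a b : G} (g : G) (h : a * b = b * a) :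
    g * a * g⁻¹ * (g * b * g⁻¹) = g * b * g⁻¹ * (g * a * g⁻¹) := by rw [conj_mul, conj_mul, h]

/-- The family of maps before the third compatibility. -/
structure Pre (q : ZMod 2 → C → G) (y' : G') (q' : ZMod 2 → C → G') (φ : G' → G)
    (Φ : G' → G' → G) : Prop where
  hy : Φ y' = φ
  mul : ∀ {b a a'}, Nb y' q' b → a * b = b * a → a' * b = b * a' → Φ b (a * a') = Φ b a * Φ b a'
  eqv : ∀ {b a g}, Nb y' q' b → a * b = b * a → g * y' = y' * g →
    Φ (g * b * g⁻¹) (g * a * g⁻¹) = φ g * Φ b a * (φ g)⁻¹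
  ad0 : ∀ {b a}, Nb y' q' b → a * b = b * a → a * y' = y' * a → Φ b a = φ a
  inj : ∀ {a}, a * q' 0 Om = q' 0 Om * a → Φ (q' 0 Om) a = 1 → a = 1
  sur : ∀ {g}, g * q 0 Om = q 0 Om * g → ∃ a, a * q' 0 Om = q' 0 Om * a ∧ Φ (q' 0 Om) a = g

theorem exists_pre (A : Amg x y q γ x' y' q' γ') {φ : G' → G} (P : Ph q y' q' φ)
    (h : ∀ g g', Th q γ q' γ' g g' → φ g' = g) : ∃ Φ, Pre q y' q' φ Φ := by
  classical
  have S := ps_ph (γ := γ) P A.two'
  have E := @ps_eq _ _ _ _ _ _ _ _ _ _ _ _ _ A P h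
  generalize ps γ γ' φ = ψ at S E
  have c : ∀ {g a : G'}, a * (g * q' 0 Om * g⁻¹) = g * q' 0 Om * g⁻¹ * a →
      g⁻¹ * a * g * q' 0 Om = q' 0 Om * (g⁻¹ * a * g) := fun {g a} h => by
    calc _ = g⁻¹ * (a * (g * q' 0 Om * g⁻¹)) * g := by group
      _ = _ := by rw [h]; group
  let Φ : G' → G' → G := fun b a => if b = y' then φ a else
    if hb : Nb y' q' b then φ hb.choose * ψ (hb.choose⁻¹ * a * hb.choose) * (φ hb.choose)⁻¹ else 1
  have sp : ∀ {g a}, g * y' = y' * g → a * (g * q' 0 Om * g⁻¹) = g * q' 0 Om * g⁻¹ * a →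
      Φ (g * q' 0 Om * g⁻¹) a = φ g * ψ (g⁻¹ * a * g) * (φ g)⁻¹ := fun {g a} hg ha => by
    have hb : Nb y' q' (g * q' 0 Om * g⁻¹) := ⟨g, hg, rfl⟩
    simp only [Φ, if_neg (nb_ne A.two'.s hb), dif_pos hb]
    obtain ⟨u1, u2⟩ := hb.choose_spec
    generalize hb.choose = u at u1 u2
    have n1 : Commute (g⁻¹ * u) y' := (show Commute g y' from hg).inv_left.mul_left u1
    have n2 : Commute (g⁻¹ * u) (q' 0 Om) := mul_inv_eq_iff_eq_mul.1 (by
      rw [← mul_left_cancel_iff (a := g), ← mul_right_cancel_iff (a := g⁻¹), ← u2]; group)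
    obtain ⟨n, rfl⟩ : ∃ n, u = g * n := ⟨g⁻¹ * u, by group⟩
    rw [inv_mul_cancel_left] at n1 n2
    rw [show (g * n)⁻¹ * a * (g * n) = n⁻¹ * (g⁻¹ * a * g) * n by group,
      S.mul (n2.inv_left.mul_left (c ha)).eq n2.eq, S.mul n2.inv_left.eq (c ha), ph_inv S n2,
      E n1.eq n2.eq, P.mul hg n1.eq]
    group
  have sz : ∀ {a}, a * q' 0 Om = q' 0 Om * a → Φ (q' 0 Om) a = ψ a := fun {a} ha => by
    have := sp (g := 1) (a := a) (by simp) (by simpa using ha)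
    simpa [ph_one P] using this
  refine ⟨Φ, funext fun a => if_pos rfl, ?_, ?_, ?_, fun ha e => ?_, fun hg => ?_⟩
  · rintro _ a a' ⟨g, g1, rfl⟩ h1 h2
    rw [sp g1 h1, sp g1 h2, sp g1 ((show Commute _ _ from h1).mul_left h2).eq, conj_mul,
      ← S.mul (c h1) (c h2)]
    congr 3; group
  · rintro _ a g ⟨u, u1, rfl⟩ h1 h2
    have e : g * (u * q' 0 Om * u⁻¹) * g⁻¹ = g * u * q' 0 Om * (g * u)⁻¹ := by group
    have := cm_conj g h1
    rw [e] at this ⊢
    rw [sp ((show Commute g y' from h2).mul_left u1).eq this, sp u1 h1, P.mul h2 u1,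
      show (g * u)⁻¹ * (g * a * g⁻¹) * (g * u) = u⁻¹ * a * u by group]
    group
  · rintro _ a ⟨u, u1, rfl⟩ h1 h2
    have u2 : Commute u y' := u1
    rw [sp u1 h1, E ((u2.inv_left.mul_left h2).mul_left u2).eq (c h1),
      P.mul (u2.inv_left.mul_left h2).eq u1, P.mul u2.inv_left.eq h2, ph_inv P u2]
    group
  · exact ph_inj S A.two.view.s A.two'.view.s ha ((sz ha).symm.trans e)
  · obtain ⟨a, a1, a2⟩ := ph_sur S A.two.view.s A.two'.view.s hg
    exact ⟨a, a1, (sz a1).trans a2⟩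

theorem Pre.core {φ : G' → G} {Φ : G' → G' → G} (F : Pre q y' q' φ Φ) (hz : φ (q' 0 Om) = q 0 Om)
    {X g : G'} {p : ZMod 2 → C → G'} (H : Two X (q' 0 Om) p g) (hb : Nb y' q' (p 0 Om))
    {t : ZMod 2} {d : C} (d1 : d.1 = 0) (d2 : d ≠ 0) (d3 : d ≠ Om) (hy : p t d = y') {a : G'}
    (a1 : a * q' 0 Om = q' 0 Om * a) (a2 : a * p 0 Om = p 0 Om * a) :
    Φ (q' 0 Om) a = Φ (p 0 Om) a := by
  have uy : q' 0 Om * y' = y' * q' 0 Om := hy ▸ (H.s.cm _ _).symm
  have vy : p 0 Om * y' = y' * p 0 Om := hy ▸ (cmq H.s _ _).2 (plW Om_fst d1)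
  have uv : p 0 Om * q' 0 Om = q' 0 Om * p 0 Om := H.s.cm _ _
  have cm : ∀ {b a a'}, Nb y' q' b → a * b = b * a → a' * b = b * a' → a * a' = a' * a →
      Φ b a * Φ b a' = Φ b a' * Φ b a := fun n h1 h2 h3 => by
    rw [← F.mul n h1 h2, h3, F.mul n h2 h1]
  rcases H.rig (t := t) d1 d2 d3 (Φ (q' 0 Om)) (Φ (p 0 Om))
    (fun a b h1 h2 h3 h4 => ⟨F.mul nb_z h1 h3, F.mul hb h2 h4⟩) (fun a h1 _ e => F.inj h1 e)
    (fun a h1 h2 => by
      obtain ⟨b, b1, b2⟩ := F.sur (g := Φ (p 0 Om) a) (by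
        rw [← hz, ← F.ad0 hb uv.symm uy]; exact cm hb h2 uv.symm h1)
      refine ⟨b, b1, ?_, b2.symm⟩
      have c1 : Commute b (q' 0 Om) := b1
      have c2 : Commute (p 0 Om) (q' 0 Om) := uv
      have h3 := cm hb h2 rfl h2
      rw [F.ad0 hb rfl vy, ← F.ad0 nb_z uv vy, ← b2, ← F.mul nb_z b1 uv, ← F.mul nb_z uv b1] at h3
      have h4 := F.mul nb_z (c2.mul_left c1).eq ((c2.mul_left c1).inv_left.mul_left (c1.mul_left c2)).eq
      rw [mul_inv_cancel_left, h3, left_eq_mul] at h4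
      exact (inv_mul_eq_one.1 (F.inj ((c2.mul_left c1).inv_left.mul_left (c1.mul_left c2)).eq h4)).symm)
    (fun a h1 h2 h3 => by rw [hy] at h3; rw [F.ad0 nb_z h1 h3, F.ad0 hb h2 h3]) with T | T
  · exact (T a a1 a2).symm
  rw [hy] at T
  obtain ⟨r, r1, r2, r3⟩ := exR H.s t d2 d3
  rw [hy] at r2
  obtain ⟨t3, f, f1, f2⟩ := H.shared0 t d1
  have f3 : f ≠ 0 := by
    rintro rfl
    rcases H.view.s.q0 t3 with e | e <;> beta_reduce at e <;> rw [← f2] at e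
    exacts [d2 (H.s.inj (e.trans H.s.zero.symm)).2, d3 (H.s.inj e).2]
  have f4 : f ≠ Om := by
    rintro rfl
    rcases H.view.s.or_y t3 0 Om with e | e <;> beta_reduce at e <;> rw [← f2, H.gO] at e
    · exact d2 (H.s.inj (e.trans H.s.one.symm)).2
    · rw [H.s.y_mul] at e; exact d3 (H.s.inj e).2
  obtain ⟨s, s1, s2, s3⟩ := exR H.view.s t3 f3 f4
  beta_reduce at s2 s3
  rw [← f2, hy] at s2
  rw [H.gO, uv] at s3
  -- the two maps agree on the pair `(v, u v)`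
  have T2 : ∀ a, a * q' 0 Om = q' 0 Om * a → a * p 0 Om = p 0 Om * a →
      Φ (q' 0 Om * p 0 Om) a = Φ (p 0 Om) a := fun a h1 h2 => by
    have c1 : Commute (r⁻¹ * a * r) (q' 0 Om) :=
      ((show Commute r _ from r1).inv_left.mul_left h1).mul_left r1
    have c2 : Commute (r⁻¹ * a * r) (p 0 Om) := by
      have := cm_conj r⁻¹ ((show Commute a _ from h1).mul_right h2).eq
      rw [← r3] at this
      change _ * _ = _ * _
      simpa [mul_assoc] using this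
    have e1 := F.eqv hb c2.eq r2
    have e2 := F.eqv (a := y' * (r⁻¹ * a * r) * y'⁻¹) nb_z
      (((show Commute _ y' from uy).symm.mul_left c1).mul_left
        (show Commute _ y' from uy).symm.inv_left).eq r2
    rw [mul_inv_eq_iff_eq_mul.2 r1, show r * (y' * (r⁻¹ * a * r) * y'⁻¹) * r⁻¹ = y' * a * y'⁻¹ by
      calc _ = r * y' * r⁻¹ * a * (r * y' * r⁻¹)⁻¹ := by group
        _ = _ := by rw [mul_inv_eq_iff_eq_mul.2 r2]] at e2
    rw [r3, T _ c1.eq c2.eq, ← e2, show r * (r⁻¹ * a * r) * r⁻¹ = a by group] at e1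
    rw [e1, T a h1 h2]
  have e1 := F.eqv nb_z a1 s2
  have e2 := F.eqv hb a2 s2
  have c2 := cm_conj s a2
  rw [mul_inv_eq_iff_eq_mul.2 s1] at e2 c2
  have c1 := cm_conj s a1
  rw [s3] at e1 c1
  rw [T2 _ (mul_right_cancel (b := p 0 Om) (by
      rw [mul_assoc, c1, mul_assoc (q' 0 Om), ← c2, mul_assoc (q' 0 Om)])) c2,
    e2] at e1
  exact (mul_left_cancel (mul_right_cancel e1)).symm

theorem Pre.base [Finite G'] {φ : G' → G} {Φ : G' → G' → G} (F : Pre q y' q' φ Φ)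
    (hz : φ (q' 0 Om) = q 0 Om) (H : Two x' y' q' γ') {t : ZMod 2} {d : C} (d1 : d.1 = 0)
    (hb : Nb y' q' (q' t d)) {a : G'} (a1 : a * q' 0 Om = q' 0 Om * a)
    (a2 : a * q' t d = q' t d * a) : Φ (q' 0 Om) a = Φ (q' t d) a := by
  by_cases d3 : d = Om
  · subst d3
    rcases H.s.or_y t 0 Om with e | e
    · rw [e]
    · have : a * y' = y' * a := mul_left_cancel (a := q' 0 Om) (by
        rw [← mul_assoc, ← a1, mul_assoc, ← e, a2, e, mul_assoc])
      rw [F.ad0 nb_z a1 this, F.ad0 hb a2 this]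
  have cj : IsConj y' (q' t d) := by
    obtain ⟨g, -, e⟩ := hb
    exact H.yO.trans (cj_of e)
  have d2 : d ≠ 0 := by
    rintro rfl
    rcases H.s.q0 t with e | e
    · rw [e] at cj; exact H.s.y_ne (isConj_one_left.1 cj)
    · exact nb_ne H.s hb e
  obtain ⟨s, e, e1, e2⟩ := H.shared0 t d1
  have e3 : e ≠ 0 := by
    rintro rfl
    rcases H.view.s.q0 s with h | h <;> beta_reduce at h <;> rw [← e2] at h
    exacts [d2 (H.s.inj (h.trans H.s.zero.symm)).2, d3 (H.s.inj h).2]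
  obtain ⟨h, rfl⟩ := typ4 e3 (bb_fst e1 _) fun hs => H.nAB (H.view.qA s hs) (e2 ▸ cj)
  obtain ⟨g, g1, g2⟩ := H.view.s.tr 0 s Om_ne_zero h
  beta_reduce at g2
  rw [← e2] at g2
  have H2 := twoConj H.view g
  rw [mul_inv_eq_iff_eq_mul.2 g1] at H2
  obtain ⟨k, hk⟩ := H.view.s.up g⁻¹ (show Commute g _ from g1).inv_left.eq
  have hy := hk 0 Om
  beta_reduce at hy
  rw [H.gO] at hy g2
  generalize 0 + ep k Om = t2 at hy
  generalize co k • Om = f at hy
  have hv : vw (fun t c => γ' * q' t c * γ'⁻¹) g 0 Om = q' t d := by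
    unfold vw; beta_reduce; rw [H.gO, g2]
  have hy2 : vw (fun t c => γ' * q' t c * γ'⁻¹) g t2 f = y' := by
    unfold vw; beta_reduce; rw [← hy]; group
  obtain ⟨s2, f2, h2⟩ := H.s.symQ (g := g * γ' * γ') (t := t) (c := d) (by
    rw [← g2]
    calc _ = g * (γ' * (γ' * y' * γ'⁻¹) * γ'⁻¹) * g⁻¹ := by group
      _ = _ := by rw [H.gy, H.gO])
  rw [← hv] at hb a2 ⊢
  refine F.core hz H2 hb (t := t2) (d := f) (third H2 (s := t2) (s' := s2) (c' := f2) ?_) ?_ ?_ hy2 a1 a2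
  · rw [hy2, h2]; unfold vw; group
  · rintro rfl
    rcases H2.s.q0 t2 with e | e <;> rw [hy2] at e
    exacts [H.s.y_ne e, H.O_ne.2 e.symm]
  · rintro rfl
    rcases H2.s.or_y t2 0 Om with e | e <;> rw [hy2, hv] at e
    · exact d2 (H.s.inj (H.s.one.trans e)).2.symm
    · rw [H.s.mul] at e
      exact d3 (add_eq_zero_C.1 (H.s.inj (H.s.one.trans e)).2.symm)

end R8

theorem Amg.exists_fam [Finite G] [Finite G'] (A : Amg x y q γ x' y' q' γ') {φ : G' → G}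
    (P : Ph q y' q' φ) (h : ∀ g g', Th q γ q' γ' g g' → φ g' = g) : ∃ Φ, Fam q y' q' Φ := by
  obtain ⟨Φ, F⟩ := R8.exists_pre A P h
  refine ⟨Φ, ?_, fun t c => by rw [F.hy, P.hq], fun n h1 h2 => by rw [F.hy, F.ad0 n h1 h2], ?_⟩
  · rintro b a a' (rfl | n) h1 h2
    · rw [F.hy, P.mul h1 h2]
    · exact F.mul n h1 h2
  · rintro _ _ a ⟨g, t, d, g1, rfl, d1, rfl⟩ n h1 h2
    have g2 := (show Commute g y' from g1).inv_left.eq
    have n' := R8.nb_conj n g2
    have c1 := R8.cm_conj g⁻¹ h1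
    have c2 := R8.cm_conj g⁻¹ h2
    rw [show ∀ u : G', g⁻¹ * (g * u * g⁻¹) * g⁻¹⁻¹ = u from fun u => by group] at n' c1 c2
    have e1 := F.eqv R8.nb_z c1 g1
    have e2 := F.eqv n' c2 g1
    rw [show g * (g⁻¹ * a * g⁻¹⁻¹) * g⁻¹ = a by group] at e1 e2
    rw [e1, e2, F.base (P.hq _ _) A.two' d1 n' c1 c2]

end H10.Mon.MG
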