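import Mathlib
import Cfsg.Agent.H19.Z0
import Cfsg.Agent.H19.Z7
import Cfsg.Agent.H10.TH

/-!
# A compatible family of local homomorphisms gives a homomorphism on the Monster
-/

set_option autoImplicit false
set_option linter.all false
set_option maxRecDepth 100000

namespace H10.Mon.MG

namespace Z8

open Cfsg H9 H29 Cfsg.Spor H10.YW H10.Mon.MS
open H10.Mon.Y hiding Nd lb

noncomputable def clW (w : List ℕ) : ℕ :=
  List.rec 0 (fun c _ ih => Nat.xor ih (Nat.pow 2 (Nat.sub c 28))) w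

noncomputable def isQ (w : List ℕ) : Bool := H29.allL w fun c => and2 (Nat.ble 28 c) (Nat.ble c 52)

theorem wd_Q : ∀ {w : List ℕ}, isQ w = true → ∃ t, wd w = rho (qe t (dec (clW w)))
  | [], _ => ⟨0, by rw [show clW [] = 0 from rfl, dec_zero, rho_qe_zero, wd_nil]⟩
  | c :: w, h => by
    obtain ⟨h1, h2⟩ := allL_cons.1 h
    obtain ⟨t, e⟩ := wd_Q h2
    simp only [and2_true, H29.ble_true] at h1
    obtain ⟨s, e'⟩ : ∃ s, el c = rho (qe s (dec (2 ^ (c - 28)))) := by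
      rcases h1.2.eq_or_lt with rfl | h3
      · exact ⟨1, by rw [el_zz, show dec (2 ^ (52 - 28)) = 0 by decide +kernel, zz]⟩
      · exact ⟨0, by rw [← el_Q (by omega), Nat.add_sub_cancel' h1.1]⟩
    exact ⟨_, by rw [wd, e, e', ← map_mul, qe_mul, ← dec_xor]; rfl⟩

attribute [local irreducible] wd

noncomputable def gM (w : List ℕ) : MM tau := ⟨wd w, wd_mem w⟩

theorem relW {w : List ℕ} (h : noT w = true) : Rel qM (gM w) (gw w) :=
  (show (⟨rho (gw w), rho_mem_MM _ _⟩ : MM tau) = gM w from Subtype.ext (wd_gw h).symm) ▸ relM _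

/-- The nodes in the Monster. -/
noncomputable def x (n : Nd) : MM tau := gM (X n)

theorem vl_x (l : List Nd) : (vl x l : MM tau).1 = vl x0 l :=
  (vl_map (MM tau).subtype x l).symm

/-- The involution whose extraspecial group contains the node. -/
noncomputable def b (n : Nd) : MM tau :=
  if isL n = true then gM (gD n) * qM 0 Om * (gM (gD n))⁻¹ else zM tau

theorem noT_q : ∀ n, noT (qD n) = true := fun n => by cases n <;> decide +kernel
theorem noT_g : ∀ n, noT (gD n) = true := fun n => by cases n <;> decide +kernel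
theorem noT_i : ∀ n, noT (ivW (gD n)) = true := fun n => by cases n <;> decide +kernel

theorem x_z {n : Nd} (h : isL n = false) : x n * zM tau = zM tau * x n := by
  rw [x, X, h]; exact sitM.rel_cm (relW (noT_q n))

theorem x_b {n : Nd} (h : isL n = true) : x n * b n = b n * x n := by
  rw [x, X, b, if_pos h, h]
  refine Subtype.ext ?_
  change wd (cjW _ (cjW _ _)) * (wd _ * xO * (wd _)⁻¹) = wd _ * xO * (wd _)⁻¹ * wd (cjW _ (cjW _ _))
  rw [← wd_cjW, ← wd_cjW, wd_tau, ← tri_tau.zz_conj, conj_mul, conj_mul, conj_mul, conj_mul]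
  exact congrArg (fun u => wd (gD n) * (tau * u * tau⁻¹) * (wd (gD n))⁻¹)
    (congrArg Subtype.val (sitM.rel_cm (relW (noT_q n))))

/-- Triples of points, with words that carry `Om` to the class of their product. -/
def TL : List (List Nd × List ℕ) := [([.f1, .f2, .d3], [16, 5, 2, 4]),
  ([.f1, .f2, .d2], [16, 11, 16, 14, 7, 16, 0, 11, 0]), ([.f1, .f2, .d1], [16, 1, 0, 5]),
  ([.d2, .d3, .f2], [16, 15, 16, 2, 14, 16, 15, 2, 1]), ([.d1, .d3, .f1], [16, 0, 16, 14, 15, 1, 16]),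
  ([.b1, .b3, .d3], [16, 6, 16, 12, 15, 14, 0]), ([.b2, .b3, .d3], [16, 6, 12, 16, 11, 16, 2, 0]),
  ([.b1, .b2, .d2], [16, 0, 6, 16, 3, 0, 12, 0]), ([.b1, .b2, .d1], [16, 3, 16, 13, 0, 13, 2, 0])]

abbrev ok (T : List Nd) (n : Nd) : Prop := n ≠ .e3 ∧ ∀ p ∈ T, p = n ∨ lb n p = 2

theorem chk1 : ∀ d ∈ TL, (∀ p ∈ d.1, p ≠ .e3 ∧ isL p = false) ∧ isQ (prW d.1) = true ∧
    dec (apL d.2 2048) = dec (clW (prW d.1)) := by decide +kernel

theorem chk2 : ∀ d ∈ TL, ∀ n ∈ L15, isL n = true → ok d.1 n →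
    apL (ivW (gD n)) (clW (prW d.1)) >>> 12 = 0 := by decide +kernel

theorem chk3 (n m : Nd) : n ≠ .e3 → m ≠ .e3 → ∃ d ∈ TL, ok d.1 n ∧ ok d.1 m := by
  cases n <;> cases m <;> decide +kernel

theorem exQ {d : List Nd × List ℕ} (hd : d ∈ TL) : ∃ t, vl x d.1 = qM t (dec (clW (prW d.1))) := by
  obtain ⟨t, e⟩ := wd_Q (chk1 d hd).2.1
  exact ⟨t, Subtype.ext (by rw [vl_x, vl_prW, e]; rfl)⟩

theorem cl_eq {d : List Nd × List ℕ} (hd : d ∈ TL) : dec (clW (prW d.1)) = co (gw d.2) • Om := by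
  rw [← (chk1 d hd).2.2, dec_apL, dec_Om]

theorem nb {d : List Nd × List ℕ} (hd : d ∈ TL) : Nb (zM tau) qM (vl x d.1) := by
  obtain ⟨t, e⟩ := exQ hd
  rw [e, cl_eq hd]
  exact sitM.tr 0 t Om_ne_zero _

theorem ad {d : List Nd × List ℕ} (hd : d ∈ TL) {n : Nd} (h : isL n = true) (o : ok d.1 n) :
    Ad (zM tau) qM (b n) (vl x d.1) := by
  obtain ⟨t, e⟩ := exQ hd
  have := relW (noT_i n) t (dec (clW (prW d.1)))
  rw [← e, ← dec_apL, show gM (ivW (gD n)) = (gM (gD n))⁻¹ from Subtype.ext (wd_ivW _).symm] at this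
  refine ⟨gM (gD n), _, _, sitM.rel_cm (relW (noT_g n)), (if_pos h).symm, ?_, by rw [← this]; group⟩
  rw [dec_fst, chk2 d hd n (by revert h; cases n <;> decide) h o]
  exact funext fun j => bt_zero _

theorem cm {T : List Nd} (hT : ∀ p ∈ T, p ≠ .e3) {n : Nd} (o : ok T n) :
    x n * vl x T = vl x T * x n :=
  Commute.list_prod_right _ _ (List.forall_mem_map.2 fun p hp => by
    rcases o.2 p hp with rfl | e
    exacts [Commute.refl _, Subtype.ext (comm0 o.1 (hT p hp) e)])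

variable {G : Type*} [Group G] {q : ZMod 2 → C → G} {Φ : MM tau → MM tau → G}

/-- The images of the nodes. -/
noncomputable def y (Φ : MM tau → MM tau → G) (n : Nd) : G := Φ (b n) (x n)

def Gd (Φ : MM tau → MM tau → G) (B : MM tau) (n : Nd) : Prop :=
  x n * B = B * x n ∧ y Φ n = Φ B (x n)

variable (F : Fam q (zM tau) qM Φ)
include F

theorem tr {B : MM tau} (hB : B = zM tau ∨ Nb (zM tau) qM B) : ∀ l : List Nd,
    (∀ n ∈ l, Gd Φ B n) → vl x l * B = B * vl x l ∧ vl (y Φ) l = Φ B (vl x l)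
  | [], _ => ⟨(Commute.one_left B).eq, by
    have := F.mul hB (Commute.one_left B).eq (Commute.one_left B).eq
    rw [mul_one, left_eq_mul] at this
    exact this.symm⟩
  | n :: l, h => by
    obtain ⟨h1, h2⟩ := h n List.mem_cons_self
    obtain ⟨h3, h4⟩ := tr hB l fun m hm => h m (List.mem_cons_of_mem _ hm)
    rw [vl_cons, vl_cons, F.mul hB h1 h3, h2, h4, mul_assoc, h3, ← mul_assoc, h1, mul_assoc]
    exact ⟨rfl, rfl⟩

theorem gd {d : List Nd × List ℕ} (hd : d ∈ TL) {n : Nd} (o : ok d.1 n) : Gd Φ (vl x d.1) n := by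
  have c := cm (fun p hp => ((chk1 d hd).1 p hp).1) o
  refine ⟨c, ?_⟩
  cases h : isL n
  · rw [F.ad0 (nb hd) c (x_z h), y, b, if_neg (by simp [h])]
  · exact F.ad (ad hd h o) (nb hd) (x_b h) c

theorem key {l r : List Nd} (h : ∃ d ∈ TL, (∀ n ∈ l, ok d.1 n) ∧ ∀ n ∈ r, ok d.1 n)
    (e : vl x l = vl x r) : vl (y Φ) l = vl (y Φ) r := by
  obtain ⟨d, hd, h1, h2⟩ := h
  rw [(tr F (.inr (nb hd)) l fun n hn => gd F hd (h1 n hn)).2,
    (tr F (.inr (nb hd)) r fun n hn => gd F hd (h2 n hn)).2, e]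

omit F in
theorem vl_congr {H : Type*} [Group H] {u v : Nd → H} {l : List Nd} (h : ∀ n ∈ l, u n = v n) :
    vl u l = vl v l := congrArg List.prod (List.map_congr_left h)

omit F in
theorem mem_rep {l : List Nd} {n : Nd} : ∀ {k}, n ∈ YW.rep l k → n ∈ l
  | 0, h => absurd h List.not_mem_nil
  | k + 1, h => (List.mem_append.1 h).elim id mem_rep

theorem hom (hB : IsB BabyMonster) : ∃ f : MM tau →* G, ∀ n, n ≠ .e3 → f (x n) = y Φ n := by
  let s : Set (G × MM tau) := {g | ∃ n, n ≠ .e3 ∧ g = (y Φ n, x n)}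
  let K := Subgroup.closure s
  let Y : Nd → K := fun n => if h : n = .e3 then 1 else ⟨_, Subgroup.subset_closure ⟨n, h, rfl⟩⟩
  let p1 : K →* G := (MonoidHom.fst _ _).comp K.subtype
  let p2 : K →* MM tau := (MonoidHom.snd _ _).comp K.subtype
  have hY : ∀ n, n ≠ .e3 → (Y n).1 = (y Φ n, x n) := fun n h => by simp only [Y, dif_neg h]
  have h1 : ∀ n, n ≠ .e3 → p1 (Y n) = y Φ n := fun n h => congrArg Prod.fst (hY n h)
  have h2 : ∀ n, n ≠ .e3 → p2 (Y n) = x n := fun n h => congrArg Prod.snd (hY n h)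
  have k : ∀ {l r : List Nd}, (∃ d ∈ TL, (∀ n ∈ l, ok d.1 n) ∧ ∀ n ∈ r, ok d.1 n) →
      vl x0 l = vl x0 r → vl Y l = vl Y r := fun {l r} h e => by
    have e' : vl x l = vl x r := Subtype.ext (by rw [vl_x, vl_x, e])
    have a := key F h e'
    obtain ⟨d, -, a1, a2⟩ := h
    refine Subtype.ext (Prod.ext (show p1 _ = p1 _ from ?_) (show p2 _ = p2 _ from ?_))
    · rw [← vl_map, ← vl_map, vl_congr fun n hn => h1 n (a1 n hn).1,
        vl_congr fun n hn => h1 n (a2 n hn).1]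
      exact a
    · rw [← vl_map, ← vl_map, vl_congr fun n hn => h2 n (a1 n hn).1,
        vl_congr fun n hn => h2 n (a2 n hn).1]
      exact e'
  have k1 : ∀ {l : List Nd} {f : Nd}, (∃ d ∈ TL, (∀ n ∈ l, ok d.1 n) ∧ ∀ n ∈ [f], ok d.1 n) →
      vl xU l = xU f → vl Y l = Y f := fun {l f} h e => by
    have ⟨d, _, a1, a2⟩ := h
    rw [vl_xU fun hn => (a1 _ hn).1 rfl, xU_ne (a2 f (by simp)).1] at e
    exact (k h (e.trans (mul_one _).symm)).trans (mul_one _)
  have f3 : Y .f3 = 1 := (k1 (l := []) (by decide +kernel) sys_xU.f3.symm).symm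
  have sy := T.sy3_of (y := Y) (fun n m hn hm => by
      obtain ⟨d, hd, a1, a2⟩ := chk3 n m hn hm
      have := k (l := YW.rep [n, m] (lb n m)) (r := []) ⟨d, hd, fun p hp => by
        rcases List.mem_pair.1 (mem_rep hp) with rfl | rfl
        exacts [a1, a2], fun _ h => absurd h List.not_mem_nil⟩ (by
          rw [vl_rep, vl_cons, vl_cons, vl_nil, mul_one]; exact cox0 hn hm)
      rwa [vl_rep, vl_cons, vl_cons, vl_nil, mul_one] at this) f3
    (k1 (by decide +kernel) sys_xU.e12) (k1 (by decide +kernel) sys_xU.e13)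
    (k1 (by decide +kernel) sys_xU.e21) (k1 (by decide +kernel) sys_xU.e23)
    ((k1 (by decide +kernel) sys_xU.e31).trans f3) ((k1 (by decide +kernel) sys_xU.e32).trans f3)
  have hi := T.inj553 hB sy (by
      rw [eq_top_iff, ← Subgroup.closure_preimage_eq_top s]
      exact Subgroup.closure_mono fun g ⟨n, hn, e⟩ => ⟨n, hn, Subtype.ext (e.trans (hY n hn).symm)⟩)
    ((MulAut.conj (wd (W .f2))⁻¹).toMonoidHom.comp ((MM tau).subtype.comp p2)) fun n hn => by
      rw [xB, xU_ne hn, MonoidHom.comp_apply, MonoidHom.comp_apply, h2 n hn]; rfl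
  let e := MulEquiv.ofBijective p2 ⟨fun u v h => hi (by
      rw [MonoidHom.comp_apply, MonoidHom.comp_apply, h]; rfl), fun m => by
    obtain ⟨_, ⟨g, rfl⟩, e⟩ := gen_M (H := p2.range.map (MM tau).subtype)
      (fun n hn => ⟨x n, ⟨_, h2 n hn⟩, rfl⟩) m.2
    exact ⟨g, Subtype.ext e⟩⟩
  exact ⟨p1.comp e.symm.toMonoidHom, fun n hn => by
    rw [← h1 n hn]; exact congrArg p1 (e.symm_apply_eq.2 (h2 n hn).symm)⟩

end Z8

open Z8 in
theorem Fam.exists_hom (hB : Cfsg.IsB Cfsg.Spor.BabyMonster) {G : Type*} [Group G]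
    {q : ZMod 2 → C → G} {Φ : MM tau → MM tau → G} (F : Fam q (zM tau) qM Φ) :
    ∃ (f : MM tau →* G) (t : ZMod 2) (h : G0), f (qM t (h • Om)) = q t (h • Om) := by
  obtain ⟨f, hf⟩ := hom F hB
  obtain ⟨d, hd⟩ : ∃ d, d ∈ TL := ⟨_, List.mem_cons_self⟩
  obtain ⟨t, e⟩ := exQ hd
  have c := (chk1 d hd).1
  refine ⟨f, t, co (gw d.2), ?_⟩
  rw [← cl_eq hd, ← F.hq, ← e, ← Y.vl_map, vl_congr fun n hn => hf n (c n hn).1]
  exact (tr F (.inl rfl) _ fun n hn => ⟨x_z (c n hn).2, by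
    rw [y, b, if_neg (by simp [(c n hn).2])]⟩).2

end H10.Mon.MG
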