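import Mathlib
import Cfsg.Agent.H19.Z0
import Cfsg.Agent.H19.MG3
import Cfsg.Agent.S1175
import Cfsg.Agent.S1225
import Cfsg.Agent.S0223

/-! # Uniqueness of the Monster, block Z9: generation (proved by helper16) -/

set_option autoImplicit false
set_option linter.all false

namespace H10.Mon.MG

open Subgroup H24

namespace Z9

variable {G : Type*} [Group G] [Finite G] {x y : G} {q : ZMod 2 → C → G} {γ : G}

theorem inv_of {K : Subgroup G} [K.Normal] {t : G} (h2 : t * t = 1)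
    (h3 : ∀ n ∈ K, t * n * t⁻¹ = n → n = 1) : ∀ n ∈ K, t * n * t⁻¹ = n⁻¹ := fun n hn => by
  have := MonoidHom.FixedPointFree.coe_eq_inv_of_involutive
    (φ := (MulAut.conjNormal t : MulAut K))
    (fun m hm => Subtype.ext (h3 m m.2 (congrArg Subtype.val hm))) fun m => by
      rw [← MulAut.mul_apply, ← map_mul, h2, map_one, MulAut.one_apply]
  exact congrArg Subtype.val (congrFun this ⟨n, hn⟩)

theorem one_of (T : Two x y q γ) {w : G} (hw : IsConj y w) (hw' : IsConj x (w * x))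
    (h1 : w * y = y * w) (h2 : w * x = x * w) (n1 : y * w ≠ 1) (n2 : y * w * x ≠ 1) :
    IsConj y (y * w) ∨ IsConj y (y * w * x) := by
  obtain ⟨eO, eD, s0, L⟩ := exists_LF
  have w2 := sq_of_cj hw T.s.yy
  have xy := T.one.xy
  have u2 : y * w * (y * w) = 1 := by
    calc y * w * (y * w) = y * (w * y) * w := by group
      _ = y * y * (w * w) := by rw [h1]; group
      _ = 1 := by rw [T.s.yy, w2, one_mul]
  have ux : x * (y * w) = y * w * x := by rw [← mul_assoc, xy, mul_assoc, ← h2, mul_assoc]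
  have v2 : y * w * x * (y * w * x) = 1 := by
    calc y * w * x * (y * w * x) = y * w * (x * (y * w)) * x := by group
      _ = y * w * (y * w) * (x * x) := by rw [ux]; group
      _ = 1 := by rw [u2, T.xx, one_mul]
  refine (T.classes L u2 n1).elim (fun a => (T.classes L v2 n2).elim (fun b => ?_) .inr) .inl
  exfalso
  have vy : y * w * x * y = y * (y * w * x) := by
    rw [mul_assoc, xy, ← mul_assoc, mul_assoc y w y, h1]; group
  have b' : IsConj x (y * w * x * y) := by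
    rw [vy, ← mul_assoc, ← mul_assoc, T.s.yy, one_mul]; exact hw'
  obtain ⟨h, k, s, e, P⟩ := T.exists_h L
  rcases T.cls L P vy v2 with ⟨t, c, e⟩ | e | e
  · have e' : w = q (t + 1 + bb c c0.1) (c + c0.1) := by
      rw [← T.one.mul_x, ← T.s.y_mul, ← e]
      calc w = y * y * w * (x * x) := by rw [T.s.yy, T.xx]; group
        _ = _ := by group
    generalize t + 1 + bb c c0.1 = t' at e'
    generalize c + c0.1 = c' at e'
    subst e'
    rw [T.s.y_mul] at a n1
    refine T.nAB a (T.qB _ (fun e => ?_) (T.bb_of w2) fun e => T.nAB (T.qA _ e) hw)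
    subst e
    rcases T.s.q0 t' with e | e
    · rw [e, isConj_one_left] at hw
      exact T.s.y_ne hw
    · exact n1 (by rw [← T.s.y_mul, e, T.s.yy])
  · rcases e.t2 T.s.yy (T.h_ab P) with e | e
    exacts [T.nAB b' e.2, T.nAB b e.1]
  · exact T.nAB b e.1

theorem cent_le (T : Two x y q γ) {H : Subgroup G} (hy : y ∈ H)
    (hU : ∀ g, g * y * g⁻¹ ∈ H → g ∈ H)
    (hS : ∀ N : Subgroup G, N ≤ H ⊓ C{x} → (∀ g ∈ H ⊓ C{x}, ∀ n ∈ N, g * n * g⁻¹ ∈ N) → x ∈ N →
      ¬ N ≤ zpowers x → H ⊓ C{x} ≤ N) : C{x} ≤ H := by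
  have hC : ∀ g, g * y = y * g → g ∈ H := fun g hg => hU g (by rwa [hg, mul_inv_cancel_right])
  have hx : x ∈ H := hC x T.one.xy
  have U2 : ∀ v ∈ H, IsConj y v → ∀ g, g * v * g⁻¹ ∈ H → g ∈ H := fun v hv e g hg => by
    obtain ⟨a, rfl⟩ := isConj_iff.1 e
    exact (H.mul_mem_cancel_right (hU a hv)).1 (hU _ (by convert hg using 1; group))
  let x' : C{x} := ⟨x, self_mem_C1 x⟩
  have hn : (zpowers x').Normal := ⟨fun a ha g => by
    have : g * a = a * g := Subtype.ext (by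
      obtain ⟨k, rfl⟩ := ha
      exact ((show Commute g.1 x from mem_C1.1 g.2).zpow_right k).eq)
    rwa [this, mul_inv_cancel_right]⟩
  let φ := QuotientGroup.mk' (zpowers x')
  have hφ : Function.Surjective φ := QuotientGroup.mk'_surjective _
  have hker : ∀ g, φ g = 1 ↔ g.1 ∈ zpowers x := fun g => by
    rw [QuotientGroup.mk'_apply, QuotientGroup.eq_one_iff]
    exact ⟨fun ⟨k, e⟩ => ⟨k, congrArg Subtype.val e⟩, fun ⟨k, e⟩ => ⟨k, Subtype.ext e⟩⟩
  have heq : ∀ a b, φ a = φ b → a.1 = b.1 ∨ a.1 = b.1 * x := fun a b e => by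
    have := (hker (b⁻¹ * a)).1 (by rw [map_mul, map_inv, e, inv_mul_cancel])
    exact (mem_zpowers_invol T.xx this).imp (fun e => (inv_mul_eq_one.1 e).symm)
      fun e => inv_mul_eq_iff_eq_mul.1 e
  let B := (H.subgroupOf C{x}).map φ
  have hB : ∀ g, φ g ∈ B ↔ g.1 ∈ H := fun g => ⟨fun ⟨b, hb, e⟩ => by
    rcases heq _ _ e.symm with e | e <;> rw [e]
    exacts [hb, H.mul_mem hb hx], fun h => ⟨g, h, rfl⟩⟩
  have U3 : ∀ v : C{x}, v.1 ∈ H → IsConj y v.1 → ∀ g, g * φ v * g⁻¹ ∈ B → g ∈ B := fun v hv e g hg => by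
    obtain ⟨g, rfl⟩ := hφ g
    rw [← map_inv, ← map_mul, ← map_mul, hB] at hg
    exact (hB g).2 (U2 v hv e g hg)
  let y' : C{x} := ⟨y, mem_C1.2 T.one.xy.symm⟩
  have y1 : φ y' ≠ 1 := fun e => by
    rcases mem_zpowers_invol T.xx ((hker _).1 e) with e | e
    exacts [T.s.y_ne e, T.nc ((show y = x from e) ▸ IsConj.refl _)]
  have sq : ∀ v : C{x}, v.1 * v.1 = 1 → φ v * φ v = 1 := fun v e => by
    rw [← map_mul, show v * v = 1 from Subtype.ext e, map_one]
  have y2 := sq y' T.s.yy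
  obtain ⟨P, hP, hPy⟩ : ∃ P, Syl 2 C{x} P ∧ P ≤ C{y} := by
    obtain ⟨P, hP⟩ := Sylow_exists Nat.prime_two C{x}
    obtain ⟨n, n1, n2⟩ := T.one.syl (hP.pi.isPGroup Nat.prime_two) fun p hp => mem_C1.1 (hP.le hp)
    refine ⟨_, hP.cj_mem (mem_C1.2 n1), fun p hp => ?_⟩
    obtain ⟨r, hr, rfl⟩ := mem_cj'.1 hp
    exact mem_C1.2 (n2 r hr)
  have hS' := ((hall_subgroupOf_top hP.le).2 hP).map φ
  rw [map_top_of_surjective _ hφ] at hS'
  have hSy : (P.subgroupOf C{x}).map φ ≤ C{φ y'} := by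
    rintro _ ⟨p, hp, rfl⟩
    rw [mem_C1, ← map_mul, ← map_mul]
    exact congrArg φ (Subtype.ext (mem_C1.1 (hPy hp)))
  have hSB : (P.subgroupOf C{x}).map φ ≤ B := map_mono fun p hp => hC _ (mem_C1.1 (hPy hp))
  generalize (P.subgroupOf C{x}).map φ = S at hS' hSy hSB
  have : Nontrivial (C{x} ⧸ zpowers x') := ⟨_, _, y1⟩
  have hs : IsSimpleGroup (C{x} ⧸ zpowers x') := ⟨fun K hK => by
    by_cases e : H ⊓ (K.comap φ).map (C{x}).subtype ≤ zpowers x
    · left
      have fpf : ∀ v : C{x}, v.1 ∈ H → IsConj y v.1 → ∀ k ∈ K, φ v * k * (φ v)⁻¹ = k → k = 1 :=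
        fun v hv c k hk e' => by
          have := U3 v hv c k (by
            rw [mul_inv_eq_iff_eq_mul] at e'
            rw [← e', mul_inv_cancel_right]; exact (hB v).2 hv)
          obtain ⟨k, rfl⟩ := hφ k
          exact (hker k).2 (e ⟨(hB k).1 this, k, hk, rfl⟩)
      have zx : q 0 Om * x = x * q 0 Om := by
        rw [← T.gy]
        calc γ * y * γ⁻¹ * x = γ * (y * x) * γ⁻¹ := by nth_rw 1 [← T.gx]; group
          _ = _ := by rw [← T.one.xy]; nth_rw 2 [← T.gx]; group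
      let z' : C{x} := ⟨q 0 Om, mem_C1.2 zx⟩
      have zH : q 0 Om ∈ H := hC _ (T.s.cm _ _)
      have i1 := inv_of y2 (fpf y' hy (IsConj.refl _))
      have i2 := inv_of (sq z' (T.s.sq0 0 (bb_fst Om_fst _))) (fpf z' zH T.yO)
      refine eq_bot_iff.2 fun k hk => fpf (y' * z') (H.mul_mem hy zH) ?_ k hk ?_
      · change IsConj y (y * q 0 Om)
        rw [T.s.y_mul]
        exact T.qB _ Om_ne_zero (bb_fst Om_fst _) not_isS_Om
      · calc φ (y' * z') * k * (φ (y' * z'))⁻¹ = φ y' * (φ z' * k * (φ z')⁻¹) * (φ y')⁻¹ := by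
              rw [map_mul]; group
          _ = k := by rw [i2 k hk, i1 _ (K.inv_mem hk), inv_inv]
    · right
      have h1 := hS _ (inf_le_inf_left H (map_subtype_le _)) (fun g hg n hn => by
        obtain ⟨n1, n, n2, rfl⟩ := hn
        exact ⟨H.mul_mem (H.mul_mem hg.1 n1) (H.inv_mem hg.1), _,
          (hK.comap φ).conj_mem n n2 ⟨g, hg.2⟩, rfl⟩)
        ⟨hx, x', mem_comap.2 (by rw [(hker x').2 (mem_zpowers x)]; exact K.one_mem), rfl⟩ e
      have hBK : B ≤ K := by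
        rintro _ ⟨b, hb, rfl⟩
        obtain ⟨-, b', hb', e⟩ := h1 (show b.1 ∈ H ⊓ C{x} from ⟨hb, b.2⟩)
        rwa [← show b' = b from Subtype.ext e]
      refine eq_top_iff.2 fun g _ => ?_
      obtain ⟨k, hk, e⟩ := Sylow_Jsub Nat.prime_two (hS'.of_le (hSB.trans hBK) le_top)
        (Q := zpowers (g * φ y' * g⁻¹))
        (piElt_of_pow_eq_one (piNat_self Nat.prime_two) (by rw [pow_two, conj_mul, y2]; group)).isPi
        (zpowers_le.2 (hK.conj_mem _ (hBK ((hB y').2 hy)) g))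
      have := hSB (e (conj_mem_cj k (mem_zpowers _)))
      exact (K.mul_mem_cancel_left hk).1
        (hBK (U3 y' hy (IsConj.refl _) _ (by convert this using 1; group)))⟩
  by_contra hc
  have hBt : B ≠ ⊤ := fun e => hc fun g hg => (hB ⟨g, hg⟩).1 (e ▸ mem_top _)
  obtain ⟨S', rfl⟩ := Syl.exists_sylow_top Nat.prime_two hS'
  have o2 : ∀ {t : C{x} ⧸ zpowers x'}, t ≠ 1 → t * t = 1 → orderOf t = 2 := fun h1 h2 =>
    orderOf_eq_prime (by rw [pow_two, h2]) h1
  obtain ⟨M, hM⟩ := Cfsg.Agent.S1175.result B hBt (φ y') (o2 y1 y2) ((hB y').2 hy)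
    ⟨S', hS'.le_of_norm (piElt_of_orderOf_prime Nat.prime_two (o2 y1 y2)).isPi le_top
      (norm_of_cent (zpowers_le.2 (mem_C_iff_le_C1.2 hSy))) (mem_zpowers _),
      fun s hs => mem_C1.1 (hSy hs)⟩
    (U3 y' hy (IsConj.refl _)) fun g h1 h2 c hc => by
      obtain ⟨g, rfl⟩ := hφ g
      rw [← map_inv, ← map_mul, ← map_mul] at h1 h2 hc
      set w := g * y' * g⁻¹ with hw
      have gx := mem_C1.1 g.2
      have w1 : IsConj y w.1 := cj_of rfl
      have w2 : IsConj x (w.1 * x) := T.one.A_yx.trans (cj_of (a := g.1) (cj_mul gx))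
      have w3 : w.1 * y = y * w.1 := by
        have := T.one.eq_y (u := w.1 * y * w.1⁻¹) (cj_of rfl) (by
          rcases heq (w * y' * w⁻¹) y' (by
            rw [map_mul, map_mul, map_inv, ← h1.eq, mul_inv_cancel_right]) with e | e
          exacts [.inr (.inl e), .inr (.inr (.inr e))])
        rwa [mul_inv_eq_iff_eq_mul] at this
      have n0 : φ (y' * w) ≠ 1 := fun e => h2 (by
        rw [map_mul] at e
        rw [← mul_left_cancel_iff (a := φ y'), e, y2])
      have wH := H.mul_mem hy (hC _ w3)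
      rw [← map_mul, mem_C1_iff_conj] at hc
      rcases one_of T w1 w2 w3 (mem_C1.1 w.2) (fun e => n0 ((hker _).2 (by
          rw [show (y' * w).1 = 1 from e]; exact one_mem _)))
        (fun e => n0 ((hker _).2 (by
          rw [show (y' * w).1 = x⁻¹ from eq_inv_of_mul_eq_one_left e]
          exact inv_mem (mem_zpowers x)))) with e | e
      · exact U3 (y' * w) wH e c (by rw [hc]; exact (hB _).2 wH)
      · refine U3 (y' * w * x') (H.mul_mem wH hx) e c ?_
        rw [map_mul, (hker x').2 (mem_zpowers x), mul_one, hc]; exact (hB _).2 wH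
  obtain ⟨c, d, hc⟩ := bb_tri
  obtain ⟨k1, k2⟩ := T.bbQ 0 (hc c (by simp))
  let v : C{x} := ⟨q 0 c, mem_C1.2 k1⟩
  have v1 : φ v ≠ 1 := fun e => by
    rcases mem_zpowers_invol T.xx ((hker _).1 e) with e | e
    · have := k2.1
      rw [show q 0 c = 1 from e, isConj_one_left] at this
      exact T.s.y_ne this
    · exact T.nAB (IsConj.refl _) ((show q 0 c = x from e) ▸ k2.1)
  obtain ⟨g, e⟩ := isConj_iff.1 (H6.isConj_of_isStronglyEmbedded hM (o2 y1 y2)
    (o2 v1 (sq v (sq_of_cj k2.1 T.s.yy))))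
  obtain ⟨g, rfl⟩ := hφ g
  rw [← map_inv, ← map_mul, ← map_mul] at e
  have a := T.one.A_yx.trans (cj_of (a := g.1) (cj_mul (mem_C1.1 g.2)))
  rcases heq _ _ e with e | e <;> change g.1 * y * g.1⁻¹ = _ at e <;> rw [e] at a
  · exact T.nAB a k2.2
  · rw [mul_assoc, T.xx, mul_one] at a
    exact T.nAB a k2.1

end Z9

/-- A simple group that contains the Monster together with the centraliser of `z`. -/
theorem onto_of_cent {G : Type*} [Group G] [Finite G] [IsSimpleGroup G] (f : MM tau →* G)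
    (hf : Function.Injective f) (h : ∀ g, g * f (zM tau) = f (zM tau) * g → g ∈ f.range) :
    Function.Surjective f := by
  obtain ⟨γ, T⟩ := twoM
  obtain ⟨eO, eD, s0, L⟩ := exists_LF
  have cj : ∀ a b : MM tau, f (a * b * a⁻¹) = f a * f b * (f a)⁻¹ := fun a b => by
    rw [map_mul, map_mul, map_inv]
  have cm : ∀ a b : MM tau, f a * f b = f b * f a → a * b = b * a := fun a b e =>
    hf (by rwa [map_mul, map_mul])
  have rel : ∀ a k, Rel qM a k → Rel (fun t c => f (qM t c)) (f a) k := fun a k r t c => by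
    rw [← cj, r]
  have S : Sit (f (zM tau)) fun t c => f (qM t c) :=
    ⟨fun s c t d => by rw [← map_mul, sitM.mul], fun e => sitM.inj (hf e), congrArg f sitM.one,
      fun g hg => by
        obtain ⟨a, rfl⟩ := h g hg
        exact (sitM.up a (cm _ _ hg)).imp (rel a),
      fun k => let ⟨a, ha⟩ := sitM.down k; ⟨_, rel a k ha⟩, fun g hg => by
        obtain ⟨a, rfl⟩ := h g (sitM.one ▸ hg 1 0)
        rcases sitM.cent a fun t c => cm _ _ (hg t c) with e | e <;> rw [e]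
        exacts [.inl f.map_one, .inr rfl]⟩
  have nc : ¬ IsConj (f (tM tau)) (f (zM tau)) := fun e => by
    obtain ⟨k⟩ := H9.centralizer_equiv_of_conj e
    have h1 := Nat.card_congr k.toEquiv
    have h2 : (C{tM tau}).map f ≤ C{f (tM tau)} := by
      rintro _ ⟨a, ha, rfl⟩
      rw [mem_C1, ← map_mul, ← map_mul, mem_C1.1 ha]
    have h3 := card_dvd h2
    rw [card_map_of_injective hf, cent_tM, Nat.card_congr (subgroupOfEquivOfLe HH_le).toEquiv,
      Y.card_HH, h1, S.card] at h3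
    norm_num at h3
  have T' : Two (f (tM tau)) (f (zM tau)) (fun t c => f (qM t c)) (f γ) :=
    ⟨S, congrArg f T.hx, nc, by rw [← cj, T.gx], by rw [← cj, T.gy], by rw [← cj, T.gO]⟩
  have cls : ∀ t ∈ f.range, t * t = 1 → t ≠ 1 → ∃ a ∈ f.range,
      a * f (tM tau) * a⁻¹ = t ∨ a * f (zM tau) * a⁻¹ = t := by
    rintro _ ⟨t, rfl⟩ h1 h2
    rcases T.classes L (t := t) (hf (by rw [map_mul, h1, map_one]))
      (fun e => h2 (by rw [e, map_one])) with e | e <;> obtain ⟨a, rfl⟩ := isConj_iff.1 e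
    exacts [⟨_, ⟨a, rfl⟩, .inl (cj _ _).symm⟩, ⟨_, ⟨a, rfl⟩, .inr (cj _ _).symm⟩]
  have gen : ∀ v ∈ f.range, IsConj (f (tM tau)) v ∨ IsConj (f (zM tau)) v → C{v} ≤ f.range →
      ∀ g, g * v * g⁻¹ ∈ f.range → g ∈ f.range := fun v hv e hC g hg => by
    have v2 : v * v = 1 := e.elim (sq_of_cj · T'.xx) (sq_of_cj · S.yy)
    have v1 : v ≠ 1 := by
      rintro rfl
      rw [isConj_one_left, isConj_one_left] at e
      exact e.elim T'.x_ne S.y_ne
    obtain ⟨a, ha, e1⟩ := cls v hv v2 v1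
    obtain ⟨b, hb, e2⟩ := cls _ hg (sq_of_cj (cj_of rfl) v2) (by simpa using v1)
    have fin : ∀ u, a * u * a⁻¹ = v → b * u * b⁻¹ = g * v * g⁻¹ → g ∈ f.range := fun u e1 e2 => by
      have : a * b⁻¹ * g ∈ C{v} := mem_C1_iff_conj.2 (by
        calc a * b⁻¹ * g * v * (a * b⁻¹ * g)⁻¹ = a * b⁻¹ * (g * v * g⁻¹) * b * a⁻¹ := by group
          _ = v := by rw [← e2, ← e1]; group)
      exact (mul_mem_cancel_left (mul_mem ha (inv_mem hb))).1 (hC this)
    rcases e1 with e1 | e1 <;> rcases e2 with e2 | e2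
    · exact fin _ e1 e2
    · exact (T'.nAB ((cj_of e1).trans (cj_of rfl)) (cj_of e2)).elim
    · exact (T'.nAB (cj_of e2) ((cj_of e1).trans (cj_of rfl))).elim
    · exact fin _ e1 e2
  have hU := gen _ ⟨_, rfl⟩ (.inr (IsConj.refl _)) fun g hg => h g (mem_C1.1 hg)
  have hX := Z9.cent_le (H := f.range) T' ⟨_, rfl⟩ hU fun N h1 h2 h3 h4 => by
    have mem : ∀ a : MM tau, a.1 ∈ HH tau ↔ f a ∈ C{f (tM tau)} := fun a => by
      rw [← mem_subgroupOf, ← cent_tM, mem_C1, mem_C1]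
      exact ⟨fun e => by rw [← map_mul, ← map_mul, e], cm _ _⟩
    have := normal_HH tri_tau (fun g hg e => T.nc
      (cj_of (a := (⟨g, hg⟩ : MM tau)) (g := zM tau) (g' := tM tau) (Subtype.ext e)).symm)
      (N := (N.comap f).map (MM tau).subtype)
      (by rintro _ ⟨a, ha, rfl⟩; exact (mem a).2 (h1 ha).2)
      (by
        rintro g hg _ ⟨a, ha, rfl⟩
        refine ⟨⟨g, HH_le hg⟩ * a * ⟨g, HH_le hg⟩⁻¹, ?_, rfl⟩
        change f _ ∈ N
        rw [cj]
        exact h2 _ ⟨⟨_, rfl⟩, (mem ⟨g, HH_le hg⟩).1 hg⟩ _ ha)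
      ⟨tM tau, h3, rfl⟩ fun e => h4 fun n hn => by
        obtain ⟨a, rfl⟩ := (h1 hn).1
        obtain ⟨k, hk⟩ := e ⟨a, hn, rfl⟩
        exact ⟨k, by rw [← show tM tau ^ k = a from Subtype.ext hk, map_zpow]⟩
    rintro _ ⟨⟨a, rfl⟩, ha⟩
    obtain ⟨b, hb, e⟩ := this ((mem a).2 ha)
    rwa [← show b = a from Subtype.ext e]
  have hU' := gen _ ⟨_, rfl⟩ (.inl (IsConj.refl _)) hX
  rw [← MonoidHom.range_eq_top]
  by_contra hc
  have o2 : orderOf (f (tM tau)) = 2 := orderOf_eq_prime (by rw [pow_two, T'.xx]) T'.x_ne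
  refine nc (H6.isConj_of_isStronglyEmbedded (H := f.range) (H6.isStronglyEmbedded_iff.2 ⟨hc, ?_,
    fun g t ht ho hg => ?_⟩) o2 S.ord)
  · exact even_iff_two_dvd.2 (o2 ▸ orderOf_dvd_card' ⟨_, rfl⟩)
  · obtain ⟨a, ha, e⟩ := cls t ht (by rw [← pow_two, ← ho, pow_orderOf_eq_one])
      (by rintro rfl; simp at ho)
    refine (mul_mem_cancel_right ha).1 ?_
    rcases e with rfl | rfl
    · exact hU' _ (by convert hg using 1; group)
    · exact hU _ (by convert hg using 1; group)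

end H10.Mon.MG
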