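import Mathlib
import Cfsg.Agent.H19.Z3
import Cfsg.Agent.H19.Z4
import Cfsg.Agent.H19.Z5
import Cfsg.Agent.H19.Z6
import Cfsg.Agent.H19.Z8

/-!
# The Monster embeds in a group with two fused involution centralisers of Monster type
-/

set_option autoImplicit false
set_option linter.all false

namespace H10.Mon.MG

open Subgroup

theorem Two.exists_emb (hB : Cfsg.IsB Cfsg.Spor.BabyMonster) {G : Type*} [Group G] [Finite G] {x y γ : G}
    {q : ZMod 2 → C → G} (T : Two x y q γ) : ∃ f : MM tau →* G, Function.Injective f ∧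
      ∀ g, g * f (zM tau) = f (zM tau) * g → g ∈ f.range := by
  obtain ⟨γ', T'⟩ := twoM
  obtain ⟨γ1, A⟩ := exists_amg T T'
  obtain ⟨φ, P, hφ⟩ := A.exists_ph
  obtain ⟨Φ, F⟩ := A.exists_fam P hφ
  obtain ⟨f, t, h, e⟩ := F.exists_hom hB
  haveI := simple_MM tri_tau
  have hf : Function.Injective f := by
    rw [← MonoidHom.ker_eq_bot_iff]
    refine (f.normal_ker.eq_bot_or_eq_top).resolve_right fun k => Om_ne_zero ?_
    have : f (qM t (h • Om)) = 1 := MonoidHom.mem_ker.1 (k ▸ mem_top _)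
    rw [e, ← T.s.zero] at this
    exact (smul_eq_zero_iff_eq h).1 (T.s.inj this).2
  obtain ⟨a, -, a1⟩ := T.s.tr 0 t Om_ne_zero h
  obtain ⟨b, -, b1⟩ := T'.s.tr 0 t Om_ne_zero h
  obtain ⟨c⟩ := H9.centralizer_equiv_of_conj
    ((T.yO.trans (cj_of a1)).trans (e ▸ f.map_isConj (T'.yO.trans (cj_of b1))).symm)
  have le : (centralizer {zM tau}).map f ≤ centralizer {f (zM tau)} := by
    rintro _ ⟨m, hm, rfl⟩
    rw [mem_centralizer_singleton_iff, ← map_mul, ← map_mul, mem_centralizer_singleton_iff.1 hm]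
  have := eq_of_le_of_card_ge le (by
    rw [← Nat.card_congr c.toEquiv, T.s.card, card_map_of_injective hf, sitM.card])
  exact ⟨f, hf, fun g hg => map_le_range _ _ (this ▸ mem_centralizer_singleton_iff.2 hg)⟩

end H10.Mon.MG
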