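import Mathlib
import Cfsg.Agent.H19.ZY
import Cfsg.Agent.H19.Z2
import Cfsg.Agent.H13.MZ9
import Cfsg.Agent.S1705

/-!
# Uniqueness of the Monster
-/

set_option autoImplicit false
set_option linter.all false

namespace H10.Mon.MG

variable {G : Type*} [Group G] [Finite G] [IsSimpleGroup G] {y : G} {q : ZMod 2 → C → G}

theorem Two.iso {x γ : G} (T : Two x y q γ) : Nonempty (MM tau ≃* G) := by
  obtain ⟨f, hf, h⟩ := T.exists_emb Cfsg.Agent.S1704.result
  exact ⟨MulEquiv.ofBijective f ⟨hf, onto_of_cent f hf h⟩⟩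

theorem isoM_of_iso (h : Nonempty (MM tau ≃* G)) : Cfsg.Spor.IsoM G := by
  obtain ⟨e⟩ := h
  haveI := Cfsg.Agent.S1705.result.1
  obtain ⟨e'⟩ := Y.iso_of_simple (K := Cfsg.Spor.Monster) ⟨MulEquiv.refl _⟩
  exact ⟨e.symm.trans e'.symm⟩

theorem Two.isoM {x γ : G} (T : Two x y q γ) : Cfsg.Spor.IsoM G := isoM_of_iso T.iso

theorem iso_of_sit (H : Sit y q) : Nonempty (MM tau ≃* G) := by
  obtain ⟨g, t, c, hc, e⟩ := H.nwc
  obtain ⟨γ, T⟩ := H.two_of hc e
  exact T.iso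

theorem isoM_of_sit (H : Sit y q) : Cfsg.Spor.IsoM G := isoM_of_iso (iso_of_sit H)

theorem cover_of_sit (H : Sit y q) : ∃ x : G, orderOf x = 2 ∧
    Cfsg.IsNonsplitDoubleCover (Subgroup.centralizer ({x} : Set G)) Cfsg.Spor.BabyMonster := by
  obtain ⟨e⟩ := iso_of_sit H
  obtain ⟨γ, T⟩ := twoM
  refine ⟨e (tM tau), ?_, ?_⟩
  · rw [e.orderOf_eq]
    exact orderOf_eq_prime (by rw [pow_two, T.xx]) T.x_ne
  · refine H9.nonsplit_congr ((e.subgroupMap _).trans (MulEquiv.subgroupCongr ?_))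
      (Y.baby_cover Cfsg.Agent.S1704.result)
    ext g
    obtain ⟨m, rfl⟩ := e.surjective g
    rw [Subgroup.mem_centralizer_singleton_iff, ← map_mul, ← map_mul, e.apply_eq_iff_eq,
      ← Subgroup.mem_centralizer_singleton_iff]
    exact Subgroup.mem_map_iff_mem (f := e.toMonoidHom) e.injective

end H10.Mon.MG
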